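import Cfsg.Agent.Lib.Solv.Kaz
import Cfsg.Agent.Lib.Odd.BG1a
import Cfsg.Agent.Lib.Grp.Fus2
import Cfsg.Agent.Lib.Char.CharBurn
import Cfsg.Agent.S0205

/-! Small facts on class sizes. -/

set_option autoImplicit false
set_option linter.unusedSectionVars false
set_option linter.unusedVariables false
set_option linter.style.haveILetI false

namespace CA.H4Cls
open Subgroup Cfsg CA.BG CA.OQuo
open scoped commutatorElement

universe u

variable {G : Type*} [Group G] [Finite G] {p : ℕ} {x y z t : G} {P K M N : Subgroup G}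

omit [Finite G] in
theorem solv_ext (N : Subgroup G) [N.Normal] (h1 : Group.IsSolvable N)
    (h2 : Group.IsSolvable (G ⧸ N)) : Group.IsSolvable G :=
  Group.isSolvable_of_ker_le_range N.subtype (QuotientGroup.mk' N) (by simp)

theorem solv_of_isPGroup (hp : p.Prime) (h : IsPGroup p G) : Group.IsSolvable G := by
  haveI := Fact.mk hp
  haveI := h.isNilpotent
  infer_instance

theorem solv_of_normal_syl (P : Sylow 2 G) (h : (P : Subgroup G).Normal) : Group.IsSolvable G :=
  haveI : Fact (Nat.Prime 2) := ⟨Nat.prime_two⟩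
  solv_ext P (solv_of_isPGroup Nat.prime_two P.isPGroup') (Cfsg.Agent.S0205.result
    (Nat.not_even_iff_odd.1 fun e => P.not_dvd_index (even_iff_two_dvd.1 e)))

theorem solv_of_hasNPC (h : HasNormalPComplement 2 G) : Group.IsSolvable G := by
  haveI : Fact (Nat.Prime 2) := ⟨Nat.prime_two⟩
  obtain ⟨N, _, h1, h2⟩ := CA.PRes.hasNPC_iff_exists_normal.1 h
  exact solv_ext N (Cfsg.Agent.S0205.result
    (Nat.not_even_iff_odd.1 fun e => h1 (even_iff_two_dvd.1 e))) (solv_of_isPGroup Nat.prime_two h2)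

theorem not_dvd_index (hp : p.Prime) (hP : Syl p P ⊤) (h : P ≤ K) : ¬ p ∣ K.index := by
  rw [← relIndex_top_right]; exact not_dvd_relIndex_of_le hp hP h

theorem odd_index (hP : Syl 2 P ⊤) (h : P ≤ K) : Odd K.index :=
  Nat.not_even_iff_odd.1 fun e => not_dvd_index Nat.prime_two hP h (even_iff_two_dvd.1 e)

theorem exists_syl_le (hp : p.Prime) (h : ¬ p ∣ K.index) : ∃ P, Syl p P ⊤ ∧ P ≤ K := by
  obtain ⟨P, hP⟩ := syl_exists hp K
  exact ⟨P, hP.of_idx le_top (by
    rw [relIndex_top_right]; exact (piNat_compl_iff hp).2 h), hP.le⟩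

theorem mem_center_of_cover (h : ∀ x : G, ∃ g : G, g * z * g⁻¹ ∈ 𝓒₁(x)) : z ∈ center G := by
  have : 𝓒₁(z) = ⊤ := CChar.CharBurn.eq_top_of_forall_conj_mem fun x => by
    obtain ⟨g, hg⟩ := h x
    refine ⟨g⁻¹, ?_⟩
    rw [← mem_cent1_symm, ← cj_cent1, mem_cj_inv]
    exact hg
  exact mem_center_iff.2 fun g => mem_cent1.1 (this ▸ mem_top g)

/-- The `p`-part of a class size bounds the index of a centralized subgroup of a Sylow group. -/
theorem exists_le_syl (hp : p.Prime) (hP : Syl p P ⊤) (K : Subgroup G) :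
    ∃ g M, M ≤ P ∧ cj g M ≤ K ∧ M.relIndex P ∣ K.index ∧ Syl p (cj g M) K := by
  obtain ⟨T, hT⟩ := syl_exists hp K
  obtain ⟨g, -, hg⟩ := hP.syl_le_conj hp hT.pi le_top
  refine ⟨g, cj g⁻¹ T, le_cj_iff.1 hg, by simpa using hT.le, ?_, by simpa using hT⟩
  have h1 : (cj g⁻¹ T).relIndex P ∣ T.relIndex K * K.index := by
    rw [relIndex_mul_index hT.le, ← index_cj g⁻¹ T]
    exact relIndex_dvd_index_of_le (le_cj_iff.1 hg)
  exact ((hP.pi.relIndex _).coprime hT.idx).dvd_of_dvd_mul_left h1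

/-- If `N(P)` has no fixed point on the abelian Sylow subgroup `P`, every class meets every
subgroup of index `2`. -/
theorem exists_conj_mem (hP : Syl p P ⊤) (hc : IsMulCommutative P) (h0 : P ⊓ 𝓒(𝓝(P)) = ⊥)
    (hM : M ≤ P) (hi : M.relIndex P ∣ 2) (ht : t ∈ P) : ∃ n ∈ 𝓝(P), n * t * n⁻¹ ∈ M := by
  by_contra! h
  have h2 : M.relIndex P = 2 := by
    rcases (Nat.dvd_prime Nat.prime_two).1 hi with e | e
    · exact absurd (relIndex_eq_one.1 e (by simpa using ht)) (h 1 (one_mem _))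
    · exact e
  obtain ⟨K, hK, hc1, hs, -⟩ := CA.Fus2.exists_complement_in (le_norm_self P) le_rfl
    (hP.of_le (le_norm_self P) le_top).coprime
  have hcop : (♯P).Coprime ♯K := hc1 ▸ (hP.of_le (le_norm_self P) le_top).coprime
  have hz : zpowers t ≤ P := zpowers_le.2 ht
  have hW : ⁅zpowers t, K⁆ ≤ M := by
    rw [commutator_le]
    rintro _ ⟨i, rfl⟩ k hk
    have h1 : ∀ n ∈ 𝓝(P), t * (n * t * n⁻¹)⁻¹ ∈ M := fun n hn => by
      have := (mul_mem_iff_of_index_two (H := M.subgroupOf P) h2 (a := ⟨t, ht⟩)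
        (b := ⟨_, inv_mem (conj_mem_of_mem_norm hn ht)⟩)).2
        (iff_of_false (by simpa [mem_subgroupOf] using h 1 (one_mem _))
          (by rw [mem_subgroupOf, inv_mem_iff]; exact h n hn))
      exact this
    have h3 : Commute t (k * t * k⁻¹)⁻¹ :=
      mem_cent.1 (comm_iff_le_cent.1 hc (inv_mem (conj_mem_of_mem_norm (hK hk) ht))) _ ht
    have : ⁅t ^ i, k⁆ = (t * (k * t * k⁻¹)⁻¹) ^ i := by
      rw [h3.mul_zpow, inv_zpow, conj_zpow, commutatorElement_def]; group
    show ⁅t ^ i, k⁆ ∈ M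
    rw [this]
    exact zpow_mem (h1 k (hK hk)) i
  have hWP : ⁅zpowers t, K⁆ ≤ P := hW.trans hM
  have hn : K ≤ 𝓝(⁅zpowers t, K⁆) := le_norm_comm_right _ _
  have h4 : ⁅⁅zpowers t, K⁆ ⊔ zpowers t, K⁆ ≤ ⁅zpowers t, K⁆ :=
    comm_sup_le_of_norm (le_norm_self _) (le_norm_comm_left _ _) hn (comm_le_left hn) le_rfl
  have h5 := coprime_comm_eq_of_cent (K := ⁅zpowers t, K⁆ ⊔ zpowers t) (A := K)
    (norm_of_comm_le_left (h4.trans le_sup_left)) (cop_mono hcop (sup_le hWP hz) le_rfl)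
    (Or.inr (solv_of_comm (comm_of_le hc (sup_le hWP hz)))) (by
      rw [eq_bot_iff, ← h0, ← hs, cent_sup]
      exact fun x hx => ⟨sup_le hWP hz hx.1, hx.2, comm_iff_le_cent.1 hc (sup_le hWP hz hx.1)⟩)
  exact h 1 (one_mem _) (by
    simpa using hW (h4 (h5.ge ((le_sup_right : zpowers t ≤ _) (mem_zpowers t)))))

omit [Finite G] in
/-- Induction frame for properties inherited by normal subgroups and quotients. -/
theorem solv_ind (Q : ∀ (G : Type u) [Group G], Prop)
    (hs : ∀ (G : Type u) [Group G] [Finite G] (N : Subgroup G) [N.Normal], Q G → Q N)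
    (hq : ∀ (G : Type u) [Group G] [Finite G] (N : Subgroup G) [N.Normal], Q G → Q (G ⧸ N))
    (h0 : ∀ (G : Type u) [Group G] [Finite G] [IsSimpleGroup G], Q G → center G = ⊥ →
      Even (Nat.card G) → False)
    (G : Type u) [Group G] [Finite G] (h : Q G) : Group.IsSolvable G := by
  obtain ⟨n, hn⟩ : ∃ n, Nat.card G = n := ⟨_, rfl⟩
  induction n using Nat.strong_induction_on generalizing G with
  | _ n ih =>
  by_cases hN : ∃ N : Subgroup G, N.Normal ∧ N ≠ ⊥ ∧ N ≠ ⊤
  · obtain ⟨N, _, h1, h2⟩ := hN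
    have e := N.card_mul_index
    have h3 := N.one_lt_card_iff_ne_bot.2 h1
    have h4 := one_lt_index_of_ne_top h2
    refine solv_ext N (ih _ ?_ _ (hs G N h) rfl) (ih _ ?_ _ (hq G N h) rfl)
    · nlinarith
    · show N.index < n
      nlinarith
  rcases subsingleton_or_nontrivial G with _ | _
  · infer_instance
  haveI : IsSimpleGroup G := ⟨fun N _ => by
    by_contra! e
    exact hN ⟨N, ‹_›, e⟩⟩
  rcases (inferInstance : (center G).Normal).eq_bot_or_eq_top with e | e
  · exact Cfsg.Agent.S0205.result (Nat.not_even_iff_odd.1 (h0 G h e))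
  · exact Group.isSolvable_of_comm fun a b => (mem_center_iff.1 (e ▸ mem_top b) a)

end CA.H4Cls
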