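import Mathlib
import Cfsg.Agent.Lib.Block.H28M11b
import Cfsg.Agent.Lib.Solv.PX1

/-! Counting elements of given order; a simplicity criterion. -/

set_option autoImplicit false

namespace CA.H28Nse

open Cfsg Finset Subgroup CA.H28Syl CA.H28SC CA.H28M11 CA.H28Sol CChar.CharOrth

variable {G : Type*} [Group G] [Finite G] {p : ℕ} [hp : Fact p.Prime] {x : G}

theorem card_ord (h1 : p ∣ Nat.card G) (h2 : ¬ p ^ 2 ∣ Nat.card G) :
    Nat.card {g : G // orderOf g = p} = Nat.card (Sylow p G) * (p - 1) := by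
  obtain ⟨x, hx⟩ := exists_isSylGen h1 h2
  rw [← card_subgroups hx]
  exact CA.PX.card_prime_subgroups hp.out

theorem dvd_card_ord {n d : ℕ} (h : ∀ g : G, orderOf g = n → d ∣ (CC g).index) :
    d ∣ Nat.card {g : G // orderOf g = n} := by
  classical
  have := Fintype.ofFinite G
  rw [Nat.card_eq_fintype_card, Fintype.card_subtype, card_eq_sum_card_image ConjClasses.mk]
  refine Finset.dvd_sum fun c hc => ?_
  obtain ⟨g, hg, rfl⟩ := mem_image.1 hc
  have h1 := (mem_filter.1 hg).2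
  refine (h g h1).trans (dvd_of_eq ?_)
  rw [← card_class_eq_index]
  congr 1
  ext k
  simp only [mem_filter, mem_univ, true_and, ConjClasses.mk_eq_mk_iff_isConj]
  refine ⟨fun e => ⟨?_, e.symm⟩, fun e => e.2.symm⟩
  obtain ⟨u, rfl⟩ := isConj_iff.1 e
  rw [orderOf_conj', h1]

theorem dvd_index_CC (h : ∀ y : G, orderOf y = p → SC p y) (hd : p ∣ Nat.card G) {g : G}
    (h1 : g ≠ 1) (h2 : orderOf g ≠ p) : p ∣ (CC g).index := by
  refine (hp.out.dvd_mul.1 (card_mul_index (CC g) ▸ hd)).resolve_left fun e => ?_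
  obtain ⟨y, hy⟩ := exists_prime_orderOf_dvd_card' p e
  rw [← Subgroup.orderOf_coe] at hy
  have h3 : g ∈ zpowers (y : G) := (h y hy).cent ▸ mem_CC.2 (mem_CC.1 y.2).symm
  rcases (Nat.dvd_prime hp.out).1 (hy ▸ orderOf_dvd_of_mem_zpowers h3) with e | e
  · exact h1 (orderOf_eq_one_iff.1 e)
  · exact h2 e

theorem eq_bot_of_sc (h : ∀ y : G, orderOf y = p → SC p y) (hx : orderOf x = p) {n : ℕ}
    (hn : ∀ q k : ℕ, q.Prime → 0 < k → q ^ k ∣ n → q ^ k % p ≠ 1) (S : Subgroup G) [S.Normal]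
    (h1 : ¬ p ∣ Nat.card S) (h2 : Nat.card S ∣ n) : S = ⊥ := by
  by_contra hS
  obtain ⟨q, hq, hd⟩ := Nat.exists_prime_and_dvd (mt Subgroup.card_eq_one.1 hS)
  have := Fact.mk hq
  obtain ⟨Q⟩ : Nonempty (Sylow q S) := inferInstance
  have e : Nat.card ((Q : Subgroup S).map S.subtype) = q ^ (Nat.card S).factorization q := by
    rw [card_map_of_injective S.subtype_injective, Q.card_eq_multiplicity]
  have h3 := Nat.ordProj_dvd (Nat.card S) q
  refine not_dvd_normalizer h (P := (Q : Subgroup S).map S.subtype)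
    (fun e' => h1 (e'.trans (e ▸ h3))) (e ▸ hn q _ hq (hq.factorization_pos_of_dvd
      Nat.card_pos.ne' hd) (h3.trans h2)) ?_
  have h4 := relIndex_sup_right (normalizer (((Q : Subgroup S).map S.subtype : Subgroup G) : Set G)) S
  rw [Sylow.normalizer_sup_eq_top, relIndex_top_right] at h4
  refine ((hp.out.dvd_mul.1 (card_mul_index S ▸ (h x hx).isSylGen.dvd_card)).resolve_left h1).trans ?_
  rw [h4]
  exact index_dvd_card _

theorem simple_of_sc (h : ∀ y : G, orderOf y = p → SC p y) (hx : orderOf x = p)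
    (he : (ee x).Prime) (h1 : Nat.card (Sylow p G) ≠ 1)
    (hn : ∀ q k : ℕ, q.Prime → 0 < k → q ^ k ∣ Nat.card (Sylow p G) → q ^ k % p ≠ 1) :
    IsSimpleGroup G := by
  have hs := h x hx
  have : Nontrivial G := ⟨⟨x, 1, fun e => hp.out.one_lt.ne (by rw [← hx, e, orderOf_one])⟩⟩
  refine ⟨fun S hS => ?_⟩
  by_cases hd : p ∣ Nat.card S
  swap
  · exact Or.inl (eq_bot_of_sc h hx hn S hd (hs.card_dvd S hd))
  have hxS := mem_of_dvd_card hs.isSylGen S hd
  refine Or.inr (index_eq_one.1 (((Nat.dvd_prime he).1 (hs.index_dvd S hxS)).resolve_right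
    fun hi => ?_))
  have h2 := hs.subgroup hxS
  have h3 := h2.card_eq
  have h4 := hs.card_eq
  rw [CA.L0Syl.card_sylow_of_normal_of_not_dvd S (hi ▸ not_dvd_ee hx)] at h3
  rw [← card_mul_index S, hi, h3] at h4
  have h5 : ee (⟨x, hxS⟩ : S) = 1 := Nat.eq_of_mul_eq_mul_right (Nat.mul_pos (Nat.mul_pos
    hp.out.pos he.pos) (Nat.card_pos (α := Sylow p G))) (by linarith)
  obtain ⟨K, hK, h6, h7⟩ := exists_compl_of_ee h2.isSylGen h5
  have h8 := card_mul_index K
  rw [h6, h3, h5, one_mul, mul_comm] at h8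
  have h9 := Nat.eq_of_mul_eq_mul_left hp.out.pos h8
  have := eq_bot_of_sc (G := S) (fun y hy => (h y (by rwa [Subgroup.orderOf_coe])).subgroup y.2) h2.ord hn K
    h7 h9.dvd
  exact h1 (by rw [← h9, this, card_bot])

theorem pow_check {p n B : ℕ} (hn : n ≠ 0) (hB : n < 2 ^ B) (h : ∀ q ∈ n.primeFactorsList,
    ∀ k < B, 0 < k → q ^ k ∣ n → q ^ k % p ≠ 1) (q k : ℕ) (hq : q.Prime) (hk : 0 < k)
    (hd : q ^ k ∣ n) : q ^ k % p ≠ 1 :=
  h q ((Nat.mem_primeFactorsList hn).2 ⟨hq, (dvd_pow_self q hk.ne').trans hd⟩) k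
    ((Nat.pow_lt_pow_iff_right one_lt_two).1 (((Nat.pow_le_pow_left hq.two_le k).trans
      (Nat.le_of_dvd (Nat.pos_of_ne_zero hn) hd)).trans_lt hB)) hk hd

/-- An element of `VV` of prime order `q` forces `p` to divide the Sylow normaliser order. -/
theorem dvd_of_VV (h : IsSylGen p x) {q : ℕ} [hq : Fact q.Prime] (h1 : q ∣ Nat.card (VV p x))
    (h2 : ¬ q ^ 2 ∣ Nat.card G) : p * Nat.card (Sylow q G) ∣ Nat.card G := by
  obtain ⟨v, hv, h3, -⟩ := exists_mul_VV h hq.out h1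
  rw [(isSylGen_of_not_sq_dvd h3 h2).card_sylow, ← card_mul_index (NN v)]
  exact Nat.mul_dvd_mul_right (dvd_card_of_mem h.ord (CC_le_NN v
    (mem_CC.2 (mem_CC.1 (h.VV_le hv)).symm))) _

end CA.H28Nse
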