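import Cfsg.Agent.Lib.Comp.CTrans
import Cfsg.Agent.Lib.Grp.H28Q48

/-! A presentation of `GL(2,3)`. -/

set_option autoImplicit false
set_option linter.all false
set_option maxRecDepth 100000
universe u
namespace CA.H7L33P
open CA.CNet CA.CWord CA.CLevel CA.CSimple CA.CPoint CA.CTodd Cfsg CA.CLow CA.H28Q48 Subgroup
noncomputable section
def rg : List Word := [[0,0], [2,2,2], [0,2,0,2,0,2,0,2,0,2,0,2,0,2,0,2], [0,2,0,2,0,2,0,2,0,3,1,3,1,3,1,3,1,1]]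
namespace rgI0
noncomputable def A_0 : List (ℕ) := [nat_lit 0x13c26124170760f07e0804036020370283804839134180803a0c03b1041510c200ec1c0a41f04e1008611088320c8330fc1e140340f0350dc1a0941b02c040b4231141606c0c0ce28146291642d14830168311662f05c0a0340b15e2a1762b0020100403102261343b1da3a1d4391ca381c4371ba361b40f07a170bc250da2512c241221f0fc351aa341a43319a3219410082180c42713a1c0e4130b20e07408042040240105a1309c1d0ea2311c221122c1643118a30184281421e0f4140a20c0640715a2110e150aa0d06e0703a0300c0502a0904c1108a190cc2914a2d16c2f17a2e1742a1521a0d4120920a054060320201c0201400]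
noncomputable def A : List (List (ℕ)) := [A_0]
noncomputable def K_0 : List (ℕ) := [nat_lit 0x9c4de6d359a4ce592b954a635198441e131b8a41a1518934e65f2e8ec72273a96c5e3d2598416172798c9225168fc1219289948e23159040e1b228840a1d2180c021e00]
noncomputable def K : List (List (ℕ)) := [K_0]
noncomputable def R_0 : List (Rule) := [Rule.mk (nat_lit 2) (nat_lit 23) (Steps.bwd (nat_lit 2) (Steps.bwd (nat_lit 2) Steps.nil)) (nat_lit 2) (nat_lit 0),
  Rule.mk (nat_lit 1) (nat_lit 140) (Steps.bwd (nat_lit 2) (Steps.bwd (nat_lit 1) (Steps.bwd (nat_lit 2) (Steps.bwd (nat_lit 1) (Steps.bwd (nat_lit 2) (Steps.bwd (nat_lit 1) (Steps.bwd (nat_lit 2) (Steps.bwd (nat_lit 1) (Steps.bwd (nat_lit 2) (Steps.bwd (nat_lit 1) (Steps.bwd (nat_lit 2) (Steps.bwd (nat_lit 1) (Steps.bwd (nat_lit 2) (Steps.bwd (nat_lit 1) (Steps.bwd (nat_lit 2) Steps.nil))))))))))))))) (nat_lit 4) (nat_lit 1),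
  Rule.mk (nat_lit 3) (nat_lit 140) (Steps.bwd (nat_lit 1) (Steps.bwd (nat_lit 3) (Steps.bwd (nat_lit 1) (Steps.bwd (nat_lit 3) (Steps.bwd (nat_lit 1) (Steps.fwd (nat_lit 1024) (Steps.bwd (nat_lit 1) (Steps.bwd (nat_lit 2) (Steps.bwd (nat_lit 1) (Steps.bwd (nat_lit 2) (Steps.bwd (nat_lit 1) (Steps.bwd (nat_lit 2) (Steps.bwd (nat_lit 1) (Steps.bwd (nat_lit 2) (Steps.bwd (nat_lit 1) Steps.nil))))))))))))))) (nat_lit 6) (nat_lit 10),
  Rule.mk (nat_lit 3) (nat_lit 23) (Steps.fwd (nat_lit 1024) (Steps.bwd (nat_lit 3) Steps.nil)) (nat_lit 3) (nat_lit 0),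
  Rule.mk (nat_lit 2) (nat_lit 140) (Steps.bwd (nat_lit 1) (Steps.bwd (nat_lit 2) (Steps.bwd (nat_lit 1) (Steps.bwd (nat_lit 2) (Steps.bwd (nat_lit 1) (Steps.bwd (nat_lit 2) (Steps.bwd (nat_lit 1) (Steps.bwd (nat_lit 2) (Steps.bwd (nat_lit 1) (Steps.bwd (nat_lit 2) (Steps.bwd (nat_lit 1) (Steps.bwd (nat_lit 2) (Steps.bwd (nat_lit 1) (Steps.bwd (nat_lit 2) (Steps.fwd (nat_lit 512) Steps.nil))))))))))))))) (nat_lit 4) (nat_lit 0),
  Rule.mk (nat_lit 3) (nat_lit 140) (Steps.bwd (nat_lit 1) (Steps.bwd (nat_lit 3) (Steps.bwd (nat_lit 1) (Steps.bwd (nat_lit 3) (Steps.bwd (nat_lit 1) (Steps.bwd (nat_lit 3) (Steps.bwd (nat_lit 1) (Steps.bwd (nat_lit 2) (Steps.fwd (nat_lit 512) (Steps.bwd (nat_lit 2) (Steps.bwd (nat_lit 1) (Steps.bwd (nat_lit 2) (Steps.bwd (nat_lit 1) (Steps.bwd (nat_lit 2) (Steps.bwd (nat_lit 1) Steps.nil))))))))))))))) (nat_lit 6) (nat_lit 10),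
  Rule.mk (nat_lit 0) (nat_lit 149) (Steps.fwd (nat_lit 1024) (Steps.fwd (nat_lit 512) (Steps.fwd (nat_lit 1024) (Steps.fwd (nat_lit 512) (Steps.fwd (nat_lit 1024) (Steps.fwd (nat_lit 512) (Steps.fwd (nat_lit 1024) (Steps.bwd (nat_lit 1) (Steps.bwd (nat_lit 2) (Steps.bwd (nat_lit 1) (Steps.bwd (nat_lit 2) (Steps.bwd (nat_lit 1) (Steps.bwd (nat_lit 2) (Steps.bwd (nat_lit 1) (Steps.bwd (nat_lit 2) (Steps.bwd (nat_lit 1) Steps.nil)))))))))))))))) (nat_lit 6) (nat_lit 9),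
  Rule.mk (nat_lit 0) (nat_lit 32) (Steps.fwd (nat_lit 512) (Steps.fwd (nat_lit 0) (Steps.fwd (nat_lit 512) Steps.nil))) (nat_lit 8) (nat_lit 0),
  Rule.mk (nat_lit 2) (nat_lit 23) (Steps.bwd (nat_lit 0) (Steps.fwd (nat_lit 1024) Steps.nil)) (nat_lit 8) (nat_lit 0),
  Rule.mk (nat_lit 3) (nat_lit 23) (Steps.bwd (nat_lit 0) (Steps.bwd (nat_lit 2) Steps.nil)) (nat_lit 8) (nat_lit 0),
  Rule.mk (nat_lit 3) (nat_lit 23) (Steps.bwd (nat_lit 3) (Steps.fwd (nat_lit 1024) Steps.nil)) (nat_lit 3) (nat_lit 0),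
  Rule.mk (nat_lit 2) (nat_lit 23) (Steps.bwd (nat_lit 2) (Steps.fwd (nat_lit 1536) Steps.nil)) (nat_lit 2) (nat_lit 0),
  Rule.mk (nat_lit 2) (nat_lit 140) (Steps.bwd (nat_lit 1) (Steps.bwd (nat_lit 2) (Steps.bwd (nat_lit 1) (Steps.bwd (nat_lit 2) (Steps.fwd (nat_lit 512) (Steps.bwd (nat_lit 2) (Steps.fwd (nat_lit 512) (Steps.fwd (nat_lit 1536) (Steps.fwd (nat_lit 512) (Steps.fwd (nat_lit 1536) (Steps.fwd (nat_lit 512) (Steps.fwd (nat_lit 1536) (Steps.fwd (nat_lit 512) (Steps.fwd (nat_lit 1536) (Steps.fwd (nat_lit 512) Steps.nil))))))))))))))) (nat_lit 4) (nat_lit 0),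
  Rule.mk (nat_lit 2) (nat_lit 140) (Steps.bwd (nat_lit 1) (Steps.bwd (nat_lit 2) (Steps.bwd (nat_lit 1) (Steps.bwd (nat_lit 2) (Steps.bwd (nat_lit 1) (Steps.bwd (nat_lit 2) (Steps.bwd (nat_lit 1) (Steps.bwd (nat_lit 2) (Steps.bwd (nat_lit 1) (Steps.bwd (nat_lit 2) (Steps.bwd (nat_lit 1) (Steps.bwd (nat_lit 2) (Steps.fwd (nat_lit 512) (Steps.bwd (nat_lit 2) (Steps.fwd (nat_lit 512) Steps.nil))))))))))))))) (nat_lit 4) (nat_lit 0),
  Rule.mk (nat_lit 0) (nat_lit 149) (Steps.fwd (nat_lit 1024) (Steps.fwd (nat_lit 512) (Steps.fwd (nat_lit 1024) (Steps.fwd (nat_lit 512) (Steps.fwd (nat_lit 1024) (Steps.bwd (nat_lit 1) (Steps.fwd (nat_lit 1024) (Steps.bwd (nat_lit 1) (Steps.bwd (nat_lit 2) (Steps.bwd (nat_lit 1) (Steps.bwd (nat_lit 2) (Steps.bwd (nat_lit 1) (Steps.bwd (nat_lit 2) (Steps.fwd (nat_lit 512) (Steps.fwd (nat_lit 1536) (Steps.bwd (nat_lit 1) Steps.nil)))))))))))))))) (nat_lit 6) (nat_lit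 9),
  Rule.mk (nat_lit 0) (nat_lit 32) (Steps.fwd (nat_lit 1024) (Steps.fwd (nat_lit 0) (Steps.fwd (nat_lit 1536) Steps.nil))) (nat_lit 8) (nat_lit 0),
  Rule.mk (nat_lit 2) (nat_lit 140) (Steps.bwd (nat_lit 1) (Steps.bwd (nat_lit 2) (Steps.bwd (nat_lit 1) (Steps.bwd (nat_lit 2) (Steps.bwd (nat_lit 1) (Steps.bwd (nat_lit 2) (Steps.bwd (nat_lit 1) (Steps.bwd (nat_lit 2) (Steps.bwd (nat_lit 1) (Steps.bwd (nat_lit 2) (Steps.fwd (nat_lit 512) (Steps.bwd (nat_lit 2) (Steps.fwd (nat_lit 512) (Steps.fwd (nat_lit 1536) (Steps.bwd (nat_lit 1) Steps.nil))))))))))))))) (nat_lit 4) (nat_lit 0),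
  Rule.mk (nat_lit 2) (nat_lit 23) (Steps.fwd (nat_lit 1536) (Steps.bwd (nat_lit 2) Steps.nil)) (nat_lit 2) (nat_lit 0),
  Rule.mk (nat_lit 0) (nat_lit 149) (Steps.fwd (nat_lit 1024) (Steps.fwd (nat_lit 512) (Steps.fwd (nat_lit 1024) (Steps.fwd (nat_lit 512) (Steps.bwd (nat_lit 3) (Steps.bwd (nat_lit 1) (Steps.fwd (nat_lit 1024) (Steps.bwd (nat_lit 1) (Steps.bwd (nat_lit 2) (Steps.bwd (nat_lit 1) (Steps.bwd (nat_lit 2) (Steps.fwd (nat_lit 512) (Steps.fwd (nat_lit 1536) (Steps.fwd (nat_lit 512) (Steps.fwd (nat_lit 1536) (Steps.bwd (nat_lit 1) Steps.nil)))))))))))))))) (nat_lit 6) (nat_lit 9),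
  Rule.mk (nat_lit 0) (nat_lit 32) (Steps.fwd (nat_lit 1024) (Steps.fwd (nat_lit 0) (Steps.bwd (nat_lit 2) Steps.nil))) (nat_lit 8) (nat_lit 0),
  Rule.mk (nat_lit 2) (nat_lit 140) (Steps.fwd (nat_lit 512) (Steps.bwd (nat_lit 3) (Steps.bwd (nat_lit 1) (Steps.fwd (nat_lit 1024) (Steps.bwd (nat_lit 1) (Steps.bwd (nat_lit 3) (Steps.bwd (nat_lit 1) (Steps.fwd (nat_lit 1024) (Steps.fwd (nat_lit 512) (Steps.bwd (nat_lit 2) (Steps.bwd (nat_lit 1) (Steps.bwd (nat_lit 2) (Steps.fwd (nat_lit 512) (Steps.bwd (nat_lit 2) (Steps.fwd (nat_lit 512) Steps.nil))))))))))))))) (nat_lit 6) (nat_lit 8),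
  Rule.mk (nat_lit 2) (nat_lit 140) (Steps.fwd (nat_lit 512) (Steps.bwd (nat_lit 2) (Steps.bwd (nat_lit 1) (Steps.bwd (nat_lit 2) (Steps.fwd (nat_lit 512) (Steps.bwd (nat_lit 2) (Steps.fwd (nat_lit 512) (Steps.bwd (nat_lit 2) (Steps.fwd (nat_lit 512) (Steps.fwd (nat_lit 1536) (Steps.fwd (nat_lit 512) (Steps.bwd (nat_lit 2) (Steps.fwd (nat_lit 512) (Steps.bwd (nat_lit 2) (Steps.fwd (nat_lit 512) Steps.nil))))))))))))))) (nat_lit 4) (nat_lit 0)]
noncomputable def R : List (List (Rule)) := [R_0]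
def LW : List Word := [[], [0], [2], [3]]
def par : Par := ⟨9, 2, 11, 20, 511, 2047, 1048575⟩
theorem hpar : par.ok := by decide
theorem hR0_0 : lall (R) (fun l => lall l (ruleOK rg LW par)) = true := by decide +kernel
theorem hR0 : lall (R) (fun l => lall l (ruleOK rg LW par)) = true := hR0_0
theorem hR : RulesOK rg LW par R := rulesOK_of rfl hR0
def cols : List (ℕ × ℕ) := [(512, 1), (1024, 3)]
theorem hcols : lall cols (colOK rg LW par) = true := by decide +kernel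
noncomputable def JS0 : List ℕ := [nat_lit 0x400148c0002040bc0a4b088fc10291409c16510c90c021d0f4c004391042e4f04894482311084401f0f074381b88d45e11e010245002c5000511000264024022480840291a8004281a01c8408180bc5c2d1603090010e0743c1f78008c12302854251208c44211007c3c1d0e06c34e1d0a0200158456061f82866341a8d86e0c058984a2411b46a3160e800b1580542800a4700014206e361a8d06632029047e0210888462412898e24118884220008f87e30178b85a2c018e0c001e04783d170a4502713094482311084401f0f14003620d06632188c05e2e16800022c158a8522818ec72381b8d86a34198c86230178b85a2c10e8721,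
  nat_lit 0x760c218607a0117800660d258689e0a13d8640c250649c0913018700d290587c011754780058ac00a1d800528090004f4268004a803804470]
theorem S0_c : blocks (facts 9 2 11 20 511 2047 1048575 9 511 5 31 A R 32) 32 JS0 314 = true := by decide +kernel
theorem S0 : On (Step.{u} rg LW par A) 314 378 :=
  steps_of_blocks hpar hR S0_c (by decide +kernel)
theorem D0_c : allB (defOK 9 11 20 511 1048575 315 A K) 1 2 = true := by decide +kernel
theorem D0 : On (fun r => defOK par.W par.WL par.E par.mW par.mE 315 A K r = true) 256 384 :=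
  On.of_allB D0_c
noncomputable def JW0 : List ℕ := [nat_lit 0x388e51ece41b0e01ccbc1e4cd398e9378e11acc5298a90c0802489425899188b82e8bd33ccc1208113098158c42d8b9128a817895170e81a4dc100a40c890190ad118d1318c92a8b43a8ed368dd144a50dc910d4ac34cd0198c81d8b51d0ec13cd82b8b1328d53b8f1358d9180b01f8d43c8f02c87c3d07d]
theorem W0_c : blocks (rows 9 2 11 20 511 2047 1048575 10 1023 20 A 378 48 cols 64) 64 JW0 0 = true := by decide +kernel
theorem W0 : On (Row.{u} rg LW par A 378 48 cols) 0 64 :=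
  rows_of_blocks hpar (by decide) hcols W0_c (by decide +kernel)
theorem idx : Idx.{u} rg [[0], [2]] [] 48 :=
  idx_of_cert hpar hR (K := K) (by decide +kernel) (T := 315) (T' := 384) (by decide) D0
    (subs := []) (by decide +kernel) (T1 := 314) (by decide) (N := 378) S0
    (by decide) (n' := 64) (by decide) W0 (by decide +kernel) (by decide +kernel)
end rgI0

theorem bound : Bound.{u} rg [[0], [2]] 48 := Bound.of_idx rgI0.idx (Bound.nil _) (N := 48) (by decide)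

def two {G : Type*} (a b : G) : ℕ → G := fun i => cond (i == 0) a b

def qa : Q := ⟨(0, 1, 1, 0), by decide⟩
def qb : Q := ⟨(1, 0, 1, 1), by decide⟩

def ws : List Word := [[],[0],[2],[0,2],[2,0],[2,2],[0,2,0],[0,2,2],[2,0,2],[2,2,0],[0,2,0,2],[0,2,2,0],[2,0,2,0],[2,0,2,2],[2,2,0,2],[0,2,0,2,0],[0,2,0,2,2],[0,2,2,0,2],[2,0,2,0,2],[2,0,2,2,0],[2,2,0,2,0],[2,2,0,2,2],[0,2,0,2,0,2],[0,2,0,2,2,0],[0,2,2,0,2,0],[0,2,2,0,2,2],[2,0,2,0,2,0],[2,0,2,0,2,2],[2,0,2,2,0,2],[2,2,0,2,0,2],[2,2,0,2,2,0],[0,2,0,2,0,2,0],[0,2,0,2,0,2,2],[0,2,0,2,2,0,2],[0,2,2,0,2,0,2],[0,2,2,0,2,2,0],[2,0,2,0,2,0,2],[2,0,2,0,2,2,0],[2,0,2,2,0,2,0],[2,0,2,2,0,2,2],[2,2,0,2,0,2,0],[2,2,0,2,0,2,2],[2,2,0,2,2,0,2],[0,2,0,2,0,2,0,2],[2,0,2,0,2,0,2,2],[2,2,0,2,0,2,0,2],[2,2,0,2,2,0,2,2],[0,2,0,2,0,2,0,2,2]]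

theorem mem_ws {G : Type*} [Group G] (a b : G) {w : Word} (hw : w ∈ ws) :
    ev (two a b) w ∈ grp (two a b) [[0], [2]] := by
  have h1 : ∀ w ∈ ws, ∀ i ∈ w, i = 0 ∨ i = 2 := by decide +kernel
  have h2 := h1 w hw
  clear hw
  induction w with
  | nil => exact one_mem _
  | cons i w ih =>
    rw [ev_cons]
    refine mul_mem ?_ (ih fun j hj => h2 j (List.mem_cons_of_mem _ hj))
    rcases h2 i List.mem_cons_self with rfl | rfl
    · simpa using mem_grp (two a b) (ws := [[0], [2]]) (w := [0]) (by simp)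
    · simpa using mem_grp (two a b) (ws := [[0], [2]]) (w := [2]) (by simp)

theorem q_rel : ∀ r ∈ rg, ev (two qa qb) r = 1 := by decide +kernel
theorem q_all : ∀ g : Q, ∃ w ∈ ws, ev (two qa qb) w = g := by decide +kernel

theorem iso {C : Type u} [Group C] [Finite C] (hc : Nat.card C = 48) {a b : C}
    (hr : ∀ r ∈ rg, ev (two a b) r = 1) (ht : grp (two a b) [[0], [2]] = ⊤) :
    Nonempty (C ≃* GL (Fin 2) (ZMod 3)) := by
  let e : ULift.{u} Q ≃* Q := MulEquiv.ulift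
  have e1 : (fun i => e.symm.toMonoidHom (two qa qb i)) = two (e.symm qa) (e.symm qb) :=
    funext fun i => by unfold two; cases (i == 0) <;> rfl
  obtain ⟨ψ, -, h3⟩ := CTrans.exists_hom_of_bound bound.{u} (q := two (e.symm qa) (e.symm qb)) hr
    (fun r h => by rw [← e1, ← map_ev, q_rel r h, map_one]) (by rw [ht, card_top, hc])
  have h4 : ψ.range = ⊤ := eq_top_iff.2 fun g _ => by
    obtain ⟨w, hw, h5⟩ := q_all (e g)
    have := mem_ws (e.symm qa) (e.symm qb) hw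
    rw [← h3] at this
    rw [← e1, ← map_ev, h5] at this
    simpa using this
  exact ⟨(((MulEquiv.subgroupCongr ht).trans topEquiv).symm.trans (MulEquiv.ofBijective ψ
    ((Nat.bijective_iff_surjective_and_card _).2 ⟨MonoidHom.range_eq_top.1 h4, by
      rw [ht, card_top, hc, Nat.card_congr e.toEquiv, card_Q]⟩))).trans (e.trans toGL)⟩

end
end CA.H7L33P
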