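import Mathlib
import Cfsg.Agent.Lib.Grp.H28SC
import Cfsg.Agent.Lib.Grp.H28Aut
import Cfsg.Agent.Lib.Grp.Two
import Cfsg.Agent.Lib.Grp.Fpf
import Cfsg.Agent.Lib.Grp.PGDihedral
import Cfsg.Agent.Lib.Lin.PSL2Four
import Cfsg.Agent.Lib.Perm.PermBasic
import Cfsg.Agent.S1012
import Cfsg.Agent.S0144

/-!
# The simple group of order 168
-/

set_option autoImplicit false

namespace CA.H28G168

open Subgroup CA.H28Syl CA.H28SC CA.H28Simp CA.H28Aut CA.SylIn CA.Two

instance fact7 : Fact (Nat.Prime 7) := ⟨by norm_num⟩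

section General

variable {G : Type*} [Group G] [Finite G]

theorem ord_conj {a b : G} (h : IsConj a b) : orderOf b = orderOf a := by
  obtain ⟨g, rfl⟩ := isConj_iff.1 h
  exact orderOf_conj' g a

theorem card_class_of {x : G} {c n : ℕ} (h : Nat.card (CC x) = c) (hG : Nat.card G = c * n) :
    Nat.card {y // IsConj x y} = n :=
  Nat.eq_of_mul_eq_mul_left (h ▸ Nat.card_pos) (by rw [← hG, ← h, card_class])

theorem SC_commute {p : ℕ} [Fact p.Prime] {x g : G} (h : SC p x) (hc : Commute g x)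
    (hd : ¬ p ∣ orderOf g) : g = 1 := h.eq_one_of_mem (h.cent ▸ mem_CC.2 hc) hd

theorem comm_of_center {k : ℕ} (hG : Nat.card G = k * 2) {a : G} (ha : orderOf a = k)
    (hc : a ∈ center G) : IsMulCommutative G := by
  have h1 := (zpowers a).card_mul_index
  rw [Nat.card_zpowers, ha, hG] at h1
  have h2 := (Nat.eq_of_mul_eq_mul_left (ha ▸ orderOf_pos a) h1).symm ▸
    index_dvd_of_le (zpowers_le_of_mem hc)
  haveI := isCyclic_of_card_dvd_prime (α := G ⧸ center G) (p := 2) h2
  exact (QuotientGroup.mk' (center G)).isMulCommutative_of_isCyclic_of_ker_le_center (by simp)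

theorem card_klein_dihedral {T : Subgroup G} (e : T ≃* DihedralGroup 4) :
    Nat.card {U : Subgroup G // U ≤ T ∧ IsKleinFour U} = 2 := by
  have h1 : Nat.card {U : Subgroup G // U ≤ T ∧ IsKleinFour U} =
      Nat.card {U : Subgroup T // IsKleinFour U} := Nat.card_congr
    { toFun := fun U => ⟨U.1.subgroupOf T, isKleinFour_of ((Nat.card_congr (subgroupOfEquivOfLe
        U.2.1).toEquiv).trans U.2.2.card_four) fun x hx => Subtype.ext (klein_sq U.2.2 hx)⟩
      invFun := fun U => ⟨U.1.map T.subtype, map_subtype_le _, isKleinFour_of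
        ((card_map_of_injective T.subtype_injective).trans U.2.card_four) (by
          rintro _ ⟨x, hx, rfl⟩
          exact congrArg Subtype.val (klein_sq U.2 hx))⟩
      left_inv := fun U => Subtype.ext (map_subgroupOf_eq_of_le U.2.1)
      right_inv := fun U => Subtype.ext (comap_map_eq_self_of_injective T.subtype_injective _) }
  have h2 := CA.PSL2Four.card_pairs (G := T)
  have h3 : Nat.card {p : T × T // CA.PSL2Four.IsPair p.1 p.2} =
      Nat.card {p : DihedralGroup 4 × DihedralGroup 4 // p.1 ≠ 1 ∧ p.2 ≠ 1 ∧ p.1 ≠ p.2 ∧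
        p.1 * p.1 = 1 ∧ p.2 * p.2 = 1 ∧ p.1 * p.2 = p.2 * p.1} :=
    Nat.card_congr (Equiv.subtypeEquiv (e.toEquiv.prodCongr e.toEquiv) fun p => by
      simp only [Equiv.prodCongr_apply, Prod.map_fst, Prod.map_snd, MulEquiv.toEquiv_eq_coe,
        EquivLike.coe_coe, ← map_mul, ne_eq, EmbeddingLike.map_eq_one_iff,
        EmbeddingLike.apply_eq_iff_eq]
      exact ⟨fun h => ⟨h.1, h.2, h.3, h.4, h.5, h.6⟩, fun ⟨a, b, c, d, e, f⟩ => ⟨a, b, c, d, e, f⟩⟩)
  rw [h3, Nat.card_eq_fintype_card, show Fintype.card _ = 12 by decide] at h2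
  omega

end General

variable {G : Type*} [Group G] [Finite G] [IsSimpleGroup G] (h : Nat.card G = 168)
include h

theorem nc : ¬ IsMulCommutative G := not_comm_of_card (by rw [h]; norm_num)

theorem perf : commutator G = ⊤ := by
  refine (IsSimpleGroup.eq_bot_or_eq_top_of_normal _ inferInstance).resolve_left fun e => nc h ?_
  exact ⟨⟨fun a b => commutatorElement_eq_one_iff_mul_comm.1
    (mem_bot.1 (e ▸ commutator_mem_commutator (mem_top a) (mem_top b)))⟩⟩

theorem index_ge {H : Subgroup G} (hH : H ≠ ⊤) : 7 ≤ H.index := by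
  by_contra h1
  have := (two_mul_card_dvd (nc h) H hH).trans
    (Nat.factorial_dvd_factorial (show H.index ≤ 6 by omega))
  rw [h] at this
  norm_num [Nat.factorial] at this

theorem sylow_ge {p : ℕ} [Fact p.Prime] (hp : p ∣ 168) : 7 ≤ Nat.card (Sylow p G) := by
  obtain ⟨P⟩ : Nonempty (Sylow p G) := inferInstance
  rw [P.card_eq_index_normalizer]
  exact index_ge h (normalizer_ne_top (sylow_ne_bot (h ▸ hp) P) (sylow_ne_top (nc h) P))

theorem n7 : Nat.card (Sylow 7 G) = 8 := by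
  have h1 := card_sylow_dvd (p := 7) (a := 1) (m := 24) h (by norm_num)
  have h2 := sylow_ge h (p := 7) (by norm_num)
  have h3 := card_sylow_modEq_one 7 G
  have := Nat.le_of_dvd (by norm_num) h1
  unfold Nat.ModEq at h3
  generalize Nat.card (Sylow 7 G) = n at *
  interval_cases n <;> omega

theorem sc7 {x : G} (hx : orderOf x = 7) : SC 7 x ∧ ee x = 3 := by
  have h1 := isSylGen_of_not_sq_dvd hx (by rw [h]; norm_num)
  have h2 := h1.card_eq
  have h3 := ee_ne_one_of_perfect h1 (perf h)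
  rw [h, n7 h] at h2
  have h4 : ee x ∣ 3 := ⟨Nat.card (VV 7 x), by linarith⟩
  have h5 := ((Nat.dvd_prime Nat.prime_three).1 h4).resolve_left h3
  rw [h5] at h2
  exact ⟨sc_of_VV h1 (card_eq_one.1 (by omega)), h5⟩

theorem card_N7 {x : G} (hx : orderOf x = 7) : Nat.card (NN x) = 21 := by
  rw [(sc7 h hx).1.card_NN, (sc7 h hx).2]

theorem n3 : Nat.card (Sylow 3 G) = 28 := by
  have h1 := card_sylow_dvd (p := 3) (a := 1) (m := 56) h (by norm_num)
  have h2 := sylow_ge h (p := 3) (by norm_num)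
  have h3 := card_sylow_modEq_one 3 G
  have h4 : Nat.card (Sylow 3 G) ≠ 7 := fun h4 => by
    obtain ⟨x, hx⟩ := exists_prime_orderOf_dvd_card' (G := G) 7 (by rw [h]; norm_num)
    obtain ⟨⟨y, hy⟩, h5⟩ := exists_prime_orderOf_dvd_card' (G := NN x) 3
      (by rw [card_N7 h hx]; norm_num)
    rw [Subgroup.orderOf_mk] at h5
    have h6 := (isSylGen_of_not_sq_dvd h5 (by rw [h]; norm_num)).card_sylow
    have h7 := (NN y).card_mul_index
    rw [← h6, h4, h] at h7
    have h8 : (zpowers x).IsComplement' (NN y) := isComplement'_of_coprime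
      (by rw [Nat.card_zpowers, hx, h]; omega)
      (by rw [Nat.card_zpowers, hx, show Nat.card (NN y) = 24 by omega]; norm_num)
    have h9 : normalClosure {y} ≤ NN x := (closure_le _).2 fun z hz => by
      obtain ⟨_, rfl, h9⟩ := Group.mem_conjugatesOfSet_iff.1 hz
      obtain ⟨g, rfl⟩ := isConj_iff.1 h9
      obtain ⟨⟨a, b⟩, rfl⟩ := (h8.existsUnique g).exists
      have h10 := zpowers_le_of_mem hy (conj_mem_of_mem_normalizer b.2 (mem_zpowers _))
      have h11 := le_normalizer a.2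
      simpa [mul_assoc] using mul_mem (mul_mem h11 h10) (inv_mem h11)
    rcases (normalClosure_normal (s := {y})).eq_bot_or_eq_top with e | e
    · rw [mem_bot.1 (e.le (subset_normalClosure (Set.mem_singleton y))), orderOf_one] at h5
      omega
    · have := card_N7 h hx
      rw [top_le_iff.1 (e.ge.trans h9), card_top] at this
      omega
  have := Nat.le_of_dvd (by norm_num) h1
  unfold Nat.ModEq at h3
  generalize Nat.card (Sylow 3 G) = n at *
  interval_cases n <;> omega

theorem sc3 {x : G} (hx : orderOf x = 3) : SC 3 x ∧ ee x = 2 := by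
  have h1 := isSylGen_of_not_sq_dvd hx (by rw [h]; norm_num)
  have h2 := h1.card_eq
  have h5 := ((Nat.dvd_prime Nat.prime_two).1 (ee_dvd hx)).resolve_left
    (ee_ne_one_of_perfect h1 (perf h))
  rw [h, n3 h, h5] at h2
  exact ⟨sc_of_VV h1 (card_eq_one.1 (by omega)), h5⟩

theorem card_N3 {x : G} (hx : orderOf x = 3) : Nat.card (NN x) = 6 := by
  rw [(sc3 h hx).1.card_NN, (sc3 h hx).2]

theorem card_T (T : Sylow 2 G) : Nat.card (T : Subgroup G) = 8 :=
  card_sylow_of (a := 3) (m := 21) h (by norm_num) T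

theorem isPGroup_CC {z : G} {k : ℕ} (hz : z ^ 2 ^ k = 1) (h1 : z ≠ 1) : IsPGroup 2 (CC z) := by
  have key : ∀ p : ℕ, p.Prime → p ∣ Nat.card (CC z) → p = 2 := fun p hp hd => by
    haveI := Fact.mk hp
    obtain ⟨⟨g, hg⟩, h2⟩ := exists_prime_orderOf_dvd_card' p hd
    rw [Subgroup.orderOf_mk] at h2
    have h3 : p ∣ 2 ^ 3 * 3 * 7 := hd.trans ((card_subgroup_dvd_card _).trans h.dvd)
    have h4 : p ≠ 2 → ¬ p ∣ orderOf z := fun h4 h5 => h4 ((Nat.prime_dvd_prime_iff_eq hp
      Nat.prime_two).1 (hp.dvd_of_dvd_pow (h5.trans (orderOf_dvd_of_pow_eq_one hz))))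
    rw [hp.dvd_mul, hp.dvd_mul, hp.prime.dvd_pow_iff_dvd (by norm_num),
      Nat.prime_dvd_prime_iff_eq hp Nat.prime_two, Nat.prime_dvd_prime_iff_eq hp Nat.prime_three,
      Nat.prime_dvd_prime_iff_eq hp fact7.out] at h3
    rcases h3 with (h3 | rfl) | rfl
    · exact h3
    · exact absurd (SC_commute (sc3 h h2).1 (mem_CC.1 hg).symm (h4 (by norm_num))) h1
    · exact absurd (SC_commute (sc7 h h2).1 (mem_CC.1 hg).symm (h4 (by norm_num))) h1
  exact IsPGroup.of_card (Nat.eq_prime_pow_of_unique_prime_dvd Nat.card_pos.ne' (key _ · ·))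

theorem pow_T {T : Sylow 2 G} {z : G} (hz : z ∈ (T : Subgroup G)) : z ^ 2 ^ 3 = 1 :=
  congrArg Subtype.val (card_T h T ▸ pow_card_eq_one' (x := (⟨z, hz⟩ : T)))

theorem CC_eq {T : Sylow 2 G} {z : G} (hz : z ∈ (T : Subgroup G)) (h1 : z ≠ 1)
    (hc : ∀ t ∈ (T : Subgroup G), t * z = z * t) : CC z = T :=
  T.is_maximal' (isPGroup_CC h (pow_T h hz) h1) fun t ht => mem_CC.2 (hc t ht)

theorem n2 : Nat.card (Sylow 2 G) = 21 := by
  have h1 := card_sylow_dvd (p := 2) (a := 3) (m := 21) h (by norm_num)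
  have h2 := sylow_ge h (p := 2) (by norm_num)
  have h4 : Nat.card (Sylow 2 G) ≠ 7 := fun h4 => by
    obtain ⟨T⟩ : Nonempty (Sylow 2 G) := inferInstance
    have h5 := (normalizer ((T : Subgroup G) : Set G)).card_mul_index
    rw [show (normalizer ((T : Subgroup G) : Set G)).index = 7 from
      T.card_eq_index_normalizer.symm.trans h4, h] at h5
    obtain ⟨⟨u, hu⟩, h6⟩ := exists_prime_orderOf_dvd_card'
      (G := normalizer ((T : Subgroup G) : Set G)) 3 (by omega)
    rw [Subgroup.orderOf_mk] at h6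
    have h7 := CA.PermBasic.card_dvd_of_semiregular_on (G := ConjAct G) (zpowers u)
      (((T : Subgroup G) : Set G) \ {1}) (Set.toFinite _)
      (fun g hg x hx => ⟨conj_mem_of_mem_normalizer (zpowers_le_of_mem hu hg) hx.1,
        fun e => hx.2 (by simpa [ConjAct.smul_def] using e)⟩) fun g hg x hx e => by
        by_contra h7
        have h8 := ((Nat.dvd_prime Nat.prime_three).1 (h6 ▸ orderOf_dvd_of_mem_zpowers hg)
          ).resolve_left fun e => h7 (orderOf_eq_one_iff.1 e)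
        refine hx.2 (SC_commute (sc3 h h8).1 (mul_inv_eq_iff_eq_mul.1 e).symm fun h9 => ?_)
        have := h9.trans (orderOf_dvd_of_pow_eq_one (pow_T h hx.1))
        norm_num at this
    rw [Set.ncard_sdiff_singleton_of_mem (one_mem _), ← Nat.card_coe_set_eq] at h7
    have h8 : Nat.card (zpowers u) ∣ Nat.card (T : Subgroup G) - 1 := h7
    rw [Nat.card_zpowers, h6, card_T h] at h8
    norm_num at h8
  have := Nat.le_of_dvd (by norm_num) h1
  generalize Nat.card (Sylow 2 G) = n at *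
  interval_cases n <;> omega

theorem N_T (T : Sylow 2 G) : normalizer ((T : Subgroup G) : Set G) = T := by
  have h1 := (normalizer ((T : Subgroup G) : Set G)).card_mul_index
  rw [show (normalizer ((T : Subgroup G) : Set G)).index = 21 from
    T.card_eq_index_normalizer.symm.trans (n2 h), h] at h1
  exact (eq_of_le_of_card_ge le_normalizer (by rw [card_T h]; omega)).symm

theorem T_nc (T : Sylow 2 G) : ¬ IsMulCommutative (T : Subgroup G) := fun hc =>
  burnside (nc h) (p := 2) (by rw [h]; norm_num) T ((N_T h T).le.trans (le_centralizer _))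

theorem exists_sylow_eq {H : Subgroup G} (hH : IsPGroup 2 H) (h8 : 8 ≤ Nat.card H) :
    ∃ T : Sylow 2 G, (T : Subgroup G) = H := by
  obtain ⟨T, hT⟩ := hH.exists_le_sylow
  exact ⟨T, (eq_of_le_of_card_ge hT (by rw [card_T h]; exact h8)).symm⟩

theorem exists_four (T : Sylow 2 G) : ∃ a ∈ (T : Subgroup G), orderOf a = 4 := by
  by_contra h1
  push Not at h1
  refine T_nc h T ⟨⟨fun a b => Commute.of_orderOf_dvd_two (fun c => ?_) a b⟩⟩
  obtain ⟨k, hk, h2⟩ := (Nat.dvd_prime_pow Nat.prime_two).1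
    (orderOf_dvd_of_pow_eq_one (pow_T h c.2))
  have h3 := h1 c c.2
  have h4 : orderOf (c : G) ≠ 8 := fun e => T_nc h T (isCyclic_of_orderOf_eq_card c
    (by rw [← orderOf_coe, e, card_T h])).isMulCommutative
  rw [← orderOf_coe]
  generalize orderOf (c : G) = n at *
  subst h2
  interval_cases k <;> omega

theorem CC_four {a : G} (ha : orderOf a = 4) : CC a = zpowers a := by
  have h1 := isPGroup_CC h (z := a) (k := 2) (orderOf_dvd_iff_pow_eq_one.1 ha.dvd)
    (by rintro rfl; simp at ha)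
  obtain ⟨T, hT⟩ := h1.exists_le_sylow
  have h2 := card_dvd_of_le hT
  have h3 := card_dvd_of_le (zpowers_le_CC a)
  rw [card_T h] at h2
  rw [Nat.card_zpowers, ha] at h3
  have h4 : Nat.card (CC a) ≠ 4 * 2 := fun e => by
    obtain ⟨R, hR⟩ := exists_sylow_eq h h1 e.ge
    exact T_nc h R (hR ▸ comm_of_center e (a := ⟨a, mem_CC.2 rfl⟩) (by simpa using ha)
      (mem_center_iff.2 fun g => Subtype.ext (mem_CC.1 g.2)))
  refine (eq_of_le_of_card_ge (zpowers_le_CC a) ?_).symm
  have := Nat.le_of_dvd (by norm_num) h2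
  rw [Nat.card_zpowers, ha]
  omega

theorem exists_inv (T : Sylow 2 G) : ∃ z : G, orderOf z = 2 ∧ CC z = T := by
  haveI := (nontrivial_iff_ne_bot _).2 (sylow_ne_bot (by rw [h]; norm_num) T)
  obtain ⟨⟨z, hz⟩, -, h1, h2⟩ := CA.PGBasic.exists_mem_center_orderOf T.isPGroup' (M := ⊤) top_ne_bot
  rw [Subgroup.orderOf_mk] at h2
  exact ⟨z, h2, CC_eq h hz (by rintro rfl; simp at h2) fun t ht =>
    congrArg Subtype.val (mem_center_iff.1 h1 ⟨t, ht⟩)⟩

theorem not_isConj_inv {x : G} (hx : orderOf x = 7) : ¬ IsConj x x⁻¹ := fun hc => by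
  have := (isConj_xp_iff hx (a := 1) (b := -1) one_ne_zero).1 (by rwa [xp_neg hx, xp_one hx])
  rw [(sc7 h hx).2] at this
  revert this
  decide

theorem class7 {x : G} (hx : orderOf x = 7) : Nat.card {y // IsConj x y} = 24 :=
  card_class_of (c := 7) (by rw [(sc7 h hx).1.cent, Nat.card_zpowers, hx]) h

theorem class3 {x : G} (hx : orderOf x = 3) : Nat.card {y // IsConj x y} = 56 :=
  card_class_of (c := 3) (by rw [(sc3 h hx).1.cent, Nat.card_zpowers, hx]) h

theorem class4 {x : G} (hx : orderOf x = 4) : Nat.card {y // IsConj x y} = 42 :=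
  card_class_of (c := 4) (by rw [CC_four h hx, Nat.card_zpowers, hx]) h

theorem class2 {z : G} {T : Sylow 2 G} (hz : CC z = T) : Nat.card {y // IsConj z y} = 21 :=
  card_class_of (c := 8) (by rw [hz, card_T h]) h

/-- The six classes. -/
theorem classes {z y a x : G} {T : Sylow 2 G} (hz : orderOf z = 2) (hT : CC z = T)
    (hy : orderOf y = 3) (ha : orderOf a = 4) (hx : orderOf x = 7) (g : G) :
    g = 1 ∨ IsConj z g ∨ IsConj y g ∨ IsConj a g ∨ IsConj x g ∨ IsConj x⁻¹ g := by
  have hx' : orderOf x⁻¹ = 7 := by rw [orderOf_inv, hx]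
  have key : ({1} ∪ ({g | IsConj z g} ∪ ({g | IsConj y g} ∪ ({g | IsConj a g} ∪
      ({g | IsConj x g} ∪ {g | IsConj x⁻¹ g})))) : Set G) = Set.univ := by
    refine (Set.eq_univ_iff_ncard _).2 ?_
    rw [Set.ncard_union_eq, Set.ncard_union_eq, Set.ncard_union_eq, Set.ncard_union_eq,
      Set.ncard_union_eq, Set.ncard_singleton, h]
    · simp only [← Nat.card_coe_set_eq, Set.coe_ofPred, class2 h hT, class3 h hy, class4 h ha,
        class7 h hx, class7 h hx']
    · exact Set.disjoint_left.2 fun g h1 h2 => not_isConj_inv h hx (h1.trans h2.symm)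
    · refine Set.disjoint_left.2 fun g h1 h2 => ?_
      rcases h2 with h2 | h2 <;> have := ord_conj h1 <;> have := ord_conj h2 <;> omega
    · refine Set.disjoint_left.2 fun g h1 h2 => ?_
      rcases h2 with h2 | h2 | h2 <;> have := ord_conj h1 <;> have := ord_conj h2 <;> omega
    · refine Set.disjoint_left.2 fun g h1 h2 => ?_
      rcases h2 with h2 | h2 | h2 | h2 <;> have := ord_conj h1 <;> have := ord_conj h2 <;> omega
    · refine Set.disjoint_left.2 fun g h1 h2 => ?_
      have := orderOf_eq_one_iff.2 h1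
      rcases h2 with h2 | h2 | h2 | h2 | h2 <;> have := ord_conj h2 <;> omega
  exact (key ▸ Set.mem_univ g :)

theorem exists_reps : ∃ (z y a x : G) (T : Sylow 2 G), orderOf z = 2 ∧ CC z = T ∧ orderOf y = 3 ∧
    orderOf a = 4 ∧ orderOf x = 7 := by
  obtain ⟨T⟩ : Nonempty (Sylow 2 G) := inferInstance
  obtain ⟨z, h1, h2⟩ := exists_inv h T
  obtain ⟨a, -, h3⟩ := exists_four h T
  obtain ⟨y, h4⟩ := exists_prime_orderOf_dvd_card' (G := G) 3 (by rw [h]; norm_num)
  obtain ⟨x, h5⟩ := exists_prime_orderOf_dvd_card' (G := G) 7 (by rw [h]; norm_num)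
  exact ⟨z, y, a, x, T, h1, h2, h4, h3, h5⟩

theorem orders (g : G) : orderOf g = 1 ∨ orderOf g = 2 ∨ orderOf g = 3 ∨ orderOf g = 4 ∨
    orderOf g = 7 := by
  obtain ⟨z, y, a, x, T, h1, h2, h3, h4, h5⟩ := exists_reps h
  rcases classes h h1 h2 h3 h4 h5 g with rfl | e | e | e | e | e
  · simp
  all_goals simp [ord_conj e, *]

theorem conj_of_ord {s t : G} (hs : orderOf s ≠ 7) (e : orderOf s = orderOf t) : IsConj s t := by
  obtain ⟨z, y, a, x, T, h1, h2, h3, h4, h5⟩ := exists_reps h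
  have h6 : orderOf x⁻¹ = 7 := by rw [orderOf_inv, h5]
  have key := fun g => (classes h h1 h2 h3 h4 h5 g).imp_left fun e => isConj_one_right.2 e
  have h7 := orderOf_one (G := G)
  rcases key s with e1 | e1 | e1 | e1 | e1 | e1 <;> rcases key t with e2 | e2 | e2 | e2 | e2 | e2 <;>
    first
    | exact e1.symm.trans e2
    | have := ord_conj e1; have := ord_conj e2; omega

theorem card_ord {s : G} (hs : orderOf s ≠ 7) :
    Nat.card {g : G // orderOf g = orderOf s} = Nat.card {g // IsConj s g} :=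
  Nat.card_congr (Equiv.subtypeEquivRight fun _ => ⟨fun e => conj_of_ord h hs e.symm, ord_conj⟩)

theorem exists_CC {z : G} (hz : orderOf z = 2) : ∃ T : Sylow 2 G, CC z = T := by
  obtain ⟨T⟩ : Nonempty (Sylow 2 G) := inferInstance
  obtain ⟨w, h1, h2⟩ := exists_inv h T
  obtain ⟨g, rfl⟩ := isConj_iff.1 (conj_of_ord h (s := w) (t := z) (by omega) (by omega))
  exact ⟨g • T, by rw [coe_smul_sylow, ← h2, conj_centralizer_singleton]⟩

theorem dihedral (T : Sylow 2 G) : Nonempty ((T : Subgroup G) ≃* DihedralGroup 4) := by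
  classical
  obtain ⟨a, ha, h1⟩ := exists_four h T
  have h2 : (zpowers (⟨a, ha⟩ : (T : Subgroup G))).index = 2 := by
    have := (zpowers (⟨a, ha⟩ : (T : Subgroup G))).card_mul_index
    rw [Nat.card_zpowers, Subgroup.orderOf_mk, h1, card_T h] at this
    omega
  have h3 : ∀ t ∈ (T : Subgroup G), t * a * t⁻¹ ∈ zpowers a := fun t ht => by
    obtain ⟨k, hk⟩ := (normal_of_index_eq_two h2).conj_mem _ (mem_zpowers _) ⟨t, ht⟩
    exact ⟨k, congrArg Subtype.val hk⟩
  have h4 : ∀ c ∈ zpowers a, c = 1 ∨ c = a ∨ c = a ^ 2 ∨ c = a⁻¹ := fun c hc => by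
    obtain ⟨k, hk, rfl⟩ := Finset.mem_image.1 ((mem_zpowers_iff_mem_range_orderOf).1 hc)
    rw [h1, Finset.mem_range] at hk
    have : a ^ 3 = a⁻¹ := eq_inv_of_mul_eq_one_left (by
      rw [← pow_succ]; exact orderOf_dvd_iff_pow_eq_one.1 h1.dvd)
    interval_cases k <;> simp [this]
  have h5 : ∀ c : G, orderOf c = 4 → orderOf (c ^ 2) = 2 := fun c hc => by
    rw [orderOf_pow' c two_ne_zero, hc]; rfl
  obtain ⟨⟨b, hb⟩, h6⟩ : ∃ b, b ∉ zpowers (⟨a, ha⟩ : (T : Subgroup G)) := by
    by_contra h6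
    push Not at h6
    rw [(eq_top_iff' _).2 h6, index_top] at h2
    omega
  have h7 : b ∉ zpowers a := fun ⟨k, hk⟩ => h6 ⟨k, Subtype.ext hk⟩
  have h8 : b * a * b⁻¹ = a⁻¹ := by
    have h8 := orderOf_conj' b a
    rcases h4 _ (h3 b hb) with e | e | e | e
    · rw [e, orderOf_one] at h8; omega
    · exact absurd (CC_four h h1 ▸ mem_CC.2 (mul_inv_eq_iff_eq_mul.1 e)) h7
    · rw [e, h5 a h1] at h8; omega
    · exact e
  have h9 : ∀ c ∈ (T : Subgroup G), orderOf c = 4 → CC (c ^ 2) = T := fun c hc h9 => by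
    obtain ⟨R, hR⟩ := exists_CC h (h5 c h9)
    obtain ⟨z, h10, h11⟩ := exists_inv h T
    have h12 : z ∈ zpowers c := CC_four h h9 ▸ mem_CC.2 (mem_CC.1 (h11.ge hc)).symm
    rw [← h11, CA.PSL2Four.eq_of_sq_eq_one (isCyclic_zpowers c) h12 (pow_mem (mem_zpowers c) 2)
      (by rintro rfl; simp at h10) (fun e => by have := h5 c h9; simp [e] at this)
      (by rw [← pow_two]; exact orderOf_dvd_iff_pow_eq_one.1 h10.dvd)
      (by rw [← pow_add]; exact orderOf_dvd_iff_pow_eq_one.1 h9.dvd)]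
  have h10 : b ^ 2 = 1 := by
    have h10 := orderOf_dvd_of_pow_eq_one (pow_T h hb)
    have h11 : orderOf b ≠ 4 := fun e => by
      obtain ⟨g, rfl⟩ := isConj_iff.1 (conj_of_ord h (s := a) (t := b) (by omega) (by omega))
      have h11 := h9 _ hb e
      rw [conj_pow, CC, ← conj_centralizer_singleton, ← CC, h9 a ha h1] at h11
      exact h7 (h3 g (N_T h T ▸ mem_normalizer_iff_conj_eq.2 h11))
    refine orderOf_dvd_iff_pow_eq_one.1 ?_
    have h12 := orders h b
    generalize orderOf b = n at *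
    rcases h12 with e | e | e | e | e <;> subst e <;> omega
  obtain ⟨e⟩ := CA.PGDihedral.nonempty_subgroup_mulEquiv_dihedral h1 h7 h10 h8
  have h11 : zpowers a ⊔ zpowers b = T := eq_of_le_of_card_ge
    (sup_le (zpowers_le_of_mem ha) (zpowers_le_of_mem hb))
    (by rw [Nat.card_congr e.toEquiv, DihedralGroup.nat_card, card_T h])
  exact ⟨(MulEquiv.subgroupCongr h11.symm).trans e⟩

theorem not_six (H : Subgroup G) (g : H) : orderOf g ≠ 6 := by
  have := orders h g
  rw [orderOf_coe] at this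
  omega

theorem le_N_klein {U T : Subgroup G} (hU : IsKleinFour U) (hT : Nat.card T = 8) (hle : U ≤ T) :
    T ≤ normalizer (U : Set G) := by
  have := (U.subgroupOf T).card_mul_index
  rw [Nat.card_congr (subgroupOfEquivOfLe hle).toEquiv, hU.card_four, hT] at this
  exact (normal_subgroupOf_iff_le_normalizer hle).1 (normal_of_index_eq_two (by omega))

theorem card_N_klein {U : Subgroup G} (hU : IsKleinFour U) :
    Nat.card (normalizer (U : Set G)) = 24 := by
  have key : ∀ a ∈ U, a ≠ 1 → ∃ T : Sylow 2 G, CC a = T ∧ U ≤ T := fun a ha h1 => by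
    obtain ⟨T, hT⟩ := exists_CC h (orderOf_eq_prime (klein_sq hU ha) h1)
    exact ⟨T, hT, fun b hb => hT ▸ mem_CC.2
      (congrArg Subtype.val ((klein_comm hU).is_comm.comm ⟨b, hb⟩ ⟨a, ha⟩))⟩
  obtain ⟨a, ha, h1, -⟩ := klein_exists hU 1
  obtain ⟨b, hb, h2, h3⟩ := klein_exists hU a
  obtain ⟨T, hT, h4⟩ := key a ha h1
  obtain ⟨R, hR, h5⟩ := key b hb h2
  have h6 := le_N_klein h hU (card_T h T) h4
  have h7 := card_dvd_of_le h6
  have h8 := index_ge h (normalizer_ne_top (H := U) (fun e => h1 (mem_bot.1 (e ▸ ha))) fun e => by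
    have := hU.card_four
    rw [e, card_top] at this
    omega)
  have h9 := (normalizer (U : Set G)).card_mul_index
  have h10 : Nat.card (normalizer (U : Set G)) ≠ 8 := fun e => by
    have h10 := eq_of_le_of_card_ge h6 (by rw [e, card_T h])
    have h11 := eq_of_le_of_card_ge (le_N_klein h hU (card_T h R) h5) (by rw [e, card_T h])
    obtain ⟨c, hc, h12⟩ := exists_four h T
    have h13 : ∀ d : G, CC d = T → d ∈ zpowers c := fun d hd =>
      CC_four h h12 ▸ mem_CC.2 (mem_CC.1 (hd.ge hc)).symm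
    exact h3 (CA.PSL2Four.eq_of_sq_eq_one (isCyclic_zpowers c)
      (h13 b (hR.trans (h11.trans h10.symm))) (h13 a hT) h2 h1
      (pow_two b ▸ klein_sq hU hb) (pow_two a ▸ klein_sq hU ha))
  rw [card_T h] at h7
  rw [h] at h9
  obtain ⟨k, hk⟩ := h7
  rw [hk] at h9 h10 ⊢
  have h11 : k ≤ 3 := by nlinarith
  interval_cases k <;> omega

theorem N_klein {U : Subgroup G} (hU : IsKleinFour U) :
    Nonempty (normalizer (U : Set G) ≃* Equiv.Perm (Fin 4)) :=
  Cfsg.Agent.S1012.result (card_N_klein h hU) (not_six h _)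

theorem coatom_N_klein {U : Subgroup G} (hU : IsKleinFour U) : IsCoatom (normalizer (U : Set G)) := by
  have := (normalizer (U : Set G)).card_mul_index
  rw [card_N_klein h hU, h] at this
  exact CA.PGBasic.isCoatom_of_index_prime fact7.out (by omega)

theorem not_conj_klein (T : Sylow 2 G) {U W : Subgroup G} (hU : U ≤ T) (hW : W ≤ T)
    (hU' : IsKleinFour U) (hW' : IsKleinFour W) (hne : U ≠ W) (g : G) : g •ᶜ U ≠ W := fun e => by
  have h1 := conj_mono g (le_N_klein h hU' (card_T h T) hU)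
  rw [conj_normalizer, e] at h1
  obtain ⟨k, hk, h2⟩ := (isSylowIn_of_le (g • T) h1).exists_conj_eq
    (isSylowIn_of_le T (le_N_klein h hW' (card_T h T) hW))
  rw [coe_smul_sylow, conj_conj, ← mem_normalizer_iff_conj_eq, N_T h] at h2
  have h3 := conj_eq_of_mem_normalizer (le_N_klein h hU' (card_T h T) hU h2)
  rw [← conj_conj, e, conj_eq_of_mem_normalizer hk] at h3
  exact hne h3.symm

theorem eq_of_N_klein {U W : Subgroup G} (hU : IsKleinFour U) (hW : IsKleinFour W)
    (e : normalizer (U : Set G) = normalizer (W : Set G)) : U = W := by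
  by_contra hne
  have h1 : IsPGroup 2 ↥(U ⊔ W) := (klein_isPGroup hU).to_sup_of_normal_right'
    (klein_isPGroup hW) (e ▸ le_normalizer)
  obtain ⟨T, hT⟩ := h1.exists_le_sylow
  have h2 : U < U ⊔ W := left_lt_sup.2 fun h2 => hne
    (eq_of_le_of_card_ge h2 (by rw [hU.card_four, hW.card_four])).symm
  have h3 := card_lt_of_lt h2
  have h4 := card_dvd_of_le h2.le
  rw [hU.card_four] at h3 h4
  have h5 := eq_of_le_of_card_ge hT (by rw [card_T h]; omega)
  have h6 := inf_normalizer_le_normalizer_sup U W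
  rw [← e, inf_idem, h5, N_T h] at h6
  have := card_le_of_le h6
  rw [card_N_klein h hU, card_T h] at this
  omega

theorem exists_klein (T : Sylow 2 G) : ∃ U W : Subgroup G, U ≤ T ∧ W ≤ T ∧ IsKleinFour U ∧
    IsKleinFour W ∧ U ≠ W ∧ ∀ V ≤ (T : Subgroup G), IsKleinFour V → V = U ∨ V = W := by
  obtain ⟨e⟩ := dihedral h T
  obtain ⟨U, W, h1, h2⟩ := Nat.card_eq_two_iff.1 (card_klein_dihedral e)
  refine ⟨U, W, U.2.1, W.2.1, U.2.2, W.2.2, fun e => h1 (Subtype.ext e), fun V h3 h4 => ?_⟩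
  simpa [Subtype.ext_iff] using h2.ge (Set.mem_univ ⟨V, h3, h4⟩)

theorem N3_le {y : G} (hy : orderOf y = 3) :
    ∃ U : Subgroup G, IsKleinFour U ∧ NN y ≤ normalizer (U : Set G) := by
  obtain ⟨T⟩ : Nonempty (Sylow 2 G) := inferInstance
  obtain ⟨U, -, -, -, hU, -⟩ := exists_klein h T
  obtain ⟨⟨w, hw⟩, h1⟩ := exists_prime_orderOf_dvd_card' (G := normalizer (U : Set G)) 3
    (by rw [card_N_klein h hU]; norm_num)
  rw [Subgroup.orderOf_mk] at h1
  obtain ⟨g, rfl⟩ := isConj_iff.1 (conj_of_ord h (s := w) (t := y) (by omega) (by omega))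
  refine ⟨_, klein_conj hU g, ?_⟩
  rw [← conj_normalizer, NN, ← conj_zpowers, ← conj_normalizer, conj_le_conj_iff]
  set K := normalizer (U : Set G)
  have h2 : orderOf (⟨w, hw⟩ : K) = 3 := by rwa [Subgroup.orderOf_mk]
  have h3 := ((sc3 h h1).1.subgroup hw).card_eq
  have h4 := card_sylow_modEq_one 3 K
  have h5 := ((sc3 h h1).1.subgroup hw).card_NN
  have h6 : (NN (⟨w, hw⟩ : K)).map K.subtype ≤ NN w := by
    simpa using (zpowers (⟨w, hw⟩ : K)).le_normalizer_map K.subtype
  rw [card_N_klein h hU] at h3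
  refine (eq_of_le_of_card_ge h6 ?_).ge.trans (map_subtype_le _)
  rw [card_map_of_injective K.subtype_injective, h5, card_N3 h h1]
  unfold Nat.ModEq at h4
  rcases (Nat.dvd_prime Nat.prime_two).1 (ee_dvd h2) with e | e <;> rw [e] at h3 ⊢ <;> omega

theorem coatom {M : Subgroup G} (hM : IsCoatom M) : (∃ x : G, orderOf x = 7 ∧ M = NN x) ∨
    ∃ U : Subgroup G, IsKleinFour U ∧ M = normalizer (U : Set G) := by
  have key : ∀ U : Subgroup G, IsKleinFour U → M ≤ normalizer (U : Set G) →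
      M = normalizer (U : Set G) := fun U hU h1 =>
    ((hM.le_iff.1 h1).resolve_left (coatom_N_klein h hU).1).symm
  have key2 : ∀ T : Sylow 2 G, M ≤ T → ∃ U : Subgroup G, IsKleinFour U ∧
      M = normalizer (U : Set G) := fun T hT => by
    obtain ⟨U, -, h1, -, hU, -⟩ := exists_klein h T
    exact ⟨U, hU, key U hU (hT.trans (le_N_klein h hU (card_T h T) h1))⟩
  by_cases h0 : M = ⊥
  · exact Or.inr (key2 (Classical.arbitrary _) (h0 ▸ bot_le))
  have h1 := M.card_mul_index
  have h2 := index_ge h hM.1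
  have h3 : Group.IsSolvable M := by
    have h3 : Nat.card M ≤ 24 := by nlinarith
    have h4 : Nat.card M ∣ 168 := h ▸ card_subgroup_dvd_card M
    have h5 : ∀ n ∈ Nat.divisors 168, n ≤ 24 → ∃ a ∈ Finset.range 4, ∃ b ∈ Finset.range 2,
      n = 2 ^ a * 3 ^ b ∨ n = 2 ^ a * 7 ^ b ∨ n = 3 ^ a * 7 ^ b := by decide
    obtain ⟨a, -, b, -, e | e | e⟩ := h5 _ (Nat.mem_divisors.2 ⟨h4, by norm_num⟩) h3 <;>
      exact Cfsg.Agent.S0144.result _ _ _ _ (by norm_num) (by norm_num) e
  obtain ⟨N, h4, h5, h6, h7, p, hp, h8⟩ := CA.Fpf.exists_char_abelian h3 h0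
  replace h7 := le_normalizer.trans h7
  haveI := Fact.mk hp
  haveI := (nontrivial_iff_ne_bot _).2 h5
  obtain ⟨⟨x, hx⟩, -, -, h9⟩ := CA.PGBasic.exists_mem_center_orderOf h8 (M := ⊤) top_ne_bot
  rw [Subgroup.orderOf_mk] at h9
  have h10 : SC p x → M ≤ NN x := fun hs => by
    rwa [le_antisymm (fun b hb => hs.cent ▸ mem_CC.2 (congrArg Subtype.val
      (h6.is_comm.comm ⟨b, hb⟩ ⟨x, hx⟩))) (zpowers_le_of_mem hx)] at h7
  have h11 := orders h x
  rw [h9] at h11
  rcases h11 with rfl | rfl | rfl | rfl | rfl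
  · norm_num at hp
  · by_cases h11 : ∀ b ∈ N, b * b = 1 → b = 1 ∨ b = x
    · obtain ⟨T, hT⟩ := exists_CC h h9
      refine Or.inr (key2 T fun m hm => hT ▸ mem_CC.2 (mul_inv_eq_iff_eq_mul.1
        ((h11 _ (conj_mem_of_mem_normalizer (h7 hm) hx) ?_).resolve_left fun e => ?_)))
      · rw [← pow_two, ← h9, conj_pow, pow_orderOf_eq_one]; simp
      · have := orderOf_conj' m x
        rw [e, orderOf_one] at this
        omega
    · push Not at h11
      obtain ⟨b, hb, h11, h12, h13⟩ := h11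
      have h14 := isKleinFour_sup h9 (orderOf_eq_prime (pow_two b ▸ h11) h12)
        (congrArg Subtype.val (h6.is_comm.comm ⟨x, hx⟩ ⟨b, hb⟩)) h13.symm
      have h15 := sup_le (zpowers_le_of_mem hx) (zpowers_le_of_mem hb)
      have h16 := card_dvd_of_le h15
      have h17 : ¬ 8 ≤ Nat.card N := fun e => by
        obtain ⟨T, hT⟩ := exists_sylow_eq h h8 e
        exact T_nc h T (hT ▸ h6)
      have h18 := Nat.card_pos (α := N)
      rw [h14.card_four] at h16
      rw [← eq_of_le_of_card_ge h15 (by rw [h14.card_four]; omega)] at h7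
      exact Or.inr ⟨_, h14, key _ h14 h7⟩
  · obtain ⟨U, hU, h11⟩ := N3_le h h9
    exact Or.inr ⟨U, hU, key U hU ((h10 (sc3 h h9).1).trans h11)⟩
  · norm_num at hp
  · refine Or.inl ⟨x, h9, ((hM.le_iff.1 (h10 (sc7 h h9).1)).resolve_left fun e => ?_).symm⟩
    have := card_N7 h h9
    rw [e, card_top] at this
    omega

end CA.H28G168
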