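import Cfsg.Agent.Lib.Grp.H7FT3
import Cfsg.Agent.Lib.Grp.H28G168
import Cfsg.Agent.Lib.Solv.HH3

/-! Self-centralising elements of order three: the induction. -/

set_option autoImplicit false
set_option linter.unusedSectionVars false

namespace CA.H7FT

open Subgroup Cfsg CA.BG
open scoped commutatorElement

universe u

variable {G : Type*} [Group G] [Finite G] {x y t g w : G} {A H K L M N R S T : Subgroup G}

abbrev A5 : Type := alternatingGroup (Fin 5)

theorem card_A5 : Nat.card A5 = 60 := by rw [nat_card_alternatingGroup]; simp; rfl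

theorem SC.exists_norm (h : SC y) (hd : 3 ∣ ♯𝓝(S)) : ∃ g, y ∈ 𝓝(cj g S) := by
  obtain ⟨u, hu, ho⟩ := exists_orderOf_eq p3 hd
  obtain ⟨g, e | e⟩ := h.conj_cases ho <;> refine ⟨g⁻¹, ?_⟩ <;> rw [← cj_norm, mem_cj_inv]
  · exact e ▸ hu
  · rw [← inv_mem_iff]; simpa [e, mul_assoc] using hu

theorem SC.v60 [IsSimpleGroup G] (h : SC y) (hc : Nat.card G = 60) : ∃ V : Subgroup G, ♯V = 4 ∧ y ∈ 𝓝(V) := by
  haveI := Fact.mk p2
  have hG := CA.H28Simp.not_comm_of_card (G := G) (by rw [hc]; norm_num)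
  obtain ⟨P⟩ : Nonempty (Sylow 2 G) := inferInstance
  have e : Nat.card G = 2 ^ 2 * 15 := hc
  have h1 := CA.H28Simp.card_sylow_of e (by norm_num) P
  have h2 := CA.H28Simp.card_sylow_dvd e (by norm_num)
  have h3 := CA.H28Simp.card_sylow_ne_one hG (p := 2) (by rw [hc]; norm_num)
  have h4 := CA.H28Simp.card_sylow_ne_index hG (p := 2) (by rw [hc]; norm_num) P
    (IsPGroup.isMulCommutative_of_card_eq_prime_sq h1)
  have h5 := CA.H28Simp.two_mul_card_dvd_sylow hG (p := 2) (by rw [hc]; norm_num)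
  rw [CA.H28Simp.index_sylow_of e (by norm_num) P] at h4
  have h6 : Nat.card (Sylow 2 G) = 𝓝((P : Subgroup G)).index := P.card_eq_index_normalizer
  have h7 := index_mul_card 𝓝((P : Subgroup G))
  rw [← h6, hc] at h7
  rw [hc] at h5
  have h8 : Nat.card (Sylow 2 G) = 5 := by
    have := Nat.le_of_dvd (by norm_num) h2
    generalize Nat.card (Sylow 2 G) = m at *
    interval_cases m <;> first | omega | exact absurd h5 (by decide)
  rw [h8] at h7
  obtain ⟨g, hg⟩ := h.exists_norm (S := P) (by omega)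
  exact ⟨_, by rw [card_cj, h1]; rfl, hg⟩

theorem SC.v168 [IsSimpleGroup G] (h : SC y) (hc : Nat.card G = 168) :
    (∃ V : Subgroup G, ♯V = 4 ∧ y ∈ 𝓝(V)) ∧ ∃ V : Subgroup G, ♯V = 7 ∧ y ∈ 𝓝(V) := by
  constructor
  · obtain ⟨U, hU, hle⟩ := CA.H28G168.N3_le hc h.ord
    exact ⟨U, hU.card_four, hle (le_norm_self _ (mem_zpowers y))⟩
  · haveI := CA.H28G168.fact7
    obtain ⟨z, hz⟩ := exists_prime_orderOf_dvd_card' (G := G) 7 (by rw [hc]; norm_num)
    have h1 : ♯𝓝(zpowers z) = 21 := CA.H28G168.card_N7 hc hz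
    obtain ⟨g, hg⟩ := h.exists_norm (S := zpowers z) (by omega)
    exact ⟨_, by rw [card_cj, Nat.card_zpowers, hz], hg⟩

theorem norm_of_normal (N : Subgroup G) [N.Normal] (g : G) : g ∈ 𝓝(N) := by
  rw [normalizer_eq_top]; exact mem_top g

section hom
variable {Γ : Type*} [Group Γ] [Finite Γ] {f : G →* Γ} {V : Subgroup Γ}

theorem inv_comap (hk : IsPi {3}ᶜ f.ker) (hV : IsPi {3}ᶜ V) (hn : f x ∈ 𝓝(V)) : Inv x (V.comap f) :=
  ⟨le_normalizer_comap f hn, CA.HH.isPi_comap f hk hV⟩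

theorem dvd_of_normal [IsSimpleGroup Γ] (hf : Function.Surjective f) (N : Subgroup G) [hN : N.Normal]
    (h : ¬ N ≤ f.ker) : Nat.card Γ ∣ ♯N := by
  rcases (hN.map f hf).eq_bot_or_eq_top with e | e
  · exact (h ((Subgroup.map_eq_bot_iff N).1 e)).elim
  · rw [← card_top, ← e]; exact card_map_dvd N f

theorem SC.lift_false [IsSimpleGroup Γ] (h : SC x) (hf : Function.Surjective f) (h3 : 3 ∣ Nat.card Γ)
    (hk : IsPi {3}ᶜ f.ker) [M.Normal] {r s : ℕ} (hM : IsPi {r} M) (h1 : M ≠ ⊥) (hle : M ≤ f.ker)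
    (hV : IsPi {s} V) (hV1 : V ≠ ⊥) (hs : r ≠ s) (hs3 : s ≠ 3) (hn : f x ∈ 𝓝(V)) : False := by
  have hK := inv_comap hk (hV.ne hs3) hn
  have hH := nil_hall_core {s} (h.nil hK)
  have hc : 𝓞({s}, V.comap f) ≤ 𝓒(M) :=
    cent_of_nil (h.nil hK) hH.le (hle.trans (ker_le_comap f V)) hH.pi (hM.ne hs)
  have e := CA.HH.hall_map hH f
  rw [map_comap_eq_self_of_surjective hf] at e
  have : ¬ 𝓒(M) ≤ f.ker := fun h' =>
    hV1 (e.eq_self hV ▸ (Subgroup.map_eq_bot_iff _).2 (hc.trans h'))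
  exact (isPi_compl_iff p3).1 (h.cent_pi (hk.of_le hle) h1) (h3.trans (dvd_of_normal hf _ this))

end hom

/-- The three possible structures. -/
def Str (G : Type*) [Group G] : Prop :=
  (∃ N : Subgroup G, N.Normal ∧ IsPi {3}ᶜ N ∧ (N.index = 3 ∨ N.index = 6)) ∨
    (∃ f : G →* A5, Function.Surjective f ∧ IsPi {2} f.ker) ∨ (IsSimpleGroup G ∧ Nat.card G = 168)

theorem pi4 {Γ : Type*} [Group Γ] {V : Subgroup Γ} (h : ♯V = 4) : IsPi {2} V :=
  isPi_of_card_eq_pow p2 (k := 2) h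

theorem ne4 {Γ : Type*} [Group Γ] {V : Subgroup Γ} {n : ℕ} (h : ♯V = n + 2) : V ≠ ⊥ := by
  rintro rfl; simp at h

theorem SC.of_quot (h : SC x) [M.Normal] {r : ℕ} (hM : IsPi {r} M) (h1 : M ≠ ⊥) (h3 : r ≠ 3)
    (hs : Str (G ⧸ M)) : Str G := by
  have hq := QuotientGroup.mk'_surjective M
  have hk : IsPi {3}ᶜ (QuotientGroup.mk' M).ker := by rw [QuotientGroup.ker_mk']; exact hM.ne h3
  rcases hs with ⟨N, hN, h4, h5⟩ | ⟨f, hf, h4⟩ | ⟨h4, h5⟩
  · exact Or.inl ⟨N.comap (QuotientGroup.mk' M), inferInstance, CA.HH.isPi_comap _ hk h4, by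
      rwa [index_comap_of_surjective _ hq]⟩
  · have e : (f.comp (QuotientGroup.mk' M)).ker = f.ker.comap (QuotientGroup.mk' M) := rfl
    by_cases h2 : r = 2
    · exact Or.inr (Or.inl ⟨f.comp (QuotientGroup.mk' M), hf.comp hq,
        e ▸ CA.HH.isPi_comap _ (by rw [QuotientGroup.ker_mk', ← h2]; exact hM) h4⟩)
    · have hk' : IsPi {3}ᶜ (f.comp (QuotientGroup.mk' M)).ker :=
        e ▸ CA.HH.isPi_comap _ hk (h4.ne (by norm_num))
      obtain ⟨V, hV, hn⟩ := (h.map _ (hf.comp hq) hk').v60 card_A5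
      exact (h.lift_false (hf.comp hq) (by rw [card_A5]; norm_num) hk' hM h1
        (fun m hm => by simp [(QuotientGroup.eq_one_iff m).2 hm]) (pi4 hV) (ne4 hV) h2 (by norm_num) hn).elim
  · obtain ⟨⟨V, hV, hn⟩, W, hW, hn'⟩ := (h.map _ hq hk).v168 h5
    by_cases h2 : r = 2
    · exact (h.lift_false hq (by rw [h5]; norm_num) hk hM h1 (QuotientGroup.ker_mk' M).ge
        (isPi_of_card_eq (by norm_num) hW) (ne4 hW) (by omega) (by norm_num) hn').elim
    · exact (h.lift_false hq (by rw [h5]; norm_num) hk hM h1 (QuotientGroup.ker_mk' M).ge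
        (pi4 hV) (ne4 hV) h2 (by norm_num) hn).elim

theorem SC.three_dvd (h : SC x) : 3 ∣ Nat.card G := h.ord ▸ orderOf_dvd_natCard x

theorem SC.loc_normal (h : SC x) (hs : Str G) [hN : A.Normal] (hA : IsPi {3}ᶜ A) (h1 : A ≠ ⊥) :
    (∃ N : Subgroup G, N.Normal ∧ IsPi {3}ᶜ N ∧ (N.index = 3 ∨ N.index = 6)) ∨
      (IsPi {2} A ∧ ∃ K, Inv x K ∧ A < K) := by
  rcases hs with h2 | ⟨f, hf, h4⟩ | ⟨h4, h5⟩
  · exact Or.inl h2
  · have hle : A ≤ f.ker := by
      by_contra hn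
      exact (isPi_compl_iff p3).1 hA ((by rw [card_A5]; norm_num : 3 ∣ Nat.card A5).trans (dvd_of_normal hf A hn))
    have hk : IsPi {3}ᶜ f.ker := h4.ne (by norm_num)
    obtain ⟨V, hV, hn⟩ := (h.map _ hf hk).v60 card_A5
    refine Or.inr ⟨h4.of_le hle, _, inv_comap hk ((pi4 hV).ne (by norm_num)) hn,
      lt_of_le_of_ne (hle.trans (ker_le_comap f V)) fun e => ne4 hV ?_⟩
    rw [← map_comap_eq_self_of_surjective hf V, ← e]
    exact (Subgroup.map_eq_bot_iff _).2 hle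
  · rcases hN.eq_bot_or_eq_top with e | e
    · exact (h1 e).elim
    · exact ((isPi_compl_iff p3).1 hA (by rw [e, card_top]; exact h.three_dvd)).elim

theorem Inv.map_subtype {hx : x ∈ M} {K : Subgroup M} (h : Inv ⟨x, hx⟩ K) : Inv x (K.map M.subtype) :=
  ⟨le_normalizer_map _ (mem_map_of_mem M.subtype h.norm), by
    rw [isPi_iff, card_map_of_injective M.subtype_injective]; exact h.pi⟩

theorem SC.loc (h : SC x) (hA : Inv x A) (h1 : A ≠ ⊥) (hs : Str 𝓝(A)) : Loc x A := by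
  have e : (A.subgroupOf 𝓝(A)).map 𝓝(A).subtype = A := map_subgroupOf_eq_of_le (le_norm_self A)
  have c : ♯(A.subgroupOf 𝓝(A)) = ♯A := CA.Coprime.card_subgroupOf (le_norm_self A)
  rcases (h.sub hA.norm).loc_normal hs (A := A.subgroupOf 𝓝(A)) (by rw [isPi_iff, c]; exact hA.pi)
    (fun e' => h1 (by rw [← e, e', Subgroup.map_bot])) with ⟨N, hN, h2, h3⟩ | ⟨h2, K, hK, hlt⟩
  · refine Or.inl ⟨N.map 𝓝(A).subtype, Inv.map_subtype (hx := hA.norm) ⟨norm_of_normal N _, h2⟩,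
      map_subtype_le N, fun g hg => le_normalizer_map _ (mem_map_of_mem _ (norm_of_normal N ⟨g, hg⟩)), ?_⟩
    rw [card_map_of_injective 𝓝(A).subtype_injective, ← N.index_mul_card]
    exact h3.imp (fun e => by rw [e]) fun e => by rw [e]
  · refine Or.inr ⟨by rw [isPi_iff, ← c]; exact h2, _, hK.map_subtype, ?_⟩
    exact e.ge.trans_lt ((map_lt_map_iff_of_injective 𝓝(A).subtype_injective).2 hlt)

theorem str_aux (n : ℕ) : ∀ (G : Type u) [Group G] [Finite G] (x : G), Nat.card G = n → SC x → Str G := by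
  induction n using Nat.strong_induction_on with
  | _ n ih =>
  intro G _ _ x hn h
  by_cases h1 : 𝓞({3}ᶜ, (⊤ : Subgroup G)) = ⊥
  swap
  · have hI : Inv x 𝓞({3}ᶜ, (⊤ : Subgroup G)) := ⟨le_norm_core _ _ (mem_top x), core_pi _ _⟩
    obtain ⟨r, hr, h2⟩ := exists_core_ne_bot (solv_of_nil (h.nil hI)) h1
    set M := 𝓞({r}, 𝓞({3}ᶜ, (⊤ : Subgroup G)))
    haveI : M.Normal := normalizer_eq_top_iff.1 (top_le_iff.1 (norm_core _ (le_norm_core _ _)))
    have h3 : r ≠ 3 := (core_pi {r} _).mem_of_ne_bot h2 (hI.core {r}).pi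
    refine h.of_quot (core_pi {r} _) h2 h3 (ih _ ?_ _ _ rfl (h.map (QuotientGroup.mk' M)
      (QuotientGroup.mk'_surjective M) (by rw [QuotientGroup.ker_mk']; exact (hI.core {r}).pi)))
    rw [← hn, card_eq_card_quotient_mul_card_subgroup M]
    exact lt_mul_of_one_lt_right Nat.card_pos ((one_lt_card_iff_ne_bot _).2 h2)
  by_cases h2 : 𝓝(zpowers x) = ⊤
  · refine Or.inl ⟨⊥, inferInstance, isPi_bot _, ?_⟩
    have := h.card_norm
    rwa [h2, card_top, ← index_bot] at this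
  -- every nontrivial normal subgroup `M` satisfies `N_M(X) ≠ X`
  have key : ∀ M : Subgroup G, M.Normal → M ≠ ⊥ → x ∈ M ∧ ¬ M ⊓ 𝓝(zpowers x) ≤ zpowers x := by
    intro M hM hb
    have hn : ⊤ ≤ 𝓝(M) := fun g _ => norm_of_normal M g
    have h3 : 3 ∣ ♯M := by
      by_contra hd
      exact hb (BG.eq_bot_mono (le_core ((isPi_compl_iff p3).2 hd) le_top hn) h1)
    have h4 := (h.syl.inf_normal le_top (le_top.trans hn)).ne_bot p3 rfl h3
    have hx : x ∈ M := le_of_inf_ne_bot_of_prime h.prime h4 (mem_zpowers x)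
    refine ⟨hx, fun hle => h2 ?_⟩
    have h5 := burnside_hasPC p3 (h.syl' hx) (hle.trans (by rw [cent_zpowers, h.cent_eq]))
    have h6 : 𝓞({3}ᶜ, M) = ⊥ := BG.eq_bot_mono (core_le_core le_top hn) h1
    have h7 := h5.sup_syl (h.syl' hx)
    rw [h6, sup_bot_eq] at h7
    rw [h7]; exact top_le_iff.1 hn
  have hcn : ♯𝓝(zpowers x) = 2 * ♯(zpowers x) ∨ 𝓝(zpowers x) = zpowers x :=
    h.card_norm.symm.imp (fun e => by rw [e, h.card]) fun e =>
      (eq_of_le_of_card_eq (le_norm_self _) (by rw [e, h.card])).symm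
  haveI : Nontrivial G := ⟨x, 1, h.ne⟩
  haveI : IsSimpleGroup G := ⟨fun M hM => by
    by_cases hb : M = ⊥
    · exact Or.inl hb
    obtain ⟨hx, hle⟩ := key M hM hb
    have h3 : 𝓝(zpowers x) ≤ M := by
      rcases hcn with e | e
      · rcases eq_or_of_two (L := M ⊓ 𝓝(zpowers x)) (le_inf (zpowers_le.2 hx) (le_norm_self _)) inf_le_right e
          with e' | e'
        · exact (hle e'.le).elim
        · exact e' ▸ inf_le_left
      · exact (hle (inf_le_right.trans e.le)).elim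
    have := (h.syl' hx).syl_frattini_sup p3 le_top fun g _ => norm_of_normal M g
    right
    rw [← this, top_inf_eq, sup_eq_left.2 h3]⟩
  have hG : ¬ IsMulCommutative G := fun hc => h2 (normalizer_eq_top _)
  obtain ⟨t, ht, nt⟩ := SetLike.not_le_iff_exists.1 (key ⊤ inferInstance top_ne_bot).2
  have hy : Hyp x t := ⟨h, (h.norm_cases ht.2).resolve_left nt, fun A hA hb => h.loc hA hb
    (ih _ (by
      rw [← hn, ← card_top (G := G)]
      exact card_lt_of_lt (lt_top_iff_ne_top.2 (CA.H28Simp.normalizer_ne_top hb fun e =>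
        (isPi_compl_iff p3).1 hA.pi (by rw [e, card_top]; exact h.three_dvd)))) _ _ rfl (h.sub hA.norm))⟩
  rcases hy.main hG with e | e
  · obtain ⟨φ⟩ := CA.H28Simp.simple_60 e
    exact Or.inr (Or.inl ⟨φ.toMonoidHom, φ.surjective, by
      rw [(MonoidHom.ker_eq_bot_iff _).2 φ.injective]; exact isPi_bot _⟩)
  · exact Or.inr (Or.inr ⟨inferInstance, e⟩)

theorem SC.str (h : SC x) : Str G := str_aux _ G x rfl h

/-- The kernel in the `A₅` case is elementary abelian. -/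
theorem SC.higman (h : SC x) {f : G →* A5} (hf : Function.Surjective f) (hk : IsPi {2} f.ker) :
    IsMulCommutative f.ker ∧ ∀ a ∈ f.ker, a ^ 2 = 1 := by
  have hk3 : IsPi {3}ᶜ f.ker := hk.ne (by norm_num)
  obtain ⟨V, hV, hn⟩ := (h.map _ hf hk3).v60 card_A5
  have hT := inv_comap hk3 ((pi4 hV).ne (by norm_num)) hn
  have hT2 : IsPi {2} (V.comap f) := CA.HH.isPi_comap f hk (pi4 hV)
  have hc := CA.Cit.cls2 hT.norm h.cube (h.fpf hT.pi) hT2
  obtain ⟨s, hs, ns, s2⟩ := CA.Cit.exists_sq_mem (X := f.ker) hT2 fun hle => ne4 hV (by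
    rw [← map_comap_eq_self_of_surjective hf V]; exact (Subgroup.map_eq_bot_iff _).2 hle)
  have key : ∀ w ∈ f.ker, (∀ g : G, s * (g * w * g⁻¹) = g * w * g⁻¹ * s) → w = 1 := by
    intro w hw hcomm
    by_contra w1
    have hle : normalClosure {s} ≤ 𝓒₁(w) := by
      refine (closure_le _).2 fun a ha => ?_
      obtain ⟨b, hb, hba⟩ := Group.mem_conjugatesOfSet_iff.1 ha
      rw [Set.mem_singleton_iff.1 hb] at hba
      obtain ⟨g, rfl⟩ := isConj_iff.1 hba
      refine mem_cent1.2 ?_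
      calc _ = g * (s * (g⁻¹ * w * g⁻¹⁻¹)) * g⁻¹ := by group
        _ = _ := by rw [hcomm]; group
    have := dvd_of_normal hf (normalClosure {s}) fun h' => ns (h' (subset_normalClosure (Set.mem_singleton s)))
    exact (isPi_compl_iff p3).1 ((h.cent1_pi (hk3.orderOf hw) w1).of_le hle)
      ((by rw [card_A5]; norm_num : 3 ∣ Nat.card A5).trans this)
  have hle : f.ker ≤ V.comap f := ker_le_comap f V
  have cj' : ∀ g : G, ∀ a ∈ f.ker, g * a * g⁻¹ ∈ f.ker := fun g a ha => (f.normal_ker).conj_mem a ha g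
  have hcomm : ∀ a ∈ f.ker, ∀ b ∈ f.ker, a * b = b * a := fun a ha b hb => by
    refine commutatorElement_eq_one_iff_mul_comm.1 (key _ ?_ fun g => ?_)
    · exact mul_mem (mul_mem (mul_mem ha hb) (inv_mem ha)) (inv_mem hb)
    · rw [conjugate_commutatorElement]
      exact hc (commutator_mem_commutator (hle (cj' g a ha)) (hle (cj' g b hb))) s hs
  refine ⟨⟨⟨fun a b => Subtype.ext (hcomm a a.2 b b.2)⟩⟩, fun a ha => key _ (pow_mem ha 2) fun g => ?_⟩
  rw [← conj_pow]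
  have hb := cj' g a ha
  generalize g * a * g⁻¹ = b at hb
  have h1 : s * ⁅s, b⁆ = ⁅s, b⁆ * s := hc (commutator_mem_commutator hs (hle hb)) s hs
  have h2 : b * ⁅s, b⁆ = ⁅s, b⁆ * b := hc (commutator_mem_commutator hs (hle hb)) b (hle hb)
  have h3 : s * b = ⁅s, b⁆ * b * s := by rw [commutatorElement_def]; group
  generalize ⁅s, b⁆ = c at h1 h2 h3
  have h4 : c * c = 1 := by
    have e := hcomm _ s2 b hb
    have : s * s * b = c * c * (b * (s * s)) := by
      calc _ = s * (c * b * s) := by rw [← h3, mul_assoc]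
        _ = c * (s * b) * s := by rw [← mul_assoc, ← mul_assoc, h1]; group
        _ = _ := by rw [h3]; simp only [mul_assoc]
    rw [e] at this
    exact (mul_eq_right.1 this.symm)
  calc s * b ^ 2 = s * b * b := by rw [pow_two, mul_assoc]
    _ = c * b * s * b := by rw [h3]
    _ = c * b * (s * b) := mul_assoc _ _ _
    _ = c * (b * c) * b * s := by rw [h3]; group
    _ = c * c * (b ^ 2 * s) := by rw [h2, pow_two]; group
    _ = _ := by rw [h4, one_mul]

end CA.H7FT
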