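import Cfsg.Agent.Lib.Solv.KP
import Cfsg.Agent.Lib.Grp.H13Z2
import Cfsg.Agent.Lib.Grp.Two
import Cfsg.Agent.Lib.Grp.Trf

/-!
Groups in which at most three elements of a Sylow 2-subgroup have three conjugates in it.
-/

set_option autoImplicit false
set_option linter.unusedSectionVars false

namespace CA.K2Half
open Subgroup Cfsg CA.KP CA.SylIn CA.PRes CA.Core CA.Two CA.Hyperfocal

variable {X : Type*} [Group X] [Finite X]

theorem tri_conj {H : Subgroup X} {x g : X} (h : Tri H x) (hg : g * x * g⁻¹ ∈ H) :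
    Tri H (g * x * g⁻¹) := by
  obtain ⟨hx, a, b, h1, h2, h3, h4, h5⟩ := h
  have e : ∀ c : X, c * g⁻¹ * (g * x * g⁻¹) * (c * g⁻¹)⁻¹ = c * x * c⁻¹ := fun c => by group
  have e1 : (1 : X) * x * 1⁻¹ = x := by group
  by_cases ha : a * x * a⁻¹ = g * x * g⁻¹
  · refine ⟨hg, 1 * g⁻¹, b * g⁻¹, ?_⟩
    rw [e, e, e1, ← ha]
    exact ⟨hx, h2, h3.symm, fun h => h5 h.symm, h4.symm⟩
  by_cases hb : b * x * b⁻¹ = g * x * g⁻¹
  · refine ⟨hg, 1 * g⁻¹, a * g⁻¹, ?_⟩
    rw [e, e, e1, ← hb]
    exact ⟨hx, h1, h4.symm, h5, h3.symm⟩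
  · refine ⟨hg, a * g⁻¹, b * g⁻¹, ?_⟩
    rw [e, e]
    exact ⟨h1, h2, ha, hb, h5⟩

theorem pgroup_of_npc (h : HasNormalPComplement 2 X) (hO : pPrimeCore 2 X = ⊥) : IsPGroup 2 X := by
  obtain ⟨N, _, h1, h2⟩ := hasNPC_iff_exists_normal.1 h
  obtain rfl : N = ⊥ := le_bot_iff.1 (hO ▸ le_pPrimeCore
    ((Nat.Prime.coprime_iff_not_dvd Nat.prime_two).2 h1).symm)
  exact h2.of_equiv QuotientGroup.quotientBot

theorem key {S : Sylow 2 X} (hT : Nat.card {x // Tri (S : Subgroup X) x} ≤ 3) {Q : Subgroup X}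
    (hQ : Q ≤ S) (hA : Act 2 Q) : IsKleinFour Q ∧ ∀ x, Tri (S : Subgroup X) x ↔ x ∈ Q ∧ x ≠ 1 := by
  classical
  obtain ⟨n, hn, ho, hc⟩ := id hA
  have ho' : Odd (orderOf n) := Nat.coprime_two_right.1 ho
  set C : Subgroup X := Q ⊓ centralizer {n} with hC
  have hsub : (Q : Set X) \ C ⊆ {x | Tri (S : Subgroup X) x} := fun t ht =>
    tri_of ho' (fun i => hQ (conj_mem_of_mem_normalizer (pow_mem hn i) ht.1)) fun e =>
      ht.2 ⟨ht.1, mem_centralizer_singleton_iff.2 e.symm⟩
  obtain ⟨t, htQ, ht⟩ : ∃ t ∈ Q, t * n ≠ n * t := by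
    by_contra h; push Not at h
    exact hc (mem_centralizer_iff.2 h)
  have h0 : ∀ i : ℕ, n ^ i * t * (n ^ i)⁻¹ ∈ (Q : Set X) \ C := fun i =>
    ⟨conj_mem_of_mem_normalizer (pow_mem hn i) htQ, fun h => ht (by
      have := mem_centralizer_singleton_iff.1 h.2
      calc t * n = (n ^ i)⁻¹ * (n ^ i * t * (n ^ i)⁻¹ * n) * n ^ i := by group
        _ = n * t := by rw [this]; group)⟩
  have h3 : 3 ≤ ((Q : Set X) \ C).ncard := by
    have e1 : n ^ 1 * t * (n ^ 1)⁻¹ ≠ n ^ 0 * t * (n ^ 0)⁻¹ := fun e => ht (by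
      rw [pow_one, pow_zero, one_mul, inv_one, mul_one, mul_inv_eq_iff_eq_mul] at e; exact e.symm)
    have e2 : n ^ 2 * t * (n ^ 2)⁻¹ ≠ n ^ 0 * t * (n ^ 0)⁻¹ := fun e => ht (by
      rw [pow_zero, one_mul, inv_one, mul_one, mul_inv_eq_iff_eq_mul] at e
      exact (comm_of_sq ho' e).symm)
    have e3 : n ^ 2 * t * (n ^ 2)⁻¹ ≠ n ^ 1 * t * (n ^ 1)⁻¹ := fun e => ht (by
      calc t * n = n⁻¹ * (n ^ 1 * t * (n ^ 1)⁻¹) * n ^ 2 := by group
        _ = n * t := by rw [← e]; group)
    rw [← (Set.ncard_eq_three.2 ⟨_, _, _, e1.symm, e2.symm, e3.symm, rfl⟩)]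
    refine Set.ncard_le_ncard ?_
    rintro _ (rfl | rfl | rfl) <;> exact h0 _
  have hT' : {x | Tri (S : Subgroup X) x}.ncard ≤ 3 := hT
  have heq := Set.eq_of_subset_of_ncard_le hsub (hT'.trans h3)
  have h4 : ((Q : Set X) \ C).ncard = 3 := le_antisymm (heq ▸ hT') h3
  have h5 := Set.ncard_sdiff_add_ncard_of_subset (show (C : Set X) ⊆ Q from inf_le_left (a := Q))
  rw [h4] at h5
  change 3 + Nat.card C = Nat.card Q at h5
  have hQ2 : IsPGroup 2 Q := S.2.to_le hQ
  have h6 : Nat.card C = 1 := by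
    have h7 : Nat.card C ∣ 3 := (Nat.dvd_add_left (dvd_refl _)).1
      (h5 ▸ card_dvd_of_le (inf_le_left : C ≤ Q))
    obtain ⟨k, hk⟩ := (hQ2.to_le (inf_le_left : C ≤ Q)).exists_card_eq
    rcases (Nat.dvd_prime Nat.prime_three).1 h7 with h | h
    · exact h
    · rw [hk] at h
      exact absurd (Nat.prime_three.dvd_of_dvd_pow h.symm.dvd) (by norm_num)
  have h7 : Nat.card Q = 4 := by omega
  refine ⟨isKleinFour_of h7 fun x hx => by_contra fun h => ?_, fun x => ?_⟩
  · refine not_act_of_isCyclic (isCyclic_of_orderOf_eq_card (⟨x, hx⟩ : Q) ?_) hQ2 hA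
    have h8 : orderOf (⟨x, hx⟩ : Q) ∣ 2 ^ 2 := by
      rw [show 2 ^ 2 = Nat.card Q from h7.symm]; exact orderOf_dvd_natCard _
    rw [h7]
    refine orderOf_eq_prime_pow (p := 2) (n := 1) (fun e => h ?_) (orderOf_dvd_iff_pow_eq_one.1 h8)
    exact congrArg Subtype.val e
  · change x ∈ {x | Tri (S : Subgroup X) x} ↔ _
    rw [← heq, card_eq_one.1 h6]
    simp

/-- a group with a self-centralizing normal four-group on which an element of odd order acts -/
theorem a4_s4 {V : Subgroup X} [V.Normal] (hV : IsKleinFour V) (hc : centralizer (V : Set X) ≤ V)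
    (hA : Act 2 V) (hN : ∀ N : Subgroup X, N.Normal → N ≠ ⊥ → V ≤ N) :
    Nonempty (X ≃* alternatingGroup (Fin 4)) ∨ Nonempty (X ≃* Equiv.Perm (Fin 4)) := by
  classical
  have := Fact.mk Nat.prime_three
  have hcV : centralizer (V : Set X) = V :=
    le_antisymm hc (le_centralizer_iff_isMulCommutative.2 (klein_comm hV))
  have h6 := klein_relIndex_dvd hV
  rw [normalizer_eq_top, relIndex_top_right, hcV] at h6
  have h4 := V.card_mul_index
  rw [klein_card hV] at h4
  obtain ⟨n, -, ho, hn⟩ := hA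
  have h3 : 3 ∣ V.index := by
    by_contra h
    have h2 : V.index ∣ 2 := (Nat.Coprime.symm ((Nat.Prime.coprime_iff_not_dvd Nat.prime_three).2 h)).dvd_of_dvd_mul_right
      (show V.index ∣ 2 * 3 from h6)
    have h8 : orderOf n ∣ 2 ^ 3 := (orderOf_dvd_natCard n).trans (h4 ▸ Nat.mul_dvd_mul_left 4 h2)
    rw [orderOf_eq_one_iff.1 (Nat.eq_one_of_dvd_coprimes (ho.pow_right 3) dvd_rfl h8)] at hn
    exact hn (one_mem _)
  obtain ⟨T⟩ := Sylow.nonempty (p := 3) (G := X)
  have hT : ¬ V ≤ normalizer (T : Set X) := fun h => by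
    have h1 : (T : Subgroup X) ≤ V := fun t ht => hc (mem_centralizer_iff.2 fun v hv => by
      have h2 : v * t * v⁻¹ * t⁻¹ ∈ (T : Subgroup X) :=
        mul_mem (conj_mem_of_mem_normalizer (h hv) ht) (inv_mem ht)
      have h5 : v * t * v⁻¹ * t⁻¹ ∈ V := by
        have := mul_mem hv (Normal.conj_mem inferInstance _ (inv_mem hv) t)
        simpa [mul_assoc] using this
      have := disjoint_def.1 (IsPGroup.disjoint_of_ne 2 3 (by norm_num) _ _ (klein_isPGroup hV) T.2) h5 h2
      rwa [mul_inv_eq_one, mul_inv_eq_iff_eq_mul] at this)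
    exact T.not_dvd_index (h3.trans (index_dvd_of_le h1))
  have h24 : Nat.card X = 12 ∨ Nat.card X = 24 := by
    have := Nat.le_of_dvd (by norm_num) h6
    obtain ⟨k, hk⟩ := h3
    have : V.index ≠ 0 := index_ne_zero_of_finite
    omega
  have hS : Nat.card (Sylow 3 X) = 4 := by
    have h1 := card_sylow_modEq_one 3 X
    have h2 := T.card_dvd_index
    have h5 := (T : Subgroup X).card_mul_index
    have h7 : 3 ∣ Nat.card (T : Subgroup X) := T.dvd_card_of_dvd_card (h3.trans V.index_dvd_card)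
    have h8 : (T : Subgroup X).index ∣ 8 := by
      obtain ⟨k, hk⟩ := h7
      have h9 : k * (T : Subgroup X).index = 4 ∨ k * (T : Subgroup X).index = 8 := by
        rw [hk, mul_assoc] at h5; omega
      rcases h9 with h | h
      · exact (Dvd.intro_left _ h).trans (by norm_num)
      · exact Dvd.intro_left _ h
    have h9 : Nat.card (Sylow 3 X) ≠ 1 := fun h => hT (by
      rw [T.card_eq_index_normalizer, index_eq_one] at h
      exact h ▸ le_top)
    have h10 := h2.trans h8
    have := Nat.le_of_dvd (by norm_num) h10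
    unfold Nat.ModEq at h1
    interval_cases Nat.card (Sylow 3 X) <;> simp_all
  let e : Sylow 3 X ≃ Fin 4 := Finite.equivFinOfCardEq hS
  let φ : X →* Equiv.Perm (Fin 4) := e.permCongrHom.toMonoidHom.comp (MulAction.toPermHom X (Sylow 3 X))
  have hφ : Function.Injective φ := by
    rw [← MonoidHom.ker_eq_bot_iff]
    by_contra h
    refine hT fun v hv => Sylow.smul_eq_iff_mem_normalizer.1 ?_
    have h1 : φ v = 1 := hN _ inferInstance h hv
    have h2 : MulAction.toPermHom X (Sylow 3 X) v = 1 := e.permCongrHom.injective (h1.trans (map_one _).symm)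
    exact congrArg (fun f : Equiv.Perm _ => f T) h2
  have h5 := φ.range.card_mul_index
  rw [← Nat.card_congr (MonoidHom.ofInjective hφ).toEquiv, Nat.card_perm, Nat.card_eq_fintype_card (α := Fin 4),
    Fintype.card_fin] at h5
  change _ = 24 at h5
  rcases h24 with h | h
  · have := Equiv.Perm.eq_alternatingGroup_of_index_eq_two (G := φ.range) (by rw [h] at h5; omega)
    exact Or.inl ⟨(MonoidHom.ofInjective hφ).trans (MulEquiv.subgroupCongr this)⟩
  · have := index_eq_one.1 (show φ.range.index = 1 by rw [h] at h5; omega)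
    exact Or.inr ⟨(MonoidHom.ofInjective hφ).trans ((MulEquiv.subgroupCongr this).trans topEquiv)⟩

theorem core {S : Sylow 2 X} (hT : Nat.card {x // Tri (S : Subgroup X) x} ≤ 3)
    (hO : pPrimeCore 2 X = ⊥) (h2 : ¬ IsPGroup 2 X) :
    Nonempty (X ≃* alternatingGroup (Fin 4)) ∨ Nonempty (X ≃* Equiv.Perm (Fin 4)) ∨
    ∃ K : Subgroup X, K.Normal ∧ IsSimpleGroup K ∧ ¬ IsMulCommutative K ∧
      centralizer (K : Set X) = ⊥ ∧ ∃ P : Sylow 2 K, IsKleinFour (P : Subgroup K) := by
  obtain ⟨V, hVS, hc, hA⟩ : ∃ V : Subgroup X, V ≤ S ∧ (S : Subgroup X) ⊓ centralizer (V : Set X) ≤ V ∧ Act 2 V := by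
    by_contra h; push Not at h
    exact h2 (pgroup_of_npc (hasNPC_of_not_act S h) hO)
  obtain ⟨hV, hTV⟩ := key hT hVS hA
  have uniq : ∀ Q : Subgroup X, Q ≤ S → Act 2 Q → Q = V := fun Q h1 h3 => by
    ext x
    by_cases hx : x = 1
    · simp [hx]
    · have := ((key hT h1 h3).2 x).symm.trans (hTV x)
      simpa [hx] using this
  have sub : ∀ M : Subgroup X, M.IsSubnormal → IsSylowIn 2 ((S : Subgroup X) ⊓ M) M →
      IsPGroup 2 M ∨ (V ≤ M ∧ ∃ n ∈ M, n ∉ centralizer (V : Set X)) := fun M h1 h3 => by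
    by_cases h : HasNormalPComplement 2 M
    · exact Or.inl (pgroup_of_npc h (pPrimeCore_eq_bot_of_subnormal h1 hO))
    · right
      by_contra h4
      refine h (hasNPC_of_forall_le_in h3 fun Q h5 _ g hg h6 h7 => by_contra fun h8 => h4 ?_)
      obtain rfl := uniq Q (h5.trans inf_le_left) ⟨g, h6, h7, h8⟩
      exact ⟨h5.trans inf_le_right, g, hg, h8⟩
  have sub' : ∀ M : Subgroup X, M.Normal → IsPGroup 2 M ∨ (V ≤ M ∧ ∃ n ∈ M, n ∉ centralizer (V : Set X)) :=
    fun M h => sub M h.isSubnormal (isSylowIn_inf_normal S M)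
  have norm2 : ∀ N : Subgroup X, N.Normal → IsPGroup 2 N → N ≤ V := fun N h1 h3 => by
    obtain ⟨n, hn, ho, h4⟩ := hA
    refine le_sup_left.trans (uniq (N ⊔ V) (sup_le (h3.le_sylow_of_normal S) hVS) ⟨n,
      inf_normalizer_le_normalizer_sup _ _ ⟨by rw [normalizer_eq_top]; trivial, hn⟩, ho, fun h => h4 ?_⟩).le
    exact centralizer_le (le_sup_right (a := N)) h
  have hall : ∀ N : Subgroup X, N.Normal → N ≠ ⊥ → V ≤ N := fun N h1 h3 => by
    rcases sub' N h1 with h | h
    · obtain ⟨⟨a, ha⟩, ha1⟩ := ne_bot_iff_exists_ne_one.1 h3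
      intro b hb
      by_cases hb1 : b = 1
      · rw [hb1]; exact one_mem _
      obtain ⟨n, -, rfl⟩ := klein_act_conj hV hA (norm2 N h1 h ha) hb (fun e => ha1 (Subtype.ext e)) hb1
      exact h1.conj_mem _ ha n
    · exact h.1
  by_cases hVn : V.Normal
  · refine or_assoc.1 (Or.inl (a4_s4 hV ?_ hA hall))
    rcases sub' (centralizer (V : Set X)) inferInstance with h | ⟨-, n, h, h'⟩
    · exact norm2 _ inferInstance h
    · exact absurd h h'
  have hV0 : V ≠ ⊥ := fun h => hVn (h ▸ inferInstance)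
  have hO2 : pCore 2 X = ⊥ := by_contra fun h =>
    hVn (le_antisymm (norm2 _ inferInstance isPGroup_pCore) (hall _ inferInstance h) ▸ inferInstance)
  set K := normalClosure (V : Set X) with hK
  have hVK : V ≤ K := le_normalClosure
  have hK0 : K ≠ ⊥ := fun h => hV0 (le_bot_iff.1 (h ▸ hVK))
  have hKS := isSylowIn_inf_normal S K
  obtain ⟨-, n, hnK, hn⟩ := (sub' K inferInstance).resolve_left fun h =>
    hK0 (le_bot_iff.1 (hO2 ▸ le_pCore h))
  have hsimp : IsSimpleGroup K := by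
    have := (nontrivial_iff_ne_bot K).2 hK0
    refine ⟨fun M hM => or_iff_not_imp_left.2 fun h0 => ?_⟩
    have h3 : ∀ x : X, V ≤ x •ᶜ M.map K.subtype := fun x => by
      have h4 : x •ᶜ M.map K.subtype ≤ K :=
        (conj_mono x (map_subtype_le M)).trans (conj_eq_of_normal x K).le
      have h5 : K ≤ normalizer ((x •ᶜ M.map K.subtype : Subgroup X) : Set X) := by
        rw [← conj_normalizer]
        refine (conj_eq_of_normal x K).ge.trans (conj_mono x fun k hk => mem_normalizer_of_forall ?_)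
        rintro _ ⟨m, hm, rfl⟩
        exact ⟨_, hM.conj_mem m hm ⟨k, hk⟩, rfl⟩
      have h6 : (x •ᶜ M.map K.subtype).IsSubnormal := IsSubnormal.trans h4
        ((normal_subgroupOf_iff_le_normalizer h4).2 h5).isSubnormal (Normal.isSubnormal inferInstance)
      have h7 := hKS.inf_of_normal h4 h5
      rw [inf_assoc, inf_eq_right.2 h4] at h7
      refine ((sub _ h6 h7).resolve_left fun h => h0 ?_).1
      have := le_bot_iff.1 (hO2 ▸ le_pCore_of_subnormal h6 h)
      rwa [conj_eq_bot_iff, map_eq_bot_iff_of_injective _ K.subtype_injective] at this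
    have h4 : K ≤ M.map K.subtype := by
      refine (closure_le _).2 fun y hy => ?_
      obtain ⟨v, hv, h5⟩ := Group.mem_conjugatesOfSet_iff.1 hy
      obtain ⟨g, rfl⟩ := isConj_iff.1 h5
      exact mem_conj_inv.1 (h3 g⁻¹ hv)
    rw [eq_top_iff]
    intro k _
    obtain ⟨m, hm, e⟩ := h4 k.2
    exact (Subtype.ext e : m = k) ▸ hm
  have hcK : centralizer (K : Set X) = ⊥ := by_contra fun h =>
    hn (mem_centralizer_iff.2 fun v hv => (mem_centralizer_iff.1 (hall _ inferInstance h hv) n hnK).symm)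
  refine Or.inr (Or.inr ⟨K, inferInstance, hsimp, fun h => hK0 (le_bot_iff.1
    (hcK ▸ le_centralizer_iff_isMulCommutative.2 h)), hcK, hKS.toSylow, ?_⟩)
  have hsc : ∀ v ∈ V, ∀ g : X, g * v * g⁻¹ ∈ S → g * v * g⁻¹ ∈ V := fun v hv g hg => by
    by_cases h1 : v = 1
    · simp [h1]
    · exact ((hTV _).1 (tri_conj ((hTV v).2 ⟨hv, h1⟩) hg)).1
  have hSN : (S : Subgroup X) ≤ normalizer (V : Set X) := fun s hs => mem_normalizer_of_forall fun v hv =>
    hsc v hv s (mul_mem (mul_mem hs (hVS hv)) (inv_mem hs))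
  set S0 : Subgroup X := (S : Subgroup X) ⊓ K with hS0
  have hVS0 : V ≤ S0 := le_inf hVS hVK
  have hi : V.relIndex S0 ∣ 2 := by
    have h1 : (centralizer (V : Set X)).relIndex S0 ∣ 6 := by
      have h3 : S0 ≤ normalizer (V : Set X) := inf_le_left.trans hSN
      have : ((centralizer (V : Set X)).subgroupOf (normalizer (V : Set X))).Normal :=
        (normal_subgroupOf_iff_le_normalizer (centralizer_le_normalizer _)).2
          (normalizer_le_normalizer_centralizer V)
      rw [← relIndex_subgroupOf h3]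
      exact (relIndex_dvd_index_of_normal _ _).trans (klein_relIndex_dvd hV)
    have h3 : centralizer (V : Set X) ⊓ S0 = V := le_antisymm (fun x hx => hc ⟨hx.2.1, hx.1⟩)
      (le_inf (le_centralizer_iff_isMulCommutative.2 (klein_comm hV)) hVS0)
    rw [← inf_relIndex_right, h3] at h1
    obtain ⟨k, hk⟩ := hKS.isPGroup.index (V.subgroupOf S0)
    have hk' : V.relIndex S0 = 2 ^ k := hk
    exact (Nat.Coprime.symm (show Nat.Coprime 3 (V.relIndex S0) from
      hk' ▸ Nat.Coprime.pow_right k (by norm_num))).dvd_of_dvd_mul_right (show _ ∣ 2 * 3 from h1)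
  have hS0V : S0 = V := by
    rcases (Nat.dvd_prime Nat.prime_two).1 hi with h | h
    · exact le_antisymm (relIndex_eq_one.1 h) hVS0
    exfalso
    obtain ⟨u, hu, huV⟩ : ∃ u ∈ S0, u ∉ V := by
      by_contra h1; push Not at h1
      rw [relIndex_eq_one.2 h1] at h; omega
    obtain ⟨e, he⟩ := hKS.isPGroup ⟨u, hu⟩
    obtain ⟨M, hM, hM2, -⟩ := CA.Trf.thompson_transfer (G := K) (P := S0.subgroupOf K) (Q := V.subgroupOf K)
      (CA.Trf.odd_index_sylow hKS.toSylow) ((relIndex_subgroupOf inf_le_right).trans h) (u := ⟨u, hu.2⟩) hu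
      (e := e) (Subtype.ext (congrArg (fun a : S0 => (a : X)) he)) (fun g _ h3 => huV (by
        have := hsc _ h3 (g⁻¹ : K) (by simpa [mul_assoc] using hu.1)
        simpa [mul_assoc] using this)) fun k g h3 => hsc _ (by
          have h4 : (⟨u, hu⟩ : S0) * ⟨u, hu⟩ ∈ V.subgroupOf S0 := mul_self_mem_of_index_two h _
          rw [coe_pow, pow_mul, pow_two]
          exact pow_mem h4 k) g h3.1
    rcases hM.eq_bot_or_eq_top with rfl | rfl
    · rw [index_bot] at hM2
      have := card_dvd_of_le hVK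
      rw [hM2, klein_card hV] at this; omega
    · rw [index_top] at hM2; omega
  rw [IsSylowIn.coe_toSylow]
  refine isKleinFour_of ?_ fun x hx => Subtype.ext (klein_sq hV (hS0V.le hx))
  exact (Nat.card_congr (subgroupOfEquivOfLe (inf_le_right : S0 ≤ K)).toEquiv).trans
    ((congrArg (fun A : Subgroup X => Nat.card A) hS0V).trans (klein_card hV))

theorem two_group {P : Type*} [Group P] [Finite P] (h : IsPGroup 2 P) :
    2 * Nat.card (ConjClasses P) ≠ Nat.card P := by
  classical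
  intro e
  have := Fact.mk Nat.prime_three
  have := Fintype.ofFinite {p : P × P // Commute p.1 p.2}
  let f : Function.End {p : P × P // Commute p.1 p.2} := fun a =>
    ⟨(a.1.2, (a.1.1 * a.1.2)⁻¹), (a.2.symm.mul_right (Commute.refl _)).inv_right⟩
  have hf : f ^ 3 ^ 1 = 1 := by
    funext ⟨⟨x, y⟩, hxy⟩
    have hc : x * y = y * x := hxy
    refine Subtype.ext (Prod.ext ?_ ?_)
    · change (y * (x * y)⁻¹)⁻¹ = x
      group
    · change ((x * y)⁻¹ * (y * (x * y)⁻¹)⁻¹)⁻¹ = y
      rw [hc]; group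
  have h1 := Equiv.Perm.card_fixedPoints_modEq hf
  have h2 : Fintype.card f.fixedPoints = 1 := by
    refine Fintype.card_eq_one_iff.2 ⟨⟨⟨(1, 1), Commute.refl 1⟩, Subtype.ext (by simp [f])⟩, ?_⟩
    rintro ⟨⟨⟨x, y⟩, hxy⟩, h3⟩
    have h4 : y = x := congrArg (fun a => a.1.1) h3
    have h5 : (x * y)⁻¹ = y := congrArg (fun a => a.1.2) h3
    subst h4
    obtain ⟨k, hk⟩ := h y
    have h6 : y ^ 3 = 1 := by rw [pow_succ, pow_two, ← eq_inv_iff_mul_eq_one, ← inv_eq_iff_eq_inv, h5]
    obtain rfl : y = 1 := (pow_eq_one_iff_of_coprime (Nat.Coprime.pow_right k (by norm_num : Nat.Coprime 3 2))).1 ⟨h6, hk⟩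
    rfl
  rw [h2, ← Nat.card_eq_fintype_card, card_comm_eq_card_conjClasses_mul_card, ← e] at h1
  generalize Nat.card (ConjClasses P) = k at h1
  have h3 : k % 3 = 0 ∨ k % 3 = 1 ∨ k % 3 = 2 := by omega
  unfold Nat.ModEq at h1
  rcases h3 with h3 | h3 | h3 <;> simp [Nat.mul_mod, h3] at h1

/-- passage to `G / Z(G)` -/
theorem quot {G : Type*} [Group G] [Finite G] (P : Sylow 2 G) (hO : pPrimeCore 2 G = ⊥)
    (hk : 2 * CA.H7Cls.kpi {2} G = Nat.card (P : Subgroup G)) :
    pPrimeCore 2 (G ⧸ center G) = ⊥ ∧ ¬ IsPGroup 2 (G ⧸ center G) ∧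
      ∃ S : Sylow 2 (G ⧸ center G), Nat.card {x // Tri (S : Subgroup (G ⧸ center G)) x} ≤ 3 := by
  have hZ : IsPGroup 2 (center G) := pgroup_of_npc (hasNPC_iff_forall_pgroup.2 fun Q _ g _ _ =>
    mem_centralizer_iff.2 fun x _ => Subtype.ext (mem_center_iff.1 g.2 x))
    (pPrimeCore_eq_bot_of_subnormal (Normal.isSubnormal inferInstance) hO)
  set π := QuotientGroup.mk' (center G) with hπ
  have hs : Function.Surjective π := QuotientGroup.mk'_surjective _
  have hker : π.ker = center G := QuotientGroup.ker_mk' _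
  refine ⟨?_, fun h => ?_, P.mapSurjective hs, ?_⟩
  · set N := (pPrimeCore 2 (G ⧸ center G)).comap π with hN
    have h1 : N.map π = pPrimeCore 2 (G ⧸ center G) := map_comap_eq_self_of_surjective hs _
    have h2 : HasNormalPComplement 2 N := CA.H13ZRed.hasNPC_of_central ((center G).subgroupOf N)
      (fun x hx => mem_center_iff.2 fun y => Subtype.ext (mem_center_iff.1 hx y)) (by
        change ¬ 2 ∣ (center G).relIndex N
        rw [← hker, relIndex_ker, h1]
        exact (Nat.Prime.coprime_iff_not_dvd Nat.prime_two).1 coprime_pPrimeCore.symm)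
    have h3 := (pgroup_of_npc h2 (pPrimeCore_eq_bot_of_subnormal (Normal.isSubnormal inferInstance) hO)).map π
    rw [h1] at h3
    exact eq_bot_of_isPGroup_of_coprime h3 coprime_pPrimeCore
  · have h1 : IsPGroup 2 G := isPGroup_top_iff.1 (by
      have := (isPGroup_top_iff.2 h).comap_of_ker_isPGroup π (by rw [hker]; exact hZ)
      rwa [comap_top] at this)
    rw [(kp_sylow P).2 (hasNPC_of_isPGroup h1)] at hk
    exact two_group P.2 hk
  · have hP := CA.BG.syl_top Nat.prime_two P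
    have h1 := (count hP.pi (fun K hK => (hP.syl_conj_le Nat.prime_two hK le_top).imp fun _ => And.right)).2
    have h2 : Nat.card {z // Iso (P : Subgroup G) z} ≤ Nat.card (center G) :=
      Nat.card_le_card_of_injective (fun z => ⟨z.1, mem_center_iff.2
        (CA.H13ZRed.central_of_inZStar (CA.H13Z2.zstar_wcl P z.2.1 z.2.2) hO)⟩)
        fun a b h => Subtype.ext (congrArg (fun t : center G => (t : G)) h)
    have hmem : ∀ g : G, π g ∈ (P : Subgroup G).map π → g ∈ (P : Subgroup G) := fun g hg => by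
      have : g ∈ ((P : Subgroup G).map π).comap π := hg
      rwa [comap_map_eq, hker, sup_eq_left.2 (hZ.le_sylow_of_normal P)] at this
    have h3 : ∀ g : G, Tri ((P : Subgroup G).map π) (π g) → Tri (P : Subgroup G) g := by
      rintro g ⟨h0, a, b, h4, h5, h6, h7, h8⟩
      obtain ⟨a, rfl⟩ := hs a
      obtain ⟨b, rfl⟩ := hs b
      simp only [← map_inv, ← map_mul] at h4 h5 h6 h7 h8
      exact ⟨hmem _ h0, a, b, hmem _ h4, hmem _ h5, fun e => h6 (congrArg π e), fun e => h7 (congrArg π e),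
        fun e => h8 (congrArg π e)⟩
    have e0 : ∀ (x : G ⧸ center G) (z : center G), π (x.out * z) = x := fun x z => by
      rw [map_mul, show π z = 1 from hker.ge z.2, mul_one]; exact x.out_eq
    have h4 : Nat.card ({x // Tri ((P : Subgroup G).map π) x} × center G) ≤
        Nat.card {x // Tri (P : Subgroup G) x} := by
      refine Nat.card_le_card_of_injective (fun a => ⟨a.1.1.out * a.2, h3 _ (by rw [e0]; exact a.1.2)⟩) ?_
      rintro ⟨⟨x, hx⟩, z⟩ ⟨⟨y, hy⟩, w⟩ h
      have h5 : x.out * z = y.out * w := congrArg Subtype.val h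
      obtain rfl : x = y := by rw [← e0 x z, h5, e0]
      rw [Subtype.ext (mul_left_cancel h5)]
    rw [Nat.card_prod] at h4
    have h5 : 0 < Nat.card (center G) := Nat.card_pos
    change Nat.card {x // Tri ((P : Subgroup G).map π) x} ≤ 3
    refine Nat.le_of_mul_le_mul_right (h4.trans ?_) h5
    omega

end CA.K2Half
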