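import Cfsg.Agent.Lib.Grp.S4F6

/-!
E-groups, `Ĵ(S)`, and the triple factorization of `S₄`-free groups of characteristic `2`.
-/

set_option autoImplicit false

namespace CA.S4F

open Subgroup Cfsg CA.Amb CA.AmbSyl CA.AmbCore CA.AmbRes CA.AmbChar CA.H6W
open CA.H6J hiding Z

universe u

variable {G G' : Type u} [Group G] [Group G']

/-- `U` is an E-group -/
def EG (U : Subgroup G) : Prop := ∀ W ≤ U, U ≤ 𝐍 W → IsAb 2 W → Rst W U → W ≤ 𝐂 U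

theorem eg_map_iff {f : G →* G'} (hf : Function.Injective f) {U : Subgroup G} : EG (U.map f) ↔ EG U := by
  refine ⟨fun h W h1 h2 h3 h4 => ?_, fun h W h1 h2 h3 h4 => ?_⟩
  · rw [← comap_cent hf, ← map_le_iff_le_comap]
    exact h _ (map_mono h1) (norm_map f h2) (h3.map f) ((rst_map_iff hf).2 h4)
  · have e := map_comap_eq_self (h1.trans (map_le_range f U))
    have e2 := comap_map_eq_self_of_injective hf U
    rw [← e]
    exact cent_map f (h _ ((comap_mono h1).trans e2.le) (e2.ge.trans (norm_comap f h2)) (h3.comap hf)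
      ((rst_map_iff hf).1 (e.symm ▸ h4)))

theorem isEGroup_iff (T : Type u) [Group T] [Finite T] : IsEGroup T ↔ EG (⊤ : Subgroup T) := by
  refine forall_congr' fun V => ?_
  rw [normal_iff_top_le, centralizer_top, imp_iff_right le_top]
  refine imp_congr_right fun _ => imp_congr_right fun _ => imp_congr_left (forall_congr' fun R => ?_)
  rw [imp_iff_right le_top]
  refine imp_congr_right fun _ => imp_congr_right fun _ => imp_congr_right fun _ => ?_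
  rw [← card_inf_mul_relIndex (𝐂 R) V, ← card_inf_mul_relIndex (𝐂 V) R, inf_comm (𝐂 R), inf_comm (𝐂 V)]
  have p1 : 0 < Nat.card ↥(R ⊓ 𝐂 V) := Nat.card_pos
  have p2 : 0 < Nat.card ↥(V ⊓ 𝐂 R) := Nat.card_pos
  generalize Nat.card ↥(R ⊓ 𝐂 V) = d at *
  generalize Nat.card ↥(V ⊓ 𝐂 R) = c at *
  refine and_congr ?_ (by rw [gt_iff_lt, mul_comm d, Nat.mul_lt_mul_right p1])
  rw [gt_iff_lt, show ∀ i, (d * i) ^ 3 * c ^ 2 = i ^ 3 * (d ^ 3 * c ^ 2) from fun _ => by ring,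
    show ∀ k, (c * k) ^ 2 * d ^ 3 = k ^ 2 * (d ^ 3 * c ^ 2) from fun _ => by ring,
    Nat.mul_lt_mul_right (by positivity)]

theorem isEGroup_iff' (U : Subgroup G) [Finite U] : IsEGroup U ↔ EG U := by
  rw [isEGroup_iff, ← eg_map_iff U.subtype_injective, map_subtype_top]

/-- `Ĵ(S)` inside the ambient group -/
def Jh (S : Subgroup G) : Subgroup G := sSup {U | U ≤ S ∧ EG U ∧ J 2 S ≤ U}

theorem le_Jh {S U : Subgroup G} (h1 : U ≤ S) (h2 : EG U) (h3 : J 2 S ≤ U) : U ≤ Jh S := le_sSup ⟨h1, h2, h3⟩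

theorem Jh_le_iff {S M : Subgroup G} : Jh S ≤ M ↔ ∀ U ≤ S, EG U → J 2 S ≤ U → U ≤ M :=
  sSup_le_iff.trans ⟨fun h U h1 h2 h3 => h U ⟨h1, h2, h3⟩, fun h U hU => h U hU.1 hU.2.1 hU.2.2⟩

theorem Jh_le (S : Subgroup G) : Jh S ≤ S := Jh_le_iff.2 fun _ h _ _ => h

theorem Jh_map {f : G →* G'} (hf : Function.Injective f) (S : Subgroup G) : Jh (S.map f) = (Jh S).map f := by
  refine le_antisymm (Jh_le_iff.2 fun U h1 h2 h3 => ?_) (map_le_iff_le_comap.2 (Jh_le_iff.2 fun U h1 h2 h3 =>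
    map_le_iff_le_comap.1 (le_Jh (map_mono h1) ((eg_map_iff hf).2 h2) (J_map hf 2 S ▸ map_mono h3))))
  have e := map_comap_eq_self (h1.trans (map_le_range f S))
  rw [← e]
  exact map_mono (le_Jh ((comap_mono h1).trans (comap_map_eq_self_of_injective hf S).le)
    ((eg_map_iff hf).1 (e.symm ▸ h2)) (map_le_iff_le_comap.1 (J_map hf 2 S ▸ h3)))

theorem jHat_eq (T : Type u) [Group T] [Finite T] : jHat T = Jh (⊤ : Subgroup T) := by
  unfold jHat Jh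
  congr 1
  ext U
  rw [Set.mem_ofPred_eq, Set.mem_ofPred_eq, isEGroup_iff', thompsonSubgroup_eq, and_iff_right le_top]

theorem map_jHat (S : Subgroup G) [Finite S] : (jHat S).map S.subtype = Jh S := by
  rw [jHat_eq, ← Jh_map S.subtype_injective, map_subtype_top]

theorem norm_Jh (S : Subgroup G) : 𝐍 S ≤ 𝐍 (Jh S) := fun g hg =>
  cj_eq_self_iff.1 ((Jh_map (conj_injective g) S).symm.trans (congrArg Jh (cj_eq_self hg)))

variable [Finite G]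

theorem J_le_Jh (S : Subgroup G) : J 2 S ≤ Jh S :=
  le_Jh (J_le 2 S) (fun W h1 _ h3 h4 => cent_symm (J_J 2 S ▸ h4.J_le h3 h1)) le_rfl

theorem Jh_eq_of_le {S T : Subgroup G} (h1 : Jh S ≤ T) (h2 : T ≤ S) : Jh T = Jh S := by
  have e := J_eq_of_J_le ((J_le_Jh S).trans h1) h2
  exact le_antisymm (Jh_le_iff.2 fun U h3 h4 h5 => le_Jh (h3.trans h2) h4 (e ▸ h5))
    (Jh_le_iff.2 fun U h3 h4 h5 => le_Jh ((le_Jh h3 h4 h5).trans h1) h4 (e ▸ h5))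

theorem le_J_of_cent {S V : Subgroup G} (hV : IsAb 2 V) (h1 : V ≤ S) (h2 : J 2 S ≤ 𝐂 V) : V ≤ J 2 S := by
  obtain ⟨A, hA⟩ := mx_nonempty 2 S
  exact (le_of_le_centralizer hA h1 hV.2 (cent_symm ((le_J hA).trans h2))).trans (le_J hA)

theorem Jh_le_cent (h3 : ¬ Involves S3 G) (hK : CKW Good G) (hc : CharP 2 (⊤ : Subgroup G)) {S : Subgroup G}
    (hS : SylIn 2 S ⊤) : Jh S ≤ 𝐂 (ncl (H6J.Z S) ⊤) := by
  obtain ⟨V, hV⟩ : ∃ V, V = ncl (H6J.Z S) ⊤ := ⟨_, rfl⟩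
  have h1 : V ≤ H6J.Z (pCoreOf 2 ⊤) := hV ▸ H6NPC.ncl_le_Z_pCoreOf hc hS le_rfl
  have h2 : H6Op.Op 2 ⊤ (𝐂 V) ≤ 𝐂 V := hV ▸ H6NPC.Op_cent_ncl_le hS inf_le_right
  have hn : ⊤ ≤ 𝐍 V := hV ▸ norm_ncl _ _
  have hVS : V ≤ S := h1.trans (inf_le_left.trans (pCoreOf_le_syl hS))
  have hZ : H6J.Z V = V := inf_eq_left.2 (h1.trans (inf_le_right.trans (centralizer_anti (h1.trans inf_le_left))))
  have hn1 : ⊤ ≤ 𝐍 (OZ 2 V) := hn.trans (norm_OZ 2 V)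
  have h4 : 𝐂 (OZ 2 V) = 𝐂 V := le_antisymm ((H6Op.le_Op le_top (norm_centralizer hn1)
    ((res_le_cent_of_OZ (hS.pg.to_le hVS) (le_top.trans hn) (res_le 2 _)).trans
      (centralizer_anti hZ.ge))).trans h2)
    (centralizer_anti (OZ_le 2 V))
  haveI := normal_iff_top_le.2 hn1
  have h5 : Rst (OZ 2 V) S := rst_of_normal h3 hK (isAb_OZ 2 V) (eq_bot_iff.2 fun x hx => by
    obtain ⟨x, rfl⟩ := QuotientGroup.mk_surjective x
    exact (QuotientGroup.eq_one_iff x).2 (h4.symm ▸ h2 (h4 ▸ (H6Op.mem_Op_top_iff _ x).2 hx))) hS.pg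
  have h6 := (OZ_le 2 V).trans hVS
  rw [← hV, ← h4]
  exact Jh_le_iff.2 fun U hU hE hJ => cent_symm (hE _ ((le_J_of_cent (isAb_OZ 2 V) h6
    (h5.J_le (isAb_OZ 2 V) h6)).trans hJ) norm_of_normal (isAb_OZ 2 V) (h5.mono hU))

theorem ncl_J_le_cent (h3 : ¬ Involves S3 G) (hK : CKW Good G) (hc : CharP 2 (⊤ : Subgroup G)) {S : Subgroup G}
    (hS : SylIn 2 S ⊤) : ncl (J 2 S) ⊤ ≤ 𝐂 (OZ 2 (Jh S)) := by
  obtain ⟨N, hN⟩ : ∃ N, N = ncl (J 2 S) ⊤ := ⟨_, rfl⟩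
  have hn : ⊤ ≤ 𝐍 N := hN ▸ norm_ncl _ _
  have hJN : J 2 S ≤ N := hN ▸ le_ncl _ _
  have hT := hS.inf_norm le_top hn
  have hJ : J 2 (S ⊓ N) = J 2 S := J_eq_of_J_le (le_inf (J_le 2 S) hJN) inf_le_left
  have hi := N.subtype_injective
  have key : ∀ W ≤ S ⊓ N, S ⊓ N ≤ 𝐍 W → IsAb 2 W → Rst W (S ⊓ N) → N ≤ 𝐂 W := fun W h1 h2 h4 h5 => by
    have e1 := map_subgroupOf_eq_of_le (inf_le_right : S ⊓ N ≤ N)
    have e2 := map_subgroupOf_eq_of_le (h1.trans inf_le_right)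
    have := cent_map N.subtype (rst_ncl_J N (fun b => h3 (Fus.involves_of_inj _ hi b))
      (hK.sub_top (normal_iff_top_le.2 hn).isSubnormal)
      ((charP_map_iff hi).1 (by rw [map_subtype_top]; exact hc.of_norm le_top hn)) (W := W.subgroupOf N)
      (H6NPC.sylIn_subgroupOf_top hT) (h4.comap hi) (comap_mono h1) (norm_comap _ h2)
      ((rst_map_iff hi).1 (by rwa [e1, e2])))
    rw [map_ncl, ← J_map hi, e1, e2, map_subtype_top, hJ] at this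
    refine (hN.trans_le (ncl_le_iff.2 fun g hg => ?_)).trans this
    obtain ⟨c, hc, x, hx, rfl⟩ := H6NPC.frattini_J hS le_top hn hJN hg
    rw [← cj_cj, cj_eq_self hx.2]
    exact cj_le_ncl _ hc
  have h1 : S ⊓ N ≤ 𝐂 (OZ 2 (Jh S)) := (le_Jh inf_le_left (fun W h1 h2 h4 h5 => cent_symm
    (inf_le_right.trans (key W h1 h2 h4 h5))) (le_inf (J_le 2 S) hJN)).trans (cent_symm (OZ_le_cent 2 _))
  have h2 := (OZ_le 2 (Jh S)).trans (Jh_le S)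
  exact hN ▸ key _ (le_inf h2 ((le_J_of_cent (isAb_OZ 2 _) h2 ((le_inf (J_le 2 S) hJN).trans h1)).trans hJN))
    (norm_of_centralizer h1) (isAb_OZ 2 _) fun R hR _ _ h => absurd (hR.trans h1) h

/-- Glauberman's triple factorization -/
theorem triple (h3 : ¬ Involves S3 G) (hK : CKW Good G) (hc : CharP 2 (⊤ : Subgroup G)) {S : Subgroup G}
    (hS : SylIn 2 S ⊤) : (∀ g : G, ∃ c ∈ 𝐂 (H6J.Z S), ∃ n ∈ 𝐍 (J 2 S), g = c * n) ∧
      (∀ g : G, ∃ c ∈ 𝐂 (H6J.Z S), ∃ n ∈ 𝐍 (Jh S), g = c * n) ∧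
      ∀ g : G, ∃ c ∈ 𝐂 (OZ 2 (Jh S)), ∃ n ∈ 𝐍 (J 2 S), g = c * n := by
  have h1 := Jh_le_cent h3 hK hc hS
  have hn : ⊤ ≤ 𝐍 (𝐂 (ncl (H6J.Z S) ⊤)) := norm_centralizer (norm_ncl _ _)
  have h2 := centralizer_anti (le_ncl (H6J.Z S) ⊤)
  refine ⟨fun g => ?_, fun g => ?_, fun g => ?_⟩
  · obtain ⟨c, hc, x, hx, e⟩ := H6NPC.frattini_J hS le_top hn ((J_le_Jh S).trans h1) (mem_top g)
    exact ⟨c, h2 hc, x, hx.2, e⟩
  · obtain ⟨c, hc, h4⟩ := (hS.inf_norm le_top hn).frattini hn (mem_top g)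
    exact ⟨c, h2 hc, _, Jh_eq_of_le (le_inf (Jh_le S) h1) inf_le_left ▸ norm_Jh _ h4, by group⟩
  · obtain ⟨c, hc', x, hx, e⟩ := H6NPC.frattini_J hS le_top (norm_ncl (J 2 S) ⊤) (le_ncl _ _) (mem_top g)
    exact ⟨c, ncl_J_le_cent h3 hK hc hS hc', x, hx.2, e⟩

theorem triple' (hc : 𝐂 (pCore 2 G) ≤ pCore 2 G) (h4 : ¬ Involves S4 G)
    (hK : IsCompositionKGroupWith IsSuzukiOrPSL2OddPowerThree G) (S : Sylow 2 G) :
    (∀ g : G, ∃ c ∈ 𝐂 (H6J.Z (S : Subgroup G)), ∃ n ∈ 𝐍 (J 2 (S : Subgroup G)), g = c * n) ∧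
      (∀ g : G, ∃ c ∈ 𝐂 (H6J.Z (S : Subgroup G)), ∃ n ∈ 𝐍 (Jh (S : Subgroup G)), g = c * n) ∧
      ∀ g : G, ∃ c ∈ 𝐂 (OZ 2 (Jh (S : Subgroup G))), ∃ n ∈ 𝐍 (J 2 (S : Subgroup G)), g = c * n :=
  triple (not_S3_of_char (charP_top_iff.2 hc) h4) (ckw_good hK) (charP_top_iff.2 hc) (sylIn_top S)

theorem OZ_le_OZ_Jh (S : Subgroup G) : OZ 2 S ≤ OZ 2 (Jh S) :=
  le_OZ ((omegaOne_Z_le 2 S).trans ((OZ_le 2 _).trans (J_le_Jh S)))
    ((OZ_le_cent 2 S).trans (centralizer_anti (Jh_le S))) (isAb_OZ 2 S).2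

omit [Finite G] in
theorem charP_J (n : ℕ) (hn : 2 ∣ n) : IsCharPFunctor.{u} 2 fun Q _ => J n (⊤ : Subgroup Q) :=
  ⟨fun Q _ _ h1 h2 => J_ne_bot hn (dvd_card_of_isPGroup (h1.to_subgroup ⊤) bot_ne_top.symm),
    fun Q R _ _ _ _ φ => by rw [← J_map φ.injective, map_top_of_surjective _ φ.surjective]⟩

omit [Finite G] in
theorem charP_Z : IsCharPFunctor.{u} 2 fun Q _ => H6J.Z (⊤ : Subgroup Q) :=
  ⟨fun Q _ _ h1 h2 => Z_ne_bot (h1.to_subgroup ⊤) bot_ne_top.symm,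
    fun Q R _ _ _ _ φ => by rw [← Z_map φ.injective, map_top_of_surjective _ φ.surjective]⟩

omit [Finite G] in
theorem charP_OZJh : IsCharPFunctor.{u} 2 fun Q _ => OZ 2 (Jh (⊤ : Subgroup Q)) :=
  ⟨fun Q _ _ h1 h2 e => omegaOne_ne_bot ((h1.to_subgroup ⊤).to_le inf_le_left)
      (Z_ne_bot (h1.to_subgroup ⊤) bot_ne_top.symm) (le_bot_iff.1 ((OZ_le_OZ_Jh ⊤).trans e.le)),
    fun Q R _ _ _ _ φ => by
      rw [← omegaOne_map φ.injective, ← Z_map φ.injective, ← Jh_map φ.injective,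
        map_top_of_surjective _ φ.surjective]⟩

omit [Finite G] in
theorem induced_OZJh (S : Subgroup G) :
    inducedFunctor (fun Q _ => OZ 2 (Jh (⊤ : Subgroup Q))) S = OZ 2 (Jh S) := by
  have hi := S.subtype_injective
  rw [inducedFunctor, ← omegaOne_map hi, ← Z_map hi, ← Jh_map hi, map_subtype_top]

omit [Finite G] in
theorem induced_J (n : ℕ) (S : Subgroup G) : inducedFunctor (fun Q _ => J n (⊤ : Subgroup Q)) S = J n S :=
  J_top_map_subtype n S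

omit [Finite G] in
theorem induced_Z (S : Subgroup G) : inducedFunctor (fun Q _ => H6J.Z (⊤ : Subgroup Q)) S = H6J.Z S := by
  rw [inducedFunctor, ← Z_map S.subtype_injective, map_subtype_top]

end CA.S4F
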