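import Cfsg.Agent.Lib.Lin.AutFld
import Cfsg.Agent.Lib.Grp.Core
import Cfsg.Prelude.Def_Transfer

/-! Automorphism groups of special 2-groups coordinatised by a finite field. -/

set_option autoImplicit false

namespace CA.AutSp2

open Subgroup Cfsg
open scoped IsMulCommutative

theorem card_hom {A B : Type*} [AddCommGroup A] [AddCommGroup B] [Finite A] [Finite B] {n : ℕ}
    (hA : ∀ a : A, a + a = 0) (hB : ∀ b : B, b + b = 0) (h : Nat.card A = 2 ^ n) :
    Nat.card (A →+ B) = Nat.card B ^ n := by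
  have : Fact (Nat.Prime 2) := ⟨Nat.prime_two⟩
  let _ : Module (ZMod 2) A := AddCommGroup.zmodModule fun a => by rw [two_nsmul, hA]
  let _ : Module (ZMod 2) B := AddCommGroup.zmodModule fun a => by rw [two_nsmul, hB]
  have h1 : Module.finrank (ZMod 2) A = n := Nat.pow_right_injective (le_refl 2) (by
    simp only [FiniteField.pow_finrank_eq_natCard, h])
  rw [Nat.card_congr (AddMonoidHom.toZModLinearMapEquiv 2).toEquiv,
    ← Nat.card_congr ((Module.finBasis (ZMod 2) A).constr ℕ).toEquiv, Nat.card_fun, Nat.card_fin, h1]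

/-- coordinates on the central quotient -/
structure Dat (S F : Type*) [Group S] [Field F] where
  π : S → F
  mul : ∀ x y, π (x * y) = π x + π y
  surj : Function.Surjective π
  cen : ∀ x, x ∈ center S ↔ π x = 0
  sq : ∀ z ∈ center S, ∃ x, x * x = z
  zz : ∀ z ∈ center S, z * z = 1
  real : ∀ (l : Fˣ) (σ : RingAut F), ∃ ψ : MulAut S, ∀ x, π (ψ x) = l * σ (π x)
  key : ∀ φ : MulAut S, ∃ (l : Fˣ) (σ : RingAut F), ∀ x, π (φ x) = l * σ (π x)

variable {S S' F : Type*} [Group S] [Group S'] [Field F]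

/-- transport -/
def Dat.map (D : Dat S F) (e : S' ≃* S) : Dat S' F where
  π x := D.π (e x)
  mul x y := by rw [map_mul, D.mul]
  surj := D.surj.comp e.surjective
  cen x := (MulEquivClass.apply_mem_center_iff e).symm.trans (D.cen _)
  sq z hz := by
    obtain ⟨x, hx⟩ := D.sq _ ((MulEquivClass.apply_mem_center_iff e).2 hz)
    exact ⟨e.symm x, e.injective (by simpa using hx)⟩
  zz z hz := e.injective (by simpa using D.zz _ ((MulEquivClass.apply_mem_center_iff e).2 hz))
  real l σ := by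
    obtain ⟨ψ, h⟩ := D.real l σ
    exact ⟨e.trans (ψ.trans e.symm), fun x => by simpa using h (e x)⟩
  key φ := by
    obtain ⟨l, σ, h⟩ := D.key (e.symm.trans (φ.trans e))
    exact ⟨l, σ, fun x => by simpa using h (e x)⟩

namespace Dat
variable (D : Dat S F)

theorem one : D.π 1 = 0 := (D.cen 1).1 (one_mem _)

theorem inv (x : S) : D.π x⁻¹ = -D.π x := eq_neg_of_add_eq_zero_left (by rw [← D.mul, inv_mul_cancel, D.one])

theorem cen' {x y : S} : x⁻¹ * y ∈ center S ↔ D.π y = D.π x := by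
  rw [D.cen, D.mul, D.inv, neg_add_eq_zero, eq_comm]

/-- central automorphisms -/
def K : Subgroup (MulAut S) where
  carrier := {φ | ∀ x, D.π (φ x) = D.π x}
  mul_mem' := fun {φ ψ} h h' x => by rw [MulAut.mul_apply, h, h']
  one_mem' := fun _ => rfl
  inv_mem' := fun {φ} h x => by rw [← h, MulAut.apply_inv_self]

theorem fixZ {φ : MulAut S} (h : φ ∈ D.K) {z : S} (hz : z ∈ center S) : φ z = z := by
  obtain ⟨x, rfl⟩ := D.sq z hz
  have h1 := D.cen'.2 (h x)
  calc _ = x * (x⁻¹ * φ x * x) * (x⁻¹ * φ x) := by rw [map_mul]; group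
    _ = x * x * (x⁻¹ * φ x * (x⁻¹ * φ x)) := by rw [← mem_center_iff.1 h1 x]; group
    _ = _ := by rw [D.zz _ h1, mul_one]

theorem app {φ ψ : MulAut S} (h : φ ∈ D.K) (h' : ψ ∈ D.K) (x : S) : φ (ψ x) = x * (x⁻¹ * φ x) * (x⁻¹ * ψ x) := by
  rw [← D.fixZ h (D.cen'.2 (h' x)), mul_inv_cancel_left, ← map_mul, mul_inv_cancel_left]

theorem elem : IsElementaryAbelian 2 D.K := by
  refine ⟨⟨⟨fun φ ψ => Subtype.ext (MulEquiv.ext fun x => ?_)⟩⟩, fun φ h => MulEquiv.ext fun x => ?_⟩
  · change φ.1 (ψ.1 x) = ψ.1 (φ.1 x)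
    rw [D.app φ.2 ψ.2, D.app ψ.2 φ.2, mul_assoc x, mul_assoc x, mem_center_iff.1 (D.cen'.2 (φ.2 x))]
  · rw [_root_.sq, MulAut.mul_apply, D.app h h, mul_assoc, D.zz _ (D.cen'.2 (h x)), mul_one, MulAut.one_apply]

theorem card_K [Finite S] [CharP F 2] {n : ℕ} (hF : Nat.card F = 2 ^ n) : Nat.card D.K = Nat.card (center S) ^ n := by
  have : Finite F := Finite.of_surjective _ D.surj
  rw [← Nat.card_congr (Additive.toMul (α := center S)), ← card_hom (B := Additive (center S)) CharTwo.add_self_eq_zero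
    (fun b => Subtype.ext (D.zz _ b.toMul.2)) hF]
  have h0 : ∀ (f : F →+ Additive (center S)) x, D.π (x * (f (D.π x)).toMul) = D.π x := fun f x => by
    rw [D.mul, (D.cen _).1 (f (D.π x)).toMul.2, add_zero]
  symm
  refine Nat.card_eq_of_bijective (fun f => ⟨MulEquiv.mk (Function.Involutive.toPerm (fun x => x * (f (D.π x)).toMul)
    fun x => by simp only [h0]; rw [mul_assoc, D.zz _ (f (D.π x)).toMul.2, mul_one]) fun x y => ?_, h0 f⟩) ⟨?_, ?_⟩
  · change x * y * _ = x * _ * (y * _)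
    rw [D.mul, map_add, toMul_add, coe_mul, mul_assoc x, mul_assoc x, ← mul_assoc y, ← mul_assoc _ y,
      mem_center_iff.1 (f (D.π x)).toMul.2 y]
  · intro f g e
    ext a
    obtain ⟨x, rfl⟩ := D.surj a
    exact mul_left_cancel (congrArg (fun φ : D.K => φ.1 x) e)
  · rintro ⟨φ, h⟩
    have h1 : ∀ x y, D.π x = D.π y → x⁻¹ * φ x = y⁻¹ * φ y := fun x y e => by
      have h2 := D.cen'.2 e
      rw [← mul_inv_cancel_left y x, map_mul, D.fixZ h h2, mem_center_iff.1 h2, mem_center_iff.1 h2 (φ y)]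
      group
    choose s hs using D.surj
    refine ⟨AddMonoidHom.mk' (fun a => Additive.ofMul ⟨(s a)⁻¹ * φ (s a), D.cen'.2 (h _)⟩) fun a b => Subtype.ext ?_,
      Subtype.ext (MulEquiv.ext fun x => ?_)⟩
    · change (s (a + b))⁻¹ * φ (s (a + b)) = (s a)⁻¹ * φ (s a) * ((s b)⁻¹ * φ (s b))
      rw [h1 (s (a + b)) (s a * s b) (by rw [D.mul, hs, hs, hs]), map_mul, ← mul_assoc _ (s b)⁻¹,
        ← mem_center_iff.1 (D.cen'.2 (h (s a)))]
      group
    · change x * ((s _)⁻¹ * φ (s _)) = φ x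
      rw [h1 _ x (hs _), mul_inv_cancel_left]

theorem card_aut [Finite S] : Nat.card (MulAut S) = Nat.card D.K * (Nat.card (RingAut F) * Nat.card Fˣ) := by
  choose Ψ h using D.real
  rw [← Nat.card_prod, ← Nat.card_prod]
  symm
  refine Nat.card_eq_of_bijective (fun p => p.1.1 * Ψ p.2.2 p.2.1) ⟨?_, fun φ => ?_⟩
  · rintro ⟨κ, σ, l⟩ ⟨κ', σ', l'⟩ e
    have h1 : ∀ a, l * σ a = l' * σ' a := fun a => by
      obtain ⟨x, rfl⟩ := D.surj a
      have := congrArg (fun φ : MulAut S => D.π (φ x)) e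
      simp only [MulAut.mul_apply] at this
      rwa [κ.2, κ'.2, h, h] at this
    obtain rfl : l = l' := Units.ext (by simpa using h1 1)
    obtain rfl : σ = σ' := RingEquiv.ext fun a => mul_left_cancel₀ l.ne_zero (h1 a)
    exact Prod.ext (Subtype.ext (mul_right_cancel e)) rfl
  · obtain ⟨l, σ, h1⟩ := D.key φ
    refine ⟨(⟨φ * (Ψ l σ)⁻¹, fun x => ?_⟩, σ, l), inv_mul_cancel_right _ _⟩
    rw [MulAut.mul_apply, h1, ← h, MulAut.apply_inv_self]

theorem scal [CharP F 2] {c : MulAut S} {t : F} (h : ∀ x, D.π (c x) = t * D.π x) {k : ℕ} (hc : c ^ 2 ^ k = 1) : t = 1 := by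
  have h1 : ∀ n x, D.π ((c ^ n) x) = t ^ n * D.π x := fun n => by
    induction n with
    | zero => simp
    | succ n ih => intro x; rw [pow_succ, MulAut.mul_apply, ih, h, pow_succ, mul_assoc]
  obtain ⟨x, hx⟩ := D.surj 1
  have : Fact (Nat.Prime 2) := ⟨Nat.prime_two⟩
  have := h1 (2 ^ k) x
  rw [hc, MulAut.one_apply, hx, mul_one] at this
  exact sub_eq_zero.1 (pow_eq_zero_iff (pow_pos two_pos k).ne' |>.1 (by rw [sub_pow_char_pow, ← this]; simp))

theorem core [Finite S] [CharP F 2] : pCore 2 (MulAut S) = D.K := by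
  have : Fact (Nat.Prime 2) := ⟨Nat.prime_two⟩
  have hn : D.K.Normal := ⟨fun κ h φ x => by
    obtain ⟨l, σ, h1⟩ := D.key φ
    rw [MulAut.mul_apply, MulAut.mul_apply, h1, h, ← h1, MulAut.apply_inv_self]⟩
  refine le_antisymm (fun φ hφ => ?_) (CA.Core.le_pCore fun φ => ⟨1, Subtype.ext (D.elem.2 φ φ.2)⟩)
  obtain ⟨l, σ, h1⟩ := D.key φ
  have h2 : ∀ c ∈ pCore 2 (MulAut S), ∀ t, (∀ x, D.π (c x) = t * D.π x) → t = 1 := fun c hc t h => by
    obtain ⟨k, hk⟩ := CA.Core.isPGroup_pCore (⟨c, hc⟩ : pCore 2 (MulAut S))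
    exact D.scal h (congrArg Subtype.val hk)
  have h3 : ∀ a, σ a = a := fun a => by
    by_cases a0 : a = 0
    · simp [a0]
    obtain ⟨ψ, h4⟩ := D.real (Units.mk0 a a0) 1
    have := h2 _ (mul_mem hφ ((inferInstance : (pCore 2 (MulAut S)).Normal).conj_mem _ (inv_mem hφ) ψ)) (σ a / a) fun x => by
      obtain ⟨y, rfl⟩ := (ψ * φ).surjective x
      simp only [MulAut.mul_apply, MulAut.inv_apply_self, h1, h4, Units.val_mk0, RingAut.one_apply, map_mul]
      field_simp
    exact (div_eq_one_iff_eq a0).1 this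
  intro x
  rw [h1, h3, h2 φ hφ l fun x => by rw [h1, h3], one_mul]

include D in
theorem main [Finite S] [Fintype F] {n : ℕ} (hF : Fintype.card F = 2 ^ n) :
    IsElementaryAbelian 2 (pCore 2 (MulAut S)) ∧ Nat.card (pCore 2 (MulAut S)) = Nat.card (center S) ^ n ∧
      Nat.card (MulAut S) = Nat.card (center S) ^ n * (n * (2 ^ n - 1)) := by
  have : Fact (Nat.Prime 2) := ⟨Nat.prime_two⟩
  have : CharP F 2 := charP_of_card_eq_prime_pow hF
  have h : Nat.card F = 2 ^ n := by rw [Nat.card_eq_fintype_card, hF]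
  rw [D.core, D.card_aut, D.card_K h, CA.AutFld.card_ringAut hF, Nat.card_units, h]
  exact ⟨D.elem, rfl, rfl⟩

end Dat

/-- the induced additive map on the quotient -/
theorem exists_ind (π : S → F) (mul : ∀ x y, π (x * y) = π x + π y) (surj : Function.Surjective π)
    (cen : ∀ x, x ∈ center S ↔ π x = 0) (φ : MulAut S) :
    ∃ g : F →+ F, Function.Injective g ∧ ∀ x, g (π x) = π (φ x) := by
  have inv : ∀ x, π x⁻¹ = -π x := fun x =>
    eq_neg_of_add_eq_zero_left (by rw [← mul, inv_mul_cancel, (cen 1).1 (one_mem _)])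
  have h1 : ∀ x y, π x = π y ↔ π (φ x) = π (φ y) := fun x y => by
    rw [← neg_add_eq_zero, ← inv, ← mul, ← cen, ← neg_add_eq_zero, ← inv, ← mul, ← cen, ← map_inv, ← map_mul]
    exact (MulEquivClass.apply_mem_center_iff φ).symm
  choose s hs using surj
  exact ⟨AddMonoidHom.mk' (fun a => π (φ (s a))) fun a b => by
      rw [← mul, ← map_mul]; exact (h1 _ _).1 (by rw [mul, hs, hs, hs]),
    fun a b e => by rw [← hs a, ← hs b]; exact (h1 _ _).2 e, fun x => (h1 _ _).1 (hs _)⟩

theorem herm_key [CharP F 2] (s : F →+* F) (hs : ∀ a, s (s a) = a) {ω : F} (hω : ω + s ω = 1) (g : F →+ F) (h : F → F)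
    (hadd : ∀ c d, s c = c → s d = d → h (c + d) = h c + h d) (hN : ∀ a, h (a * s a) = g a * s (g a)) (h1 : g 1 = 1)
    (x y : F) : g (x * y) = g x * g y := by
  have two : (2 : F) = 0 := CharTwo.two_eq_zero
  have hB : ∀ a b, h (a * s b + s a * b) = g a * s (g b) + s (g a) * g b := fun a b => by
    have := hN (a + b)
    rw [show (a + b) * s (a + b) = a * s a + (b * s b + (a * s b + s a * b)) by rw [map_add]; ring,
      hadd _ _ (by simp [hs, mul_comm]) (by simp [hs, mul_comm, add_comm]),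
      hadd _ _ (by simp [hs, mul_comm]) (by simp [hs, mul_comm, add_comm]), hN, hN, map_add, map_add] at this
    linear_combination this
  have h0 : h 0 = 0 := by simpa using hN 0
  have h11 : h 1 = 1 := by simpa [h1] using hN 1
  have hf : ∀ c, s c = c → s (g c) = g c := fun c hc => by
    have := hB 1 c
    rw [hc, map_one, one_mul, CharTwo.add_self_eq_zero, h0, h1, map_one] at this
    linear_combination -this - g c * two
  have hω' : g ω + s (g ω) = 1 := by
    have := hB 1 ω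
    rw [map_one, one_mul, one_mul, add_comm, hω, h11, h1, map_one] at this
    linear_combination -this
  have h2 : ∀ c d, s c = c → s d = d → h (c * d) = g c * (g (d * ω) + s (g (d * ω))) := fun c d hc hd => by
    have := hB c (d * ω)
    rw [hf c hc, hc, map_mul, hd, show c * (d * s ω) + c * (d * ω) = c * d by linear_combination c * d * hω] at this
    linear_combination this
  have h3 : ∀ c, s c = c → h c = g c := fun c hc => by simpa [hω'] using h2 c 1 hc (map_one s)
  have h4 : ∀ d, s d = d → g (d * ω) = g d * g ω := fun d hd => by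
    have e1 := hB ω (d * ω)
    have e2 := h2 1 d (map_one s) hd
    rw [map_mul, hd, show ω * (d * s ω) + s ω * (d * ω) = 0 by linear_combination d * ω * s ω * two, h0] at e1
    rw [one_mul, h1, one_mul, h3 d hd] at e2
    linear_combination -g ω * e2 + e1 - g (d * ω) * hω' + s (g ω) * g (d * ω) * two
  have h5 : ∀ c d, s c = c → s d = d → g (c * d) = g c * g d := fun c d hc hd => by
    rw [← h3 _ (by rw [map_mul, hc, hd]), h2 c d hc hd, h4 d hd, map_mul, hf d hd, ← mul_add, hω', mul_one]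
  have h6 : ∀ x, ∃ c d, s c = c ∧ s d = d ∧ x = c + d * ω := fun x =>
    ⟨x + (x + s x) * ω, x + s x, by
      simp only [map_add, map_mul, hs]
      linear_combination (x + s x) * hω + (s x - (x + s x) * ω) * two, by rw [map_add, hs, add_comm],
      by linear_combination -(x + s x) * ω * two⟩
  obtain ⟨c, d, hc, hd, rfl⟩ := h6 x
  obtain ⟨c', d', hc', hd', rfl⟩ := h6 y
  have hn : s (ω * s ω) = ω * s ω := by rw [map_mul, hs, mul_comm]
  rw [show (c + d * ω) * (c' + d' * ω) = (c * c' + d * d' * (ω * s ω)) + (c * d' + d * c' + d * d') * ω by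
      linear_combination d * d' * ω * hω - d * d' * ω * s ω * two, map_add, map_add, h4 _ (by simp [hc, hd, hc', hd']),
    h5 _ _ hc hc', h5 _ _ (by simp [hd, hd']) hn, h5 _ _ hd hd', map_add, map_add, h5 _ _ hc hd', h5 _ _ hd hc', h5 _ _ hd hd',
    ← h3 _ hn, hN, map_add, map_add, h4 d hd, h4 d' hd']
  linear_combination -g d * g d' * g ω * hω' + g d * g d' * g ω * s (g ω) * two

theorem ded [Fintype (RingAut F)] {c : RingAut F → F} (h : ∀ x, ∑ σ, c σ * σ x = 0) (σ : RingAut F) : c σ = 0 := by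
  have := (linearIndependent_monoidHom F F).comp (fun σ : RingAut F => (σ : F →* F))
    fun σ τ e => RingEquiv.ext fun x => DFunLike.congr_fun e x
  exact Fintype.linearIndependent_iff.1 this c (funext fun x => by simpa using h x) σ

theorem exists_coef [Fintype F] [Fintype (RingAut F)] [CharP F 2] (g : F →+ F) : ∃ c : RingAut F → F, ∀ x, g x = ∑ σ, c σ * σ x := by
  have : Fact (Nat.Prime 2) := ⟨Nat.prime_two⟩
  obtain ⟨n, -, hn⟩ := FiniteField.card F 2
  let Φ : (RingAut F → F) → F →+ F := fun c => AddMonoidHom.mk' (fun x => ∑ σ, c σ * σ x) fun x y => by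
    simp [mul_add, Finset.sum_add_distrib]
  have : Finite (F →+ F) := DFunLike.finite _
  obtain ⟨c, rfl⟩ := ((Nat.bijective_iff_injective_and_card Φ).2 ⟨fun c d e => funext fun σ => sub_eq_zero.1
    (ded (c := c - d) (fun x => by
      have : ∑ σ, c σ * σ x = ∑ σ, d σ * σ x := DFunLike.congr_fun e x
      simp [sub_mul, Finset.sum_sub_distrib, this]) σ), by
    rw [card_hom CharTwo.add_self_eq_zero CharTwo.add_self_eq_zero (by rw [Nat.card_eq_fintype_card, hn]), Nat.card_fun,
      CA.AutFld.card_ringAut hn]⟩).2 g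
  exact ⟨c, fun _ => rfl⟩

theorem quad [Finite F] [Fintype (RingAut F)] [CharP F 2] {M : RingAut F → RingAut F → F}
    (h : ∀ x, ∑ σ, ∑ τ, M σ τ * (σ x * τ x) = 0) : (∀ σ τ, M σ τ = M τ σ) ∧ ∀ σ, M σ σ = 0 := by
  classical
  have h1 : ∀ σ τ, M σ τ = M τ σ := fun σ τ => by
    have := ded (c := fun τ => M σ τ + M τ σ) (fun y => ded (c := fun σ => ∑ τ, (M σ τ + M τ σ) * τ y) (fun x => ?_) σ) τ
    · exact CharTwo.add_eq_zero.1 this
    have e := h (x + y)
    simp only [map_add, mul_add, add_mul, Finset.sum_add_distrib, h, zero_add, add_zero] at e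
    simp only [add_mul, Finset.sum_add_distrib, Finset.sum_mul]
    rw [Finset.sum_comm (f := fun σ τ => M τ σ * τ y * σ x), ← e, add_comm]
    congr 1 <;> refine Finset.sum_congr rfl fun _ _ => Finset.sum_congr rfl fun _ _ => by ring
  refine ⟨h1, ded fun x => ?_⟩
  have : Fact (Nat.Prime 2) := ⟨Nat.prime_two⟩
  obtain ⟨y, rfl⟩ := surjective_frobenius F 2 x
  have e := h y
  rw [← Finset.sum_product', ← Finset.diag_union_offDiag, Finset.sum_union (Finset.disjoint_diag_offDiag _),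
    Finset.sum_diag, Finset.sum_involution (fun p _ => p.swap) (fun p _ => by
      simp only [Prod.fst_swap, Prod.snd_swap]; rw [h1 p.2, mul_comm (p.2 y), CharTwo.add_self_eq_zero])
      (fun p hp _ e => (Finset.mem_offDiag.1 hp).2.2 (congrArg Prod.snd e)) (fun p hp => by
        simpa [eq_comm] using hp) (fun _ _ => rfl), add_zero] at e
  simpa [frobenius_def, _root_.sq] using e

theorem sz_key [Fintype F] [CharP F 2] (θ : RingAut F) (h4 : θ ^ 4 ≠ 1) (g h : F →+ F) (hg : g 1 ≠ 0)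
    (hN : ∀ a, h (θ a * a) = θ (g a) * g a) : ∃ (l : Fˣ) (σ : RingAut F), ∀ x, g x = l * σ x := by
  classical
  have := Fintype.ofFinite (RingAut F)
  obtain ⟨c, hc⟩ := exists_coef g
  obtain ⟨d, hd⟩ := exists_coef h
  obtain ⟨h1, h2⟩ := quad (M := fun σ τ => c σ * θ (c (θ⁻¹ * τ)) + if τ = θ * σ then d σ else 0) fun x => by
    have e := hN x
    rw [hd, mul_comm (θ (g x)), hc, map_sum, Finset.sum_mul_sum] at e
    simp only [add_mul, Finset.sum_add_distrib, ite_mul, zero_mul, Finset.sum_ite_eq', Finset.mem_univ, if_true]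
    rw [CharTwo.add_eq_zero]
    refine Eq.trans (Finset.sum_congr rfl fun σ _ => ?_) (e.symm.trans (Finset.sum_congr rfl fun σ _ => ?_))
    · rw [← Equiv.sum_comp (Equiv.mulLeft θ)]
      refine Finset.sum_congr rfl fun τ _ => ?_
      simp only [Equiv.coe_mulLeft, inv_mul_cancel_left, RingAut.mul_apply, map_mul]
      ring
    · rw [map_mul, CA.AutFld.ringAut_comm θ, RingAut.mul_apply, mul_comm (σ x)]
  have h3 : θ ≠ 1 := fun e => h4 (by rw [e, one_pow])
  have h5 : ∀ σ τ, c σ ≠ 0 → c τ ≠ 0 → σ ≠ τ → σ = θ * (θ * τ) := fun σ τ a b ne => by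
    have e1 := h2 σ
    have e2 := h1 σ (θ * τ)
    rw [if_neg (fun e => h3 (by simpa using e)), add_zero, mul_eq_zero, or_iff_right a] at e1
    simp only [inv_mul_cancel_left, mul_right_inj, ne.symm, if_false, add_zero, e1, mul_zero, zero_add] at e2
    by_contra h
    rw [if_neg h] at e2
    exact mul_ne_zero a ((map_ne_zero θ).2 b) e2
  obtain ⟨σ, hσ⟩ : ∃ σ, c σ ≠ 0 := by
    by_contra h
    push Not at h
    exact hg (by simp [hc, h])
  refine ⟨Units.mk0 _ hσ, σ, fun x => ?_⟩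
  rw [hc, Finset.sum_eq_single σ (fun τ _ ne => ?_) (by simp), Units.val_mk0]
  by_contra h
  have e1 := h5 τ σ (left_ne_zero_of_mul h) hσ ne
  have e2 := h5 σ τ hσ (left_ne_zero_of_mul h) ne.symm
  rw [e1] at e2
  exact h4 (mul_right_cancel (b := σ) (by rw [one_mul]; nth_rewrite 2 [e2]; simp [pow_succ, mul_assoc]))

end CA.AutSp2
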