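import Cfsg.Agent.Lib.Grp.AutSp2
import Cfsg.Agent.Lib.Lin.SU3
import Cfsg.Agent.Lib.Lie.SzModel

/-! Automorphisms of the Sylow 2-subgroups of `SU₃(2 ^ n)` and `Sz(2 ^ n)`. -/

set_option autoImplicit false

namespace CA.AutSp2

open Subgroup Cfsg

section su
open CA.SU3 CA.CForm
variable {F : Type*} [Field F] [Fintype F] [CharP F 2] {q : ℕ} {hF : Fintype.card F = q ^ 2}

theorem hs_surj : Function.Surjective (Hs.a : Hs hF → F) := fun a => by
  obtain ⟨t, ht⟩ := Kind.exists_trace_eq _ (conj_conj hF) (conj_ne_id hF) (-(a * conj hF a)) (by simp [conj_conj, mul_comm])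
  exact ⟨⟨a, t, by linear_combination ht⟩, rfl⟩

theorem sq_a (x : Hs hF) : (x * x).a = 0 := CharTwo.add_self_eq_zero _

theorem sq_b (x : Hs hF) : (x * x).b = x.a * conj hF x.a := by
  rw [mul_b, CharTwo.add_self_eq_zero, zero_sub, CharTwo.neg_eq]

theorem hs_sq {z : Hs hF} (hz : z ∈ center (Hs hF)) : ∃ x, x * x = z := by
  have h := z.h
  rw [mem_center_Hs.1 hz, zero_mul, add_zero, CharTwo.add_eq_zero] at h
  obtain ⟨a, ha⟩ := exists_norm_eq _ (conj_conj hF) (conj_ne_id hF) z.b h.symm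
  obtain ⟨x, rfl⟩ := hs_surj (hF := hF) a
  exact ⟨x, Hs.ext ((sq_a x).trans (mem_center_Hs.1 hz).symm) ((sq_b x).trans ha)⟩

theorem map_conj (σ : RingAut F) (a : F) : σ (conj hF a) = conj hF (σ a) := map_pow σ a q

theorem hs_key (φ : MulAut (Hs hF)) : ∃ (l : Fˣ) (σ : RingAut F), ∀ x, (φ x).a = l * σ x.a := by
  classical
  obtain ⟨g, hg, h⟩ := exists_ind Hs.a mul_a hs_surj (fun _ => mem_center_Hs) φ
  have h0 : g 1 ≠ 0 := fun e => one_ne_zero (hg (e.trans (map_zero g).symm))
  obtain ⟨ω, hω⟩ := Kind.exists_trace_eq _ (conj_conj hF) (conj_ne_id hF) 1 (map_one _)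
  let z : ∀ c, conj hF c = c → Hs hF := fun c hc => ⟨0, c, by rw [hc, zero_mul, add_zero, CharTwo.add_self_eq_zero]⟩
  let g' : F →+ F := (AddMonoidHom.mulLeft (g 1)⁻¹).comp g
  have h1 : g' 1 = 1 := inv_mul_cancel₀ h0
  have := herm_key (conj hF) (conj_conj hF) hω g' (fun c => if hc : conj hF c = c then
    (g 1 * conj hF (g 1))⁻¹ * (φ (z c hc)).b else 0) (fun c d hc hd => by
      have e : z (c + d) (by rw [map_add, hc, hd]) = z c hc * z d hd := Hs.ext (by simp [z]) (by simp [z])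
      have e' : (φ (z c hc)).a = 0 := by rw [← h]; exact map_zero g
      rw [dif_pos hc, dif_pos hd, dif_pos (by rw [map_add, hc, hd]), e, map_mul, mul_b, e', zero_mul, sub_zero, mul_add])
    (fun a => by
      obtain ⟨x, rfl⟩ := hs_surj (hF := hF) a
      have hc : conj hF (x.a * conj hF x.a) = x.a * conj hF x.a := by rw [map_mul, conj_conj, mul_comm]
      rw [dif_pos hc, show z _ hc = x * x from Hs.ext (sq_a x).symm (sq_b x).symm, map_mul, sq_b, ← h]
      change _ = (g 1)⁻¹ * _ * conj hF ((g 1)⁻¹ * _)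
      rw [map_mul, map_inv₀, mul_inv]; ring) h1
  have hi : Function.Injective g' := fun a b e => hg (mul_left_cancel₀ (inv_ne_zero h0) e)
  refine ⟨Units.mk0 _ h0, RingEquiv.ofBijective (RingHom.mk' ⟨⟨g', h1⟩, this⟩ g'.map_add)
    (Finite.injective_iff_bijective.1 hi), fun x => ?_⟩
  rw [← h]
  exact (mul_inv_cancel_left₀ h0 _).symm

/-- the data for the unitary group -/
noncomputable def hsDat : Dat (Hs hF) F where
  π := Hs.a
  mul := mul_a
  surj := hs_surj
  cen _ := mem_center_Hs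
  sq _ := hs_sq
  zz z hz := Hs.ext (sq_a z) (by rw [sq_b, mem_center_Hs.1 hz, zero_mul]; rfl)
  real l σ := by
    let f : Hs hF →* Hs hF := MonoidHom.mk' (fun x => ⟨l * σ x.a, l * conj hF l * σ x.b, by
      have := congrArg σ x.h
      simp only [map_add, map_mul, map_conj, map_zero, conj_conj] at this ⊢
      linear_combination l * conj hF l * this⟩) fun x y => Hs.ext (by simp [mul_add]) (by
        simp only [mul_b, map_sub, map_add, map_mul, map_conj]; ring)
    refine ⟨MulEquiv.ofBijective f (Finite.injective_iff_bijective.1 fun x y e => Hs.ext ?_ ?_), fun _ => rfl⟩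
    · exact σ.injective (mul_left_cancel₀ l.ne_zero (congrArg Hs.a e))
    · exact σ.injective (mul_left_cancel₀ (mul_ne_zero l.ne_zero (conj_ne l)) (congrArg Hs.b e))
  key := hs_key

theorem inv_fix (φ : MulAut (Hs hF)) (h : ∀ x, (φ (φ x)).a = x.a) {z : Hs hF} (hz : z ∈ center (Hs hF)) : φ z = z := by
  classical
  obtain ⟨l, σ, h1⟩ := hs_key φ
  have h2 : ∀ a, l * σ (l * σ a) = a := fun a => by
    obtain ⟨x, rfl⟩ := hs_surj (hF := hF) a
    rw [← h1, ← h1, h]
  have h3 : l * σ l = 1 := by simpa using h2 1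
  have h4 : σ * σ = 1 := RingEquiv.ext fun a => by
    have := h2 a
    rwa [map_mul, ← mul_assoc, h3, one_mul] at this
  obtain ⟨x, rfl⟩ := hs_sq hz
  rw [map_mul]
  refine Hs.ext ((sq_a _).trans (sq_a _).symm) ?_
  rw [sq_b, sq_b, h1]
  by_cases h5 : σ = 1
  · subst h5
    rw [(mul_self_eq_one_iff.1 h3).elim id fun e => e.trans (CharTwo.neg_eq 1)]; simp
  · let c : RingAut F := RingEquiv.ofBijective (conj hF) (Function.Involutive.bijective (conj_conj hF))
    have h6 : orderOf σ = 2 := orderOf_eq_prime (by rwa [_root_.sq]) h5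
    have h7 : orderOf c = 2 := orderOf_eq_prime (by rw [_root_.sq]; exact RingEquiv.ext (conj_conj hF))
      fun e => conj_ne_id hF (RingHom.ext fun a => DFunLike.congr_fun e a)
    let _ : CommGroup (RingAut F) := IsCyclic.commGroup
    have h8 := CA.AutFld.eq_of_card_eq (H := zpowers σ) (K := zpowers c) (by rw [Nat.card_zpowers, Nat.card_zpowers, h6, h7])
    have h9 : σ ∈ zpowers c := h8 ▸ mem_zpowers σ
    rw [mem_zpowers_iff_mem_range_orderOf, h7] at h9
    obtain ⟨i, hi, rfl⟩ := Finset.mem_image.1 h9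
    have := Finset.mem_range.1 hi
    interval_cases i
    · exact (h5 (pow_zero _)).elim
    · rw [pow_one] at h3 ⊢
      change l * conj hF _ * conj hF (l * conj hF _) = _
      change l * conj hF _ = 1 at h3
      rw [map_mul, conj_conj]
      linear_combination x.a * conj hF x.a * h3

omit [CharP F 2] in
theorem sylow_SU {n : ℕ} (hF : Fintype.card F = (2 ^ n) ^ 2) (P : Sylow 2 (SU 3 F (2 ^ n))) :
    Nonempty ((P : Subgroup (SU 3 F (2 ^ n))) ≃* Hs hF) := by
  have : Fact (Nat.Prime 2) := ⟨Nat.prime_two⟩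
  obtain ⟨e⟩ := nonempty_equiv hF
  have h1 : CA.SylIn.IsSylowIn 2 ((ι hF).range.map e.symm.toMonoidHom) ((⊤ : Subgroup _).map e.symm.toMonoidHom) :=
    AmbSyl.sylIn_iff.1 ((AmbSyl.sylIn_iff.2 (isSylowIn_range rfl)).map _)
  rw [map_top_of_surjective _ e.symm.surjective, ← MonoidHom.range_comp] at h1
  obtain ⟨g, -, e'⟩ := (CA.SylIn.isSylowIn_top P).exists_conj_eq h1
  exact ⟨(CA.SylIn.conjEquiv g _).trans ((MulEquiv.subgroupCongr e').trans
    (MonoidHom.ofInjective (e.symm.injective.comp ι_injective)).symm)⟩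

end su

section sz
open CA.SzBasic CA.SzGroup
variable {F : Type*} [Field F] [Fintype F] {m : ℕ} [hy : Hyp F m]

/-- first coordinate -/
def pa (u : U F) : F := mat u.1 0 1

theorem pa_T {u : U F} {a b : F} (h : u.1 = T a b) : pa u = a := by rw [pa, h, mat_T]; rfl

theorem pa_mul (u v : U F) : pa (u * v) = pa u + pa v := by
  obtain ⟨a, b, h⟩ := mem_U.1 u.2
  obtain ⟨c, d, h'⟩ := mem_U.1 v.2
  rw [pa_T h, pa_T h', pa_T (by rw [coe_mul, h, h', T_mul])]

theorem pa_surj : Function.Surjective (pa : U F → F) := fun a => ⟨⟨_, T_mem_U a 0⟩, pa_T rfl⟩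

theorem pa_cen (u : U F) : u ∈ center (U F) ↔ pa u = 0 := by
  obtain ⟨a, b, h⟩ := mem_U.1 u.2
  rw [mem_center_U, pa_T h, h, mem_Z]
  exact ⟨fun ⟨c, e⟩ => (T_inj.1 e).1, fun e => ⟨b, by rw [e]⟩⟩

theorem u_sq (u : U F) : (u * u).1 = T 0 (th F (pa u) * pa u) := by
  obtain ⟨a, b, h⟩ := mem_U.1 u.2
  rw [pa_T h, coe_mul, h, T_sq]

theorem nrm_surj (b : F) : ∃ a, th F a * a = b := by
  refine (Finite.injective_iff_surjective (f := fun a => th F a * a)).1 (fun a c e => ?_) b
  by_cases c0 : c = 0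
  · subst c0; exact mul_th_eq_zero (by simpa using e)
  · refine (div_eq_one_iff_eq c0).1 (eq_one_of_mul_th ?_)
    have : th F c ≠ 0 := (map_ne_zero _).2 c0
    rw [map_div₀]; field_simp; linear_combination e

theorem sz_aut (φ : MulAut (U F)) : ∃ (l : Fˣ) (σ : RingAut F), ∀ x, pa (φ x) = l * σ (pa x) := by
  classical
  obtain ⟨g, hg, h⟩ := exists_ind pa pa_mul pa_surj pa_cen φ
  have h1 : ∀ c : F, ∃ d, (φ ⟨_, T_mem_U 0 c⟩).1 = T 0 d := fun c =>
    mem_Z.1 (mem_center_U.1 ((MulEquivClass.apply_mem_center_iff φ).2 (mem_center_U.2 (T_mem_Z c))))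
  choose k hk using h1
  let θ : RingAut F := RingEquiv.ofBijective (th F) ⟨th_injective, th_surjective⟩
  obtain ⟨l, σ, e⟩ := sz_key θ (fun e => by
      have h2 : ∀ x : F, x ^ 4 = x := fun x => by
        have : θ (θ (θ (θ x))) = x := by simpa [pow_succ] using DFunLike.congr_fun e x
        change th F (th F (th F (th F x))) = x at this
        rwa [th_th, th_th, ← pow_mul] at this
      have := FiniteField.card_image_polynomial_eval (R := F) (p := Polynomial.X ^ 4 - Polynomial.X) (by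
        rw [Polynomial.degree_sub_eq_left_of_degree_lt] <;> simp [Polynomial.degree_X_pow])
      rw [FiniteField.X_pow_card_sub_X_natDegree_eq _ (by norm_num), Finset.image_congr (g := fun _ => 0)
        (fun x _ => by simp [h2]), Finset.image_const Finset.univ_nonempty, Finset.card_singleton] at this
      have := eight_le_card (F := F)
      omega) g
    (AddMonoidHom.mk' k fun c d => (T_inj.1 (by
      rw [← hk, show (⟨_, T_mem_U 0 (c + d)⟩ : U F) = ⟨_, T_mem_U 0 c⟩ * ⟨_, T_mem_U 0 d⟩ from Subtype.ext (by simp [T_mul]),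
        map_mul, coe_mul, hk, hk, T_mul]; simp : T 0 (k (c + d)) = T 0 (k c + k d))).2)
    (fun e => one_ne_zero (hg (e.trans (map_zero g).symm))) fun a => by
      obtain ⟨x, rfl⟩ := pa_surj a
      refine (T_inj.1 (?_ : T 0 (k _) = T 0 _)).2
      rw [← hk, h]
      exact (congrArg (fun u => (φ u).1) (Subtype.ext (u_sq x).symm)).trans (by rw [map_mul, u_sq]; rfl)
  exact ⟨l, σ, fun x => by rw [← h, e]⟩

/-- the data for the Suzuki group -/
noncomputable def szDat : Dat (U F) F where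
  π := pa
  mul := pa_mul
  surj := pa_surj
  cen := pa_cen
  sq z hz := by
    obtain ⟨b, hb⟩ := mem_Z.1 (mem_center_U.1 hz)
    obtain ⟨a, rfl⟩ := nrm_surj b
    exact ⟨⟨_, T_mem_U a 0⟩, Subtype.ext ((T_sq a 0).trans hb.symm)⟩
  zz z hz := Subtype.ext ((sq_eq_one_iff z.2).2 (mem_center_U.1 hz))
  real l σ := by
    have h1 : ∀ u : U F, ∃ b, u.1 = T (pa u) b := fun u => by
      obtain ⟨a, b, h⟩ := mem_U.1 u.2
      exact ⟨b, by rw [pa_T h, h]⟩
    choose pb hb using h1
    have h2 : ∀ a, σ (th F a) = th F (σ a) := fun a => by rw [th_apply, th_apply, map_pow]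
    let f : U F →* U F := MonoidHom.mk' (fun x => ⟨_, T_mem_U (l * σ (pa x)) (th F l * l * σ (pb x))⟩) fun x y => by
      have := (hb (x * y)).symm
      rw [coe_mul, hb x, hb y, T_mul, T_inj] at this
      refine Subtype.ext ?_
      rw [coe_mul, T_mul, T_inj, this.2, pa_mul]
      simp only [map_add, map_mul, h2]
      constructor <;> ring
    refine ⟨MulEquiv.ofBijective f (Finite.injective_iff_bijective.1 fun x y e => ?_), fun _ => pa_T rfl⟩
    have := T_inj.1 (congrArg Subtype.val e)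
    exact Subtype.ext (by rw [hb x, hb y, σ.injective (mul_left_cancel₀ l.ne_zero this.1),
      σ.injective (mul_left_cancel₀ (mul_ne_zero ((map_ne_zero _).2 l.ne_zero) l.ne_zero) this.2)])
  key := sz_aut

end sz

end CA.AutSp2
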