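import Cfsg.Agent.Lib.Grp.Fus2
import Cfsg.Agent.Lib.Grp.H13ZRed

/-!
Isolated involutions: conjugacy inside subgroups, the set of odd-order elements inverted by the
involution, counting.
-/

set_option autoImplicit false

namespace CA.Iso2

open Subgroup Cfsg CA.SylIn CA.PRes CA.H13Inv CA.H13ZRed

variable {G : Type*} [Group G]

theorem oddIso [Finite G] {z : G} (hz : IsIsolatedInvolution z) : OddIso z :=
  oddIso_of_isolated (mul_self hz.1) hz.2

theorem conj_mul_self {z : G} (hz : z * z = 1) (g : G) : (g * z * g⁻¹) * (g * z * g⁻¹) = 1 := by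
  calc _ = g * (z * z) * g⁻¹ := by group
    _ = 1 := by rw [hz]; group

theorem eq_of_sq_eq {a b : G} (ha : Odd (orderOf a)) (hb : Odd (orderOf b)) (h : a ^ 2 = b ^ 2) :
    a = b := by
  obtain ⟨k, hk⟩ := ha.mul hb
  have h1 : a ^ (2 * k + 1) = 1 := orderOf_dvd_iff_pow_eq_one.1 (hk ▸ dvd_mul_right _ _)
  have h2 : b ^ (2 * k + 1) = 1 := orderOf_dvd_iff_pow_eq_one.1 (hk ▸ dvd_mul_left _ _)
  rw [pow_succ, pow_mul] at h1 h2
  rw [h, ← h2] at h1
  exact mul_left_cancel h1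

theorem exists_sq_eq {u : G} (hu : Odd (orderOf u)) : ∃ k : ℕ, (u ^ k) ^ 2 = u := by
  obtain ⟨m, hm⟩ := hu
  refine ⟨m + 1, ?_⟩
  rw [← pow_mul, show (m + 1) * 2 = orderOf u + 1 by omega, pow_succ, pow_orderOf_eq_one, one_mul]

theorem odd_orderOf_of_mem_zpowers {u v : G} (hu : Odd (orderOf u)) (hv : v ∈ zpowers u) :
    Odd (orderOf v) := hu.of_dvd_nat (orderOf_dvd_of_mem_zpowers hv)

theorem inv_of_mem_zpowers {u v s : G} (h : s * u * s⁻¹ = u⁻¹) (hv : v ∈ zpowers u) :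
    s * v * s⁻¹ = v⁻¹ := by
  obtain ⟨k, rfl⟩ := hv
  simp only
  rw [← conj_zpow, h, inv_zpow]

theorem conj_eq_sq_mul {z k : G} (h : z * k * z⁻¹ = k⁻¹) : k * z * k⁻¹ = k ^ 2 * z := by
  calc k * z * k⁻¹ = k * (z * k * z⁻¹)⁻¹ * z := by group
    _ = _ := by rw [h]; simp [sq]

/-- An element of `⟨z · z^g⟩` conjugates `z` to `z^g`. -/
theorem exists_conj {z : G} (h : OddIso z) (hz : z * z = 1) (g : G) :
    ∃ k ∈ zpowers (z * (g * z * g⁻¹)), k * z * k⁻¹ = g * z * g⁻¹ := by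
  obtain ⟨k, hk⟩ := exists_conj_of_odd hz (conj_mul_self hz g) (h g)
  exact ⟨_, ⟨k, rfl⟩, hk⟩

theorem exists_conj_mem {z : G} (h : OddIso z) (hz : z * z = 1) {H : Subgroup G} {g : G}
    (hg : z * (g * z * g⁻¹) ∈ H) : ∃ k ∈ H, k * z * k⁻¹ = g * z * g⁻¹ := by
  obtain ⟨k, hk, e⟩ := exists_conj h hz g
  exact ⟨k, zpowers_le.2 hg hk, e⟩

theorem mem_centralizer_of_conj_eq {z k g : G} (h : k * z * k⁻¹ = g * z * g⁻¹) :
    k⁻¹ * g ∈ centralizer ({z} : Set G) := by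
  rw [mem_centralizer_singleton_iff]
  calc k⁻¹ * g * z = k⁻¹ * (g * z * g⁻¹) * g := by group
    _ = _ := by rw [← h]; group

theorem conj_eq_of_mem_centralizer {z k g : G} (h : k⁻¹ * g ∈ centralizer ({z} : Set G)) :
    k * z * k⁻¹ = g * z * g⁻¹ := by
  rw [mem_centralizer_singleton_iff] at h
  calc k * z * k⁻¹ = k * (z * (k⁻¹ * g)) * g⁻¹ := by group
    _ = _ := by rw [← h]; group

/-- If `[g, z] ∈ H` then `g ∈ H C(z)`. -/
theorem exists_mul_centralizer {z : G} (h : OddIso z) (hz : z * z = 1) {H : Subgroup G} {g : G}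
    (hg : z * (g * z * g⁻¹) ∈ H) : ∃ k ∈ H, ∃ c ∈ centralizer ({z} : Set G), g = k * c := by
  obtain ⟨k, hk, e⟩ := exists_conj_mem h hz hg
  exact ⟨k, hk, _, mem_centralizer_of_conj_eq e, by group⟩

theorem mul_conj_mem {z : G} (hz : z * z = 1) {H : Subgroup G}
    (hzH : z ∈ normalizer (H : Set G)) {g : G} (hg : g ∈ H) : z * (g * z * g⁻¹) ∈ H := by
  have := mul_mem (conj_mem_of_mem_normalizer hzH hg) (inv_mem hg)
  rwa [inv_eq_of_mul_eq_one_right hz, mul_assoc, mul_assoc, ← mul_assoc g] at this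

theorem exists_inverted {z : G} (h : OddIso z) (hz : z * z = 1) (g : G) :
    ∃ k ∈ zpowers (z * (g * z * g⁻¹)), Odd (orderOf k) ∧ z * k * z⁻¹ = k⁻¹ ∧
      k * z * k⁻¹ = g * z * g⁻¹ := by
  obtain ⟨k, hk, e⟩ := exists_conj h hz g
  exact ⟨k, hk, odd_orderOf_of_mem_zpowers (h g) hk,
    inv_of_mem_zpowers (conj_prod hz (conj_mul_self hz g)) hk, e⟩

theorem eq_of_inverted {z a b : G} (ha : Odd (orderOf a)) (hb : Odd (orderOf b))
    (ha' : z * a * z⁻¹ = a⁻¹) (hb' : z * b * z⁻¹ = b⁻¹) (h : a * z * a⁻¹ = b * z * b⁻¹) : a = b := by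
  rw [conj_eq_sq_mul ha', conj_eq_sq_mul hb'] at h
  exact eq_of_sq_eq ha hb (mul_right_cancel h)

/-- An isolated involution is central in every `2`-subgroup it normalizes. -/
theorem commute_of_isPGroup {z : G} (h : OddIso z) (hz : z * z = 1) {S : Subgroup G}
    (hS : IsPGroup 2 S) (hzS : z ∈ normalizer (S : Set G)) : S ≤ centralizer ({z} : Set G) := by
  intro s hs
  have h1 := eq_one_of_coprime_of_mem hS (mul_conj_mem hz hzS hs) (coprime_two_iff.2 (h s))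
  rw [mem_centralizer_singleton_iff]
  calc s * z = z * (z * (s * z * s⁻¹)) * s := by rw [← mul_assoc z z, hz]; group
    _ = _ := by rw [h1, mul_one]

theorem exists_sylow_le_centralizer [Finite G] {z : G} (h : OddIso z) (hz : z * z = 1) :
    ∃ S : Sylow 2 G, z ∈ (S : Subgroup G) ∧ (S : Subgroup G) ≤ centralizer ({z} : Set G) := by
  obtain ⟨S, hS⟩ := (CA.Fus2.isPGroup_zpowers (p := 2) (x := z) (k := 1) (by simpa [sq])).exists_le_sylow
  exact ⟨S, hS (mem_zpowers z),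
    commute_of_isPGroup h hz S.isPGroup' (le_normalizer (hS (mem_zpowers z)))⟩

/-- The centralizer of an isolated involution controls fusion among its own elements. -/
theorem exists_centralizer_conj {z : G} (h : OddIso z) (hz : z * z = 1) {H : Subgroup G}
    (hzH : z ∈ normalizer (H : Set G)) {A : Set G} {g : G} (hg : g ∈ H)
    (hA : ∀ x ∈ A, Commute x z) (hgA : ∀ x ∈ A, Commute (g * x * g⁻¹) z) :
    ∃ c ∈ H, Commute c z ∧ ∀ x ∈ A, c * x * c⁻¹ = g * x * g⁻¹ := by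
  obtain ⟨k, hk, e⟩ := exists_conj h hz g
  refine ⟨k⁻¹ * g, mul_mem (inv_mem (zpowers_le.2 (mul_conj_mem hz hzH hg) hk)) hg,
    mem_centralizer_singleton_iff.1 (mem_centralizer_of_conj_eq e), fun x hx => ?_⟩
  have h1 : Commute (g * x * g⁻¹) (z * (g * z * g⁻¹)) :=
    (hgA x hx).mul_right ((hA x hx).conj g)
  obtain ⟨j, rfl⟩ := hk
  have h2 := (h1.zpow_right j).eq
  simp only at h2 ⊢
  set k := (z * (g * z * g⁻¹)) ^ j
  calc k⁻¹ * g * x * (k⁻¹ * g)⁻¹ = k⁻¹ * (g * x * g⁻¹ * k) := by group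
    _ = _ := by rw [h2]; group

/-- The cosets of `C_H(z)` in a `z`-invariant subgroup `H` correspond to the odd-order elements
of `H` inverted by `z`. -/
theorem relIndex_centralizer_eq {z : G} (h : OddIso z) (hz : z * z = 1) {H : Subgroup G}
    (hzH : z ∈ normalizer (H : Set G)) : (centralizer ({z} : Set G)).relIndex H =
      Nat.card {k : G // k ∈ H ∧ Odd (orderOf k) ∧ z * k * z⁻¹ = k⁻¹} := by
  symm
  refine Nat.card_eq_of_bijective
    (fun k => ((⟨k.1, k.2.1⟩ : H) : H ⧸ (centralizer ({z} : Set G)).subgroupOf H)) ⟨?_, ?_⟩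
  · intro a b hab
    have := QuotientGroup.eq.1 hab
    exact Subtype.ext (eq_of_inverted a.2.2.1 b.2.2.1 a.2.2.2 b.2.2.2
      (conj_eq_of_mem_centralizer this))
  · intro q
    obtain ⟨g, rfl⟩ := QuotientGroup.mk_surjective q
    obtain ⟨k, hk, h1, h2, h3⟩ := exists_inverted h hz g
    exact ⟨⟨k, zpowers_le.2 (mul_conj_mem hz hzH g.2) hk, h1, h2⟩,
      QuotientGroup.eq.2 (mem_centralizer_of_conj_eq h3)⟩

/-- Counting formula for an involution (or the identity) `s` commuting with `z`. -/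
theorem index_centralizer_eq {z : G} (h : OddIso z) (hz : z * z = 1) {s : G} (hs : s * s = 1)
    (hsz : Commute s z) : (centralizer ({z} : Set G)).index =
      Nat.card {k : G // Odd (orderOf k) ∧ z * k * z⁻¹ = k⁻¹ ∧ Commute k (s * z)} *
      Nat.card {k : G // Odd (orderOf k) ∧ z * k * z⁻¹ = k⁻¹ ∧ Commute k s} := by
  have hsi : s⁻¹ = s := inv_eq_of_mul_eq_one_right hs
  have hzi : z⁻¹ = z := inv_eq_of_mul_eq_one_right hz
  have hinv : ∀ b : G, z * b * z⁻¹ = b⁻¹ → (Commute b (s * z) ↔ s * b * s⁻¹ = b⁻¹) := by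
    intro b hb
    have hb' : z * b⁻¹ * z⁻¹ = b := by rw [← conj_inv, hb, inv_inv]
    constructor
    · intro hc
      have : s * b⁻¹ * s⁻¹ = b := by
        calc s * b⁻¹ * s⁻¹ = (s * z * b) * (s * z)⁻¹ := by rw [← hb]; group
          _ = b := by rw [← hc.eq]; group
      rw [← inv_inj, conj_inv, this, inv_inv]
    · intro hc
      have : s * b⁻¹ * s⁻¹ = b := by rw [← conj_inv, hc, inv_inv]
      change b * (s * z) = s * z * b
      calc b * (s * z) = (s * b⁻¹ * s⁻¹) * (s * z) := by rw [this]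
        _ = s * b⁻¹ * z := by group
        _ = s * z * b := by rw [← hb]; group
  rw [← Nat.card_prod]
  symm
  refine Nat.card_eq_of_bijective
    (fun k => ((k.2.1 * k.1.1 : G) : G ⧸ centralizer ({z} : Set G))) ⟨?_, ?_⟩
  · rintro ⟨⟨b, hb1, hb2, hb3⟩, ⟨a, ha1, ha2, ha3⟩⟩ ⟨⟨b', hb1', hb2', hb3'⟩, ⟨a', ha1', ha2', ha3'⟩⟩ e
    have e1 : a * b * z * (a * b)⁻¹ = a' * b' * z * (a' * b')⁻¹ :=
      conj_eq_of_mem_centralizer (QuotientGroup.eq.1 e)
    have key : ∀ a b : G, z * b * z⁻¹ = b⁻¹ → Commute b (s * z) → Commute a s →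
        (a * b * z * (a * b)⁻¹) * (s * (a * b * z * (a * b)⁻¹) * s⁻¹) = ((a * b * a⁻¹) ^ 2) ^ 2 := by
      intro a b h1 h2 h3
      have h4 := (hinv b h1).1 h2
      have h5 : s * b⁻¹ * s⁻¹ = b := by rw [← conj_inv, h4, inv_inv]
      have h6 : z * b⁻¹ * z⁻¹ = b := by rw [← conj_inv, h1, inv_inv]
      have h7 : s * a * s⁻¹ = a := by rw [← h3.eq]; group
      have h8 : s * a⁻¹ * s⁻¹ = a⁻¹ := by rw [← conj_inv, h7]
      have h9 : s * z * s⁻¹ = z := by rw [hsz.eq]; group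
      calc _ = a * b * z * b⁻¹ * a⁻¹ * ((s * a * s⁻¹) * (s * b * s⁻¹) * (s * z * s⁻¹) *
            (s * b⁻¹ * s⁻¹) * (s * a⁻¹ * s⁻¹)) := by group
        _ = a * b * (z * b⁻¹ * z⁻¹) * (z * b⁻¹ * z⁻¹) * (z * z) * b * a⁻¹ := by
            rw [h7, h4, h9, h5, h8]; group
        _ = _ := by rw [h6, hz]; simp [sq, mul_assoc]
    have e2 := key a b hb2 hb3 ha3
    rw [e1, key a' b' hb2' hb3' ha3'] at e2
    have o1 : Odd (orderOf (a * b * a⁻¹)) := by rwa [orderOf_conj]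
    have o2 : Odd (orderOf (a' * b' * a'⁻¹)) := by rwa [orderOf_conj]
    have e3 := eq_of_sq_eq o2 o1 (eq_of_sq_eq (o2.of_dvd_nat (orderOf_pow_dvd 2))
      (o1.of_dvd_nat (orderOf_pow_dvd 2)) e2)
    have e4 : a = a' := eq_of_inverted ha1 ha1' ha2 ha2' (by
      calc a * z * a⁻¹ = (a * b * a⁻¹)⁻¹ * (a * b * z * (a * b)⁻¹) * (a * b * a⁻¹) := by group
        _ = _ := by rw [e1, ← e3]; group)
    subst e4
    have e5 : b' = b := by simpa using e3
    subst e5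
    rfl
  · intro q
    obtain ⟨g, rfl⟩ := QuotientGroup.mk_surjective q
    set t := g * z * g⁻¹ with ht
    have htt : t * t = 1 := conj_mul_self hz g
    have hti : t⁻¹ = t := inv_eq_of_mul_eq_one_right htt
    set u := t * (s * t * s⁻¹) with hu
    have hzt : IsConj z t := isConj_iff.2 ⟨g, rfl⟩
    have hu1 : Odd (orderOf u) := h.odd_mul hzt (hzt.trans (isConj_iff.2 ⟨s, rfl⟩))
    have hu2 : t * u * t⁻¹ = u⁻¹ := conj_prod htt (conj_mul_self htt s)
    have hu3 : s * u * s⁻¹ = u⁻¹ := by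
      rw [hu, mul_inv_rev, conj_inv, hti]
      calc s * (t * (s * t * s⁻¹)) * s⁻¹ = s * t * s⁻¹ * (s * s) * t * (s * s)⁻¹ := by group
        _ = _ := by rw [hs]; group
    obtain ⟨i, hi⟩ := exists_sq_eq hu1
    obtain ⟨j, hj⟩ := exists_sq_eq (hu1.of_dvd_nat (orderOf_pow_dvd i))
    set v := (u ^ i) ^ j with hv
    have hvu : v ∈ zpowers u := pow_mem (pow_mem (mem_zpowers u) i) j
    have hv4 : v ^ 2 * v ^ 2 = u := by rw [hj, ← sq, hi]
    have hv1 := inv_of_mem_zpowers hu2 hvu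
    have hv2 := inv_of_mem_zpowers hu3 hvu
    have hv1' : t * v⁻¹ * t⁻¹ = v := by rw [← conj_inv, hv1, inv_inv]
    have hv2' : s * v⁻¹ * s⁻¹ = v := by rw [← conj_inv, hv2, inv_inv]
    have h0 : v⁻¹ * t * v = (v ^ 2)⁻¹ * t := by
      calc v⁻¹ * t * v = v⁻¹ * (t * v * t⁻¹) * t := by group
        _ = _ := by rw [hv1]; simp [sq]
    have h1 : s * (v⁻¹ * t * v) * s⁻¹ = v⁻¹ * t * v := by
      have : s * t * s⁻¹ = u⁻¹ * t := by
        rw [← hu2, hu]
        calc s * t * s⁻¹ = (t * t) * (s * t * s⁻¹) := by rw [htt, one_mul]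
          _ = _ := by group
      calc s * (v⁻¹ * t * v) * s⁻¹ = (s * v⁻¹ * s⁻¹) * (s * v⁻¹ * s⁻¹) * (s * t * s⁻¹) := by
            rw [h0]; simp [sq, mul_assoc]
        _ = _ := by rw [hv2', this, h0, ← hv4]; simp [sq, mul_assoc]
    obtain ⟨a, ha, ha1, ha2, ha3⟩ := exists_inverted h hz (v⁻¹ * g)
    have e : v⁻¹ * g * z * (v⁻¹ * g)⁻¹ = v⁻¹ * t * v := by rw [ht]; group
    rw [e] at ha ha3
    have has : Commute a s := by
      obtain ⟨m, rfl⟩ := ha
      refine (Commute.zpow_right (hsz.mul_right ?_) m).symm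
      exact mul_inv_eq_iff_eq_mul.1 h1
    have has' : s * a * s⁻¹ = a := by rw [← has.eq]; group
    have hb : z * (a⁻¹ * v * a) * z⁻¹ = (a⁻¹ * v * a)⁻¹ := by
      calc z * (a⁻¹ * v * a) * z⁻¹ = a⁻¹ * ((a * z * a⁻¹) * v * (a * z * a⁻¹)⁻¹) * a := by group
        _ = a⁻¹ * v⁻¹ * (t * v * t⁻¹) * v * a := by rw [ha3]; group
        _ = _ := by rw [hv1]; group
    refine ⟨⟨⟨a⁻¹ * v * a, ?_, hb, (hinv _ hb).2 ?_⟩, ⟨a, ha1, ha2, has⟩⟩,
      QuotientGroup.eq.2 (mem_centralizer_of_conj_eq ?_)⟩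
    · have := orderOf_conj a⁻¹ v
      rw [inv_inv] at this
      rw [this]
      exact odd_orderOf_of_mem_zpowers hu1 hvu
    · calc s * (a⁻¹ * v * a) * s⁻¹ = (s * a * s⁻¹)⁻¹ * (s * v * s⁻¹) * (s * a * s⁻¹) := by group
        _ = _ := by rw [has', hv2]; group
    · calc a * (a⁻¹ * v * a) * z * (a * (a⁻¹ * v * a))⁻¹ = v * (a * z * a⁻¹) * v⁻¹ := by group
        _ = t := by rw [ha3]; group

/-- Sylow subgroups of a product `L O` with `O` normal. -/
theorem isSylowIn_sup [Finite G] {p : ℕ} [hp : Fact p.Prime] {O L T R : Subgroup G} [O.Normal]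
    (hT : IsSylowIn p T O) (hR : IsSylowIn p R L) (hn : R ≤ normalizer (T : Set G)) :
    IsSylowIn p (R ⊔ T) (L ⊔ O) := by
  refine ⟨sup_le_sup hR.le hT.le, hR.isPGroup.to_sup_of_normal_right' hT.isPGroup hn, ?_⟩
  rw [← relIndex_mul_relIndex (R ⊔ T) (R ⊔ T ⊔ O) (L ⊔ O) le_sup_left
    (sup_le (sup_le_sup hR.le hT.le) le_sup_right), CA.H1Basic.relIndex_sup_normal]
  intro hd
  rcases hp.out.dvd_mul.1 hd with h | h
  · exact hT.not_dvd (h.trans (relIndex_dvd_of_le_left _ le_sup_right))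
  · have e : R ⊔ T ⊔ O = ((R ⊔ T ⊔ O).map (QuotientGroup.mk' O)).comap (QuotientGroup.mk' O) :=
      (comap_map_eq_self ((QuotientGroup.ker_mk' O).le.trans le_sup_right)).symm
    rw [e, relIndex_comap, Subgroup.map_sup L, QuotientGroup.map_mk'_self, sup_bot_eq,
      ← relIndex_comap, ← e] at h
    exact hR.not_dvd (h.trans (relIndex_dvd_of_le_left _ (le_sup_left.trans le_sup_left)))

/-- An involution of `Z*(G)` normalizes a Sylow `p`-subgroup for every prime `p`. -/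
theorem exists_invariant_sylow [Finite G] {z : G} (hz : z * z = 1) (h : InZStar 2 z) (p : ℕ)
    [hp : Fact p.Prime] : ∃ P : Sylow p G, z ∈ normalizer ((P : Subgroup G) : Set G) := by
  have hi := oddIso_of_inZStar hz h
  have hcop : (Nat.card (zpowers z)).Coprime (Nat.card (pPrimeCore 2 G)) := by
    rw [Nat.card_zpowers]
    exact CA.Core.coprime_pPrimeCore.symm.coprime_dvd_left
      (orderOf_dvd_of_pow_eq_one (by rw [sq, hz]))
  obtain ⟨T, hT, hzT⟩ := CA.Coprime2.exists_isSylowIn (A := zpowers z) (K := pPrimeCore 2 G)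
    le_normalizer_of_normal hcop (Or.inl (CA.Coprime2.isSolvable_of_comm _)) p
  have hzT' := hzT (mem_zpowers z)
  obtain ⟨R, hR⟩ := exists_isSylowIn p (centralizer ({z} : Set G) ⊓ normalizer (T : Set G))
  have h1 := isSylowIn_sup hT hR (hR.le.trans inf_le_right)
  have h2 : (centralizer ({z} : Set G) ⊓ normalizer (T : Set G)) ⊔ pPrimeCore 2 G = ⊤ := by
    rw [eq_top_iff]
    intro g _
    obtain ⟨k, hk, n, hn, rfl⟩ := hT.frattini (g := g) (le_normalizer_of_normal (mem_top g))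
    refine mul_mem (mem_sup_right hk) ?_
    obtain ⟨a, ha, c, hc, rfl⟩ := exists_mul_centralizer hi hz
      (H := pPrimeCore 2 G ⊓ normalizer (T : Set G)) (g := n) ⟨by
        have := inv_mem (h n)
        rw [mul_inv_rev, inv_inv, conj_inv, inv_eq_of_mul_eq_one_right hz] at this
        exact this, mul_conj_mem hz (le_normalizer hzT') hn⟩
    have ha2 : a ∈ normalizer (T : Set G) := ha.2
    exact mul_mem (mem_sup_right ha.1) (mem_sup_left ⟨hc, by simpa using mul_mem (inv_mem ha2) hn⟩)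
  rw [h2] at h1
  obtain ⟨P, hP⟩ := h1.exists_sylow_eq
  refine ⟨P, hP ▸ inf_normalizer_le_normalizer_sup R T ⟨centralizer_le_normalizer _ ?_, hzT'⟩⟩
  exact mem_centralizer_iff.2 fun r hr => mem_centralizer_singleton_iff.1 (hR.le hr).1

/-- A maximal `z`-invariant `p`-subgroup is a Sylow subgroup. -/
theorem exists_sylow_eq_of_maximal [Finite G] {z : G} (hz : z * z = 1) (h : InZStar 2 z) {p : ℕ}
    [hp : Fact p.Prime] {Q : Subgroup G} (hQ : IsPGroup p Q) (hzQ : z ∈ normalizer (Q : Set G))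
    (hmax : ∀ R : Subgroup G, IsPGroup p R → z ∈ normalizer (R : Set G) → Q ≤ R → R = Q) :
    ∃ P : Sylow p G, (P : Subgroup G) = Q := by
  obtain ⟨P, hP⟩ := exists_invariant_sylow (G := normalizer (Q : Set G)) (z := ⟨z, hzQ⟩)
    (Subtype.ext hz) (inZStar_subgroup h hzQ) p
  have h1 := isSylowIn_map P
  have h2 := hmax _ h1.isPGroup (mem_normalizer_of_forall (by
      rintro _ ⟨x, hx, rfl⟩
      exact ⟨_, conj_mem_of_mem_normalizer hP hx, rfl⟩))
    (h1.le_of_le_normalizer hQ le_normalizer h1.le)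
  rw [h2] at h1
  obtain ⟨S, hS⟩ := hQ.exists_le_sylow
  refine ⟨S, ?_⟩
  by_contra hne
  have h3 := lt_inf_normalizer S.isPGroup' (lt_of_le_of_ne hS (Ne.symm hne))
  exact h3.ne' (h1.eq_of_le (S.isPGroup'.to_le inf_le_left) h3.le inf_le_right)

theorem exists_invariant_sylow_ge [Finite G] {z : G} (hz : z * z = 1) (h : InZStar 2 z) {p : ℕ}
    [hp : Fact p.Prime] {Q : Subgroup G} (hQ : IsPGroup p Q) (hzQ : z ∈ normalizer (Q : Set G)) :
    ∃ P : Sylow p G, Q ≤ P ∧ z ∈ normalizer ((P : Subgroup G) : Set G) := by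
  obtain ⟨R, hQR, hR⟩ := Finite.exists_le_maximal
    (p := fun R : Subgroup G => IsPGroup p R ∧ z ∈ normalizer (R : Set G)) ⟨hQ, hzQ⟩
  obtain ⟨P, hP⟩ := exists_sylow_eq_of_maximal hz h hR.prop.1 hR.prop.2
    fun R' h1 h2 h3 => (hR.eq_of_le ⟨h1, h2⟩ h3).symm
  exact ⟨P, hP ▸ hQR, hP ▸ hR.prop.2⟩

/-- Two conjugate subgroups normalized by `z` are conjugate under `C(z)`. -/
theorem exists_centralizer_conj_eq {z : G} (h : OddIso z) (hz : z * z = 1) {H : Subgroup G}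
    {g : G} (h1 : z ∈ normalizer (H : Set G))
    (h2 : z ∈ normalizer ((g •ᶜ H : Subgroup G) : Set G)) :
    ∃ c ∈ centralizer ({z} : Set G), c •ᶜ H = g •ᶜ H := by
  obtain ⟨k, hk, c, hc, e⟩ := exists_mul_centralizer h hz
    (H := normalizer ((g •ᶜ H : Subgroup G) : Set G)) (g := g)
    (mul_mem h2 (by rw [← conj_normalizer]; exact conj_mem_conj.2 h1))
  refine ⟨c, hc, ?_⟩
  have := conj_eq_of_mem_normalizer (inv_mem hk)
  rw [conj_conj] at this
  rw [← this, e, inv_mul_cancel_left]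

end CA.Iso2
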