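import Cfsg.Agent.Lib.Grp.Sig
import Cfsg.Agent.Lib.Loc.H6Con
import Cfsg.Agent.Lib.Grp.H13Misc
import Cfsg.Agent.Lib.Grp.Two2
import Cfsg.Agent.Lib.Odd.PF14

/-!
# Constrained local subgroups: inheritance, and triviality of the cores `O(C(t))`
-/

set_option autoImplicit false
set_option linter.unusedSectionVars false

namespace CA.H13Con
open Cfsg Subgroup CA.H13Inv CA.SylIn CA.H13Misc CA.AmbChar CA.AmbCore CA.Sig CA.Bal2

variable {G : Type*} [Group G] {p : ℕ}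

theorem cent_zpowers (x : G) : 𝐂 (zpowers x) = centralizer ({x} : Set G) := by
  rw [zpowers_eq_closure, centralizer_closure]

theorem norm_zpowers_two {t : G} (ht : orderOf t = 2) :
    𝐍 (zpowers t) = centralizer ({t} : Set G) := by
  refine le_antisymm (fun n hn => ?_) (by rw [← cent_zpowers]; exact centralizer_le_normalizer _)
  rw [mem_centralizer_singleton_iff]
  rcases eq_of_mem_zpowers ht (conj_mem_of_mem_normalizer hn (mem_zpowers t)) with h | h
  · exact absurd (conj_inj (g := n) (by rw [h]; group)) (ne_one ht)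
  · exact mul_inv_eq_iff_eq_mul.1 h

/-- the elements of order at most two of an abelian subgroup -/
def om (A : Subgroup G) (hA : A ≤ 𝐂 A) : Subgroup G where
  carrier := {x | x ∈ A ∧ x ^ 2 = 1}
  one_mem' := ⟨one_mem _, one_pow _⟩
  mul_mem' := fun {a b} ha hb => ⟨mul_mem ha.1 hb.1, by
    rw [Commute.mul_pow (hA hb.1 a ha.1), ha.2, hb.2, one_mul]⟩
  inv_mem' := fun {a} ha => ⟨inv_mem ha.1, by rw [inv_pow, ha.2, inv_one]⟩

theorem om_ea {A : Subgroup G} (hA : A ≤ 𝐂 A) : IsElementaryAbelian 2 (om A hA) :=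
  ⟨⟨⟨fun a b => Subtype.ext (hA b.2.1 a a.2.1)⟩⟩, fun _ ha => ha.2⟩

theorem om_le {A : Subgroup G} (hA : A ≤ 𝐂 A) : om A hA ≤ A := fun _ h => h.1

variable [Finite G]

theorem norm_om {A : Subgroup G} (hA : A ≤ 𝐂 A) : 𝐍 A ≤ 𝐍 (om A hA) := fun n hn =>
  mem_normalizer_of_forall fun x hx => ⟨conj_mem_of_mem_normalizer hn hx.1, by
    rw [conj_pow, hx.2]; group⟩

theorem eight_le_om {A : Subgroup G} (hA : A ≤ 𝐂 A) (h3 : ¬ PRankLE 2 2 A) :
    2 ^ 3 ≤ Nat.card (om A hA) := by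
  obtain ⟨B, hB, hB2, hc⟩ : ∃ B : Subgroup A, IsMulCommutative B ∧ (∀ a ∈ B, a ^ 2 = 1) ∧
      2 ^ 2 < Nat.card B := by
    by_contra h
    push Not at h
    exact h3 h
  have h1 : B.map A.subtype ≤ om A hA := by
    rintro _ ⟨x, hx, rfl⟩
    exact ⟨x.2, congrArg Subtype.val (hB2 x hx)⟩
  have h2 := card_le_of_le h1
  rw [card_map_of_injective A.subtype_injective] at h2
  obtain ⟨k, hk⟩ := IsPGroup.iff_card.1 (ea_isPGroup (om_ea hA))
  rw [hk] at h2 ⊢
  exact Nat.pow_le_pow_right two_pos ((Nat.pow_lt_pow_iff_right one_lt_two).1 (hc.trans_le h2))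

theorem relIndex_eq_of_mul {H D W : Subgroup G} (hD : D ≤ W)
    (h : ∀ w ∈ W, ∃ d ∈ D, d⁻¹ * w ∈ H) : H.relIndex D = H.relIndex W := by
  refine Nat.card_congr (Equiv.ofBijective (quotientSubgroupOfEmbeddingOfLE H hD)
    ⟨(quotientSubgroupOfEmbeddingOfLE H hD).injective, fun x => ?_⟩)
  induction x using Quotient.inductionOn
  rename_i w
  obtain ⟨d, hd, e⟩ := h w w.2
  exact ⟨Quotient.mk _ ⟨d, hd⟩, Quotient.sound (QuotientGroup.leftRel_apply.2 (mem_subgroupOf.2 e))⟩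

section
variable [hp : Fact p.Prime]

theorem con_iff : IsPConstrained p G ↔ pLayer p G = ⊥ := by
  rw [CA.H6PSolv.isPConstrained_iff, charP_top_iff, ← CA.Fstar.fstar_eq_pCore_iff,
    CA.Bal.fstar_quotient_eq_pCore_iff]

theorem con_congr {G' : Type*} [Group G'] (e : G ≃* G') (h : IsPConstrained p G) :
    IsPConstrained p G' :=
  (CA.H6Con.isPConstrained_iff_of_surj (f := e.toMonoidHom) e.surjective
    (by rw [(MonoidHom.ker_eq_bot_iff _).2 e.injective]; simp)).1 h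

theorem con_norm_iff {T : Subgroup G} (hT : IsPGroup p T) :
    IsPConstrained p (𝐍 T) ↔ IsPConstrained p (𝐂 T) := by
  rw [con_iff, con_iff, ← CA.PComp.map_pLayer_eq_bot_iff, ← CA.PComp.map_pLayer_eq_bot_iff,
    CA.PComp.map_pLayer_normalizer_eq hT]

theorem con_norm_of_le {T H : Subgroup G} (hH : IsPConstrained p H) (hT : IsPGroup p T)
    (h : 𝐍 T ≤ H) : IsPConstrained p (𝐍 T) := by
  have h1 := CA.H6Con.isPConstrained_normalizer hH (isPGroup_subgroupOf hT H)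
  rw [CA.Amb.normalizer_subgroupOf (le_normalizer.trans h)] at h1
  exact con_congr (subgroupOfEquivOfLe h) h1

theorem con_cent_of_le {T H : Subgroup G} (hH : IsPConstrained p H) (hT : IsPGroup p T)
    (hTH : T ≤ H) (h : 𝐂 T ≤ H) : IsPConstrained p (𝐂 T) := by
  have h1 := CA.H6Con.isPConstrained_centralizer hH (isPGroup_subgroupOf hT H)
  rw [CA.Amb.centralizer_subgroupOf hTH] at h1
  exact con_congr (subgroupOfEquivOfLe h) h1

theorem exists_central {T : Subgroup G} (hT : IsPGroup p T) (h1 : T ≠ ⊥) :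
    ∃ x ∈ T, x ∈ 𝐂 T ∧ orderOf x = p := by
  obtain ⟨x, hx, ho⟩ := CA.AmbSyl.exists_orderOf_eq_of_ne_bot (hT.to_le inf_le_left)
    (CA.AmbSyl.center_ne_bot hT h1)
  exact ⟨x, hx.1, hx.2, ho⟩

theorem con_norm_of_cent (h : ∀ x : G, orderOf x = p → IsPConstrained p (centralizer ({x} : Set G)))
    {T : Subgroup G} (hT : IsPGroup p T) (h1 : T ≠ ⊥) : IsPConstrained p (𝐍 T) := by
  obtain ⟨x, hx, hc, ho⟩ := exists_central hT h1
  refine (con_norm_iff hT).2 (con_cent_of_le (h x ho) hT (fun y hy => ?_)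
    (centralizer_le (Set.singleton_subset_iff.2 hx)))
  exact mem_centralizer_singleton_iff.2 (hc y hy)

theorem charP_of_con {H : Subgroup G} (h : IsPConstrained p H) (hO : pPrimeCore p H = ⊥) :
    CharP p H :=
  CA.H6Con.charP_top_iff'.1 ((CA.H6PSolv.isPConstrained_iff_of_bot hO).1 h)

theorem cpc_eq_bot_iff {x : G} :
    centralizerPPrimeCore p x = ⊥ ↔ pPrimeCore p (centralizer ({x} : Set G)) = ⊥ :=
  map_eq_bot_iff_of_injective _ (subtype_injective _)

theorem fam_conj {A U : Subgroup G} (hU : Fam p A (centralizerPPrimeCore p) U) {w : G}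
    (hw : w ∈ 𝐍 A) : Fam p A (centralizerPPrimeCore p) (w •ᶜ U) := by
  refine ⟨?_, by rw [card_conj]; exact hU.cop, ?_, fun a ha h1 x hx => ?_⟩
  · have := hU.solv
    exact solvable_of_surjective (f := (conjEquiv w U).toMonoidHom) (conjEquiv w U).surjective
  · rw [← conj_normalizer, ← conj_eq_of_mem_normalizer hw]
    exact conj_mono _ hU.inv
  · have h2 : w⁻¹ * a * w ∈ A := inv_conj_mem_of_mem_normalizer hw ha
    have h3 : w⁻¹ * x * w ∈ centralizerPPrimeCore p (w⁻¹ * a * w) := by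
      refine hU.le _ h2 (fun e => h1 ?_) ⟨mem_conj.1 hx.1, ?_⟩
      · calc a = w * (w⁻¹ * a * w) * w⁻¹ := by group
          _ = 1 := by rw [e]; group
      · have := mem_centralizer_singleton_iff.1 hx.2
        refine mem_centralizer_singleton_iff.2 ?_
        calc w⁻¹ * x * w * (w⁻¹ * a * w) = w⁻¹ * (x * a) * w := by group
          _ = _ := by rw [this]; group
    have h4 := map_conj_cpc (p := p) (w⁻¹ * a * w) w
    rw [show w * (w⁻¹ * a * w) * w⁻¹ = a by group] at h4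
    rw [← h4]
    exact mem_conj.2 h3

theorem maxQ_conj {A Q : Subgroup G} {q : ℕ} (hQ : MaxQ p A (centralizerPPrimeCore p) q Q) {w : G}
    (hw : w ∈ 𝐍 A) : MaxQ p A (centralizerPPrimeCore p) q (w •ᶜ Q) := by
  refine ⟨fam_conj hQ.fam hw, isPGroup_conj hQ.pg w, fun R h1 h2 h3 => ?_⟩
  rw [← hQ.max _ (fam_conj h1 (inv_mem hw)) (isPGroup_conj h2 _) (conj_le_iff_le_inv_conj.1 h3),
    conj_inv_conj]

end

theorem sf_cpc {A : Subgroup G} (hA : IsElementaryAbelian 2 A)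
    (hcon : ∀ a ∈ A, a ≠ 1 → IsPConstrained 2 (centralizer ({a} : Set G))) :
    SF 2 A (centralizerPPrimeCore 2) := by
  refine ⟨hA, fun a _ _ => map_subtype_le _, fun a _ _ => coprime_cpc a, fun a ha _ =>
    (ea_le_centralizer_singleton hA ha).trans (centralizer_le_normalizer_cpc a),
    fun a ha h1 b hb h2 => cpc_inf_le_of_pLayer (con_iff.1 (hcon b hb h2))
      (ea_le_centralizer_singleton hA hb ha) (k := 1) ?_, fun a _ _ =>
    CA.PF.odd_solvable _ (Nat.coprime_two_right.1 (coprime_cpc a))⟩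
  exact (orderOf_eq_prime (hA.2 a ha) h1).trans (pow_one 2).symm

/-- transitivity: if a Sylow 2-subgroup normalizes `A` and no odd order subgroup, the cores vanish -/
theorem cpc_eq_bot_of_inv (S : Sylow 2 G) {A : Subgroup G} (hA : IsElementaryAbelian 2 A)
    (h3 : 2 ^ 3 ≤ Nat.card A) (hS : (S : Subgroup G) ≤ 𝐍 A)
    (hcon : ∀ a ∈ A, a ≠ 1 → IsPConstrained 2 (centralizer ({a} : Set G)))
    (hinv : ∀ X : Subgroup G, Odd (Nat.card X) → (S : Subgroup G) ≤ 𝐍 X → X = ⊥)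
    {a : G} (ha : a ∈ A) (h1 : a ≠ 1) : centralizerPPrimeCore 2 a = ⊥ := by
  have hF := sf_cpc hA hcon
  by_contra hne
  obtain ⟨q, hq, hd⟩ := Nat.exists_prime_and_dvd (fun e => hne (card_eq_one.1 e))
  have := Fact.mk hq
  obtain ⟨T, hT, hTf, -⟩ := (hF.fam ha h1).exists_sylow hF (U := ⊥) (q := q) bot_le IsPGroup.of_bot
    (by rw [normalizer_eq_top_iff.2 inferInstance]; exact le_top)
  obtain ⟨Q, hQ, hTQ⟩ := exists_maxQ hTf hT.isPGroup
  have hA1 : A ≠ ⊥ := ne_bot_of_pow_le (by norm_num) h3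
  have hD : tI A (centralizerPPrimeCore 2) ≤ 𝐍 A :=
    (hF.tI_le_centralizer le_rfl).trans (centralizer_le_normalizer _)
  have hidx := relIndex_eq_of_mul (H := 𝐍 Q) hD fun w hw => by
    obtain ⟨c, hc, e⟩ := hQ.exists_conj hF h3 (maxQ_conj hQ hw)
    exact ⟨c, hc, mem_normalizer_iff_conj_eq.2 (by rw [← conj_conj, ← e, inv_conj_conj])⟩
  have hodd : ¬ 2 ∣ (𝐍 Q).relIndex (𝐍 A) := by
    rw [← hidx]
    intro h
    exact (Nat.coprime_primes Nat.prime_two Nat.prime_two).1 (Nat.Coprime.coprime_dvd_left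
      (h.trans (relIndex_dvd_card _ _)) (hF.fam_tI le_rfl hA1).cop) rfl
  obtain ⟨R, hR⟩ := exists_isSylowIn 2 (𝐍 Q ⊓ 𝐍 A)
  have hR' : IsSylowIn 2 R (𝐍 A) := by
    refine isSylowIn_iff.2 ⟨hR.le.trans inf_le_right, hR.isPGroup, ?_⟩
    rw [← relIndex_mul_relIndex _ _ _ hR.le inf_le_right, inf_relIndex_right]
    exact fun h => (Nat.prime_two.dvd_mul.1 h).elim hR.not_dvd hodd
  obtain ⟨g, -, hg⟩ := hR'.exists_conj_eq (isSylowIn_of_le S hS)
  have hb := hinv (g •ᶜ Q) (by rw [card_conj]; exact Nat.coprime_two_right.1 hQ.fam.cop)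
    (by rw [← hg, ← conj_normalizer]; exact conj_mono _ (hR.le.trans inf_le_left))
  rw [conj_eq_bot_iff] at hb
  have hT1 : T = ⊥ := le_bot_iff.1 (hb ▸ hTQ)
  apply hT.not_dvd
  rwa [hT1, relIndex_bot_left]

/-- balance: the cores of all involution centralizers vanish -/
theorem cpc_eq_bot_all (S : Sylow 2 G) {A : Subgroup G} (hA : IsElementaryAbelian 2 A)
    (h3 : 2 ^ 3 ≤ Nat.card A) (hS : (S : Subgroup G) ≤ 𝐍 A)
    (hcon : ∀ a ∈ A, a ≠ 1 → IsPConstrained 2 (centralizer ({a} : Set G)))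
    (hb : ∀ a ∈ A, a ≠ 1 → centralizerPPrimeCore 2 a = ⊥) {t : G} (ht : orderOf t = 2) :
    centralizerPPrimeCore 2 t = ⊥ := by
  obtain ⟨g, hg⟩ := CA.H13Inv.exists_conj_mem_sylow S (mul_self ht)
  rw [← conj_eq_bot_iff (g := g), map_conj_cpc]
  have hu : orderOf (g * t * g⁻¹) = 2 := by rw [orderOf_conj, ht]
  generalize g * t * g⁻¹ = u at hg hu
  have hB : IsElementaryAbelian 2 (A ⊓ centralizer ({u} : Set G) : Subgroup G) :=
    ea_of_le hA inf_le_left
  have h4 : 2 ^ 2 ≤ Nat.card (A ⊓ centralizer ({u} : Set G) : Subgroup G) := by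
    have h5 := h3.trans (card_le_sq hA (mul_self hu) (hS hg))
    obtain ⟨k, hk⟩ := IsPGroup.iff_card.1 (ea_isPGroup hB)
    rw [hk] at h5 ⊢
    rw [← pow_mul] at h5
    exact Nat.pow_le_pow_right two_pos
      (by have := (Nat.pow_le_pow_iff_right one_lt_two).1 h5; omega)
  refine le_bot_iff.1 (CA.Coprime2.le_of_forall_centralizer_singleton hB.1
    (not_isCyclic_of_ea hB h4) (inf_le_right.trans (centralizer_le_normalizer_cpc u))
    (CA.Coprime2.coprime_card_of_isPGroup (ea_isPGroup hB) (coprime_cpc u)).symm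
    fun a ha h1 => ?_)
  refine (cpc_inf_le_of_pLayer (con_iff.1 (hcon a ha.1 h1)) (k := 1) ?_ hu).trans (hb a ha.1 h1).le
  exact mem_centralizer_singleton_iff.2 (mem_centralizer_singleton_iff.1 ha.2).symm

theorem exists_maxTwoLocal {N : Subgroup G} (h : IsTwoLocal N) :
    ∃ M, IsMaximalTwoLocal M ∧ N ≤ M := by
  obtain ⟨M, h1, h2⟩ := Finite.exists_le_maximal (p := IsTwoLocal) h
  exact ⟨M, ⟨h2.1, fun K hK hle => le_antisymm (h2.2 hK hle) hle⟩, h1⟩

theorem twoLocal_cent {t : G} (ht : orderOf t = 2) : IsTwoLocal (centralizer ({t} : Set G)) :=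
  ⟨zpowers t, CA.PLoc.isPGroup_zpowers ht, by simpa using ne_one ht, (norm_zpowers_two ht).symm⟩

/-- an odd order subgroup normalized by a subgroup of index at most two in a Sylow subgroup -/
theorem eq_bot_of_charP {H R T Y : Subgroup G} (hH : CharP 2 H) (hT : IsSylowIn 2 T H)
    (hi : R.relIndex T ∣ 2) (hY : Y ≤ H) (hodd : Odd (Nat.card Y)) (hn : R ≤ 𝐍 Y) : Y = ⊥ := by
  have hQ := isPGroup_pCoreOf 2 H
  have hQT : pCoreOf 2 H ≤ T := hT.le_of_le_normalizer hQ (pCoreOf_le _ _)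
    (hT.le.trans (norm_pCoreOf _ _))
  have hdisj : Y ⊓ pCoreOf 2 H = ⊥ := inf_eq_bot_of_coprime
    (CA.Coprime2.coprime_card_of_isPGroup hQ (Nat.coprime_two_right.2 hodd))
  refine le_bot_iff.1 fun n hn' => ?_
  rw [← hdisj]
  refine ⟨hn', hH.le ⟨hY hn', ?_⟩⟩
  refine CA.Two.cent_of_two (N := pCoreOf 2 H ⊓ R) (hQ.to_le inf_le_left) ?_
    (CA.PLoc.coprime_orderOf_of_mem (Nat.coprime_two_right.2 hodd) hn')
    (norm_pCoreOf _ _ (hY hn')) ?_
  · intro x hx y hy hx' hy'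
    refine ⟨mul_mem hx hy, ?_⟩
    rcases (Nat.dvd_prime Nat.prime_two).1 hi with h | h
    · exact relIndex_eq_one.1 h (hQT (mul_mem hx hy))
    · exact CA.Two.mul_mem_of_relIndex_two h (hQT hx) (hQT hy) (fun e => hx' ⟨hx, e⟩)
        (fun e => hy' ⟨hy, e⟩)
  · intro r hr
    have h1 : r * n * r⁻¹ * n⁻¹ ∈ Y ⊓ pCoreOf 2 H := by
      refine mem_inf.2 ⟨mul_mem (conj_mem_of_mem_normalizer (hn hr.2) hn') (inv_mem hn'), ?_⟩
      have := mul_mem hr.1 (conj_mem_of_mem_normalizer (norm_pCoreOf _ _ (hY hn')) (inv_mem hr.1))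
      simpa [mul_assoc] using this
    rw [hdisj, mem_bot] at h1
    calc r * n = r * n * r⁻¹ * n⁻¹ * (n * r) := by group
      _ = _ := by rw [h1, one_mul]

theorem exists_normal_klein {S A : Subgroup G} (hS : IsPGroup 2 S) (hA : IsElementaryAbelian 2 A)
    (hAS : A ≤ S) (hn : S ≤ 𝐍 A) (h4 : 2 ^ 2 ≤ Nat.card A) :
    ∃ U ≤ A, IsKleinFour U ∧ S ≤ 𝐍 U := by
  have := CA.Amb.normal_subgroupOf_of_norm hn
  obtain ⟨K, hK, h1, h2⟩ := CA.PGBasic.exists_normal_card hS (M := A.subgroupOf S) 2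
    (by rwa [Nat.card_congr (subgroupOfEquivOfLe hAS).toEquiv])
  have h3 : K.map S.subtype ≤ A := map_le_iff_le_comap.2 h1
  exact ⟨_, h3, CA.Two.isKleinFour_of (by rw [card_map_of_injective S.subtype_injective, h2]; rfl)
    fun x hx => hA.2 x (h3 hx), CA.Amb.norm_map_subtype K⟩

/-- if the involutions of a normal four-subgroup of `S` have centralizers of characteristic two,
`S` normalizes no nontrivial subgroup of odd order -/
theorem inv_eq_bot (S : Sylow 2 G) {U : Subgroup G} (hU : IsKleinFour U)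
    (hUS : U ≤ S) (hn : (S : Subgroup G) ≤ 𝐍 U)
    (h : ∀ a ∈ U, a ≠ 1 → CharP 2 (centralizer ({a} : Set G))) {X : Subgroup G}
    (hX : Odd (Nat.card X)) (hSX : (S : Subgroup G) ≤ 𝐍 X) : X = ⊥ := by
  have hUe : IsElementaryAbelian 2 U := ⟨CA.Two.klein_comm hU, fun _ => CA.Two.klein_sq hU⟩
  refine le_bot_iff.1 (CA.Coprime2.le_of_forall_centralizer_singleton hUe.1
    (not_isCyclic_of_ea hUe (CA.Two.klein_card hU).ge) (hUS.trans hSX)
    (CA.Coprime2.coprime_card_of_isPGroup (ea_isPGroup hUe) (Nat.coprime_two_right.2 hX)).symm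
    fun a ha h1 => ?_)
  have hR : (𝐂 U ⊓ S : Subgroup G) ≤ centralizer ({a} : Set G) :=
    inf_le_left.trans (centralizer_le (Set.singleton_subset_iff.2 ha))
  obtain ⟨T, hT, hRT⟩ := exists_isSylowIn_ge (S.isPGroup'.to_le inf_le_right) hR
  refine (eq_bot_of_charP (h a ha h1) hT (R := 𝐂 U ⊓ S) ?_ inf_le_right
    (hX.of_dvd_nat (card_dvd_of_le inf_le_left)) (CA.Amb.norm_inf (inf_le_right.trans hSX)
      (hR.trans le_normalizer))).le
  have h6 := CA.Two2.klein_relIndex_dvd' hU hn (K := 𝐂 U ⊓ S) le_rfl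
  have e1 := CA.Amb.card_mul_relIndex hRT
  have e2 := CA.Amb.card_mul_relIndex (inf_le_right : (𝐂 U ⊓ S : Subgroup G) ≤ S)
  have e3 := (isSylowIn_top S).card_dvd hT.isPGroup le_top
  rw [← e1, ← e2] at e3
  have e4 := (Nat.dvd_of_mul_dvd_mul_left Nat.card_pos e3).trans h6
  obtain ⟨k, hk⟩ := IsPGroup.iff_card.1 hT.isPGroup
  have e5 : (𝐂 U ⊓ S : Subgroup G).relIndex T ∣ 2 ^ k := hk ▸ relIndex_dvd_card _ _
  exact (Nat.Coprime.coprime_dvd_left e5 (Nat.Coprime.pow_left k (by norm_num : Nat.Coprime 2 3))).dvd_of_dvd_mul_right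
    (by simpa using e4)

end CA.H13Con
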