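import Mathlib

/-! Explicit subgroups of dihedral groups. -/

namespace CA.DihSub
open DihedralGroup

variable {n : ℕ}

/-- the index of a rotation or reflection -/
def idx : DihedralGroup n → ZMod n
  | r k => k
  | sr k => k

/-- the subgroup of elements whose index is killed by `c` -/
def D (n : ℕ) (c : ZMod n) : Subgroup (DihedralGroup n) where
  carrier := {g | c * idx g = 0}
  one_mem' := by show c * (0 : ZMod n) = 0; simp
  mul_mem' := by
    rintro (a | a) (b | b) ha hb
    · change c * a = 0 at ha; change c * b = 0 at hb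
      show c * (a + b) = 0; rw [mul_add, ha, hb, add_zero]
    · change c * a = 0 at ha; change c * b = 0 at hb
      show c * (b - a) = 0; rw [mul_sub, ha, hb, sub_zero]
    · change c * a = 0 at ha; change c * b = 0 at hb
      show c * (a + b) = 0; rw [mul_add, ha, hb, add_zero]
    · change c * a = 0 at ha; change c * b = 0 at hb
      show c * (b - a) = 0; rw [mul_sub, ha, hb, sub_zero]
  inv_mem' := by
    rintro (a | a) ha
    · change c * a = 0 at ha
      show c * (-a) = 0; rw [mul_neg, ha, neg_zero]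
    · exact ha

theorem r_mem {c k : ZMod n} : r k ∈ D n c ↔ c * k = 0 := Iff.rfl
theorem sr_mem {c k : ZMod n} : sr k ∈ D n c ↔ c * k = 0 := Iff.rfl

theorem not_comm {c k : ZMod n} (h : c * k = 0) (h2 : k + k ≠ 0) : ¬ IsMulCommutative (D n c) := by
  intro hc
  have h1 : r k ∈ D n c := h
  have h0 : sr 0 ∈ D n c := by rw [sr_mem, mul_zero]
  have := congrArg Subtype.val (hc.is_comm.comm ⟨_, h1⟩ ⟨_, h0⟩)
  simp only [Subgroup.coe_mul, r_mul_sr, sr_mul_r, sr.injEq] at this
  apply h2
  have h3 : -k = k := by simpa using this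
  nth_rewrite 1 [← h3]; simp

theorem exists_sr {H : Subgroup (DihedralGroup n)} (h : ¬ IsMulCommutative H) : ∃ i, sr i ∈ H := by
  by_contra hn
  push Not at hn
  apply h
  refine ⟨⟨?_⟩⟩
  rintro ⟨a | a, ha⟩ ⟨b | b, hb⟩
  · ext; simp [add_comm]
  · exact absurd hb (hn _)
  · exact absurd ha (hn _)
  · exact absurd ha (hn _)

theorem exists_sr' {H : Subgroup (DihedralGroup n)} (h : ¬ IsCyclic H) : ∃ i, sr i ∈ H := by
  by_contra hn
  push Not at hn
  apply h
  have : H ≤ Subgroup.zpowers (r 1) := by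
    rintro (a | a) ha
    · refine ⟨ZMod.cast a, ?_⟩
      simp
    · exact absurd ha (hn _)
  exact Subgroup.isCyclic_of_le this

theorem exists_r {H : Subgroup (DihedralGroup n)} (h : ¬ IsCyclic H) : ∃ j, j ≠ 0 ∧ r j ∈ H := by
  obtain ⟨i, hi⟩ := exists_sr' h
  by_contra hn
  push Not at hn
  apply h
  have : H ≤ Subgroup.zpowers (sr i) := by
    rintro (a | a) ha
    · by_cases h0 : a = 0
      · subst h0; exact Subgroup.one_mem _
      · exact absurd ha (hn _ h0)
    · have := H.mul_mem hi ha
      rw [sr_mul_sr] at this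
      by_cases h0 : a - i = 0
      · rw [sub_eq_zero.1 h0]; exact Subgroup.mem_zpowers _
      · exact absurd this (hn _ h0)
  exact Subgroup.isCyclic_of_le this

theorem sr_mem_of {H : Subgroup (DihedralGroup n)} {i k : ZMod n} (hi : sr i ∈ H) (h : r (k - i) ∈ H) :
    sr k ∈ H := by
  have := H.mul_mem hi h
  rwa [sr_mul_r, add_sub_cancel] at this

theorem eq_of_two {a b : ZMod n} [NeZero n] (ha : a + a = 0) (hb : b + b = 0) (ha0 : a ≠ 0) (hb0 : b ≠ 0) :
    a = b := by
  have h1 := (ZMod.neg_eq_self_iff a).1 (neg_eq_of_add_eq_zero_left ha)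
  have h2 := (ZMod.neg_eq_self_iff b).1 (neg_eq_of_add_eq_zero_left hb)
  apply ZMod.val_injective
  rcases h1 with h1 | h1
  · exact absurd h1 ha0
  rcases h2 with h2 | h2
  · exact absurd h2 hb0
  omega

theorem eq_zero_of_odd {a : ZMod n} (hn : Odd n) (ha : a + a = 0) : a = 0 := by
  obtain ⟨m, hm⟩ := hn
  have h : ((2 * m + 1 : ℕ) : ZMod n) = 0 := by rw [← hm]; exact ZMod.natCast_self n
  push_cast at h
  linear_combination a * h - (m : ZMod n) * ha

theorem r_mem_of_odd {H : Subgroup (DihedralGroup n)} {a : ZMod n} (hn : Odd n) (ha : r (a + a) ∈ H) :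
    r a ∈ H := by
  obtain ⟨m, hm⟩ := hn
  have h : ((2 * m + 1 : ℕ) : ZMod n) = 0 := by rw [← hm]; exact ZMod.natCast_self n
  push_cast at h
  have := H.pow_mem ha (m + 1)
  rw [r_pow] at this
  convert this using 2
  push_cast
  linear_combination (-a) * h

end CA.DihSub
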