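import Mathlib.LinearAlgebra.Matrix.Charpoly.FiniteField
import Mathlib.Data.Set.Card
import Mathlib.Data.Set.Card.Arithmetic

/-! The regular case of the friendship theorem. -/

set_option autoImplicit false
set_option linter.style.haveILetI false

namespace CA.Friend

open Finset in
theorem friend {V : Type*} [Fintype V] [Nonempty V] (r : V → V → Prop)
    (hs : ∀ a b, r a b → r b a) (hi : ∀ a, ¬ r a a) {d : ℕ} (hd : ∀ v, {w | r v w}.ncard = d)
    (h : ∀ v w, v ≠ w → ∃! u, r v u ∧ r w u) : d ≤ 2 := by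
  classical
  by_contra! hlt
  obtain ⟨p, hp, hpd⟩ := Nat.exists_prime_and_dvd (n := d - 1) (by omega)
  haveI := Fact.mk hp
  have h1 : (d : ZMod p) = 1 := by
    have := (ZMod.natCast_eq_zero_iff _ _).2 hpd
    rwa [Nat.cast_sub (by omega), Nat.cast_one, sub_eq_zero] at this
  let A : Matrix V V (ZMod p) := Matrix.of fun v w => if r v w then 1 else 0
  let J : Matrix V V (ZMod p) := Matrix.of fun _ _ => 1
  have hc : ∀ (s : V → Prop) [DecidablePred s], (∑ u, if s u then (1 : ZMod p) else 0) = ({u | s u}.ncard : ℕ) := by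
    intro s _
    rw [sum_boole, ← Set.ncard_coe_finset]; simp
  have h2 : A * A = J := by
    ext v w
    simp only [A, J, Matrix.mul_apply, Matrix.of_apply, ite_zero_mul_ite_zero, mul_one]
    rw [hc]
    by_cases e : v = w
    · subst e
      rw [← h1, ← hd v]; congr 2; ext u
      exact ⟨fun h => h.1, fun h => ⟨h, hs _ _ h⟩⟩
    · obtain ⟨u, hu, hu'⟩ := h v w e
      rw [Set.ncard_eq_one.2 ⟨u, ?_⟩, Nat.cast_one]
      ext x
      exact ⟨fun h => hu' x ⟨h.1, hs _ _ h.2⟩, fun h => h ▸ ⟨hu.1, hs _ _ hu.2⟩⟩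
  have h3 : A * J = J := by
    ext v w
    simp only [A, J, Matrix.mul_apply, Matrix.of_apply, mul_one]
    rw [hc, hd, h1]
  have h4 : ∀ k, A ^ (k + 2) = J := fun k => by
    induction k with
    | zero => rw [← h2, pow_two]
    | succ k ih => rw [add_right_comm, pow_succ', ih, h3]
  have h5 := ZMod.trace_pow_card A
  obtain ⟨k, hk⟩ : ∃ k, p = k + 2 := ⟨p - 2, by have := hp.two_le; omega⟩
  have h6 : A ^ p = J := by rw [← h4 k, ← hk]
  have h7 : A.trace = 0 := by simp [A, Matrix.trace, hi]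
  rw [h6, h7] at h5
  have h8 : J * J = J := by rw [← h2, mul_assoc, h2, h3, h3]
  obtain ⟨v⟩ := ‹Nonempty V›
  have h9 := congrFun (congrFun h8 v) v
  simp [J, Matrix.mul_apply, Matrix.trace, hp.ne_zero] at h5 h9
  rw [h5] at h9
  exact zero_ne_one h9

end CA.Friend
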