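import Cfsg.Agent.Lib.Grp.Core
import Cfsg.Agent.Lib.Grp.H13Count

/-!
# Groups with a four-group all of whose involutions have bounded centralizers
-/

set_option autoImplicit false
set_option linter.unusedSectionVars false

namespace CA.H10BF

open Cfsg Subgroup CA.H13Inv CA.H13Count CA.Core

universe u
variable {G : Type*} [Group G] [Finite G]

theorem card_cent_map_le {Q : Type*} [Group Q] [Finite Q] {φ : G →* Q}
    (hφ : Function.Surjective φ) (g : G) :
    Nat.card (centralizer ({φ g} : Set Q)) ≤ Nat.card (centralizer ({g} : Set G)) := by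
  have h1 := card_le_mul_of_fibers (fun y : {y // IsConj g y} =>
    (⟨φ y.1, φ.map_isConj y.2⟩ : {y // IsConj (φ g) y})) (Nat.card φ.ker) fun b => by
      obtain ⟨c, hc⟩ := hφ b.1
      refine Nat.card_le_card_of_injective (fun a => (⟨c⁻¹ * a.1.1, ?_⟩ : φ.ker)) fun a a' e => ?_
      · rw [MonoidHom.mem_ker, map_mul, map_inv, hc, show φ a.1.1 = b.1 from congrArg Subtype.val a.2,
          inv_mul_cancel]
      · exact Subtype.ext (Subtype.ext (mul_left_cancel (congrArg Subtype.val e)))
  have h2 := card_mul_index φ.ker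
  rw [index_ker, MonoidHom.range_eq_top.2 hφ, card_top, ← card_isConj_mul g,
    ← card_isConj_mul (φ g)] at h2
  have : Nonempty {y // IsConj (φ g) y} := ⟨⟨_, IsConj.refl _⟩⟩
  have h3 : 0 < Nat.card {y // IsConj (φ g) y} * Nat.card φ.ker :=
    Nat.mul_pos Nat.card_pos Nat.card_pos
  refine Nat.le_of_mul_le_mul_left ?_ h3
  have := Nat.mul_le_mul_right (Nat.card (centralizer ({g} : Set G))) h1
  linarith

theorem card_conj_eq_le (t b : G) :
    Nat.card {w : G // w * t * w⁻¹ = b} ≤ Nat.card (centralizer ({t} : Set G)) := by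
  rcases isEmpty_or_nonempty {w : G // w * t * w⁻¹ = b} with h | ⟨⟨c, hc⟩⟩
  · simp
  refine Nat.card_le_card_of_injective (fun a => (⟨c⁻¹ * a.1, ?_⟩ : centralizer ({t} : Set G)))
    fun a a' e => Subtype.ext (mul_left_cancel (congrArg Subtype.val e))
  rw [mem_centralizer_singleton_iff, mul_assoc, mul_inv_eq_iff_eq_mul.1 (a.2.trans hc.symm)]
  group

theorem card_conj_mem_le (t : G) (C : Subgroup G) : Nat.card {w : G // w * t * w⁻¹ ∈ C} ≤
    Nat.card C * Nat.card (centralizer ({t} : Set G)) :=
  card_le_mul_of_fibers (fun w : {w : G // w * t * w⁻¹ ∈ C} => (⟨_, w.2⟩ : C)) _ fun b =>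
    (Nat.card_le_card_of_injective (fun a => (⟨a.1.1, congrArg Subtype.val a.2⟩ :
      {w : G // w * t * w⁻¹ = b})) fun _ _ e =>
        Subtype.ext (Subtype.ext (by simpa using e))).trans (card_conj_eq_le t b)

theorem odd_le {s t : G} (hs : s * s = 1) (ht : t * t = 1) (hc : s * t = t * s) {n : ℕ}
    (h1 : Nat.card (centralizer ({s} : Set G)) ≤ n) (h2 : Nat.card (centralizer ({t} : Set G)) ≤ n)
    (h3 : Nat.card (centralizer ({s * t} : Set G)) ≤ n) (N : Subgroup G) [hN : N.Normal]
    (hodd : (Nat.card N).Coprime 2) : Nat.card N ≤ n ^ 4 := by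
  have hst : s * t * (s * t) = 1 := by
    rw [mul_assoc, ← mul_assoc t, ← hc, mul_assoc, ht, mul_one, hs]
  have ho : ∀ g ∈ N, Odd (orderOf g) := fun g hg =>
    Nat.coprime_two_right.1 (hodd.coprime_dvd_left (N.orderOf_dvd_natCard hg))
  have key : ∀ x : N, ∃ q : {w : G // w * s * w⁻¹ ∈ centralizer ({s * t} : Set G)} ×
      {w : G // w * t * w⁻¹ ∈ centralizer ({s * t} : Set G)}, q.1.1⁻¹ * q.2.1 = x := fun x => by
    set t' := x * t * (x : G)⁻¹ with ht'
    have h4 : t' * t' = 1 := by rw [ht', conj_mul, ht, mul_one, mul_inv_cancel]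
    let π := QuotientGroup.mk' N
    have hπ : ∀ g, g ∈ N ↔ π g = 1 := fun g => (QuotientGroup.eq_one_iff g).symm
    have h5 : π (s * t') = π (s * t) := by
      rw [ht']; simp only [map_mul, map_inv, (hπ x).1 x.2, one_mul, inv_one, mul_one]
    obtain ⟨k, hk⟩ := ho (s * t' * (s * t')) (by rw [hπ, map_mul, h5, ← map_mul, hst, map_one])
    set z := (s * t') ^ (2 * k + 1) with hz
    have h6 : z * z = 1 := by rw [hz, ← (Commute.refl _).mul_pow, ← hk, pow_orderOf_eq_one]
    have h7 : π z = π (s * t) := by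
      rw [hz, map_pow, h5, ← map_pow, pow_succ, pow_mul, sq, hst, one_pow, one_mul]
    obtain ⟨y, hy⟩ := isConj_iff.1 (isConj_of_odd h6 hst
      (ho _ (by rw [hπ, map_mul, h7, ← map_mul, hst, map_one])))
    have h8 : ∀ a, a * (s * t') * a⁻¹ = (s * t')⁻¹ → y * a * y⁻¹ ∈ centralizer ({s * t} : Set G) :=
      fun a ha => by
        have : a * z * a⁻¹ = z := by
          rw [hz, ← conj_pow, ha, inv_pow, ← hz, inv_eq_of_mul_eq_one_left h6]
        rw [mem_centralizer_singleton_iff, ← hy, conj_mul, conj_mul, mul_inv_eq_iff_eq_mul.1 this]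
    refine ⟨⟨⟨y, h8 s (conj_prod hs h4)⟩, ⟨y * x, ?_⟩⟩, inv_mul_cancel_left _ _⟩
    have := h8 t' (by
      rw [mul_inv_rev s, inv_eq_of_mul_eq_one_left h4, inv_eq_of_mul_eq_one_left hs, mul_assoc,
        mul_assoc s, h4, mul_one])
    rwa [ht', show y * (x * t * (x : G)⁻¹) * y⁻¹ = y * x * t * (y * x)⁻¹ by group] at this
  choose f hf using key
  refine (Nat.card_le_card_of_injective f fun x y e => Subtype.ext (by rw [← hf, e, hf])).trans ?_
  rw [Nat.card_prod, show n ^ 4 = n * n * (n * n) by ring]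
  exact Nat.mul_le_mul ((card_conj_mem_le _ _).trans (Nat.mul_le_mul h3 h1))
    ((card_conj_mem_le _ _).trans (Nat.mul_le_mul h3 h2))

/-- The counting argument of Brauer and Fowler. -/
theorem exists_index_le {s : G} (hs : s * s = 1) (h : centralizer ({s} : Set G) ≠ ⊤) :
    ∃ x : G, x ≠ 1 ∧ (centralizer ({x} : Set G)).index ≤
      4 * Nat.card (centralizer ({s} : Set G)) ^ 2 := by
  classical
  have := Fintype.ofFinite G
  by_contra hx
  push Not at hx
  set c := Nat.card (centralizer ({s} : Set G)) with hc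
  set m := Nat.card {y // IsConj s y} with hm
  have h1 : m * c = Nat.card G := card_isConj_mul s
  have h2 : 2 ≤ m := by rw [hm, card_isConj]; exact one_lt_index_of_ne_top h
  have h3 := card_eq_sum_fibers fun q : {y // IsConj s y} × {y // IsConj s y} => q.1.1 * q.2.1
  have h4 : ∀ y : {y // IsConj s y}, y.1 * y.1 = 1 := fun y => by
    obtain ⟨c, hc⟩ := isConj_iff.1 y.2
    rw [← hc, conj_mul, hs, mul_one, mul_inv_cancel]
  have h5 : ∀ x : G, 4 * c ^ 2 * Nat.card {q : {y // IsConj s y} × {y // IsConj s y} //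
      q.1.1 * q.2.1 = x} ≤ Nat.card G + if x = 1 then 4 * c ^ 2 * m else 0 := fun x => by
    split_ifs with h0
    · refine le_add_left (Nat.mul_le_mul_left _ (Nat.card_le_card_of_injective (fun q => q.1.1)
        fun q q' e => Subtype.ext (Prod.ext e (Subtype.ext ?_))))
      exact mul_left_cancel (q.2.trans (q'.2.symm.trans (by rw [show q.1.1 = q'.1.1 from e])))
    · rw [add_zero, ← index_mul_card (centralizer ({x} : Set G))]
      refine Nat.mul_le_mul (hx x h0).le (le_trans (Nat.card_le_card_of_injective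
        (fun q => (⟨q.1.1.1, ?_⟩ : {w : G // w * x * w⁻¹ = x⁻¹})) fun q q' e => ?_)
        (card_conj_eq_le x x⁻¹))
      · have := conj_prod (h4 q.1.1) (h4 q.1.2)
        rwa [q.2] at this
      · have e' : q.1.1.1 = q'.1.1.1 := by simpa using e
        exact Subtype.ext (Prod.ext (Subtype.ext e') (Subtype.ext
          (mul_left_cancel (q.2.trans (q'.2.symm.trans (by rw [e']))))))
  have h6 := Finset.sum_le_sum fun x (_ : x ∈ Finset.univ) => h5 x
  rw [← Finset.mul_sum, ← h3, Nat.card_prod, ← hm, Finset.sum_add_distrib, Finset.sum_ite_eq',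
    if_pos (Finset.mem_univ _), Finset.sum_const, Finset.card_univ, ← Nat.card_eq_fintype_card,
    ← h1, smul_eq_mul] at h6
  have h7 : 0 < c ^ 2 * m := by have : 0 < c := Nat.card_pos; positivity
  have h8 : c ^ 2 * m * (3 * m) ≤ c ^ 2 * m * 4 := by nlinarith
  have := Nat.le_of_mul_le_mul_left h8 h7
  omega

theorem index_normalCore_le (H : Subgroup G) : H.normalCore.index ≤ H.index.factorial := by
  classical
  have := Fintype.ofFinite (G ⧸ H)
  rw [normalCore_eq_ker, index_ker, index_eq_card, Nat.card_eq_fintype_card (α := G ⧸ H),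
    ← Fintype.card_perm, ← Nat.card_eq_fintype_card]
  exact card_le_card_group _

theorem exists_normal (h0 : pPrimeCore 2 G = ⊥) {x : G} (hx : x ≠ 1) :
    ∃ X : Subgroup G, X.Normal ∧ 2 ∣ Nat.card X ∧ Nat.card X ≤
      2 ^ (Nat.card G).factorization 2 * (centralizer ({x} : Set G)).index.factorial := by
  set X := normalClosure ({x} : Set G)
  set N := (centralizer ({x} : Set G)).normalCore
  have h1 : X ≤ centralizer (N : Set G) := normalClosure_le_normal (Set.singleton_subset_iff.2
    fun n hn => mem_centralizer_singleton_iff.1 (normalCore_le _ hn))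
  refine ⟨X, inferInstance, ?_, ?_⟩
  · by_contra h2
    have := le_pPrimeCore (N := X) ((Nat.prime_two.coprime_iff_not_dvd.2 h2).symm)
    rw [h0, le_bot_iff] at this
    exact hx (mem_bot.1 (this ▸ subset_normalClosure rfl))
  · have h2 : Nat.card (N ⊓ X : Subgroup G) ≤ 2 ^ (Nat.card G).factorization 2 := by
      have h3 := Nat.eq_prime_pow_of_unique_prime_dvd (n := Nat.card (N ⊓ X : Subgroup G)) (p := 2)
        Nat.card_pos.ne' fun {q} hq hd => by
          by_contra hne
          haveI := Fact.mk hq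
          obtain ⟨P⟩ : Nonempty (Sylow q (N ⊓ X : Subgroup G)) := inferInstance
          haveI : (P : Subgroup (N ⊓ X : Subgroup G)).Normal := ⟨fun a ha g => by
            rwa [show g * a = a * g from Subtype.ext (h1 a.2.2 g g.2.1), mul_inv_cancel_right]⟩
          haveI := P.characteristic_of_normal ‹_›
          have h4 := le_pPrimeCore (p := 2) (N := P.1.map (N ⊓ X).subtype) (by
            rw [card_map_of_injective (subtype_injective _), P.card_eq_multiplicity]
            exact ((Nat.coprime_primes hq Nat.prime_two).2 hne).pow_left _)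
          rw [h0, le_bot_iff, map_eq_bot_iff_of_injective _ (subtype_injective _)] at h4
          exact P.ne_bot_of_dvd_card hd h4
      have h4 := card_subgroup_dvd_card (N ⊓ X)
      rw [h3] at h4 ⊢
      exact Nat.pow_le_pow_right two_pos
        ((Nat.prime_two.pow_dvd_iff_le_factorization Nat.card_pos.ne').1 h4)
    rw [← card_mul_index (N.subgroupOf X), ← inf_subgroupOf_right,
      Nat.card_congr (subgroupOfEquivOfLe inf_le_right).toEquiv, inf_subgroupOf_right]
    exact Nat.mul_le_mul h2 ((Nat.le_of_dvd (Nat.pos_of_ne_zero index_ne_zero_of_finite)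
      (relIndex_dvd_index_of_normal N X)).trans (index_normalCore_le _))

theorem bound (n a : ℕ) : ∃ N : ℕ, ∀ (G : Type u) [Group G] [Finite G] (s t : G), s * s = 1 →
    t * t = 1 → s * t = t * s → Nat.card (centralizer ({s} : Set G)) ≤ n →
    Nat.card (centralizer ({t} : Set G)) ≤ n → Nat.card (centralizer ({s * t} : Set G)) ≤ n →
    (Nat.card G).factorization 2 < a → Nat.card G ≤ N := by
  induction a with
  | zero => exact ⟨0, fun _ _ _ _ _ _ _ _ _ _ _ h => absurd h (Nat.not_lt_zero _)⟩
  | succ a ih =>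
    obtain ⟨N, hN⟩ := ih
    refine ⟨(n + N * (2 ^ a * (4 * n ^ 2).factorial)) * n ^ 4, fun G _ _ s t hs ht hc h1 h2 h3 ha => ?_⟩
    rw [card_eq_card_quotient_mul_card_subgroup (pPrimeCore 2 G)]
    refine Nat.mul_le_mul ?_ (odd_le hs ht hc h1 h2 h3 _ coprime_pPrimeCore)
    set Q := G ⧸ pPrimeCore 2 G
    let π := QuotientGroup.mk' (pPrimeCore 2 G)
    have hπ : Function.Surjective π := QuotientGroup.mk'_surjective _
    have hQ : (Nat.card Q).factorization 2 ≤ a := Nat.le_of_lt_succ (lt_of_le_of_lt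
      ((Nat.factorization_le_iff_dvd Nat.card_pos.ne' Nat.card_pos.ne').2
        (card_quotient_dvd_card _) 2) ha)
    have h4 := (card_cent_map_le hπ s).trans h1
    by_cases h5 : centralizer ({π s} : Set Q) = ⊤
    · rw [h5, card_top] at h4; exact le_add_right h4
    obtain ⟨x, hx, h6⟩ := exists_index_le (by rw [← map_mul, hs, map_one]) h5
    obtain ⟨X, hX, h7, h8⟩ := exists_normal pPrimeCore_quotient_pPrimeCore hx
    let ρ := (QuotientGroup.mk' X).comp π
    have hρ : Function.Surjective ρ := (QuotientGroup.mk'_surjective X).comp hπ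
    have h9 := card_eq_card_quotient_mul_card_subgroup X
    refine le_add_left (h9.trans_le (Nat.mul_le_mul (hN _ (ρ s) (ρ t) (by rw [← map_mul, hs, map_one])
      (by rw [← map_mul, ht, map_one]) (by rw [← map_mul, hc, map_mul])
      ((card_cent_map_le hρ s).trans h1) ((card_cent_map_le hρ t).trans h2)
      (by rw [← map_mul]; exact (card_cent_map_le hρ _).trans h3) ?_)
      (h8.trans (Nat.mul_le_mul (Nat.pow_le_pow_right two_pos hQ)
        (Nat.factorial_le (h6.trans (by gcongr)))))))
    rw [h9, Nat.factorization_mul Nat.card_pos.ne' Nat.card_pos.ne', Finsupp.add_apply] at hQ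
    have := (Nat.prime_two.dvd_iff_one_le_factorization Nat.card_pos.ne').1 h7
    omega

end CA.H10BF
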