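import Mathlib

/-!
# Derived lengths of `p`-groups of permutations and of linear `p`-groups
-/

set_option autoImplicit false
set_option linter.unusedSectionVars false
set_option linter.unusedVariables false

namespace CA.H10Dl
open Subgroup Function Module
open scoped commutatorElement

universe u v

section gp
variable {G H : Type*} [Group G] [Group H] {p k : ℕ}

theorem der_bot_of_inj (f : G →* H) (hf : Injective f) (h : derivedSeries H k = ⊥) :
    derivedSeries G k = ⊥ :=
  (Subgroup.map_eq_bot_iff_of_injective _ hf).1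
    (eq_bot_iff.2 ((map_derivedSeries_le_derivedSeries f k).trans h.le))

theorem map_der_le (M : Subgroup G) (hM : M ≤ commutator G) (k : ℕ) :
    (derivedSeries M k).map M.subtype ≤ derivedSeries G (k + 1) := by
  induction k with
  | zero => exact (map_subtype_le _).trans hM
  | succ k ih => rw [derivedSeries_succ, map_commutator]; exact commutator_mono ih ih

theorem le_map_der (M : Subgroup G) (hM : commutator G ≤ M) (k : ℕ) :
    derivedSeries G (k + 1) ≤ (derivedSeries M k).map M.subtype := by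
  induction k with
  | zero => simpa [← MonoidHom.range_eq_map] using hM
  | succ k ih => rw [derivedSeries_succ M, map_commutator]; exact commutator_mono ih ih

theorem der_sylow [Finite H] [Fact p.Prime] (hG : IsPGroup p G) (f : G →* H) (hf : Injective f)
    (P : Sylow p H) (h : derivedSeries P k = ⊥) : derivedSeries G k = ⊥ := by
  obtain ⟨Q, hQ⟩ := (hG.of_surjective _ f.rangeRestrict_surjective).exists_le_sylow
  exact der_bot_of_inj (((Sylow.equiv Q P).toMonoidHom.comp (inclusion hQ)).comp f.rangeRestrict)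
    ((Sylow.equiv Q P).injective.comp ((inclusion_injective hQ).comp
      (f.rangeRestrict_injective_iff.2 hf))) h

theorem der_le_of_index [hp : Fact p.Prime] (k : ℕ) : ∀ (G : Type u) [Group G] [Finite G],
    IsPGroup p G → ∀ U : Subgroup G, U.index < p ^ (k + 1) → derivedSeries G k ≤ U := by
  induction k with
  | zero =>
    intro G _ _ hG U h
    obtain ⟨n, hn⟩ := hG.index U
    rw [hn, Nat.pow_lt_pow_iff_right hp.1.one_lt, Nat.lt_one_iff] at h
    exact (index_eq_one.1 (by rw [hn, h, pow_zero])).ge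
  | succ k ih =>
    intro G _ _ hG U h
    by_cases h1 : U = ⊤
    · exact h1 ▸ le_top
    have := hG.isNilpotent
    obtain ⟨M, h2, h3⟩ := (eq_top_or_exists_le_coatom U).resolve_left h1
    have h4 : M.Normal := NormalizerCondition.normal_of_coatom M
      Group.normalizerCondition_of_isNilpotent h2
    have h5 : commutator G ≤ M := by
      by_contra h5
      have h6 : (commutator (G ⧸ M)) = ⊤ := by
        have := congrArg (Subgroup.map (QuotientGroup.mk' M)) (h2.2 _ (left_lt_sup.2 h5))
        rwa [Subgroup.map_sup, (Subgroup.map_eq_bot_iff _).2 (by simp), bot_sup_eq, commutator_def,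
          map_commutator, map_top_of_surjective _ (QuotientGroup.mk'_surjective M)] at this
      have := (QuotientGroup.nontrivial_iff.2 h2.1)
      exact (Group.IsSolvable.commutator_lt_top_of_nontrivial (G ⧸ M)).ne h6
    refine (le_map_der M h5 k).trans (map_le_iff_le_comap.2 (ih M (hG.to_subgroup M) _ ?_))
    obtain ⟨n, hn⟩ := hG.index M
    have h6 := relIndex_mul_index h3
    rw [hn] at h6
    obtain _ | n := n
    · exact (h2.1 (index_eq_one.1 hn)).elim
    rw [← h6, pow_succ, pow_succ p (k + 1), ← mul_assoc] at h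
    exact lt_of_le_of_lt (Nat.le_mul_of_pos_right _ (pow_pos hp.1.pos n))
      (lt_of_mul_lt_mul_right h (Nat.zero_le _))

theorem der_wr {D Q : Type*} [Group D] [Group Q] [Nontrivial Q]
    (h : derivedSeries (D ≀ᵣ Q) (k + 1) = ⊥) : derivedSeries D k = ⊥ := by
  classical
  let X : Subgroup (D ≀ᵣ Q) := commutator _ ⊓ RegularWreathProduct.rightHom.ker
  let f : X →* D :=
    { toFun := fun w => w.1.left 1
      map_one' := rfl
      map_mul' := fun a b => by
        have : a.1.right = 1 := a.2.2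
        simp [this] }
  obtain ⟨q, hq⟩ := exists_ne (1 : Q)
  have hf : Surjective f := fun d =>
    ⟨⟨⁅(⟨Pi.mulSingle 1 d, 1⟩ : D ≀ᵣ Q), RegularWreathProduct.inl q⁆,
      commutator_mem_commutator trivial trivial, by simp [commutatorElement_def]⟩, by
        simp [f, commutatorElement_def, hq]⟩
  rw [← map_derivedSeries_eq hf, (Subgroup.map_eq_bot_iff_of_injective _ X.subtype_injective).1
    (eq_bot_iff.2 ((map_der_le X inf_le_left k).trans h.le)), Subgroup.map_bot]

theorem isP_wr [Fact p.Prime] {D Q : Type*} [Group D] [Group Q] [Finite D] [Finite Q]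
    (hD : IsPGroup p D) (hQ : IsPGroup p Q) : IsPGroup p (D ≀ᵣ Q) := by
  obtain ⟨a, ha⟩ := IsPGroup.iff_card.1 hD
  obtain ⟨b, hb⟩ := IsPGroup.iff_card.1 hQ
  exact IsPGroup.of_card (by rw [RegularWreathProduct.card, ha, ← pow_mul, hb, ← pow_add])

theorem isP_zmod [Fact p.Prime] : IsPGroup p (Multiplicative (ZMod p)) :=
  IsPGroup.of_card (n := 1) (by simp)

theorem exists_perm [hp : Fact p.Prime] (k : ℕ) : ∃ (X : Type) (_ : Group X) (_ : Finite X)
    (Λ : Type) (_ : Finite Λ) (ρ : X →* Equiv.Perm Λ), IsPGroup p X ∧ derivedSeries X k ≠ ⊥ ∧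
      Nat.card Λ = p ^ (k + 1) ∧ Injective ρ := by
  induction k with
  | zero =>
    exact ⟨Multiplicative (ZMod p), inferInstance, inferInstance, Multiplicative (ZMod p),
      inferInstance, MulAction.toPermHom _ _, isP_zmod, top_ne_bot, by simp,
      MulAction.toPerm_injective⟩
  | succ k ih =>
    obtain ⟨X, _, _, Λ, _, ρ, h1, h2, h3, h4⟩ := ih
    letI := MulAction.compHom Λ ρ
    have : FaithfulSMul X Λ := ⟨fun h => h4 (Equiv.ext h)⟩
    have : Nonempty Λ := (Nat.card_pos_iff.1 (h3 ▸ pow_pos hp.1.pos _)).1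
    exact ⟨X ≀ᵣ Multiplicative (ZMod p), inferInstance, inferInstance, _, inferInstance,
      RegularWreathProduct.toPerm _ _ Λ, isP_wr h1 isP_zmod, fun e => h2 (der_wr e),
      by simp [h3, pow_succ], RegularWreathProduct.toPermInj _ _ Λ⟩

theorem nil_ind [Group.IsNilpotent G] {P : G → Prop} (h1 : P 1)
    (h : ∀ x, (∀ g, P (x * g * x⁻¹ * g⁻¹)) → P x) (x : G) : P x := by
  obtain ⟨n, hn⟩ := Group.IsNilpotent.nilpotent G
  have key : ∀ i, ∀ x ∈ Subgroup.upperCentralSeries G i, P x := fun i => by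
    induction i with
    | zero => intro x hx; rwa [mem_bot.1 hx]
    | succ i ih => exact fun x hx => h x fun g => ih _ (Subgroup.mem_upperCentralSeries_succ_iff.1 hx g)
  exact key n x (hn ▸ trivial)

end gp

section lin
variable {K : Type*} [Field K] {p : ℕ} [hp : Fact p.Prime]

theorem exists_lin {K : Type u} [Field K] {e : ℕ} {X₀ : Type} [Group X₀] [Finite X₀] [Nontrivial X₀]
    (h : IsPGroup p X₀) (ρ₀ : Representation K X₀ (Fin e → K)) (h' : Injective ρ₀) (k : ℕ) :
    ∃ (X : Type) (_ : Group X) (_ : Finite X) (V : Type u) (_ : AddCommGroup V) (_ : Module K V)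
      (_ : FiniteDimensional K V) (ρ : Representation K X V),
      IsPGroup p X ∧ derivedSeries X k ≠ ⊥ ∧ finrank K V = e * p ^ k ∧ Injective ρ := by
  classical
  induction k with
  | zero => exact ⟨X₀, inferInstance, inferInstance, _, inferInstance, inferInstance, inferInstance,
      ρ₀, h, top_ne_bot, by simp, h'⟩
  | succ k ih =>
    obtain ⟨X, _, _, V, _, _, _, ρ, h1, h2, h3, h4⟩ := ih
    have : Nontrivial X := ((nontrivial_iff_ne_bot _).2 h2).1.elim fun a ⟨b, h⟩ =>
      ⟨a, b, fun e => h (Subtype.ext e)⟩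
    have : Nontrivial V := not_subsingleton_iff_nontrivial.1 fun _ =>
      not_subsingleton X ⟨fun a b => h4 (Subsingleton.elim _ _)⟩
    let ρ' : Representation K (X ≀ᵣ Multiplicative (ZMod p)) (Multiplicative (ZMod p) → V) :=
      { toFun := fun w => LinearMap.pi fun q => ρ (w.left q) ∘ₗ LinearMap.proj (w.right⁻¹ * q)
        map_one' := LinearMap.ext fun v => funext fun q => by simp
        map_mul' := fun a b => LinearMap.ext fun v => funext fun q => by simp [mul_assoc] }
    refine ⟨_, inferInstance, inferInstance, _, inferInstance, inferInstance, inferInstance, ρ',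
      isP_wr h1 isP_zmod, fun e => h2 (der_wr e), by
        rw [finrank_pi_fintype]; simp [h3, pow_succ, mul_comm, mul_left_comm],
      (injective_iff_map_eq_one _).2 fun w hw => ?_⟩
    have h5 : ∀ (v : Multiplicative (ZMod p) → V) q, ρ (w.left q) (v (w.right⁻¹ * q)) = v q := fun v q =>
      congrFun (LinearMap.congr_fun hw v) q
    obtain ⟨v, hv⟩ := exists_ne (0 : V)
    refine RegularWreathProduct.ext (funext fun q => h4 (LinearMap.ext fun v => ?_))
      (by_contra fun e => hv ?_)
    · simpa using h5 (fun _ => v) q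
    · simpa [show w.right ≠ 1 from e] using (h5 (Pi.single 1 v) 1).symm

variable {V : Type v} [AddCommGroup V] [Module K V] [FiniteDimensional K V]

theorem sum_le {ι : Type*} [Fintype ι] {W : ι → Submodule K V} (h : iSupIndep W) :
    ∑ i, finrank K (W i) ≤ finrank K V := by
  classical
  rw [← finrank_directSum]
  exact LinearMap.finrank_le_finrank_of_injective h.dfinsupp_lsum_injective

theorem eig_le (f : End K V) {σ : K → K} (hσ : Surjective σ) (j : V →+ V) (hj : Injective j)
    (h1 : ∀ r v, j (r • v) = σ r • j v) {c : K} (h2 : ∀ v, f (j v) = c • j (f v)) (μ : K) :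
    finrank K (f.eigenspace μ) ≤ finrank K (f.eigenspace (c * σ μ)) := by
  refine finrank_le_finrank_of_rank_le_rank ?_ (rank_lt_aleph0 K _)
  rw [Cardinal.lift_le]
  refine rank_le_of_surjective_injective σ ((j.comp (f.eigenspace μ).subtype.toAddMonoidHom).codRestrict
    (f.eigenspace (c * σ μ)).toAddSubgroup fun v => ?_) hσ
    (fun a b e => Subtype.ext (hj (congrArg Subtype.val e))) fun r v => Subtype.ext (h1 r v)
  exact End.mem_eigenspace_iff.2 (by
    show f (j v) = _ • j v
    rw [h2, End.mem_eigenspace_iff.1 v.2, h1, mul_smul])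

theorem mul_le (f : End K V) (T : K → K)
    (h : ∀ μ, finrank K (f.eigenspace μ) ≤ finrank K (f.eigenspace (T μ))) (μ : K) (m : ℕ)
    (hi : Set.InjOn (fun i => T^[i] μ) (Set.Iio m)) :
    m * finrank K (f.eigenspace μ) ≤ finrank K V := by
  have h1 : ∀ i, finrank K (f.eigenspace μ) ≤ finrank K (f.eigenspace (T^[i] μ)) := fun i => by
    induction i with
    | zero => rfl
    | succ i ih => rw [iterate_succ_apply']; exact ih.trans (h _)
  refine le_trans ?_ (sum_le (f.eigenspaces_iSupIndep.comp (f := fun i : Fin m => T^[i] μ)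
    fun a b e => Fin.ext (hi a.2 b.2 e)))
  simpa using Finset.card_nsmul_le_sum Finset.univ _ _ fun (i : Fin m) _ => h1 i

variable {G : Type u} [Group G] [Finite G]

/-- The action on an eigenspace. -/
def eigRep (ρ : Representation K G V) (f : End K V) (h : ∀ g, Commute (ρ g) f) (μ : K) :
    Representation K G (f.eigenspace μ) :=
  ρ.subrepresentation _ fun g v hv => End.mem_eigenspace_iff.2 (by
    rw [← End.mul_apply, ← (h g).eq, End.mul_apply, End.mem_eigenspace_iff.1 hv, map_smul])

theorem of_eig [IsAlgClosed K] (h0 : (p : K) ≠ 0) (ρ : Representation K G V) {f : End K V} {a : ℕ}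
    (hf : f ^ p ^ a = 1) (h : ∀ g, Commute (ρ g) f) {N : Subgroup G}
    (hN : ∀ μ, μ ^ p ^ a = 1 → N ≤ (eigRep ρ f h μ).ker) : N ≤ ρ.ker := fun g hg => by
  have hss : f.IsSemisimple := End.isSemisimple_of_squarefree_aeval_eq_zero
    (Polynomial.separable_X_pow_sub_C (1 : K) (n := p ^ a) (by simpa using fun e => (h0 e).elim)
      one_ne_zero).squarefree (by simp [hf])
  refine LinearMap.ext fun v => ?_
  refine Submodule.iSup_induction _ (motive := fun v => ρ g v = v)
    (hss.iSup_eigenspace_eq_top.ge Submodule.mem_top : v ∈ _) (fun μ v hv => ?_) (map_zero _)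
    fun a b ha hb => by rw [map_add, ha, hb]
  by_cases h1 : v = 0
  · simp [h1]
  have h2 := (End.HasEigenvector.pow_apply ⟨hv, h1⟩ (p ^ a))
  rw [hf, End.one_apply] at h2
  exact congrArg Subtype.val (LinearMap.congr_fun (hN μ (smul_left_injective K h1
    (h2.symm.trans (one_smul K v).symm)) hg) ⟨v, hv⟩)

theorem le_orderOf {c : K} {a : ℕ} (h : c ^ p ^ a = 1) (h1 : c ≠ 1) : p ∣ orderOf c := by
  obtain ⟨i, -, hi⟩ := (Nat.dvd_prime_pow hp.1).1 (orderOf_dvd_of_pow_eq_one h)
  exact hi ▸ dvd_pow_self p fun e => h1 (orderOf_eq_one_iff.1 (by rw [hi, e, pow_zero]))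

theorem cop [IsAlgClosed K] (h0 : (p : K) ≠ 0) (n : ℕ) : ∀ (k : ℕ) (G : Type u) [Group G] [Finite G]
    (V : Type v) [AddCommGroup V] [Module K V] [FiniteDimensional K V] (ρ : Representation K G V),
    IsPGroup p G → finrank K V < n → finrank K V < p ^ k → derivedSeries G k ≤ ρ.ker := by
  induction n with
  | zero => exact fun _ _ _ _ _ _ _ _ _ _ h => (Nat.not_lt_zero _ h).elim
  | succ n ih =>
  intro k G _ _ V _ _ _ ρ hG hn hk
  have := hG.isNilpotent
  rcases subsingleton_or_nontrivial V with hV | hV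
  · exact fun g _ => Subsingleton.elim _ _
  obtain _ | k := k
  · exact (finrank_pos.ne' (Nat.lt_one_iff.1 hk)).elim
  have pw : ∀ x : G, ∃ a, ρ x ^ p ^ a = 1 := fun x => by
    obtain ⟨a, ha⟩ := hG x
    exact ⟨a, by rw [← map_pow, ha, map_one]⟩
  by_cases h1 : ∃ z, (∀ g, Commute (ρ g) (ρ z)) ∧ ∀ c : K, ρ z ≠ c • 1
  · obtain ⟨z, h1, h2⟩ := h1
    obtain ⟨a, ha⟩ := pw z
    refine of_eig h0 ρ ha h1 fun μ _ => ?_
    have := Submodule.finrank_lt (s := End.eigenspace (ρ z) μ) fun e => h2 μ (LinearMap.ext fun v =>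
      End.mem_eigenspace_iff.1 (e.ge Submodule.mem_top))
    exact ih _ G _ _ hG (by omega) (by omega)
  push Not at h1
  by_cases h2 : ∀ x g, Commute (ρ g) (ρ x)
  · refine (derivedSeries_antitone G (Nat.le_add_left 1 k)).trans (commutator_le.2 fun a _ b _ => ?_)
    rw [MonoidHom.mem_ker, commutatorElement_def, map_mul, map_mul, map_mul, (h2 b a).eq, ← map_mul,
      ← map_mul, ← map_mul]
    simp
  obtain ⟨x, h3, g₀, h4⟩ : ∃ x, (∀ g h, Commute (ρ h) (ρ (x * g * x⁻¹ * g⁻¹))) ∧
      ∃ g, ¬ Commute (ρ g) (ρ x) := by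
    by_contra! e
    exact h2 (nil_ind (by simp) e)
  choose c hc using fun g => h1 _ (h3 g)
  have h5 : ∀ g, ρ x * ρ g = c g • (ρ g * ρ x) := fun g => by
    rw [← map_mul, show x * g = x * g * x⁻¹ * g⁻¹ * (g * x) by group, map_mul, hc, map_mul,
      smul_mul_assoc, one_mul]
  let M : Subgroup G := (centralizer {ρ.toHomUnits x}).comap ρ.toHomUnits
  have hM : ∀ g, g ∈ M ↔ Commute (ρ g) (ρ x) := fun g =>
    mem_centralizer_singleton_iff.trans Units.ext_iff
  have h6 : commutator G ≤ M := commutator_le.2 fun a _ b _ => (hM _).2 (by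
    refine (ρ.toHomUnits (b * a)).isUnit.mul_right_cancel ?_
    show _ * ρ (b * a) = _ * ρ (b * a)
    have e : ρ ⁅a, b⁆ * (ρ b * ρ a) = ρ a * ρ b := by
      rw [← map_mul, ← map_mul, ← map_mul, commutatorElement_def]; congr 1; group
    rw [map_mul, mul_assoc (ρ x), e, mul_assoc, ← mul_assoc (ρ x), h5, smul_mul_assoc, mul_assoc, h5,
      ← mul_assoc (ρ x), h5, smul_mul_assoc, mul_assoc, h5]
    simp only [mul_smul_comm, smul_smul]
    rw [mul_comm (c a), ← mul_assoc (ρ b), ← mul_assoc (ρ ⁅a, b⁆), e, mul_assoc])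
  obtain ⟨a, ha⟩ := pw x
  obtain ⟨b, hb⟩ := pw (x * g₀ * x⁻¹ * g₀⁻¹)
  rw [hc, smul_pow, one_pow] at hb
  have h7 := le_orderOf (smul_left_injective K one_ne_zero (hb.trans (one_smul K _).symm))
    fun e => h4 (by rw [Commute, SemiconjBy, h5, e, one_smul])
  have h8 : 0 < orderOf (c g₀) := (isOfFinOrder_iff_pow_eq_one.2 ⟨_, pow_pos hp.1.pos b,
    smul_left_injective K one_ne_zero (hb.trans (one_smul K _).symm)⟩).orderOf_pos
  refine (le_map_der M h6 k).trans (map_le_iff_le_comap.2 (of_eig h0 (ρ.comp M.subtype) ha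
    (fun g => (hM _).1 g.2) fun μ hμ => ?_))
  have h9 := mul_le (ρ x) (fun μ => c g₀ * μ) (eig_le (σ := id) _ surjective_id (ρ g₀).toAddMonoidHom
    (ρ.apply_bijective g₀).1 (map_smul (ρ g₀)) (LinearMap.congr_fun (h5 g₀))) μ p fun i hi j hj e => by
      simp only [mul_left_iterate] at e
      exact pow_injOn_Iio_orderOf (hi.trans_le (Nat.le_of_dvd h8 h7))
        (hj.trans_le (Nat.le_of_dvd h8 h7)) (mul_right_cancel₀ (fun e => by simp [e, hp.1.ne_zero] at hμ) e)
  have h10 : finrank K (End.eigenspace (ρ x) μ) < p ^ k :=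
    lt_of_mul_lt_mul_left (h9.trans_lt (pow_succ' p k ▸ hk)) (Nat.zero_le _)
  have h11 := finrank_pos (R := K) (M := V)
  have h12 := hp.1.two_le
  exact ih k M _ _ (hG.to_subgroup M) (by nlinarith) h10

theorem frob [IsAlgClosed K] (h0 : (p : K) ≠ 0) {q : ℕ} (hq : 0 < q) (hpq : ¬ p ∣ q) (k n : ℕ) :
    ∀ (V : Type v) [AddCommGroup V] [Module K V] [FiniteDimensional K V] (ρ : Representation K G V)
    (φ : V →+ V), Injective φ → (∀ (r : K) v, φ (r • v) = r ^ q • φ v) → (∀ g v, ρ g (φ v) = φ (ρ g v)) →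
    IsPGroup p G → finrank K V < n → finrank K V / orderOf (q : ZMod p) < p ^ k →
    derivedSeries G k ≤ ρ.ker := by
  induction n with
  | zero => exact fun _ _ _ _ _ _ _ _ _ _ h => (Nat.not_lt_zero _ h).elim
  | succ n ih =>
  intro V _ _ _ ρ φ h1 h2 h3 hG hn hk
  have := hG.isNilpotent
  by_cases h4 : ∀ x, ρ x = 1
  · exact fun g _ => h4 g
  obtain ⟨z, h5, h6⟩ : ∃ z, (∀ g, ρ (z * g * z⁻¹ * g⁻¹) = 1) ∧ ρ z ≠ 1 := by
    by_contra! e
    exact h4 (nil_ind (map_one ρ) e)
  have h7 : ∀ g, Commute (ρ g) (ρ z) := fun g => by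
    rw [Commute, SemiconjBy, ← map_mul, ← map_mul, show z * g = z * g * z⁻¹ * g⁻¹ * (g * z) by group,
      map_mul ρ (_ * g⁻¹), h5, one_mul]
  obtain ⟨a, ha⟩ := hG z
  refine of_eig h0 ρ (a := a) (by rw [← map_pow, ha, map_one]) h7 fun μ hμ => ?_
  by_cases h8 : μ = 1
  · subst h8
    have := Submodule.finrank_lt (s := End.eigenspace (ρ z) 1) fun e => h6 (LinearMap.ext fun v => by
      simpa using End.mem_eigenspace_iff.1 (e.ge Submodule.mem_top))
    refine ih _ _ ((φ.comp (End.eigenspace (ρ z) 1).subtype.toAddMonoidHom).codRestrict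
      (End.eigenspace (ρ z) 1).toAddSubgroup fun v => End.mem_eigenspace_iff.2 ?_)
      (fun a b e => Subtype.ext (h1 (congrArg Subtype.val e))) (fun r v => Subtype.ext (h2 r v))
      (fun g v => Subtype.ext (h3 g v)) hG (by omega) ((Nat.div_le_div_right this.le).trans_lt hk)
    show ρ z (φ v) = (1 : K) • φ v
    rw [h3, End.mem_eigenspace_iff.1 v.2, one_smul, one_smul]
  have h9 := mul_le (ρ z) (fun μ => 1 * μ ^ q) (eig_le _ (fun x => IsAlgClosed.exists_pow_nat_eq x hq)
    φ h1 h2 fun v => by rw [h3, one_smul]) μ (orderOf (q : ZMod p)) fun i hi j hj e => by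
      simp only [one_mul, pow_iterate] at e
      have h9 := (isOfFinOrder_iff_pow_eq_one.2 ⟨_, pow_pos hp.1.pos a, hμ⟩).pow_eq_pow_iff_modEq.1 e
      exact pow_injOn_Iio_orderOf hi hj (by
        simpa using (ZMod.natCast_eq_natCast_iff _ _ _).2 (h9.of_dvd (le_orderOf hμ h8)))
  have h10 : 0 < orderOf (q : ZMod p) := (isOfFinOrder_iff_pow_eq_one.2 ⟨p - 1,
    Nat.sub_pos_of_lt hp.1.one_lt, ZMod.pow_card_sub_one_eq_one
      ((ZMod.natCast_eq_zero_iff _ _).not.2 hpq)⟩).orderOf_pos
  exact cop h0 _ k G _ _ hG (Nat.lt_succ_self _)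
    (((Nat.le_div_iff_mul_le h10).2 ((mul_comm _ _).trans_le h9)).trans_lt hk)

theorem exists_fixed [CharP K p] (hG : IsPGroup p G) (ρ : Representation K G V) [Nontrivial V] :
    ∃ v ≠ 0, ∀ g, ρ g v = v := by
  obtain ⟨v, hv⟩ := exists_ne (0 : V)
  letI : Algebra (ZMod p) K := ZMod.algebra K p
  letI : Module (ZMod p) V := Module.compHom V (algebraMap (ZMod p) K)
  let A : Submodule (ZMod p) V := Submodule.span (ZMod p) (Set.range fun g : G => ρ g v)
  have : Module.Finite (ZMod p) A := Module.Finite.span_of_finite _ (Set.finite_range _)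
  have hfin : Finite A := Module.finite_of_finite (ZMod p)
  have hA : ∀ g, ∀ f ∈ A, ρ g f ∈ A := fun g f hf => by
    induction hf using Submodule.span_induction with
    | mem f hf => obtain ⟨h, rfl⟩ := hf; exact Submodule.subset_span ⟨g * h, by simp⟩
    | zero => simp
    | add f g _ _ h1 h2 => rw [map_add]; exact A.add_mem h1 h2
    | smul c f _ h => exact map_smul (ρ g) (algebraMap (ZMod p) K c) f ▸ A.smul_mem c h
  letI : MulAction G A :=
    { smul := fun a x => ⟨ρ a x, hA a x x.2⟩
      one_smul := fun x => Subtype.ext (show ρ 1 x = x by simp)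
      mul_smul := fun a b x => Subtype.ext (show ρ (a * b) x = ρ a (ρ b x) by simp) }
  have hd : p ∣ Nat.card A := by
    have : Nontrivial A := ⟨⟨v, Submodule.subset_span ⟨1, by simp⟩⟩, 0,
      fun e => hv (congrArg Subtype.val e)⟩
    rw [Module.natCard_eq_pow_finrank (K := ZMod p), Nat.card_zmod]
    exact dvd_pow_self p finrank_pos.ne'
  obtain ⟨b, hb, hb0⟩ := hG.exists_fixed_point_of_prime_dvd_card_of_fixed_point A hd
    (a := 0) fun a => Subtype.ext (map_zero (ρ a))
  exact ⟨b, fun h => hb0 (Subtype.ext h.symm), fun a => congrArg Subtype.val (hb a)⟩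

/-- The descending series `V ≥ [V, G] ≥ [V, G, G] ≥ ⋯`. -/
def ds (ρ : Representation K G V) : ℕ → Submodule K V
  | 0 => ⊤
  | i + 1 => ⨆ g, (ds ρ i).map (ρ g - 1)

theorem sub_mem_ds (ρ : Representation K G V) {i : ℕ} {v : V} (h : v ∈ ds ρ i) (g : G) :
    ρ g v - v ∈ ds ρ (i + 1) := Submodule.mem_iSup_of_mem g ⟨v, h, rfl⟩

theorem ds_succ_le (ρ : Representation K G V) (i : ℕ) : ds ρ (i + 1) ≤ ds ρ i := by
  induction i with
  | zero => exact le_top
  | succ i ih => exact iSup_mono fun g => Submodule.map_mono ih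

theorem ds_inv (ρ : Representation K G V) {i : ℕ} {v : V} (h : v ∈ ds ρ i) (g : G) :
    ρ g v ∈ ds ρ i := by simpa using add_mem (ds_succ_le ρ i (sub_mem_ds ρ h g)) h

theorem ds_eq_bot [CharP K p] (hG : IsPGroup p G) (ρ : Representation K G V) {n : ℕ}
    (h : finrank K V ≤ n) : ds ρ n = ⊥ := by
  have key : ∀ i, ds ρ i = ⊥ ∨ finrank K (ds ρ i) + i ≤ finrank K V := fun i => by
    induction i with
    | zero => exact Or.inr (Submodule.finrank_le _)
    | succ i ih =>
      by_cases h1 : ds ρ i = ⊥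
      · exact Or.inl (eq_bot_iff.2 ((ds_succ_le ρ i).trans h1.le))
      have := Submodule.nontrivial_iff_ne_bot.2 h1
      obtain ⟨f, h2, h3⟩ := exists_fixed hG (ρ.subrepresentation (ds ρ i) fun g v hv =>
        ds_inv ρ hv g).dual
      have h4 : ds ρ (i + 1) ≤ (LinearMap.ker f).map (ds ρ i).subtype := iSup_le fun g => by
        rintro _ ⟨v, hv, rfl⟩
        refine ⟨⟨ρ g v, ds_inv ρ hv g⟩ - ⟨v, hv⟩, ?_, rfl⟩
        have := LinearMap.congr_fun (h3 g⁻¹) ⟨v, hv⟩
        simp only [Representation.dual_apply, inv_inv] at this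
        exact (map_sub f _ _).trans (sub_eq_zero.2 this)
      have h5 := Submodule.finrank_mono h4
      have h6 := Submodule.finrank_lt (s := LinearMap.ker f) fun e => h2 (LinearMap.ker_eq_top.1 e)
      have := ih.resolve_left h1
      rw [Submodule.finrank_map_subtype_eq] at h5
      omega
  exact (key n).elim id fun e => Submodule.finrank_eq_zero.1 (by omega)

theorem modular [CharP K p] (hG : IsPGroup p G) (ρ : Representation K G V) {k : ℕ}
    (h : finrank K V ≤ 2 ^ k) : derivedSeries G k ≤ ρ.ker := by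
  let S : ℕ → Subgroup G := fun m =>
    { carrier := {g | ∀ i, ∀ v ∈ ds ρ i, ρ g v - v ∈ ds ρ (i + m)}
      one_mem' := fun i v _ => by simp
      mul_mem' := fun {a b} ha hb i v hv => by
        simpa using add_mem (ha i _ (ds_inv ρ hv b)) (hb i v hv)
      inv_mem' := fun {a} ha i v hv => by simpa using neg_mem (ha i _ (ds_inv ρ hv a⁻¹)) }
  have key : ∀ j, derivedSeries G j ≤ S (2 ^ j) := fun j => by
    induction j with
    | zero => exact fun g _ i v hv => sub_mem_ds ρ hv g
    | succ j ih =>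
      refine commutator_le.2 fun a ha b hb i v hv => ?_
      have h1 := ds_inv ρ (ds_inv ρ hv b⁻¹) a⁻¹
      have h2 := sub_mem (ih ha _ _ (ih hb _ _ h1)) (ih hb _ _ (ih ha _ _ h1))
      rw [pow_succ, mul_two, ← add_assoc]
      convert h2 using 1
      simp [commutatorElement_def]
      abel
  intro g hg
  refine LinearMap.ext fun v => sub_eq_zero.1 ?_
  have := key k hg 0 v trivial
  rwa [zero_add, ds_eq_bot hG ρ h] at this

theorem embed (ρ : Representation K G V) (h : Injective ρ) {n : ℕ} (hn : finrank K V ≤ n) :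
    ∃ f : G →* GL (Fin n) K, Injective f := by
  let b := finBasisOfFinrankEq K (V × (Fin (n - finrank K V) → K)) (n := n) (by simp; omega)
  refine ⟨((LinearMap.toMatrixAlgEquiv b).toMonoidHom.comp (ρ.prod (Representation.trivial K G
    _))).toHomUnits, fun x y e => h (LinearMap.ext fun v => ?_)⟩
  exact congrArg Prod.fst (LinearMap.congr_fun ((LinearMap.toMatrixAlgEquiv b).injective
    (congrArg Units.val e)) (v, 0))

/-- Extension of scalars of a matrix representation. -/
noncomputable def mrep {F : Type*} [Field F] (σ : F →+* K) {n : ℕ} (ρ : G →* GL (Fin n) F) :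
    Representation K G (Fin n → K) :=
  (Matrix.toLinAlgEquiv'.toMonoidHom.comp σ.mapMatrix.toMonoidHom).comp ((Units.coeHom _).comp ρ)

theorem mrep_apply {F : Type*} [Field F] (σ : F →+* K) {n : ℕ} (ρ : G →* GL (Fin n) F) (g : G)
    (v : Fin n → K) : mrep σ ρ g v = ((ρ g).1.map σ).mulVec v := rfl

theorem mrep_inj {F : Type*} [Field F] (σ : F →+* K) {n : ℕ} {ρ : G →* GL (Fin n) F}
    (h : Injective ρ) : Injective (mrep σ ρ) := fun _ _ e =>
  h (Units.ext (Matrix.map_injective σ.injective (Matrix.toLinAlgEquiv'.injective e)))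

end lin

end CA.H10Dl
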