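import Cfsg.Agent.Lib.Grp.PGClassTwo
import Cfsg.Agent.Lib.Grp.PGBasic

/-!
# Commutator subgroups of cyclic extensions; groups of order `p ^ 4`
-/

set_option autoImplicit false
set_option linter.unusedSectionVars false
set_option linter.unusedVariables false

namespace CA.H10Pg
open Subgroup CA.PGBasic CA.PGClassTwo
open scoped commutatorElement

variable {G : Type*} [Group G] [Finite G] {p : ℕ}

theorem comm_le {N M : Subgroup G} [M.Normal] {x : G} (hx : N ⊔ zpowers x = ⊤) (h1 : ⁅N, N⁆ ≤ M)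
    (h2 : ∀ n ∈ N, ⁅x, n⁆ ∈ M) : commutator G ≤ M := by
  have c : ∀ a b : G, ⁅a, b⁆ ∈ M ↔ b ∈ (centralizer {(a : G ⧸ M)}).comap (QuotientGroup.mk' M) :=
    fun a b => by
      rw [mem_comap, mem_centralizer_singleton_iff, eq_comm, ← QuotientGroup.eq_one_iff,
        ← commutatorElement_eq_one_iff_mul_comm]
      rfl
  have sw : ∀ a b : G, ⁅a, b⁆ ∈ M → ⁅b, a⁆ ∈ M := fun a b h => by
    rw [← commutatorElement_inv]; exact inv_mem h
  have all : ∀ a : G, (∀ n ∈ N, ⁅a, n⁆ ∈ M) → ⁅a, x⁆ ∈ M → ∀ b, ⁅a, b⁆ ∈ M := fun a h h' b =>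
    (c a b).2 ((hx.ge.trans (sup_le (fun n hn => (c a n).1 (h n hn))
      (zpowers_le_of_mem ((c a x).1 h')))) (mem_top b))
  refine commutator_le.2 fun a _ b _ => all a (fun n hn => sw _ _ (all n
    (fun m hm => h1 (commutator_mem_commutator hn hm)) (sw _ _ (h2 n hn)) a))
    (sw _ _ (all x h2 (by simp) a)) b

theorem key (N : Subgroup G) [hN : N.Normal] {x : G} (hx : N ⊔ zpowers x = ⊤) :
    Nat.card {n : N // x * n * x⁻¹ * (n : G)⁻¹ ∈ (commutator N).map N.subtype} *
      Nat.card (commutator G) = Nat.card N * Nat.card (commutator N) := by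
  have hD : (commutator N).map N.subtype = ⁅N, N⁆ := map_subtype_commutator N
  rw [← card_map_of_injective (K := commutator N) N.subtype_injective, hD]
  have ab : ∀ a ∈ N, ∀ b ∈ N, (a : G ⧸ ⁅N, N⁆) * b = b * a := fun a ha b hb => by
    rw [← commutatorElement_eq_one_iff_mul_comm]
    exact (QuotientGroup.eq_one_iff _).2 (commutator_mem_commutator ha hb)
  have cm : ∀ n ∈ N, ⁅x, n⁆ ∈ N := fun n hn => mul_mem (hN.conj_mem n hn x) (inv_mem hn)
  let f : N →* G ⧸ ⁅N, N⁆ := MonoidHom.mk' (fun n => (⁅x, (n : G)⁆ : G)) fun a b => by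
    have : ⁅x, ((a * b : N) : G)⁆ = ⁅x, (a : G)⁆ * (a * ⁅x, (b : G)⁆ * (a : G)⁻¹) := by
      simp only [commutatorElement_def, coe_mul]; group
    simp only [this, QuotientGroup.mk_mul]
    rw [ab _ a.2 _ (cm _ b.2), QuotientGroup.mk_inv, mul_inv_cancel_right]
  have hr : f.range.comap (QuotientGroup.mk' _) = commutator G := by
    refine le_antisymm ?_ ?_
    · rintro g ⟨n, hn⟩
      have := commutator_mono le_top le_top (QuotientGroup.eq.1 hn)
      exact (mul_mem_cancel_left (inv_mem (comm_mem_commutator x n))).1 this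
    · have : f.range.Normal := by
        rw [← normalizer_eq_top_iff, eq_top_iff, ← map_top_of_surjective _
          (QuotientGroup.mk'_surjective ⁅N, N⁆), ← hx, Subgroup.map_sup, sup_le_iff, MonoidHom.map_zpowers,
          zpowers_le]
        refine ⟨(centralizer_le_normalizer _).trans' ?_, mem_normalizer_fintype ?_⟩
        · rintro _ ⟨n, hn, rfl⟩ _ ⟨m, rfl⟩
          exact ab _ (cm _ m.2) _ hn
        · rintro _ ⟨m, rfl⟩
          refine ⟨⟨_, hN.conj_mem m m.2 x⟩, ?_⟩
          change ((_ : G) : G ⧸ ⁅N, N⁆) = ((x * ⁅x, (m : G)⁆ * x⁻¹ : G) : G ⧸ ⁅N, N⁆)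
          simp only [commutatorElement_def]; group
      exact comm_le hx (fun g hg => by
        rw [mem_comap, QuotientGroup.mk'_apply, (QuotientGroup.eq_one_iff _).2 hg]; exact one_mem _)
        fun n hn => ⟨⟨n, hn⟩, rfl⟩
  have e : Nat.card {n : N // x * n * x⁻¹ * (n : G)⁻¹ ∈ ⁅N, N⁆} = Nat.card f.ker :=
    Nat.card_congr (Equiv.subtypeEquivRight fun n => (QuotientGroup.eq_one_iff _).symm)
  rw [e, ← hr, ← f.ker.card_mul_index, index_ker, mul_assoc]
  congr 1
  have := card_mul_relIndex (H := ⁅N, N⁆) (K := f.range.comap (QuotientGroup.mk' _))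
    (hr ▸ commutator_mono le_top le_top)
  rw [← this, mul_comm]
  congr 1
  have := relIndex_ker (f.range.comap (QuotientGroup.mk' _)) (QuotientGroup.mk' ⁅N, N⁆)
  rwa [map_comap_eq_self_of_surjective (QuotientGroup.mk'_surjective _), QuotientGroup.ker_mk'] at this

variable [hp : Fact p.Prime]

/-- `|Z| |G'| = |A|` for an abelian normal subgroup of prime index in a non-abelian group. -/
theorem center_mul {A : Subgroup G} [A.Normal] [IsMulCommutative A] (hA : A.index = p)
    (hG : commutator G ≠ ⊥) : Nat.card (center G) * Nat.card (commutator G) = Nat.card A := by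
  obtain ⟨x, hx⟩ : ∃ x, x ∉ A := by
    by_contra! h
    rw [(eq_top_iff' A).2 h, index_top] at hA
    exact hp.out.one_lt.ne hA
  have hs := sup_zpowers_eq_top_of_index_prime hp.out hA hx
  have := key A hs
  rw [(commutator_eq_bot_iff_center_eq_top _).2 (center_eq_top_iff.2 ‹_›), card_bot, mul_one,
    Subgroup.map_bot] at this
  rw [← this]
  congr 1
  have hZ : center G ≤ A := fun z hz => by
    by_contra hz'
    have := isMulCommutative_sup_zpowers (A := A) (x := z) fun a _ => mem_center_iff.1 hz a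
    rw [sup_zpowers_eq_top_of_index_prime hp.out hA hz'] at this
    exact hG ((commutator_eq_bot_iff_center_eq_top _).2 (center_eq_top_iff.2
      ⟨⟨fun a b => isMulCommutative_iff.1 this a trivial b trivial⟩⟩))
  refine Nat.card_congr ⟨fun z => ⟨⟨z, hZ z.2⟩, by simp [mem_center_iff.1 z.2 x]⟩,
    fun n => ⟨n.1, ?_⟩, fun _ => rfl, fun _ => rfl⟩
  refine mem_center_iff.2 fun g => ?_
  have : g ∈ centralizer {(n.1 : G)} := (hs.ge.trans (sup_le
    (fun a ha => mem_centralizer_singleton_iff.2 (isMulCommutative_iff.1 ‹_› a ha _ n.1.2))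
    (zpowers_le_of_mem (mem_centralizer_singleton_iff.2
      (commutatorElement_eq_one_iff_mul_comm.1 (mem_bot.1 n.2)))))) (mem_top g)
  exact mem_centralizer_singleton_iff.1 this

theorem exists_ab (h : Nat.card G = p ^ 4) :
    ∃ A : Subgroup G, A.Normal ∧ IsMulCommutative A ∧ A.index = p := by
  have hG : IsPGroup p G := IsPGroup.of_card h
  have h1 := hp.out.one_lt
  obtain ⟨Z, _, -, hZ⟩ := exists_normal_card hG (M := ⊤) 1
    (by rw [card_top, h]; exact Nat.pow_le_pow_right h1.le (by norm_num))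
  rw [pow_one] at hZ
  have hZc := le_center_of_card_eq hG hZ
  obtain ⟨x, -, hx, hxp, hc⟩ := exists_layer_pow_top hG (M := ⊤) (N := Z) fun e => by
    rw [top_le_iff.1 e, card_top, h] at hZ
    exact absurd (Nat.pow_right_injective h1 (hZ.trans (pow_one p).symm)) (by norm_num)
  have hZa : IsMulCommutative Z := isMulCommutative_of_le hZc
  have := normal_sup_zpowers hc
  have hN := isMulCommutative_sup_zpowers (A := Z) (x := x) fun a ha => (mem_center_iff.1 (hZc ha) x).symm
  have cN : Nat.card ↥(Z ⊔ zpowers x) = p * p := by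
    rw [card_sup_zpowers hp.out (by simp [normalizer_eq_top]) hx hxp, hZ]
  let f : G →* Z := MonoidHom.mk' (fun g => ⟨⁅x, g⁆, hc g⟩) fun a b =>
    Subtype.ext (comm_mul_right (commute_of_mem_center (hZc (hc b)) a))
  have hk : Z ⊔ zpowers x ≤ f.ker := sup_le
    (fun a ha => Subtype.ext (commutatorElement_eq_one_iff_mul_comm.2 (mem_center_iff.1 (hZc ha) x)))
    (zpowers_le_of_mem (Subtype.ext (by simp [f])))
  have ck : p ^ 3 ≤ Nat.card f.ker := by
    have h4 := f.ker.card_mul_index
    rw [index_ker, h] at h4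
    have h2 : Nat.card f.range ≤ p := hZ ▸ card_le_card_group f.range
    by_contra! h3
    have := Nat.mul_lt_mul_of_lt_of_le h3 h2 (by omega)
    rw [← pow_succ, h4] at this
    exact this.ne rfl
  obtain ⟨y, hy, hy', hyp, hyc⟩ := exists_layer_pow_top hG (M := f.ker) (N := Z ⊔ zpowers x) fun e => by
    have := card_le_of_le' e
    have : p * p < p ^ 3 := by rw [← sq]; exact Nat.pow_lt_pow_right h1 (by norm_num)
    omega
  refine ⟨_, normal_sup_zpowers hyc, isMulCommutative_sup_zpowers ?_, ?_⟩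
  · rw [← zpowers_le, ← le_centralizer_iff]
    refine sup_le (hZc.trans (center_le_centralizer _)) (zpowers_le_of_mem ?_)
    rw [← zpowers_le, ← le_centralizer_iff, zpowers_le]
    rintro _ ⟨k, rfl⟩
    exact ((commutatorElement_eq_one_iff_commute.1 (congrArg Subtype.val hy)).zpow_left k).eq
  · have := (Z ⊔ zpowers x ⊔ zpowers y).card_mul_index
    rw [card_sup_zpowers hp.out (by simp [normalizer_eq_top]) hy' hyp, cN, h] at this
    exact Nat.eq_of_mul_eq_mul_left (show 0 < p * p * p by positivity) (this.trans (by ring))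

theorem p4 (h : Nat.card G = p ^ 4) (hG : commutator G ≠ ⊥) :
    Nat.card (center G) * Nat.card (commutator G) = p ^ 3 := by
  obtain ⟨A, _, _, hA⟩ := exists_ab h
  have := A.card_mul_index
  rw [hA, h, pow_succ] at this
  rw [center_mul hA hG, Nat.eq_of_mul_eq_mul_right hp.out.pos this]

end CA.H10Pg
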