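import Mathlib
import Cfsg.Agent.Lib.Grp.SylIn

/-!
# Sylow subgroups with elementary abelian abelianization: wreath product configurations
-/

set_option autoImplicit false
set_option linter.unusedSectionVars false

namespace CA.H10Wr
open Subgroup CA.SylIn Equiv
open scoped commutatorElement

section basic
variable {Γ Γ' : Type*} [Group Γ] [Group Γ'] {p : ℕ} {P Q : Subgroup Γ} {x g : Γ}

/-- All `p`-th powers lie in the derived subgroup. -/
def EA (p : ℕ) (P : Subgroup Γ) : Prop := ∀ x ∈ P, x ^ p ∈ ⁅P, P⁆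

/-- The elements of `P` whose `p`-th power lies in `P'`. -/
def Om (p : ℕ) (P : Subgroup Γ) : Subgroup Γ :=
  ((powMonoidHom p).comp (Abelianization.of : P →* Abelianization P)).ker.map P.subtype

theorem mem_commutator_iff (x : P) : x ∈ _root_.commutator P ↔ (x : Γ) ∈ ⁅P, P⁆ := by
  rw [← map_subtype_commutator]
  exact (mem_map_iff_mem P.subtype_injective).symm

theorem mem_Om : x ∈ Om p P ↔ x ∈ P ∧ x ^ p ∈ ⁅P, P⁆ := by
  have h : ∀ y : P, y ∈ ((powMonoidHom p).comp (Abelianization.of : P →* Abelianization P)).ker ↔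
      (y : Γ) ^ p ∈ ⁅P, P⁆ := fun y => by
    rw [MonoidHom.mem_ker, MonoidHom.comp_apply, powMonoidHom_apply, ← map_pow, ← MonoidHom.mem_ker,
      Abelianization.ker_of, mem_commutator_iff, coe_pow]
  exact ⟨fun ⟨y, h1, h2⟩ => h2 ▸ ⟨y.2, (h y).1 h1⟩, fun ⟨h1, h2⟩ => ⟨⟨x, h1⟩, (h _).2 h2, rfl⟩⟩

theorem Om_le : Om p P ≤ P := map_subtype_le _

theorem ea_of_le_Om (h : P ≤ Om p P) : EA p P := fun _ hx => (mem_Om.1 (h hx)).2

theorem EA.le_Om (h : EA p Q) (hQ : Q ≤ P) : Q ≤ Om p P := fun x hx =>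
  mem_Om.2 ⟨hQ hx, commutator_mono hQ hQ (h x hx)⟩

theorem conj_mem_Om (hg : g ∈ normalizer (P : Set Γ)) (h : x ∈ Om p P) : g * x * g⁻¹ ∈ Om p P :=
  mem_Om.2 ⟨conj_mem_of_mem_normalizer hg (mem_Om.1 h).1, by
    rw [conj_pow]
    exact conj_mem_of_mem_normalizer (inf_normalizer_le_normalizer_commutator P P ⟨hg, hg⟩)
      (mem_Om.1 h).2⟩

theorem ea_iff : EA p P ↔ ∀ x : P, x ^ p ∈ _root_.commutator P :=
  ⟨fun h x => (mem_commutator_iff _).2 (h x x.2), fun h x hx => (mem_commutator_iff _).1 (h ⟨x, hx⟩)⟩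

theorem EA.map (h : EA p P) (f : Γ →* Γ') : EA p (P.map f) := by
  rintro _ ⟨x, hx, rfl⟩
  rw [← map_pow, ← map_commutator]
  exact mem_map_of_mem f (h x hx)

theorem EA.of_map {f : Γ →* Γ'} (hf : Function.Injective f) (h : EA p (P.map f)) : EA p P :=
  fun x hx => by
    have := h _ (mem_map_of_mem f hx)
    rwa [← map_pow, ← map_commutator, mem_map_iff_mem hf] at this

theorem ea_of_pow (h : ∀ x ∈ P, x ^ p = 1) : EA p P := fun x hx => h x hx ▸ one_mem _

/-- All Sylow `p`-subgroups have elementary abelian abelianization. -/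
def SEA (p : ℕ) (Γ : Type*) [Group Γ] : Prop := ∀ P : Sylow p Γ, EA p (P : Subgroup Γ)

theorem SEA.out (h : SEA p Γ) (P : Sylow p Γ) (x : (P : Subgroup Γ)) :
    x ^ p ∈ _root_.commutator (P : Subgroup Γ) := ea_iff.1 (h P) x

variable [hp : Fact p.Prime] [Finite Γ]

theorem SEA.ea {G : Subgroup Γ} (h : SEA p G) (hP : IsSylowIn p P G) : EA p P :=
  hP.map_toSylow ▸ (h hP.toSylow).map _

theorem sea_of {G : Subgroup Γ} (hP : IsSylowIn p P G) (h : EA p P) : SEA p G := fun Q => by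
  obtain ⟨g, -, e⟩ := hP.exists_conj_eq (isSylowIn_map Q)
  exact EA.of_map G.subtype_injective (e ▸ h.map _)

theorem SEA.of_surj [Finite Γ'] (h : SEA p Γ) (f : Γ →* Γ') (hf : Function.Surjective f) :
    SEA p Γ' := fun Q => by
  obtain ⟨P, rfl⟩ := Sylow.mapSurjective_surjective hf p Q
  exact (h P).map f

theorem SEA.of_equiv (h : SEA p Γ) (e : Γ ≃* Γ') : SEA p Γ' :=
  have := Finite.of_equiv _ e.toEquiv
  h.of_surj e.toMonoidHom e.surjective

theorem sea_top (hP : IsSylowIn p P ⊤) (h : EA p P) : SEA p Γ := (sea_of hP h).of_equiv topEquiv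

theorem isSylowIn_of_card (hP : IsPGroup p P)
    (h : (Nat.card Γ).factorization p ≤ (Nat.card P).factorization p) : IsSylowIn p P ⊤ := by
  refine ⟨le_top, hP, fun h1 => ?_⟩
  rw [relIndex_top_right] at h1
  rw [← card_mul_index P, Nat.factorization_mul Nat.card_pos.ne' index_ne_zero_of_finite,
    Finsupp.add_apply] at h
  have := hp.1.factorization_pos_of_dvd index_ne_zero_of_finite h1
  omega

theorem fact_sylow (P : Sylow p Γ) :
    (Nat.card P).factorization p = (Nat.card Γ).factorization p := by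
  rw [P.card_eq_multiplicity, hp.1.factorization_pow, Finsupp.single_eq_same]

theorem card_sup_of {A N : Subgroup Γ} (h : A ≤ normalizer (N : Set Γ)) :
    Nat.card (N ⊔ A : Subgroup Γ) * Nat.card (N ⊓ A : Subgroup Γ) = Nat.card N * Nat.card A := by
  have h1 : N.relIndex (N ⊔ A) = N.relIndex A := by
    have : (N.subgroupOf (N ⊔ A)).Normal :=
      (normal_subgroupOf_iff_le_normalizer le_sup_left).2 (sup_le le_normalizer h)
    rw [← relIndex_subgroupOf (le_refl (N ⊔ A)), subgroupOf_self,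
      ← relIndex_subgroupOf (le_sup_right : A ≤ N ⊔ A), ← relIndex_sup_left (A.subgroupOf (N ⊔ A)),
      ← subgroupOf_sup le_sup_left le_sup_right, subgroupOf_self]
  have h2 : ∀ K L : Subgroup Γ, Nat.card (K ⊓ L : Subgroup Γ) * K.relIndex L = Nat.card L :=
    fun K L => by
      rw [← card_mul_index (K.subgroupOf L), relIndex, ← inf_subgroupOf_right,
        Nat.card_congr (subgroupOfEquivOfLe inf_le_right).toEquiv]
  rw [← h2 N (N ⊔ A), ← h2 N A, h1, inf_eq_left.2 le_sup_left]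
  ring

theorem mem_sup_of {A N : Subgroup Γ} (h : A ≤ normalizer (N : Set Γ)) (hx : x ∈ N ⊔ A) :
    ∃ n ∈ N, ∃ a ∈ A, x = n * a := by
  rw [← SetLike.mem_coe, coe_mul_of_right_le_normalizer_left _ _ h] at hx
  obtain ⟨n, h1, a, h2, rfl⟩ := hx
  exact ⟨n, h1, a, h2, rfl⟩

end basic

/-- An injective homomorphism from `(H ≀ Sym ι) × R`. -/
structure Wr (ι H R Γ : Type*) [Group H] [Group R] [Group Γ] where
  β : (ι → H) × R →* Γ
  σ : Perm ι →* Γ
  conj : ∀ π f r, σ π * β (f, r) * (σ π)⁻¹ = β (fun i => f (π⁻¹ i), r)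
  inj : ∀ b π, β b = σ π → b = 1 ∧ π = 1

namespace Wr
variable {ι H R Γ : Type*} [Group H] [Group R] [Group Γ] [Fintype ι] [DecidableEq ι]
  (W : Wr ι H R Γ) {p : ℕ} (D : Subgroup H) (E : Subgroup R) (T : Subgroup (Perm ι))
  (G : Subgroup Γ)

theorem β_inj : Function.Injective W.β :=
  (injective_iff_map_eq_one _).2 fun b h => (W.inj b 1 (by rw [h, map_one])).1

theorem σ_inj : Function.Injective W.σ :=
  (injective_iff_map_eq_one _).2 fun π h => (W.inj 1 π (by rw [h, map_one])).2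

/-- The embedding of the `i`-th factor. -/
def e (i : ι) : H →* Γ := W.β.comp ((MonoidHom.inl _ _).comp (MonoidHom.mulSingle (fun _ => H) i))

theorem e_apply (i : ι) (d : H) : W.e i d = W.β (Pi.mulSingle i d, 1) := rfl

theorem e_inj (i : ι) : Function.Injective (W.e i) := fun _ _ h =>
  Pi.mulSingle_injective (M := fun _ => H) i (congrArg Prod.fst (W.β_inj h))

theorem conj_e (π : Perm ι) (i : ι) (d : H) : W.σ π * W.e i d * (W.σ π)⁻¹ = W.e (π i) d := by
  rw [e_apply, W.conj, e_apply]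
  congr 2
  funext j
  simp [Pi.mulSingle_apply, Equiv.symm_apply_eq]

theorem comm_e {i j : ι} (h : i ≠ j) (d d' : H) : Commute (W.e i d) (W.e j d') :=
  ((Pi.mulSingle_commute (f := fun _ => H) h d d').map (MonoidHom.inl _ R)).map W.β

/-- The base of the Sylow subgroup. -/
def bs : Subgroup ((ι → H) × R) := (Subgroup.pi Set.univ fun _ => D).prod E

variable {D E} in
theorem mem_bs {b : (ι → H) × R} : b ∈ (bs D E : Subgroup ((ι → H) × R)) ↔
    (∀ i, b.1 i ∈ D) ∧ b.2 ∈ E := ⟨fun h => ⟨fun i => h.1 i trivial, h.2⟩, fun h => ⟨fun i _ => h.1 i, h.2⟩⟩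

variable {D E} in
theorem single_mem_bs (i : ι) {d : H} (hd : d ∈ D) :
    (Pi.mulSingle i d, 1) ∈ (bs D E : Subgroup ((ι → H) × R)) :=
  mem_bs.2 ⟨fun j => by
    by_cases h : j = i
    · simpa [h]
    · simp [h], one_mem _⟩

/-- The big subgroup. -/
def Ph : Subgroup Γ := (bs D E).map W.β ⊔ T.map W.σ

/-- Its intersection with `G`. -/
def P : Subgroup Γ := W.Ph D E T ⊓ G

theorem norm_bs : T.map W.σ ≤ normalizer ((bs D E).map W.β : Set Γ) := by
  have h : ∀ π, ∀ x ∈ (bs D E).map W.β, W.σ π * x * (W.σ π)⁻¹ ∈ (bs D E).map W.β := by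
    rintro π _ ⟨⟨f, r⟩, h, rfl⟩
    exact W.conj π f r ▸ mem_map_of_mem _ (mem_bs.2 ⟨fun i => (mem_bs.1 h).1 _, (mem_bs.1 h).2⟩)
  rintro _ ⟨π, -, rfl⟩
  exact mem_normalizer_iff.2 fun x => ⟨h π x, fun h1 => by simpa [mul_assoc] using h π⁻¹ _ h1⟩

variable {D E T G}

theorem β_mem {b : (ι → H) × R} (h : b ∈ bs D E) : W.β b ∈ W.Ph D E T :=
  mem_sup_left (mem_map_of_mem _ h)

theorem e_mem (i : ι) {d : H} (h : d ∈ D) : W.e i d ∈ W.Ph D E T := W.β_mem (single_mem_bs i h)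

theorem σ_mem {π : Perm ι} (h : π ∈ T) : W.σ π ∈ W.Ph D E T := mem_sup_right (mem_map_of_mem _ h)

theorem norm_P [G.Normal] : W.Ph D E T ≤ normalizer (W.P D E T G : Set Γ) :=
  (le_inf le_normalizer (le_top.trans (normalizer_eq_top G).ge)).trans
    (inf_normalizer_le_normalizer_inf _ _)

theorem σ_Om (hT : EA p T) (hσ : ∀ π ∈ T, W.σ π ∈ G) {π : Perm ι} (h : π ∈ T) :
    W.σ π ∈ Om p (W.P D E T G) :=
  (hT.map W.σ).le_Om (le_inf le_sup_right (by rintro _ ⟨τ, h, rfl⟩; exact hσ τ h)) (mem_map_of_mem _ h)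

theorem ea_of [Finite Γ] (hT : EA p T) (hσ : ∀ π ∈ T, W.σ π ∈ G)
    (hB : ∀ b ∈ bs D E, W.β b ∈ G → W.β b ∈ Om p (W.P D E T G)) : EA p (W.P D E T G) :=
  ea_of_le_Om fun x hx => by
    obtain ⟨_, ⟨b, h1, rfl⟩, _, ⟨π, h2, rfl⟩, rfl⟩ := mem_sup_of (W.norm_bs D E T) hx.1
    exact mul_mem (hB b h1 ((G.mul_mem_cancel_right (hσ π h2)).1 hx.2)) (W.σ_Om hT hσ h2)

theorem β_mem_of {K : Subgroup Γ} {C : Subgroup H} (h : ∀ i, ∀ d ∈ C, W.e i d ∈ K) {f : ι → H}
    (hf : ∀ i, f i ∈ C) : W.β (f, 1) ∈ K :=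
  (pi_le_iff (J := K.comap (W.β.comp (MonoidHom.inl _ _))) (H := fun _ => C)).2
    (fun i => by rintro _ ⟨d, hd, rfl⟩; exact h i d hd) fun i _ => hf i

theorem comm_mem {i : ι} {d d' : H} (hd : d ∈ D) (hd' : d' ∈ D) {u v : (ι → H) × R}
    (hu : u ∈ bs D E) (hv : v ∈ bs D E) (hu1 : u.1 i = 1) (hv1 : v.1 i = 1) (h : Commute u v)
    (h1 : W.e i d * W.β u ∈ G) (h2 : W.e i d' * W.β v ∈ G) :
    W.e i ⁅d, d'⁆ ∈ ⁅W.P D E T G, W.P D E T G⁆ := by
  have h3 : W.e i ⁅d, d'⁆ = ⁅W.e i d * W.β u, W.e i d' * W.β v⁆ := by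
    rw [e_apply, e_apply, e_apply, ← map_mul, ← map_mul, ← map_commutatorElement]
    congr 1
    have h4 := commutatorElement_eq_one_iff_commute.2 h
    simp only [commutatorElement_def] at h4 ⊢
    refine Prod.ext (funext fun j => ?_) (by simpa using (congrArg Prod.snd h4).symm)
    by_cases e : j = i
    · simp [e, hu1, hv1]
    · simpa [e] using (congrFun (congrArg Prod.fst h4) j).symm
  rw [h3]
  exact commutator_mem_commutator ⟨mul_mem (W.e_mem i hd) (W.β_mem hu), h1⟩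
    ⟨mul_mem (W.e_mem i hd') (W.β_mem hv), h2⟩

theorem e_mul_inv_mem (hG : _root_.commutator Γ ≤ G) (i j : ι) (d : H) :
    W.e i d * W.e j d⁻¹ ∈ G := by
  have h := W.conj_e (swap i j) i d⁻¹
  rw [swap_apply_left] at h
  rw [← h, map_inv]
  refine hG ?_
  rw [← mul_assoc, ← mul_assoc, ← commutatorElement_def]
  exact commutator_mem_commutator (mem_top _) (mem_top _)

theorem comm_mem_three (hG : _root_.commutator Γ ≤ G) (h3 : 3 ≤ Fintype.card ι) (i : ι) {d d' : H}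
    (hd : d ∈ D) (hd' : d' ∈ D) : W.e i ⁅d, d'⁆ ∈ ⁅W.P D E T G, W.P D E T G⁆ := by
  obtain ⟨j, hj, l, hl, h⟩ := Finset.one_lt_card.1 (show 1 < (Finset.univ.erase i).card by
    rw [Finset.card_erase_of_mem (Finset.mem_univ _), Finset.card_univ]; omega)
  exact W.comm_mem hd hd' (single_mem_bs j (inv_mem hd)) (single_mem_bs l (inv_mem hd'))
    (Pi.mulSingle_eq_of_ne (Finset.ne_of_mem_erase hj).symm _)
    (Pi.mulSingle_eq_of_ne (Finset.ne_of_mem_erase hl).symm _)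
    ((Pi.mulSingle_commute (f := fun _ => H) h _ _).map (MonoidHom.inl _ R))
    (W.e_mul_inv_mem hG i j d) (W.e_mul_inv_mem hG i l d')

theorem ea_A [Finite Γ] (hT : EA p T) (hσ : ∀ π ∈ T, W.σ π ∈ G) (hD : EA p D) (hE : ∀ r ∈ E, r ^ p = 1)
    (h : ∀ i, ∀ d ∈ D, ∀ d' ∈ D, W.e i ⁅d, d'⁆ ∈ ⁅W.P D E T G, W.P D E T G⁆) :
    EA p (W.P D E T G) :=
  W.ea_of hT hσ fun b hb h1 => mem_Om.2 ⟨⟨W.β_mem hb, h1⟩, by
    rw [← map_pow, show b ^ p = (b.1 ^ p, 1) from Prod.ext rfl (hE _ (mem_bs.1 hb).2)]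
    exact W.β_mem_of (C := ⁅D, D⁆) (fun i => (commutator_le (H₃ := Subgroup.comap (W.e i)
      ⁅W.P D E T G, W.P D E T G⁆)).2 (h i)) fun i => hD _ ((mem_bs.1 hb).1 i)⟩

theorem e_mul_inv_Om [G.Normal] (hT : EA p T) (hσ : ∀ π ∈ T, W.σ π ∈ G) {π : Perm ι} (h : π ∈ T) (i : ι)
    {d : H} (hd : d ∈ D) : W.e (π i) d * (W.e i d)⁻¹ ∈ Om p (W.P D E T G) := by
  have h1 := mul_mem (W.σ_Om (D := D) (E := E) hT hσ h)
    (conj_mem_Om (W.norm_P (W.e_mem i hd)) (inv_mem (W.σ_Om hT hσ h)))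
  rwa [← mul_assoc, ← mul_assoc, conj_e] at h1

theorem comm_Om [G.Normal] (hT : EA p T) (hσ : ∀ π ∈ T, W.σ π ∈ G) {π : Perm ι} (h : π ∈ T) {i : ι}
    (hi : π i ≠ i) {d d' : H} (hd : d ∈ D) (hd' : d' ∈ D) : W.e i ⁅d', d⁆ ∈ Om p (W.P D E T G) := by
  have h1 := W.e_mul_inv_Om (E := E) hT hσ h i hd
  have h2 := mul_mem (inv_mem (conj_mem_Om (W.norm_P (W.e_mem i hd')) h1)) h1
  rw [← mul_assoc (W.e i d'), (W.comm_e hi.symm d' d).eq] at h2
  rw [map_commutatorElement, commutatorElement_def]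
  convert h2 using 1
  group

theorem ea_B [Finite Γ] [G.Normal] (hT : EA p T) (hσ : ∀ π ∈ T, W.σ π ∈ G) (i : ι)
    (ht : ∀ j, ∃ π ∈ T, π i = j) (hE : ∀ r ∈ E, r = 1)
    (h : ∀ d ∈ D, W.e i d ∈ G → W.e i d ∈ Om p (W.P D E T G)) : EA p (W.P D E T G) :=
  W.ea_of hT hσ fun b hb h1 => by
    have h2 : D.map (W.e i) ≤ normalizer (Om p (W.P D E T G) : Set Γ) := by
      rintro _ ⟨d, hd, rfl⟩
      exact mem_normalizer_of_forall fun x hx => conj_mem_Om (W.norm_P (W.e_mem i hd)) hx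
    have h3 : W.β (b.1, 1) ∈ Om p (W.P D E T G) ⊔ D.map (W.e i) :=
      W.β_mem_of (fun j d hd => by
        obtain ⟨π, h3, rfl⟩ := ht j
        rw [← inv_mul_cancel_right (W.e (π i) d) (W.e i d)]
        exact mul_mem (mem_sup_left (W.e_mul_inv_Om hT hσ h3 i hd))
          (mem_sup_right (mem_map_of_mem _ hd))) (mem_bs.1 hb).1
    rw [show (b.1, 1) = b from Prod.ext rfl (hE _ (mem_bs.1 hb).2).symm] at h3
    obtain ⟨n, h4, _, ⟨d, hd, rfl⟩, e⟩ := mem_sup_of h2 h3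
    rw [e] at h1 ⊢
    exact mul_mem h4 (h d hd ((G.mul_mem_cancel_left (Om_le h4).2).1 h1))

theorem Om_of_ea {i : ι} (h : EA p (D ⊓ G.comap (W.e i))) {d : H} (hd : d ∈ D) (h1 : W.e i d ∈ G) :
    W.e i d ∈ Om p (W.P D E T G) :=
  (h.map (W.e i)).le_Om (by rintro _ ⟨c, hc, rfl⟩; exact ⟨W.e_mem i hc.1, hc.2⟩)
    (mem_map_of_mem _ ⟨hd, h1⟩)

variable [hp : Fact p.Prime] [Finite Γ] [Finite H] [Finite R]

theorem card_Ph : Nat.card (W.Ph D E T) = Nat.card D ^ Fintype.card ι * Nat.card E * Nat.card T := by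
  have h1 := card_sup_of (W.norm_bs D E T)
  have h2 : (bs D E).map W.β ⊓ T.map W.σ = ⊥ := eq_bot_iff.2 (by
    rintro _ ⟨⟨b, -, rfl⟩, π, -, e⟩
    rw [(W.inj b π e.symm).1, map_one]; exact one_mem _)
  rw [h2, card_bot, mul_one, card_map_of_injective W.β_inj, card_map_of_injective W.σ_inj] at h1
  rw [Ph, h1, bs, Nat.card_congr (prodEquiv _ _).toEquiv, Nat.card_prod]
  congr 2
  rw [← Nat.card_eq_fintype_card, ← Nat.card_fun]
  exact Nat.card_congr ⟨fun f i => ⟨f.1 i, f.2 i trivial⟩, fun f => ⟨fun i => f i, fun i _ => (f i).2⟩,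
    fun _ => rfl, fun _ => rfl⟩

theorem syl (D : Sylow p H) (T : Sylow p (Perm ι)) (hE : IsPGroup p E) [G.Normal]
    (h : (Nat.card Γ).factorization p ≤ Fintype.card ι * (Nat.card H).factorization p +
      (Nat.card E).factorization p + (Fintype.card ι).factorial.factorization p) :
    IsSylowIn p (W.P D E T G) G := by
  obtain ⟨n, hn⟩ := IsPGroup.iff_card.1 hE
  refine IsSylowIn.inf_of_normal (isSylowIn_of_card (IsPGroup.of_card (n := Fintype.card ι *
    (Nat.card H).factorization p + n + (Nat.card (Perm ι)).factorization p) (by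
      rw [card_Ph, hn, D.card_eq_multiplicity, T.card_eq_multiplicity]; ring)) ?_) le_top
    (normalizer_eq_top G).ge
  rw [card_Ph, Nat.factorization_mul (mul_ne_zero (pow_ne_zero _ Nat.card_pos.ne') Nat.card_pos.ne')
    Nat.card_pos.ne', Nat.factorization_mul (pow_ne_zero _ Nat.card_pos.ne') Nat.card_pos.ne',
    Nat.factorization_pow, Finsupp.add_apply, Finsupp.add_apply, Finsupp.smul_apply, fact_sylow,
    fact_sylow, Nat.card_perm, Nat.card_eq_fintype_card (α := ι)]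
  exact h

end Wr

/-! ### symmetric groups -/

section perm
variable (ι A C : Type*) [Fintype ι] [DecidableEq ι]

/-- `(Sym A ≀ Sym ι) × Sym C` in `Sym (ι × A ⊕ C)`. -/
def permWr [Nonempty A] : Wr ι (Perm A) (Perm C) (Perm (ι × A ⊕ C)) where
  β := MonoidHom.mk' (fun b => Perm.sumCongr (prodCongrRight b.1) b.2) fun _ _ => by
    ext (⟨i, a⟩ | c) <;> rfl
  σ := MonoidHom.mk' (fun π => Perm.sumCongr (prodCongrLeft fun _ => π) 1) fun _ _ => by
    ext (⟨i, a⟩ | c) <;> rfl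
  conj π f r := by
    rw [mul_inv_eq_iff_eq_mul]
    ext (⟨i, a⟩ | c) <;> simp
  inj b π h := by
    have h1 : ∀ i a, i = π i ∧ b.1 i a = a := fun i a => by
      simpa using congrArg (fun s : Perm (ι × A ⊕ C) => s (.inl (i, a))) h
    have h2 : ∀ c, b.2 c = c := fun c => by
      simpa using congrArg (fun s : Perm (ι × A ⊕ C) => s (.inr c)) h
    exact ⟨Prod.ext (funext fun i => Equiv.ext fun a => (h1 i a).2) (Equiv.ext h2),
      Equiv.ext fun i => (h1 i (Classical.arbitrary A)).1.symm⟩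

end perm

theorem fact_factorial {p : ℕ} [hp : Fact p.Prime] (k : ℕ) {r : ℕ} (h : r < p) :
    (k * p + r).factorial.factorization p = k + k.factorial.factorization p := by
  rw [Nat.factorization_def _ hp.1, Nat.factorization_def _ hp.1, mul_comm,
    padicValNat_factorial_mul_add k h, padicValNat_factorial_mul, add_comm]

theorem sea_aux {p : ℕ} [hp : Fact p.Prime] {k r : ℕ} (hr : r < p) (hT : SEA p (Perm (Fin k)))
    (G : Subgroup (Perm (Fin k × Fin p ⊕ Fin r))) [G.Normal] (hG : alternatingGroup _ ≤ G) :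
    SEA p G := by
  have : Nonempty (Fin p) := ⟨⟨0, hp.1.pos⟩⟩
  obtain ⟨D⟩ : Nonempty (Sylow p (Perm (Fin p))) := inferInstance
  obtain ⟨T⟩ : Nonempty (Sylow p (Perm (Fin k))) := inferInstance
  have h1 : (Nat.card (Perm (Fin p))).factorization p = 1 := by
    simpa [Fintype.card_perm] using fact_factorial 1 hp.1.pos
  refine sea_of ((permWr (Fin k) (Fin p) (Fin r)).syl D T IsPGroup.of_bot ?_)
    (Wr.ea_of _ (hT T) (fun π hπ => hG ?_) fun b hb h2 => mem_Om.2 ⟨⟨Wr.β_mem _ hb, h2⟩, ?_⟩)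
  · rw [h1, Nat.card_perm]
    simp [fact_factorial k hr]
  · rw [Perm.mem_alternatingGroup]
    rcases hp.1.eq_two_or_odd' with rfl | h
    · change Perm.sign (Perm.sumCongr (prodCongrLeft fun _ => π) 1) = 1
      simp [Perm.sign_prodCongrLeft]
    · obtain ⟨j, hj⟩ := T.isPGroup' ⟨π, hπ⟩
      have h3 := congrArg (fun x : T => Perm.sign ((permWr (Fin k) (Fin p) (Fin r)).σ x)) hj
      simp only [SubmonoidClass.coe_pow, map_pow, OneMemClass.coe_one, map_one] at h3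
      rcases Int.units_eq_one_or (Perm.sign ((permWr (Fin k) (Fin p) (Fin r)).σ π)) with e | e
      · exact e
      · rw [e, (h.pow).neg_one_pow] at h3
        exact absurd h3 (by decide)
  · have h3 : b ^ p = 1 := Prod.ext (funext fun i => by
      have := pow_card_eq_one' (x := (⟨b.1 i, (Wr.mem_bs.1 hb).1 i⟩ : (D : Subgroup (Perm (Fin p)))))
      rw [D.card_eq_multiplicity, h1, pow_one] at this
      exact congrArg Subtype.val this) (by rw [Prod.pow_snd, mem_bot.1 (Wr.mem_bs.1 hb).2, one_pow]; rfl)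
    rw [← map_pow, h3, map_one]
    exact one_mem _

theorem nonempty_equiv {p : ℕ} (α : Type*) [Fintype α] :
    Nonempty (Fin (Fintype.card α / p) × Fin p ⊕ Fin (Fintype.card α % p) ≃ α) :=
  ⟨Fintype.equivOfCardEq (by simp [Nat.div_add_mod'])⟩

theorem sea_fin (p : ℕ) [hp : Fact p.Prime] (n : ℕ) : SEA p (Perm (Fin n)) := by
  induction n using Nat.strong_induction_on with
  | _ n ih =>
    rcases n.eq_zero_or_pos with rfl | h
    · exact fun P => ea_of_pow fun _ _ => Subsingleton.elim _ _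
    obtain ⟨e⟩ := nonempty_equiv (p := p) (Fin n)
    exact ((sea_aux (Nat.mod_lt _ hp.1.pos) (ih _ (by
      rw [Fintype.card_fin]; exact Nat.div_lt_self h hp.1.one_lt)) ⊤ le_top).of_equiv
        topEquiv).of_equiv e.permCongrHom

theorem sea_perm (p : ℕ) [hp : Fact p.Prime] (α : Type*) [Fintype α] : SEA p (Perm α) :=
  (sea_fin p _).of_equiv (Fintype.equivFin α).symm.permCongrHom

theorem sea_alt (p : ℕ) [hp : Fact p.Prime] (α : Type*) [Fintype α] [DecidableEq α] :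
    SEA p (alternatingGroup α) := by
  obtain ⟨e⟩ := nonempty_equiv (p := p) α
  exact (sea_aux (Nat.mod_lt _ hp.1.pos) (sea_fin p _) _ le_rfl).of_equiv e.altCongrHom

/-- A Sylow subgroup of the symmetric group on a `p`-group which is transitive. -/
theorem exists_trans (p : ℕ) [hp : Fact p.Prime] (ι : Type*) [Group ι] [Finite ι]
    (h : IsPGroup p ι) : ∃ T : Sylow p (Perm ι), ∀ j, ∃ π ∈ (T : Subgroup (Perm ι)), π 1 = j := by
  obtain ⟨T, hT⟩ := (h.of_surjective _ (MulAction.toPermHom ι ι).rangeRestrict_surjective).exists_le_sylow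
  exact ⟨T, fun j => ⟨_, hT ⟨j, rfl⟩, mul_one j⟩⟩

/-- Even permutations map into any subgroup containing the derived subgroup. -/
theorem map_mem_commutator {α Γ : Type*} [Fintype α] [DecidableEq α] [Group Γ] (ρ : Perm α →* Γ)
    {π : Perm α} (h : Perm.sign π = 1) : ρ π ∈ _root_.commutator Γ := by
  have h1 : alternatingGroup α ≤ (_root_.commutator Γ).comap ρ := by
    rw [← Perm.closure_three_cycles_eq_alternating, closure_le]
    intro c hc
    obtain ⟨g, hg⟩ := isConj_iff.1 (Perm.isConj_iff_cycleType_eq.2 (Perm.cycleType_inv c).symm)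
    have h2 : c = ⁅g, c⁆ := by
      rw [commutatorElement_def, hg, ← mul_inv_rev, eq_inv_iff_mul_eq_one, ← pow_three,
        ← Perm.IsThreeCycle.orderOf hc, pow_orderOf_eq_one]
    rw [SetLike.mem_coe, mem_comap, h2, map_commutatorElement]
    exact commutator_mem_commutator (mem_top _) (mem_top _)
  exact h1 h

end CA.H10Wr
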