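import Cfsg.Agent.Lib.Grp.H13Misc
import Cfsg.Agent.Lib.Grp.Bal2
import Cfsg.Agent.Lib.Loc.AmbSyl
import Cfsg.Agent.Lib.Grp.Two

/-!
# Abelian 2-subgroups `H` such that every conjugate lies in `H Y` with `Y` of odd order

A variant of the Z*-theorem: then `H O(G)` is normal in `G`.
-/

set_option autoImplicit false
set_option linter.unusedSectionVars false

namespace CA.H13Ext
open Cfsg Subgroup CA.H13Inv CA.SylIn CA.H13Misc CA.H13ZRed CA.Bal2

universe u
variable {G : Type*} [Group G]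

theorem pow_coset {Y : Subgroup G} {c r : G} (hc : c * c = 1) (hn : c ∈ normalizer (Y : Set G))
    (h : c * r ∈ Y) (k : ℕ) : r ^ k ∈ Y ∨ c * r ^ k ∈ Y := by
  induction k with
  | zero => left; simp
  | succ k ih =>
    have hi : c⁻¹ = c := inv_eq_of_mul_eq_one_right hc
    rcases ih with ih | ih
    · right
      have := mul_mem (conj_mem_of_mem_normalizer hn ih) h
      rwa [show c * r ^ k * c⁻¹ * (c * r) = c * r ^ (k + 1) by rw [pow_succ]; group] at this
    · left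
      have := mul_mem (conj_mem_of_mem_normalizer hn ih) h
      rwa [show c * (c * r ^ k) * c⁻¹ * (c * r) = c * c * r ^ (k + 1) by rw [pow_succ]; group,
        hc, one_mul] at this

variable [Finite G]

theorem core_quot_eq_bot {p : ℕ} [Fact p.Prime] (hO : pPrimeCore p G = ⊥) (Z : Subgroup G)
    [Z.Normal] (hZ : Z ≤ center G) : pPrimeCore p (G ⧸ Z) = ⊥ := by
  set N := (pPrimeCore p (G ⧸ Z)).comap (QuotientGroup.mk' Z) with hN
  have hle : Z ≤ N := fun z hz => by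
    simp [hN, (QuotientGroup.eq_one_iff z).2 hz]
  have h1 : HasNormalPComplement p N := by
    refine hasNPC_of_central (Z.subgroupOf N) (fun z hz => mem_center_iff.2 fun g =>
      Subtype.ext (mem_center_iff.1 (hZ hz) g)) ?_
    have h2 := CA.Rad.card_comap_of_surjective (QuotientGroup.mk'_surjective Z)
      (pPrimeCore p (G ⧸ Z))
    rw [QuotientGroup.ker_mk', ← hN, ← (Z.subgroupOf N).card_mul_index,
      CA.Rad.card_subgroupOf_of_le hle, mul_comm] at h2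
    rw [Nat.eq_of_mul_eq_mul_right Nat.card_pos h2]
    exact (Nat.Prime.coprime_iff_not_dvd Fact.out).1 CA.Core.coprime_pPrimeCore.symm
  refine le_bot_iff.1 fun x hx => ?_
  obtain ⟨x, rfl⟩ := QuotientGroup.mk'_surjective Z x
  obtain ⟨a, b, -, hb, e, ⟨k, hk⟩, ho⟩ := CA.PRes.exists_p_part (p := p) x
  have h2 := mem_pPrimeCore_of_hasNPC h1 (zpowers_le.2 (show x ∈ N from hx) hb) ho
  rw [hO, mem_bot] at h2
  rw [h2, mul_one] at e
  subst e
  rw [mem_bot, ← orderOf_eq_one_iff]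
  exact ((CA.PLoc.coprime_orderOf_of_mem CA.Core.coprime_pPrimeCore hx).pow_right k).eq_one_of_dvd
    (orderOf_dvd_of_pow_eq_one (by rw [← map_pow, hk, map_one]))

/-- a 2-subgroup normalizing a subgroup of odd order -/
structure Pr (H Y : Subgroup G) : Prop where
  pg : IsPGroup 2 H
  odd : Odd (Nat.card Y)
  norm : H ≤ normalizer (Y : Set G)

variable {H Y : Subgroup G}

theorem Pr.eq_one (h : Pr H Y) {x : G} (h1 : x ∈ H) (h2 : x ∈ Y) : x = 1 := by
  have := CA.Core.inf_eq_bot_of_isPGroup_of_coprime h.pg (coprime_two_iff.2 h.odd)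
  exact mem_bot.1 (this ▸ mem_inf.2 ⟨h1, h2⟩)

theorem Pr.odd_orderOf (h : Pr H Y) {x : G} (hx : x ∈ Y) : Odd (orderOf x) :=
  coprime_two_iff.1 (CA.PLoc.coprime_orderOf_of_mem (coprime_two_iff.2 h.odd) hx)

theorem Pr.sup_le (h : Pr H Y) : H ⊔ Y ≤ normalizer (Y : Set G) := _root_.sup_le h.norm le_normalizer

theorem Pr.syl (h : Pr H Y) : IsSylowIn 2 H (H ⊔ Y) :=
  isSylowIn_iff.2 ⟨le_sup_left, h.pg, fun e => not_two_dvd_iff.2 h.odd
    (e.trans (CA.PLoc.relIndex_sup_dvd_card h.norm))⟩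

theorem Pr.exists_mul (h : Pr H Y) {x : G} (hx : x ∈ H ⊔ Y) : ∃ c ∈ H, c * x ∈ Y := by
  obtain ⟨c, hc, y, hy, rfl⟩ := (CA.Amb.mem_sup_of_norm h.norm).1 hx
  exact ⟨c⁻¹, inv_mem hc, by simpa using hy⟩

theorem Pr.pow_mem (h : Pr H Y) {c x : G} (hc : c ∈ H) (hx : c * x ∈ Y) (k : ℕ) :
    c ^ k * x ^ k ∈ Y := by
  induction k with
  | zero => simp
  | succ k ih =>
    have := mul_mem (conj_mem_of_mem_normalizer (h.norm hc) ih) hx
    rwa [show c * (c ^ k * x ^ k) * c⁻¹ * (c * x) = c ^ (k + 1) * x ^ (k + 1) by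
      rw [pow_succ' c, pow_succ x]; group] at this

theorem Pr.mem_of_odd (h : Pr H Y) {x : G} (hx : x ∈ H ⊔ Y) (ho : Odd (orderOf x)) : x ∈ Y := by
  obtain ⟨c, hc, hcx⟩ := h.exists_mul hx
  have h1 := h.pow_mem hc hcx (orderOf x)
  rw [pow_orderOf_eq_one, mul_one] at h1
  have h2 := orderOf_dvd_of_pow_eq_one (h.eq_one (H.pow_mem hc _) h1)
  obtain ⟨k, hk⟩ := CA.AmbSyl.orderOf_eq_pow_of_mem h.pg hc
  have h3 : orderOf c = 1 :=
    (hk ▸ (coprime_two_iff.2 ho).symm.pow_left k : (orderOf c).Coprime _).eq_one_of_dvd h2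
  rwa [orderOf_eq_one_iff.1 h3, one_mul] at hcx

theorem Pr.exists_conj (h : Pr H Y) (hA : H ≤ centralizer (H : Set G)) {a w c : G} (ha : a ∈ H)
    (hw : w ∈ H ⊔ Y) (hw2 : w * w = 1) (haw : w * a = a * w) (hc : c ∈ H) (hcw : c * w ∈ Y) :
    ∃ y ∈ Y, y * a = a * y ∧ y * w * y⁻¹ = c⁻¹ := by
  have hH : H ≤ centralizer ({a} : Set G) := fun x hx =>
    mem_centralizer_singleton_iff.2 (hA ha x hx)
  have hs : IsSylowIn 2 H ((H ⊔ Y) ⊓ centralizer ({a} : Set G)) :=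
    h.syl.of_le (le_inf le_sup_left hH) inf_le_left
  obtain ⟨l, hl, hle⟩ := hs.exists_conj_le (Q := zpowers w)
    (CA.AmbSyl.isPGroup_zpowers (k := 1) (by simpa [pow_two] using hw2))
    (zpowers_le.2 ⟨hw, mem_centralizer_singleton_iff.2 haw⟩)
  obtain ⟨d, hd, hdl⟩ := h.exists_mul hl.1
  have h1 : d * l * w * (d * l)⁻¹ ∈ H := by
    have := mul_mem (mul_mem hd (hle (conj_mem_conj.2 (mem_zpowers w)))) (inv_mem hd)
    rwa [show d * (l * w * l⁻¹) * d⁻¹ = d * l * w * (d * l)⁻¹ by group] at this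
  refine ⟨d * l, hdl, mem_centralizer_singleton_iff.1 (mul_mem (hH hd) hl.2), ?_⟩
  generalize d * l = y at hdl h1
  refine eq_inv_of_mul_eq_one_right (h.eq_one (mul_mem hc h1) ?_)
  have := mul_mem (mul_mem (conj_mem_of_mem_normalizer (h.norm hc) hdl) hcw) (inv_mem hdl)
  rwa [show c * y * c⁻¹ * (c * w) * y⁻¹ = c * (y * w * y⁻¹) by group] at this

/-- the hypothesis -/
def Hy (H : Subgroup G) : Prop :=
  IsPGroup 2 H ∧ H ≤ centralizer (H : Set G) ∧
    ∀ g : G, ∃ Y : Subgroup G, Pr H Y ∧ g •ᶜ H ≤ H ⊔ Y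

/-- the local conclusion -/
def Lc (H : Subgroup G) : Prop := ∀ t ∈ H, orderOf t = 2 → centralizer ({t} : Set G) ≤
  normalizer ((H ⊔ centralizerPPrimeCore 2 t : Subgroup G) : Set G)

/-- the elements of `C(t)` centralizing `H` modulo `O(C(t))` -/
def K (H : Subgroup G) (t : G) : Subgroup G where
  carrier := {x | x ∈ centralizer ({t} : Set G) ∧ ∀ h ∈ H, x * h * x⁻¹ * h⁻¹ ∈
    centralizerPPrimeCore 2 t}
  one_mem' := ⟨one_mem _, fun h _ => by simp⟩
  mul_mem' := fun {a b} ha hb => ⟨mul_mem ha.1 hb.1, fun h hh => by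
    have := mul_mem (conj_mem_of_mem_normalizer (centralizer_le_normalizer_cpc t ha.1) (hb.2 h hh))
      (ha.2 h hh)
    rwa [show a * (b * h * b⁻¹ * h⁻¹) * a⁻¹ * (a * h * a⁻¹ * h⁻¹) = a * b * h * (a * b)⁻¹ * h⁻¹ by
      group] at this⟩
  inv_mem' := fun {a} ha => ⟨inv_mem ha.1, fun h hh => by
    have := inv_conj_mem_of_mem_normalizer (centralizer_le_normalizer_cpc t ha.1)
      (inv_mem (ha.2 h hh))
    rwa [show a⁻¹ * (a * h * a⁻¹ * h⁻¹)⁻¹ * a = a⁻¹ * h * a⁻¹⁻¹ * h⁻¹ * (h * a⁻¹ * h⁻¹ * a) *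
      (h * a⁻¹ * h⁻¹ * a)⁻¹ * 1 by group, show a⁻¹ * h * a⁻¹⁻¹ * h⁻¹ * (h * a⁻¹ * h⁻¹ * a) *
      (h * a⁻¹ * h⁻¹ * a)⁻¹ * 1 = a⁻¹ * h * a⁻¹⁻¹ * h⁻¹ by group] at this⟩

theorem Hy.comm (h : Hy H) {a b : G} (ha : a ∈ H) (hb : b ∈ H) : a * b = b * a := h.2.1 hb a ha

theorem Hy.le_cent (h : Hy H) {a : G} (ha : a ∈ H) : H ≤ centralizer ({a} : Set G) := fun _ hx =>
  mem_centralizer_singleton_iff.2 (h.comm hx ha)

theorem Hy.pr (h : Hy H) {t : G} (ht : t ∈ H) : Pr H (centralizerPPrimeCore 2 t) :=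
  ⟨h.1, coprime_two_iff.1 (coprime_cpc t), (h.le_cent ht).trans (centralizer_le_normalizer_cpc t)⟩

theorem Hy.mem_K (h : Hy H) (hl : Lc H) (hY : Pr H Y) {t y : G} (ht : t ∈ H) (ho : orderOf t = 2)
    (hy : y ∈ Y) (hc : y * t = t * y) : y ∈ K H t := by
  have h1 := mem_centralizer_singleton_iff.2 hc
  refine ⟨h1, fun x hx => (h.pr ht).mem_of_odd (mul_mem (conj_mem_of_mem_normalizer (hl t ht ho h1)
    (mem_sup_left hx)) (mem_sup_left (inv_mem hx))) (hY.odd_orderOf ?_)⟩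
  have := mul_mem hy (conj_mem_of_mem_normalizer (hY.norm hx) (inv_mem hy))
  simpa [mul_assoc] using this

theorem Hy.forward (h : Hy H) (hl : Lc H) (hY : Pr H Y) {a b v : G} (ha : a ∈ H) (hb : b ∈ H)
    (oa : orderOf a = 2) (ob : orderOf b = 2) (hne : a ≠ b) (hv : v ∈ H ⊔ Y) (hv2 : v * v = 1)
    (ho : Odd (orderOf (b * v))) :
    ∃ y ∈ K H a, y * v * y⁻¹ * b ∈ centralizerPPrimeCore 2 (a * b) := by
  have hbv : b * v ∈ Y := hY.mem_of_odd (mul_mem (mem_sup_left hb) hv) ho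
  have hab := mul_mem ha hb
  have oab := orderOf_mul_two oa ob (h.comm ha hb) hne
  have h1 : a * b * (a * v) ∈ Y := by
    rwa [h.comm ha hb, show b * a * (a * v) = b * (a * a) * v by group, mul_self oa, mul_one]
  have hav : a * v ∈ H ⊔ Y := mul_mem (mem_sup_left ha) hv
  have he : Even (orderOf (a * v)) := by
    rw [← Nat.not_odd_iff_even]
    intro e
    exact ne_one oab (hY.eq_one hab (by
      simpa only [mul_inv_cancel_right] using mul_mem h1 (inv_mem (hY.mem_of_odd hav e))))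
  have ow := orderOf_pow_half he
  have c1 := commute_pow_half_left (mul_self oa) hv2 he
  have c2 := commute_pow_half_right (mul_self oa) hv2 he
  have h2 := (pow_coset (mul_self oab) (hY.norm hab) h1 (orderOf (a * v) / 2)).resolve_left
    fun e => absurd (ow ▸ hY.odd_orderOf e) (by decide)
  obtain ⟨y, hy, hya, e⟩ := hY.exists_conj h.2.1 ha (Subgroup.pow_mem _ hav _) (mul_self ow) c1 hab h2
  rw [inv_eq oab] at e
  have c3 : y * v * y⁻¹ * (a * b) = a * b * (y * v * y⁻¹) := e ▸ (commute_conj c2 y).symm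
  obtain ⟨x, hx, hxa, e'⟩ := hY.exists_conj h.2.1 hab (w := y * v * y⁻¹)
    (mul_mem (mul_mem (mem_sup_right hy) hv) (mem_sup_right (inv_mem hy)))
    (by rw [show y * v * y⁻¹ * (y * v * y⁻¹) = y * (v * v) * y⁻¹ by group, hv2]; group) c3 hb (by
      have := mul_mem (mul_mem (conj_mem_of_mem_normalizer (hY.norm hb) hy) hbv) (inv_mem hy)
      rwa [show b * y * b⁻¹ * (b * v) * y⁻¹ = b * (y * v * y⁻¹) by group] at this)
  refine ⟨y, h.mem_K hl hY ha oa hy hya, ?_⟩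
  have := (inv_mem (h.mem_K hl hY hab oab hx hxa)).2 _ (inv_mem hb)
  rwa [← e', show x⁻¹ * (x * (y * v * y⁻¹) * x⁻¹) * x⁻¹⁻¹ = y * v * y⁻¹ by group, e', inv_inv] at this

theorem Hy.backward (h : Hy H) (hl : Lc H) (hY : Pr H Y) {a b v y : G} (ha : a ∈ H) (hb : b ∈ H)
    (oa : orderOf a = 2) (ob : orderOf b = 2) (hne : a ≠ b) (hv : v ∈ H ⊔ Y) (hv2 : v * v = 1)
    (hy : y ∈ K H a) (hz : y * v * y⁻¹ * b ∈ centralizerPPrimeCore 2 (a * b)) :
    Odd (orderOf (b * v)) := by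
  have hab := mul_mem ha hb
  have oab := orderOf_mul_two oa ob (h.comm ha hb) hne
  obtain ⟨d, hd, hdv⟩ := hY.exists_mul hv
  have hd2 : d * d = 1 := hY.eq_one (mul_mem hd hd) (by
    simpa [pow_two, hv2] using hY.pow_mem hd hdv 2)
  have hya : y * a = a * y := mem_centralizer_singleton_iff.1 hy.1
  have hz' := inv_conj_mem_of_mem_normalizer ((h.pr hab).norm hb) hz
  set z := b⁻¹ * (y * v * y⁻¹ * b) * b with hzd
  have hzc : Commute (a * b) z := (mem_centralizer_singleton_iff.1 (map_subtype_le _ hz')).symm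
  obtain ⟨m, hm⟩ := (h.pr hab).odd_orderOf hz'
  have e1 : y * (a * v) * y⁻¹ = a * b * z := by
    rw [hzd, ← mul_assoc y a, hya]
    calc _ = a * (y * v * y⁻¹) * (b * b) := by rw [mul_self ob]; group
      _ = _ := by group
  have e2 : y * (a * v) ^ (2 * m + 1) * y⁻¹ = a * b := by
    rw [← conj_pow, e1, hzc.mul_pow, ← hm, pow_orderOf_eq_one, mul_one, hm, pow_succ, pow_mul,
      pow_two, mul_self oab, one_pow, one_mul]
  have hav : a * v ∈ H ⊔ Y := mul_mem (mem_sup_left ha) hv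
  have ow : orderOf ((a * v) ^ (2 * m + 1)) = 2 := by rw [← orderOf_conj y, e2, oab]
  have hda := mul_mem hd ha
  have h1 : d * a * (a * v) ∈ Y := by
    rwa [show d * a * (a * v) = d * (a * a) * v by group, mul_self oa, mul_one]
  have hda2 : d * a * (d * a) = 1 := by
    rw [show d * a * (d * a) = d * (a * d) * a by group, h.comm ha hd,
      show d * (d * a) * a = d * d * (a * a) by group, hd2, mul_self oa, one_mul]
  have h2 := (pow_coset hda2 (hY.norm hda) h1 (2 * m + 1)).resolve_left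
    fun e => absurd (ow ▸ hY.odd_orderOf e) (by decide)
  have c1 : (a * v) ^ (2 * m + 1) * a = a * (a * v) ^ (2 * m + 1) := by
    refine commute_of_conj (g := y) ?_
    rw [e2, hya, mul_inv_cancel_right]
    exact h.comm hab ha
  obtain ⟨x, hx, hxa, e3⟩ := hY.exists_conj h.2.1 ha (Subgroup.pow_mem _ hav _) (mul_self ow) c1 hda h2
  have h3 := (mul_mem (h.mem_K hl hY ha oa hx hxa) (inv_mem hy)).2 _ hab
  rw [← e2, show x * y⁻¹ * (y * (a * v) ^ (2 * m + 1) * y⁻¹) * (x * y⁻¹)⁻¹ =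
    x * (a * v) ^ (2 * m + 1) * x⁻¹ by group, e3, e2] at h3
  have h4 := (h.pr ha).eq_one (mul_mem (inv_mem hda) (inv_mem hab)) h3
  have h5 : b = d := by
    rw [← mul_inv_rev, inv_eq_one, h.comm ha hb, h.comm hd ha,
      show b * a * (a * d) = b * (a * a) * d by group, mul_self oa, mul_one] at h4
    rw [eq_inv_of_mul_eq_one_left h4, inv_eq_of_mul_eq_one_right hd2]
  exact hY.odd_orderOf (h5 ▸ hdv)

/-- involutions in conjugates of `H` having a product of odd order with `b` -/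
def Nb (H : Subgroup G) (b : G) : Set G :=
  {v | (∃ g : G, v ∈ g •ᶜ H) ∧ v * v = 1 ∧ Odd (orderOf (b * v))}

theorem Hy.K_le (h : Hy H) (hl : Lc H) {a b : G} (ha : a ∈ H) (hb : b ∈ H)
    (oa : orderOf a = 2) (ob : orderOf b = 2) : K H a ≤ normalizer (Nb H b) := by
  intro k hk
  refine mem_normalizer_fintype ?_
  rintro v ⟨⟨g, hg⟩, hv2, ho⟩
  have hg' : k * v * k⁻¹ ∈ (k * g) •ᶜ H := by rw [← conj_conj]; exact conj_mem_conj.2 hg
  have hv2' : k * v * k⁻¹ * (k * v * k⁻¹) = 1 := by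
    rw [show k * v * k⁻¹ * (k * v * k⁻¹) = k * (v * v) * k⁻¹ by group, hv2]; group
  refine ⟨⟨_, hg'⟩, hv2', ?_⟩
  by_cases hne : a = b
  · subst hne
    rwa [← orderOf_conj k, ← mul_assoc, mem_centralizer_singleton_iff.1 hk.1, mul_assoc,
      mul_assoc, ← mul_assoc k] at ho
  · obtain ⟨Y, hY, hle⟩ := h.2.2 g
    obtain ⟨y, hy, hz⟩ := h.forward hl hY ha hb oa ob hne (hle hg) hv2 ho
    obtain ⟨Y', hY', hle'⟩ := h.2.2 (k * g)
    refine h.backward hl hY' ha hb oa ob hne (hle' hg') hv2' (mul_mem hy (inv_mem hk)) ?_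
    rwa [show y * k⁻¹ * (k * v * k⁻¹) * (y * k⁻¹)⁻¹ = y * v * y⁻¹ by group]

theorem Hy.oddIso (h : Hy H) (hl : Lc H) (htop : normalClosure (H : Set G) = ⊤) {b : G}
    (hb : b ∈ H) (ob : orderOf b = 2) (g : G) : Odd (orderOf (b * (g * b * g⁻¹))) := by
  have hg2 : g * b * g⁻¹ * (g * b * g⁻¹) = 1 := mul_self (by rw [orderOf_conj, ob])
  by_cases hu : ∀ a ∈ H, orderOf a = 2 → a = b
  · obtain ⟨Y, hY, hle⟩ := h.2.2 g
    obtain ⟨d, hd, hdv⟩ := hY.exists_mul (hle (conj_mem_conj.2 hb))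
    have hd2 : d * d = 1 := hY.eq_one (mul_mem hd hd) (by
      simpa [pow_two, hg2] using hY.pow_mem hd hdv 2)
    by_cases h1 : d = 1
    · have := hY.odd_orderOf hdv
      rw [h1, one_mul, orderOf_conj, ob] at this
      exact absurd this (by decide)
    · exact hY.odd_orderOf (hu d hd (orderOf_eq_two_iff.2 ⟨hd2, h1⟩) ▸ hdv)
  push Not at hu
  obtain ⟨a, ha, oa, hne⟩ := hu
  have hH : H ≤ normalizer (Nb H b) := fun x hx => h.K_le hl hb hb ob ob
    ⟨h.le_cent hb hx, fun y hy => by rw [h.comm hx hy]; simp⟩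
  have hV := CA.Two.isKleinFour_sup oa ob (h.comm ha hb) hne
  have hVH : zpowers a ⊔ zpowers b ≤ H := sup_le (zpowers_le.2 ha) (zpowers_le.2 hb)
  have hVe : IsElementaryAbelian 2 (zpowers a ⊔ zpowers b) :=
    ⟨CA.Two.klein_comm hV, fun _ => CA.Two.klein_sq hV⟩
  have hall : normalClosure (H : Set G) ≤ normalizer (Nb H b) := by
    rw [normalClosure, closure_le]
    intro x hx
    obtain ⟨c, hc, hcx⟩ := Group.mem_conjugatesOfSet_iff.1 hx
    obtain ⟨k, rfl⟩ := isConj_iff.1 hcx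
    obtain ⟨Y, hY, hle⟩ := h.2.2 k
    refine sup_le hH ?_ (hle (conj_mem_conj.2 hc))
    refine CA.Coprime2.le_of_forall_centralizer_singleton hVe.1
      (not_isCyclic_of_ea hVe (CA.Two.klein_card hV).ge) (hVH.trans hY.norm)
      (CA.Coprime2.coprime_card_of_isPGroup (ea_isPGroup hVe) (coprime_two_iff.2 hY.odd)).symm
      fun t ht h1 y hy => ?_
    have ot := orderOf_eq_prime (hVe.2 t ht) h1
    exact h.K_le hl (hVH ht) hb ot ob
      (h.mem_K hl hY (hVH ht) ot hy.1 (mem_centralizer_singleton_iff.1 hy.2))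
  have h1 : b ∈ Nb H b := ⟨⟨1, by rwa [one_conj]⟩, mul_self ob, by simp [mul_self ob]⟩
  exact ((hall (htop ▸ mem_top g) b).1 h1).2.2

theorem Hy.subgroupOf (h : Hy H) {L : Subgroup G} (hle : H ≤ L) : Hy (H.subgroupOf L) := by
  refine ⟨isPGroup_subgroupOf h.1 L, fun x hx y hy => Subtype.ext (h.comm hy hx), fun g => ?_⟩
  obtain ⟨Y, hY, h1⟩ := h.2.2 g
  refine ⟨Y.subgroupOf L, ⟨isPGroup_subgroupOf h.1 L, hY.odd.of_dvd_nat ?_,
    CA.Amb.norm_comap _ hY.norm⟩, fun x hx => ?_⟩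
  · rw [← card_map_of_injective L.subtype_injective]
    exact card_dvd_of_le (map_comap_le _ _)
  · obtain ⟨c, hc, hcx⟩ := hY.exists_mul (h1 (show (x : G) ∈ (g : G) •ᶜ H from
      mem_conj.2 (mem_subgroupOf.1 (mem_conj (G := L).1 hx))))
    have : x = (⟨c, hle hc⟩ : L)⁻¹ * (⟨c, hle hc⟩ * x) := by group
    rw [this]
    exact mul_mem (mem_sup_left (inv_mem hc)) (mem_sup_right hcx)

theorem Hy.map (h : Hy H) {G' : Type*} [Group G'] [Finite G'] (f : G →* G')
    (hf : Function.Surjective f) : Hy (H.map f) := by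
  refine ⟨h.1.map f, CA.Amb.cent_map f h.2.1, fun g => ?_⟩
  obtain ⟨g, rfl⟩ := hf g
  obtain ⟨Y, hY, h1⟩ := h.2.2 g
  refine ⟨Y.map f, ⟨h.1.map f, hY.odd.of_dvd_nat (card_map_dvd _ _), CA.Amb.norm_map f hY.norm⟩, ?_⟩
  rw [← Subgroup.map_sup, conj_le_iff]
  rintro _ ⟨x, hx, rfl⟩
  exact ⟨_, h1 (conj_mem_conj.2 hx), by simp⟩

theorem normal_of_map {G' : Type*} [Group G'] {f : G →* G'} (h : (H.map f).Normal) :
    (H ⊔ f.ker).Normal := by
  rw [← comap_map_eq]; exact h.comap f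

theorem main_aux (n : ℕ) : ∀ (G : Type u) [Group G] [Finite G], Nat.card G = n →
    ∀ H : Subgroup G, Hy H → (H ⊔ pPrimeCore 2 G).Normal := by
  induction n using Nat.strong_induction_on with
  | _ n ih =>
  intro G _ _ hn H h
  by_cases hO : pPrimeCore 2 G = ⊥
  swap
  · have h1 := ih _ (hn ▸ card_quotient_lt hO) _ rfl _
      (h.map _ (QuotientGroup.mk'_surjective (pPrimeCore 2 G)))
    rw [CA.Core.pPrimeCore_quotient_pPrimeCore, sup_bot_eq] at h1
    simpa using normal_of_map h1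
  rw [hO, sup_bot_eq]
  by_cases hZ : ∃ t ∈ H, orderOf t = 2 ∧ t ∈ center G
  · obtain ⟨t, ht, ot, hc⟩ := hZ
    have hc' := zpowers_le.2 hc
    have := normal_of_le_center hc'
    have h1 := ih _ (hn ▸ card_quotient_lt (N := zpowers t) (by simpa using ne_one ot)) _ rfl _
      (h.map _ (QuotientGroup.mk'_surjective (zpowers t)))
    rw [core_quot_eq_bot hO _ hc', sup_bot_eq] at h1
    simpa [sup_eq_left.2 (zpowers_le.2 ht)] using normal_of_map h1
  have key : ∀ L : Subgroup G, L ≠ ⊤ → H ≤ L → L ≤ normalizer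
      ((H ⊔ (pPrimeCore 2 L).map L.subtype : Subgroup G) : Set G) := by
    intro L hL hle
    have h1 := ih _ (hn ▸ card_lt_of_ne_top hL) _ rfl _ (h.subgroupOf hle)
    have h2 := CA.Amb.norm_map_subtype (H.subgroupOf L ⊔ pPrimeCore 2 L)
    rwa [Subgroup.map_sup, map_subgroupOf_eq_of_le hle] at h2
  by_cases htop : normalClosure (H : Set G) = ⊤
  · by_cases h1 : H = ⊥
    · rw [h1]; infer_instance
    obtain ⟨b, hb, ob⟩ := CA.AmbSyl.exists_orderOf_eq_of_ne_bot h.1 h1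
    have hl : Lc H := fun t ht ot => key _ (fun e => hZ ⟨t, ht, ot, mem_center_iff.2 fun g =>
      mem_centralizer_singleton_iff.1 (e ▸ mem_top g)⟩) (h.le_cent ht)
    refine absurd ⟨b, hb, ob, CA.H13Zstar.central_of_isolated hO (mul_self ob) fun g hc => ?_⟩ hZ
    have h2 := eq_one_of_odd_of_sq (h.oddIso hl htop hb ob g)
      (by rw [← pow_two, hc.mul_pow, pow_two, pow_two, mul_self ob,
        mul_self (by rw [orderOf_conj, ob]), one_mul])
    rw [eq_inv_of_mul_eq_one_right h2, inv_eq ob]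
  · have h1 := key _ htop le_normalClosure
    rw [le_bot_iff.1 ((CA.Core.map_pPrimeCore_le_of_normal (normalClosure (H : Set G))).trans hO.le),
      sup_bot_eq] at h1
    refine ⟨fun x hx g => ?_⟩
    obtain ⟨Y, hY, hle⟩ := h.2.2 g
    refine hY.syl.le_of_le_normalizer' (isPGroup_conj h.1 g) hle (le_trans ?_ h1)
      (conj_mem_conj.2 hx)
    exact conj_le_iff.2 fun y hy => normalClosure_normal.conj_mem _ (le_normalClosure hy) g

theorem Hy.normal (h : Hy H) : (H ⊔ pPrimeCore 2 G).Normal := main_aux _ G rfl H h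

theorem Hy.sup_eq_top (h : Hy H) : normalizer (H : Set G) ⊔ pPrimeCore 2 G = ⊤ := by
  have := h.normal
  have hp : Pr H (pPrimeCore 2 G) := ⟨h.1, odd_card_core, le_normalizer_of_normal⟩
  refine eq_top_iff.2 fun g _ => ?_
  obtain ⟨k, hk, n, hn, rfl⟩ := hp.syl.frattini (g := g) (le_normalizer_of_normal (mem_top g))
  exact mul_mem (sup_le_sup_right le_normalizer _ hk) (mem_sup_left hn)

end CA.H13Ext
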