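import Cfsg.Agent.Lib.Grp.H4Cls
import Cfsg.Agent.Lib.Grp.H1Prod
import Cfsg.Agent.S3861

/-! Real elements of odd prime order: basic facts and lifting. -/

set_option autoImplicit false
set_option linter.unusedSectionVars false
set_option linter.unusedVariables false

namespace CA.H14Rc
open Subgroup CA.BG

variable {G : Type*} [Group G]

/-- real of odd prime order -/
def RP (x : G) : Prop := (orderOf x).Prime ∧ orderOf x ≠ 2 ∧ IsConj x x⁻¹

theorem inv_pow' {t x : G} (h : t * x * t⁻¹ = x⁻¹) (k : ℕ) : t * x ^ k * t⁻¹ = (x ^ k)⁻¹ := by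
  rw [← conj_pow, h, inv_pow]

theorem inv_odd {t x : G} (h : t * x * t⁻¹ = x⁻¹) (k : ℕ) :
    t ^ (2 * k + 1) * x * (t ^ (2 * k + 1))⁻¹ = x⁻¹ := by
  induction k with
  | zero => simpa using h
  | succ k ih =>
    have h1 : t * x⁻¹ * t⁻¹ = x := by rw [← conj_inv, h, inv_inv]
    calc _ = t * (t * (t ^ (2 * k + 1) * x * (t ^ (2 * k + 1))⁻¹) * t⁻¹) * t⁻¹ := by group
      _ = x⁻¹ := by rw [ih, h1, h]

theorem real_pow {x : G} (h : IsConj x x⁻¹) (k : ℕ) : IsConj (x ^ k) (x ^ k)⁻¹ := by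
  obtain ⟨t, ht⟩ := isConj_iff.1 h
  exact isConj_iff.2 ⟨t, inv_pow' ht k⟩

theorem RP.odd {x : G} (h : RP x) : Odd (orderOf x) := h.1.odd_of_ne_two h.2.1

theorem RP.ne_one {x : G} (h : RP x) : x ≠ 1 := by
  rintro rfl
  have := h.1
  rw [orderOf_one] at this
  exact Nat.not_prime_one this

theorem eq_one_of_sq {x : G} (h : Odd (orderOf x)) (h2 : x * x = 1) : x = 1 :=
  orderOf_eq_one_iff.1 ((Nat.coprime_two_right.2 h).eq_one_of_dvd
    (orderOf_dvd_of_pow_eq_one (by rw [pow_two, h2])))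

theorem ne_inv {x : G} (h : Odd (orderOf x)) (h1 : x ≠ 1) : x ≠ x⁻¹ := fun e =>
  h1 (eq_one_of_sq h (by nth_rewrite 2 [e]; exact mul_inv_cancel x))

theorem RP.conj {x : G} (h : RP x) (g : G) : RP (g * x * g⁻¹) := by
  have e : orderOf (g * x * g⁻¹) = orderOf x := (MulAut.conj g).orderOf_eq x
  refine ⟨e ▸ h.1, e ▸ h.2.1, ?_⟩
  obtain ⟨t, ht⟩ := isConj_iff.1 h.2.2
  refine isConj_iff.2 ⟨g * t * g⁻¹, ?_⟩
  calc _ = g * (t * x * t⁻¹) * g⁻¹ := by group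
    _ = _ := by rw [ht]; group

theorem RP.map_inj {H : Type*} [Group H] {x : G} (h : RP x) (f : G →* H)
    (hf : Function.Injective f) : RP (f x) := by
  have e : orderOf (f x) = orderOf x := orderOf_injective f hf x
  refine ⟨e ▸ h.1, e ▸ h.2.1, ?_⟩
  have := f.map_isConj h.2.2
  rwa [map_inv] at this

variable [Finite G]

theorem exists_pow_order {x : G} {p : ℕ} (h : p ∣ orderOf x) : ∃ k, orderOf (x ^ k) = p :=
  ⟨_, orderOf_pow_orderOf_div (orderOf_pos x).ne' h⟩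

theorem exists_prime_pow {x : G} (h : x ≠ 1) : ∃ k, (orderOf (x ^ k)).Prime := by
  obtain ⟨k, hk⟩ := exists_pow_order (x := x) (Nat.minFac_dvd (orderOf x))
  exact ⟨k, hk ▸ Nat.minFac_prime fun e => h (orderOf_eq_one_iff.1 e)⟩

theorem exists_rp {x : G} (h1 : x ≠ 1) (ho : Odd (orderOf x)) (hr : IsConj x x⁻¹) :
    ∃ k, RP (x ^ k) := by
  obtain ⟨k, hk⟩ := exists_prime_pow h1
  refine ⟨k, hk, fun e => ?_, real_pow hr k⟩
  exact Nat.not_even_iff_odd.2 ho (even_iff_two_dvd.2 (e ▸ orderOf_pow_dvd k))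

theorem exists_two_pow (t : G) : ∃ k j, orderOf (t ^ (2 * k + 1)) = 2 ^ j := by
  obtain ⟨j, m, ⟨k, rfl⟩, e⟩ := Nat.exists_eq_two_pow_mul_odd (orderOf_pos t).ne'
  refine ⟨k, j, ?_⟩
  rw [orderOf_pow' _ (by omega), e, Nat.gcd_eq_right (Dvd.intro_left _ rfl),
    Nat.mul_div_cancel _ (by omega)]

theorem two_dvd_of_inv {t x : G} (h : t * x * t⁻¹ = x⁻¹) (hx : x ≠ x⁻¹) : 2 ∣ orderOf t := by
  by_contra h2
  obtain ⟨k, hk⟩ := Nat.not_even_iff_odd.1 fun e => h2 (even_iff_two_dvd.1 e)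
  have := inv_odd h k
  rw [← hk, pow_orderOf_eq_one] at this
  exact hx (by simpa using this)

theorem closed (K : Subgroup G) (h : ∀ x ∈ K, ¬ RP x) : ∃ P, Syl 2 P K ∧ K ≤ 𝓝(P) := by
  haveI : Fact (Nat.Prime 2) := ⟨Nat.prime_two⟩
  obtain ⟨S⟩ : Nonempty (Sylow 2 K) := inferInstance
  have hn : (S : Subgroup K).Normal := by
    refine (Cfsg.Agent.S3861.result S).1 fun y b1 b2 b3 => ?_
    obtain ⟨k, hk⟩ := exists_rp b1 b2 b3
    exact h _ (y ^ k).2 (hk.map_inj K.subtype K.subtype_injective)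
  refine ⟨_, syl_map Nat.prime_two S, fun g hg => ?_⟩
  rw [mem_norm_iff_cj]
  refine Subgroup.eq_of_le_of_card_ge ?_ (card_cj _ _).ge
  rintro _ ⟨_, ⟨y, hy, rfl⟩, rfl⟩
  exact ⟨_, hn.conj_mem y hy ⟨g, hg⟩, rfl⟩

theorem solv_of_closed (K : Subgroup G) (h : ∀ x ∈ K, ¬ RP x) : Group.IsSolvable K := by
  haveI : Fact (Nat.Prime 2) := ⟨Nat.prime_two⟩
  obtain ⟨S⟩ : Nonempty (Sylow 2 K) := inferInstance
  refine CA.H4Cls.solv_of_normal_syl S ((Cfsg.Agent.S3861.result S).1 fun y b1 b2 b3 => ?_)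
  obtain ⟨k, hk⟩ := exists_rp b1 b2 b3
  exact h _ (y ^ k).2 (hk.map_inj K.subtype K.subtype_injective)

/-- lifting a real element of odd prime order along a surjection -/
theorem lift {H : Type*} [Group H] (f : G →* H) (hf : Function.Surjective f) {y : H}
    (hy : RP y) : ∃ x : G, f x = y ∧ (∃ k, orderOf x = orderOf y ^ k) ∧ IsConj x x⁻¹ := by
  classical
  have hp := hy.1
  set p := orderOf y with hpd
  obtain ⟨s, hs⟩ := isConj_iff.1 hy.2.2
  obtain ⟨t, rfl⟩ := hf s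
  let M := (zpowers y).comap f
  obtain ⟨R, hR⟩ := syl_exists hp M
  have htM : t ∈ 𝓝(M) := by
    rw [mem_norm_iff_cj]
    refine Subgroup.eq_of_le_of_card_ge ?_ (card_cj _ _).ge
    rintro _ ⟨a, ⟨n, hn⟩, rfl⟩
    refine ⟨-n, ?_⟩
    have hn' : y ^ n = f a := hn
    show y ^ (-n) = f (t * a * t⁻¹)
    rw [map_mul, map_mul, map_inv, ← hn', ← conj_zpow, hs, inv_zpow']
  obtain ⟨m, ⟨n, hn⟩, u, hu, rfl⟩ := hR.syl_frattini hp htM
  have hn' : y ^ n = f m := hn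
  have h1 : f u * y * (f u)⁻¹ = y⁻¹ := by
    rw [map_mul, ← hn'] at hs
    calc _ = (y ^ n)⁻¹ * (y ^ n * f u * y * (y ^ n * f u)⁻¹) * y ^ n := by group
      _ = _ := by rw [hs]; group
  obtain ⟨k, j, hj⟩ := exists_two_pow u
  set v := u ^ (2 * k + 1) with hv
  have hvN : v ∈ 𝓝(R) := pow_mem hu _
  have h2 : f v * y * (f v)⁻¹ = y⁻¹ := by rw [hv, map_pow]; exact inv_odd h1 k
  -- an element of `R` over `y`
  obtain ⟨a, haR, ha⟩ : ∃ a ∈ R, f a = y := by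
    obtain ⟨b, hb⟩ := hf y
    obtain ⟨i, e, he, h3⟩ := Nat.exists_eq_pow_mul_and_not_dvd (orderOf_pos b).ne' p hp.ne_one
    have hc : e.Coprime p := ((Nat.Prime.coprime_iff_not_dvd hp).2 he).symm
    obtain ⟨c, -, hc⟩ := Nat.exists_mul_mod_eq_one_of_coprime hc hp.one_lt
    have h4 : f (b ^ (e * c)) = y := by
      rw [map_pow, hb, ← pow_mod_orderOf, ← hpd, hc, pow_one]
    have h5 : IsPi {p} (zpowers (b ^ (e * c))) := by
      refine isPi_zpowers.2 ((piNat_pow hp i).of_dvd (orderOf_dvd_of_pow_eq_one ?_))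
      rw [← pow_mul, show e * c * p ^ i = p ^ i * e * c by ring, ← h3, pow_mul,
        pow_orderOf_eq_one, one_pow]
    obtain ⟨g, ⟨l, hl⟩, hg⟩ := hR.syl_conj_le hp h5 (zpowers_le.2 ⟨1, by simp [h4]⟩)
    have hl' : y ^ l = f g := hl
    refine ⟨_, hg (conj_mem_cj.2 (mem_zpowers _)), ?_⟩
    rw [map_mul, map_mul, map_inv, h4, ← hl']
    group
  let Y := {r : G // r ∈ R ∧ f r = y}
  have hY : Nat.card Y = ♯(R ⊓ f.ker : Subgroup G) := by
    refine Nat.card_congr ⟨fun r => ⟨a⁻¹ * r.1, R.mul_mem (R.inv_mem haR) r.2.1, ?_⟩,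
      fun r => ⟨a * r.1, R.mul_mem haR r.2.1, ?_⟩, fun r => by simp, fun r => by simp⟩
    · show f _ = 1
      rw [map_mul, map_inv, ha, r.2.2, inv_mul_cancel]
    · rw [map_mul, ha, show f r.1 = 1 from r.2.2, mul_one]
  have hodd : ¬ 2 ∣ Nat.card Y := by
    rw [hY]
    intro e
    have := (hR.pi.inf_left f.ker).nat 2 Nat.prime_two e
    exact hy.2.1 (Set.mem_singleton_iff.1 this).symm
  let σ : Function.End Y := fun r => ⟨v * r.1⁻¹ * v⁻¹, conj_mem_of_mem_norm hvN (inv_mem r.2.1), by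
    rw [map_mul, map_mul, map_inv, map_inv, r.2.2, ← conj_inv, h2, inv_inv]⟩
  have hσ : ∀ n : ℕ, ∀ r : Y, ((σ ^ (2 * n)) r).1 = v ^ (2 * n) * r.1 * (v ^ (2 * n))⁻¹ := by
    intro n
    induction n with
    | zero => intro r; simp; rfl
    | succ n ih =>
      intro r
      rw [show 2 * (n + 1) = 2 * n + 1 + 1 by ring, pow_succ' σ, pow_succ' σ]
      show v * (v * ((σ ^ (2 * n)) r).1⁻¹ * v⁻¹)⁻¹ * v⁻¹ = _
      rw [ih]; group
  haveI : Fact (Nat.Prime 2) := ⟨Nat.prime_two⟩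
  haveI := Fintype.ofFinite Y
  have h6 : σ ^ 2 ^ (j + 1) = 1 := by
    funext r
    apply Subtype.ext
    rw [pow_succ', hσ, mul_comm 2, pow_mul, ← hj, pow_orderOf_eq_one]
    simp; rfl
  have h7 := Equiv.Perm.card_fixedPoints_modEq h6
  obtain ⟨⟨r, hr⟩⟩ : Nonempty σ.fixedPoints := by
    by_contra h8
    rw [not_nonempty_iff] at h8
    rw [Fintype.card_eq_zero (α := σ.fixedPoints), ← Nat.card_eq_fintype_card] at h7
    exact hodd ((Nat.modEq_zero_iff_dvd).1 h7)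
  have h9 : v * r.1⁻¹ * v⁻¹ = r.1 := congrArg Subtype.val hr
  refine ⟨r.1, r.2.2, ?_, isConj_iff.2 ⟨v, ?_⟩⟩
  · exact (hR.pi.orderOf r.2.1).exists_pow hp (orderOf_pos _).ne'
  · rw [← inv_inj, conj_inv, inv_inv]; exact h9

/-- a `p`-element is conjugate into any subgroup of index prime to `p` -/
theorem conj_into {p k : ℕ} (hp : p.Prime) {x : G} (hx : orderOf x = p ^ k) {K : Subgroup G}
    (hK : ¬ p ∣ K.index) : ∃ g : G, g * x * g⁻¹ ∈ K := by
  obtain ⟨P, hP, hle⟩ := CA.H4Cls.exists_syl_le hp hK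
  obtain ⟨g, -, hg⟩ := hP.syl_conj_le hp (isPi_zpowers.2 (hx ▸ piNat_pow hp k)) le_top
  exact ⟨g, hle (hg (conj_mem_cj.2 (mem_zpowers x)))⟩

end CA.H14Rc
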