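import Cfsg.Agent.Lib.Grp.H14Rc1
import Cfsg.Agent.S0200
import Cfsg.Agent.S0219

/-! Groups acting on an elementary abelian 2-group with all orbits odd and real elements of odd
prime order acting without fixed points: the Sylow spread. -/

set_option autoImplicit false
set_option linter.unusedSectionVars false
set_option linter.unusedVariables false

namespace CA.H14Rc
open Subgroup CA.BG MulAction

variable {Γ W : Type*} [Group Γ] [AddCommGroup W] [DistribMulAction Γ W]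

structure Hyp (Γ W : Type*) [Group Γ] [AddCommGroup W] [DistribMulAction Γ W] : Prop where
  two : ∀ w : W, w + w = 0
  faith : ∀ g : Γ, (∀ w : W, g • w = w) → g = 1
  odd : ∀ w : W, w ≠ 0 → Odd (stabilizer Γ w).index
  fpf : ∀ x : Γ, RP x → ∀ w : W, x • w = w → w = 0
  cop : ∀ x : Γ, RP x → ∀ w : W, w ≠ 0 → (𝓒₁(x)).index.Coprime (stabilizer Γ w).index

variable (W) in
def Fx (Q : Subgroup Γ) : AddSubgroup W where
  carrier := {w | ∀ g ∈ Q, g • w = w}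
  add_mem' ha hb g hg := by rw [smul_add, ha g hg, hb g hg]
  zero_mem' g _ := smul_zero g
  neg_mem' ha g hg := by rw [smul_neg, ha g hg]

variable (W) in
def U (t : Γ) : AddSubgroup W where
  carrier := {w | t • w = w}
  add_mem' {a b} ha hb := by
    show t • (a + b) = a + b
    rw [smul_add, show t • a = a from ha, show t • b = b from hb]
  zero_mem' := smul_zero t
  neg_mem' {a} ha := by
    show t • (-a) = -a
    rw [smul_neg, show t • a = a from ha]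

variable (W) in
def dd (t : Γ) : W →+ W where
  toFun w := t • w + w
  map_zero' := by simp
  map_add' a b := by rw [smul_add]; abel

theorem mem_Fx {Q : Subgroup Γ} {w : W} : w ∈ Fx W Q ↔ ∀ g ∈ Q, g • w = w := Iff.rfl
theorem mem_U {t : Γ} {w : W} : w ∈ U W t ↔ t • w = w := Iff.rfl
theorem dd_apply (t : Γ) (w : W) : dd W t w = t • w + w := rfl
theorem Fx_le_U {Q : Subgroup Γ} {t : Γ} (h : t ∈ Q) : Fx W Q ≤ U W t := fun _ hw => hw t h
theorem Fx_anti {Q R : Subgroup Γ} (h : Q ≤ R) : Fx W R ≤ Fx W Q := fun _ hw g hg => hw g (h hg)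

theorem card_eq (A : AddSubgroup W) (f : W →+ W) :
    Nat.card A = Nat.card ↥(A ⊓ f.ker) * Nat.card (A.map f) := by
  rw [← AddSubgroup.relIndex_ker, AddSubgroup.relIndex,
    ← AddSubgroup.card_mul_index (f.ker.addSubgroupOf A)]
  congr 1
  exact Nat.card_congr ⟨fun a => ⟨a.1.1, a.1.2, a.2⟩, fun a => ⟨⟨a.1, a.2.1⟩, a.2.2⟩,
    fun _ => rfl, fun _ => rfl⟩

theorem smul_coe (g : Γ) (T : Sylow 2 Γ) : (g • T).1 = cj g T.1 := (cj_eq_smul _ _).symm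

theorem smul_eq {g : Γ} {T : Sylow 2 Γ} : g • T = T ↔ g ∈ 𝓝(T.1) :=
  Sylow.smul_eq_iff_mem_normalizer

theorem conj_mem_smul {g x : Γ} {T : Sylow 2 Γ} : g * x * g⁻¹ ∈ (g • T).1 ↔ x ∈ T.1 := by
  rw [smul_coe, conj_mem_cj]

theorem Fx_smul {T : Sylow 2 Γ} {w : W} (h : w ∈ Fx W T.1) (g : Γ) : g • w ∈ Fx W (g • T).1 := by
  intro x hx
  rw [smul_coe, mem_cj] at hx
  have := h _ hx
  rw [mul_smul, mul_smul, inv_smul_eq_iff] at this
  exact this

variable [Finite Γ]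

theorem two_mem {t : Γ} {j : ℕ} (ht : orderOf t = 2 ^ j) {T : Sylow 2 Γ} (h : t ∈ 𝓝(T.1)) :
    t ∈ T.1 :=
  (syl_top Nat.prime_two T).le_of_norm (isPi_zpowers.2 (ht ▸ piNat_pow Nat.prime_two j)) le_top
    (zpowers_le.2 h) (mem_zpowers t)

theorem exists_syl_ge {Q : Subgroup Γ} (h : IsPi {2} Q) : ∃ T : Sylow 2 Γ, Q ≤ T.1 := by
  obtain ⟨P, hP, hle⟩ := syl_superset Nat.prime_two h le_top
  obtain ⟨T, rfl⟩ := hP.exists_sylow_top Nat.prime_two
  exact ⟨T, hle⟩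

theorem exists_syl_mem {t : Γ} {j : ℕ} (ht : orderOf t = 2 ^ j) : ∃ T : Sylow 2 Γ, t ∈ T.1 := by
  obtain ⟨T, hT⟩ := exists_syl_ge (isPi_zpowers.2 (ht ▸ piNat_pow Nat.prime_two j))
  exact ⟨T, hT (mem_zpowers t)⟩

theorem exists_smul (T T' : Sylow 2 Γ) : ∃ g : Γ, g • T = T' := by
  haveI : Fact (Nat.Prime 2) := ⟨Nat.prime_two⟩
  exact exists_smul_eq Γ T T'

theorem card_Fx (T T' : Sylow 2 Γ) : Nat.card (Fx W T.1) = Nat.card (Fx W T'.1) := by
  obtain ⟨g, rfl⟩ := exists_smul T T'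
  refine Nat.card_congr ⟨fun w => ⟨g • w.1, Fx_smul w.2 g⟩, fun w => ⟨g⁻¹ • w.1, ?_⟩,
    fun w => by simp, fun w => by simp⟩
  have := Fx_smul w.2 g⁻¹
  rwa [inv_smul_smul] at this

namespace Hyp
variable (h : Hyp Γ W)
include h

theorem eq_of_add {a b : W} (e : a + b = 0) : a = b := by
  rw [← add_zero a, ← h.two b, ← add_assoc, e, zero_add]

theorem ker_dd (t : Γ) : (dd W t).ker = U W t := by
  ext w
  refine ⟨fun e => h.eq_of_add e, fun e => ?_⟩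
  show t • w + w = 0
  rw [show t • w = w from e, h.two]

theorem exists_T {w : W} (hw : w ≠ 0) :
    ∃ T : Sylow 2 Γ, w ∈ Fx W T.1 ∧ stabilizer Γ w ≤ 𝓝(T.1) := by
  obtain ⟨P, hP, hn⟩ := closed (stabilizer Γ w) fun x hx hr => hw (h.fpf x hr w hx)
  have h1 : Syl 2 P ⊤ := hP.of_idx le_top (by
    rw [relIndex_top_right, piNat_compl_iff Nat.prime_two]
    exact fun e => Nat.not_even_iff_odd.2 (h.odd w hw) (even_iff_two_dvd.2 e))
  obtain ⟨T, rfl⟩ := h1.exists_sylow_top Nat.prime_two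
  exact ⟨T, fun g hg => hP.le hg, hn⟩

theorem uniq {w : W} (hw : w ≠ 0) {T T' : Sylow 2 Γ} (h1 : w ∈ Fx W T.1) (h2 : w ∈ Fx W T'.1) :
    T = T' := by
  obtain ⟨S, a1, a2⟩ := h.exists_T hw
  have key : ∀ R : Sylow 2 Γ, w ∈ Fx W R.1 → R = S := fun R hR => by
    have hS : Syl 2 S.1 (stabilizer Γ w) := (syl_top Nat.prime_two S).of_le a1 le_top
    exact Sylow.ext (hS.eq_of_normal a2 ((syl_top Nat.prime_two R).of_le hR le_top))
  rw [key T h1, key T' h2]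

theorem stab_le {w : W} (hw : w ≠ 0) {T : Sylow 2 Γ} (h1 : w ∈ Fx W T.1) :
    stabilizer Γ w ≤ 𝓝(T.1) := by
  obtain ⟨S, a1, a2⟩ := h.exists_T hw
  rwa [h.uniq hw h1 a1]

theorem le_T {w : W} (hw : w ≠ 0) {T : Sylow 2 Γ} (h1 : w ∈ Fx W T.1) {Q : Subgroup Γ}
    (hQ : IsPi {2} Q) (h2 : w ∈ Fx W Q) : Q ≤ T.1 :=
  (syl_top Nat.prime_two T).le_of_norm hQ le_top (le_trans h2 (h.stab_le hw h1))

theorem mem_T {w : W} (hw : w ≠ 0) {T : Sylow 2 Γ} (h1 : w ∈ Fx W T.1) {t : Γ} {j : ℕ}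
    (ht : orderOf t = 2 ^ j) (h2 : t • w = w) : t ∈ T.1 :=
  two_mem ht (h.stab_le hw h1 h2)

theorem exists_w [Nontrivial W] (T : Sylow 2 Γ) : ∃ w : W, w ≠ 0 ∧ w ∈ Fx W T.1 := by
  obtain ⟨w, hw⟩ := exists_ne (0 : W)
  obtain ⟨S, a1, -⟩ := h.exists_T hw
  obtain ⟨g, rfl⟩ := exists_smul S T
  exact ⟨g • w, fun e => hw ((smul_eq_zero_iff_eq g).1 e), Fx_smul a1 g⟩

theorem O2 {N : Subgroup Γ} [N.Normal] (hN : IsPi {2} N) : N = ⊥ := by
  rw [eq_bot_iff]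
  intro g hg
  refine h.faith g fun w => ?_
  by_cases hw : w = 0
  · rw [hw, smul_zero]
  obtain ⟨T, a1, -⟩ := h.exists_T hw
  exact a1 g ((syl_top Nat.prime_two T).le_of_norm' hN le_top
    (le_top.trans (normalizer_eq_top _).ge) hg)

theorem invol {t : Γ} (ht : orderOf t = 2) : ∃ x, RP x ∧ t * x * t⁻¹ = x⁻¹ := by
  obtain ⟨x, a1, a2, a3⟩ := Cfsg.Agent.S0200.result t ht fun N hN h2 hm => by
    rw [h.O2 (isPi_of_isPGroup Nat.prime_two h2), mem_bot] at hm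
    rw [hm, orderOf_one] at ht
    omega
  obtain ⟨k, hk⟩ := exists_rp a1 a2 (isConj_iff.2 ⟨t, a3⟩)
  exact ⟨_, hk, inv_pow' a3 k⟩

theorem map_le_U {t : Γ} (ht : t * t = 1) (A : AddSubgroup W) : A.map (dd W t) ≤ U W t := by
  rintro _ ⟨w, -, rfl⟩
  show t • (t • w + w) = t • w + w
  rw [smul_add, ← mul_smul, ht, one_smul, add_comm]

variable [Finite W]

theorem card_U {t : Γ} (ht : orderOf t = 2) :
    (⊤ : AddSubgroup W).map (dd W t) = U W t ∧ Nat.card W = Nat.card (U W t) ^ 2 := by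
  obtain ⟨x, hx, e⟩ := h.invol ht
  have t2 : t * t = 1 := by rw [← pow_two, ← ht, pow_orderOf_eq_one]
  have ti : t⁻¹ = t := inv_eq_of_mul_eq_one_right t2
  have s2 : t * x * (t * x) = 1 := by
    rw [ti] at e
    rw [← mul_assoc, e, inv_mul_cancel]
  have a1 := card_eq ⊤ (dd W t)
  have a2 := card_eq ⊤ (dd W (t * x))
  have a3 := card_eq (U W (t * x)) (dd W t)
  rw [h.ker_dd, top_inf_eq, AddSubgroup.card_top] at a1 a2
  have a4 : U W (t * x) ⊓ U W t = ⊥ := by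
    rw [eq_bot_iff]
    intro w hw
    refine h.fpf x hx w ?_
    have b1 : (t * x) • w = w := hw.1
    have b2 : t • w = w := hw.2
    rw [mul_smul, smul_eq_iff_eq_inv_smul, ti, b2] at b1
    exact b1
  rw [h.ker_dd, a4, AddSubgroup.card_bot, one_mul] at a3
  have a5 := AddSubgroup.card_le_of_le (h.map_le_U t2 ⊤)
  have a6 := AddSubgroup.card_le_of_le (h.map_le_U s2 ⊤)
  have a7 := AddSubgroup.card_le_of_le
    (AddSubgroup.map_mono (f := dd W t) (le_top : U W (t * x) ≤ ⊤))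
  have a8 : 0 < Nat.card ((⊤ : AddSubgroup W).map (dd W t)) := Nat.card_pos
  have a9 : Nat.card (U W t) ≤ Nat.card ((⊤ : AddSubgroup W).map (dd W t)) := by
    refine Nat.le_of_mul_le_mul_right ?_ a8
    rw [← a1, a2]
    exact Nat.mul_le_mul (a3 ▸ a7) (a6.trans (a3 ▸ a7))
  refine ⟨AddSubgroup.eq_of_le_of_card_ge (h.map_le_U t2 ⊤) a9, ?_⟩
  rw [a1, le_antisymm a5 a9, pow_two]

theorem not_norm [Nontrivial W] {x : Γ} (hx : RP x) (T : Sylow 2 Γ) : x ∉ 𝓝(T.1) := by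
  intro hn
  obtain ⟨w, hw, hT⟩ := h.exists_w T
  obtain ⟨s, hs⟩ := isConj_iff.1 hx.2.2
  obtain ⟨k, j, hj⟩ := exists_two_pow s
  have ht := inv_odd hs k
  set t := s ^ (2 * k + 1)
  obtain ⟨S, hS⟩ := exists_syl_mem hj
  obtain ⟨g, rfl⟩ := exists_smul T S
  obtain ⟨c, hc, n, hn', rfl⟩ := CA.H1Prod.fac_of_coprime_index (h.cop x hx w hw) g
  rw [mul_smul, smul_eq.2 (h.stab_le hw hT hn')] at hS
  have h1 : x ∈ 𝓝((c • T).1) := by
    rw [← smul_eq, ← mul_smul, ← mem_cent1.1 hc, mul_smul, smul_eq.2 hn]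
  have h2 : x * x ∈ (c • T).1 := by
    have := mul_mem (conj_mem_of_mem_norm h1 hS) (inv_mem hS)
    have e : t * x⁻¹ * t⁻¹ = x := by rw [← conj_inv, ht, inv_inv]
    rwa [show x * t * x⁻¹ * t⁻¹ = x * (t * x⁻¹ * t⁻¹) by group, e] at this
  have h3 := (syl_top Nat.prime_two (c • T)).pi.orderOf h2
  obtain ⟨i, hi⟩ := h3.exists_pow Nat.prime_two (orderOf_pos _).ne'
  have h4 : orderOf x ∣ 2 ^ (i + 1) := orderOf_dvd_of_pow_eq_one (by
    rw [pow_succ', pow_mul, pow_two, ← hi, pow_orderOf_eq_one])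
  exact hx.2.1 ((Nat.prime_dvd_prime_iff_eq hx.1 Nat.prime_two).1 (hx.1.dvd_of_dvd_pow h4))

/-- counting along the spread -/
theorem count (A : AddSubgroup W)
    (hA : ∀ w ∈ A, w ≠ 0 → ∀ T : Sylow 2 Γ, w ∈ Fx W T.1 → Fx W T.1 ≤ A) (T₀ : Sylow 2 Γ) :
    Nat.card A = Nat.card {T : Sylow 2 Γ // Fx W T.1 ≤ A} * (Nat.card (Fx W T₀.1) - 1) + 1 := by
  classical
  have key : ∀ B : AddSubgroup W, Nat.card {w : W // w ∈ B ∧ w ≠ 0} + 1 = Nat.card B := by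
    intro B
    haveI := Fintype.ofFinite B
    have e : Nat.card {w : W // w ∈ B ∧ w ≠ 0} = Nat.card {w : B // w ≠ 0} :=
      Nat.card_congr ⟨fun w => ⟨⟨w.1, w.2.1⟩, fun e => w.2.2 (congrArg Subtype.val e)⟩,
        fun w => ⟨w.1.1, w.1.2, fun e => w.2 (Subtype.ext e)⟩, fun _ => rfl, fun _ => rfl⟩
    rw [e, Nat.card_eq_fintype_card, Fintype.card_subtype_compl, Fintype.card_subtype_eq,
      Nat.card_eq_fintype_card]
    exact Nat.sub_add_cancel Fintype.card_pos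
  haveI := Fintype.ofFinite {T : Sylow 2 Γ // Fx W T.1 ≤ A}
  let F : (Σ T : {T : Sylow 2 Γ // Fx W T.1 ≤ A}, {w : W // w ∈ Fx W T.1.1 ∧ w ≠ 0}) →
      {w : W // w ∈ A ∧ w ≠ 0} := fun p => ⟨p.2.1, p.1.2 p.2.2.1, p.2.2.2⟩
  have hF : Function.Bijective F := by
    constructor
    · rintro ⟨⟨T, a1⟩, ⟨w, a2, a3⟩⟩ ⟨⟨T', b1⟩, ⟨w', b2, b3⟩⟩ e
      have e1 : w = w' := congrArg Subtype.val e
      subst e1
      have e2 : T = T' := h.uniq a3 a2 b2
      subst e2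
      rfl
    · rintro ⟨w, a1, a2⟩
      obtain ⟨T, b1, -⟩ := h.exists_T a2
      exact ⟨⟨⟨T, hA w a1 a2 T b1⟩, ⟨w, b1, a2⟩⟩, rfl⟩
  rw [← key A, ← Nat.card_eq_of_bijective F hF, Nat.card_sigma]
  congr 1
  rw [Finset.sum_congr rfl (g := fun _ => Nat.card (Fx W T₀.1) - 1), Finset.sum_const,
    Finset.card_univ, smul_eq_mul, ← Nat.card_eq_fintype_card]
  intro T _
  rw [card_Fx T₀ T.1, ← key, Nat.add_sub_cancel]

theorem one_lt_c [Nontrivial W] (T : Sylow 2 Γ) : 1 < Nat.card (Fx W T.1) := by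
  obtain ⟨w, hw, hT⟩ := h.exists_w T
  exact (AddSubgroup.one_lt_card_iff_ne_bot _).2 fun e => hw (by rwa [e] at hT)

theorem count_top (T₀ : Sylow 2 Γ) :
    Nat.card W = Nat.card (Sylow 2 Γ) * (Nat.card (Fx W T₀.1) - 1) + 1 := by
  have := h.count ⊤ (fun _ _ _ _ _ => le_top) T₀
  rwa [AddSubgroup.card_top, Nat.card_congr (Equiv.subtypeUnivEquiv fun _ => le_top)] at this

theorem count_U {t : Γ} (ht : orderOf t = 2) (T₀ : Sylow 2 Γ) :
    ∃ k, Nat.card (U W t) = k * (Nat.card (Fx W T₀.1) - 1) + 1 :=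
  ⟨_, h.count _ (fun w a1 a2 T a3 => Fx_le_U (h.mem_T a2 a3 (j := 1) (by simpa using ht) a1)) T₀⟩

end Hyp

end CA.H14Rc
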