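import Cfsg.Agent.Lib.Grp.H14Rc2
import Cfsg.Agent.Lib.Odd.BGCore

/-! The trivial-intersection case and the Singer-type element. -/

set_option autoImplicit false
set_option linter.unusedSectionVars false
set_option linter.unusedVariables false

namespace CA.H14Rc
open Subgroup CA.BG MulAction
open scoped commutatorElement

variable {Γ W : Type*} [Group Γ] [AddCommGroup W] [DistribMulAction Γ W] [Finite Γ] [Finite W]

theorem sq_of_order {t : Γ} (ht : orderOf t = 2) : t * t = 1 := by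
  rw [← pow_two, ← ht, pow_orderOf_eq_one]

theorem modEq {y : Γ} {p : ℕ} (hp : p.Prime) (hy : orderOf y = p) (A : AddSubgroup W)
    (hA : ∀ w ∈ A, y • w ∈ A) : Nat.card A ≡ Nat.card ↥(A ⊓ U W y) [MOD p] := by
  classical
  haveI : Fact p.Prime := ⟨hp⟩
  haveI := Fintype.ofFinite A
  let σ : Function.End A := fun a => ⟨y • a.1, hA _ a.2⟩
  have hσ : ∀ n : ℕ, ∀ a : A, ((σ ^ n) a).1 = y ^ n • a.1 := by
    intro n
    induction n with
    | zero => intro a; simp; rfl
    | succ n ih =>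
      intro a
      rw [pow_succ' σ, pow_succ' y, mul_smul, ← ih]
      rfl
  have h6 : σ ^ p ^ 1 = 1 := by
    funext a
    apply Subtype.ext
    rw [hσ, pow_one, ← hy, pow_orderOf_eq_one, one_smul]
    rfl
  have h7 := Equiv.Perm.card_fixedPoints_modEq h6
  rw [← Nat.card_eq_fintype_card, ← Nat.card_eq_fintype_card] at h7
  have e : Nat.card σ.fixedPoints = Nat.card ↥(A ⊓ U W y) :=
    Nat.card_congr ⟨fun a => ⟨a.1.1, a.1.2, congrArg Subtype.val a.2⟩,
      fun a => ⟨⟨a.1, a.2.1⟩, Subtype.ext a.2.2⟩, fun _ => rfl, fun _ => rfl⟩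
  rwa [e] at h7

namespace Hyp
variable (h : Hyp Γ W) [Nontrivial W]
include h

section TI
variable {T₀ : Sylow 2 Γ} (hc : Nat.card W = Nat.card (Fx W T₀.1) ^ 2)
include hc

theorem U_eq {t : Γ} (ht : orderOf t = 2) {T : Sylow 2 Γ} (hT : t ∈ T.1) : U W t = Fx W T.1 := by
  refine (AddSubgroup.eq_of_le_of_card_ge (Fx_le_U hT) ?_).symm
  have := (h.card_U ht).2
  rw [hc, card_Fx T₀ T] at this
  exact (Nat.pow_left_injective two_ne_zero this).ge

theorem ti {t : Γ} (ht : orderOf t = 2) {T T' : Sylow 2 Γ} (h1 : t ∈ T.1) (h2 : t ∈ T'.1) :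
    T = T' := by
  obtain ⟨w, hw, hT⟩ := h.exists_w T
  refine h.uniq hw hT ?_
  rwa [← h.U_eq hc ht h2, h.U_eq hc ht h1]

theorem sq_one {T : Sylow 2 Γ} {g : Γ} (hg : g ∈ T.1) : g * g = 1 := by
  by_contra h1
  obtain ⟨j, hj⟩ := ((syl_top Nat.prime_two T).pi.orderOf hg).exists_pow Nat.prime_two
    (orderOf_pos _).ne'
  have h4 : 4 ∣ orderOf g := by
    rw [hj]
    rcases j with _ | _ | j
    · exact absurd (by rw [orderOf_eq_one_iff.1 hj, mul_one]) h1
    · exact absurd (sq_of_order hj) h1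
    · exact ⟨2 ^ j, by ring⟩
  obtain ⟨k, hk⟩ := exists_pow_order h4
  have hk' : g ^ k ∈ T.1 := pow_mem hg k
  set s := g ^ k
  have ht : orderOf (s * s) = 2 := by rw [← pow_two, orderOf_pow' _ two_ne_zero, hk]; rfl
  have e1 : ∀ w : W, dd W s (dd W s w) = dd W (s * s) w := by
    intro w
    simp only [dd_apply, smul_add, mul_smul]
    rw [add_assoc, ← add_assoc (s • w), h.two, zero_add]
  have e2 := h.U_eq hc ht (mul_mem hk' hk')
  have e3 : U W s = U W (s * s) := by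
    refine le_antisymm (fun w hw => ?_) (e2 ▸ Fx_le_U hk')
    show (s * s) • w = w
    rw [mul_smul, show s • w = w from hw, show s • w = w from hw]
  obtain ⟨b1, b2⟩ := h.card_U ht
  have b3 := card_eq ⊤ (dd W s)
  rw [h.ker_dd, top_inf_eq, AddSubgroup.card_top, b2, e3, pow_two] at b3
  have b4 := Nat.eq_of_mul_eq_mul_left Nat.card_pos b3
  have b5 : U W (s * s) = (⊤ : AddSubgroup W).map (dd W s) := by
    refine AddSubgroup.eq_of_le_of_card_ge ?_ b4.ge
    rw [← b1]
    rintro _ ⟨w, -, rfl⟩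
    exact ⟨_, trivial, e1 w⟩
  have b6 : s * s = 1 := h.faith _ fun w => by
    have : dd W s w ∈ (dd W s).ker := by
      rw [h.ker_dd, e3, b5]; exact ⟨w, trivial, rfl⟩
    rw [AddMonoidHom.mem_ker, e1] at this
    exact h.eq_of_add this
  rw [b6, orderOf_one] at ht
  omega

theorem one_inv {T : Sylow 2 Γ} {z z' : Γ} (a1 : orderOf z = 2) (a2 : orderOf z' = 2)
    (a3 : z ∈ T.1) (a4 : z' ∈ T.1) : z = z' := by
  classical
  by_contra hne
  have hinj : ∀ t t' : Γ, orderOf t = 2 → orderOf t' = 2 → t ∉ T.1 → t • T = t' • T → t = t' := by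
    intro t t' b1 b2 b3 b4
    have i1 : t⁻¹ = t := inv_eq_of_mul_eq_one_right (sq_of_order b1)
    have i2 : t'⁻¹ = t' := inv_eq_of_mul_eq_one_right (sq_of_order b2)
    have b5 : t' * t ∈ 𝓝(T.1) := by
      rw [← smul_eq, mul_smul, b4, ← mul_smul, sq_of_order b2, one_smul]
    have b6 : t * (t' * t) * t⁻¹ = (t' * t)⁻¹ := by
      rw [mul_inv_rev, i1, i2, mul_assoc, mul_assoc, sq_of_order b1, mul_one]
    by_contra b7
    have b8 : t' * t ≠ 1 := fun e => b7 (by rw [eq_inv_of_mul_eq_one_right e, i2])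
    obtain ⟨k, hk⟩ := exists_prime_pow b8
    have b9 := inv_pow' b6 k
    by_cases h2 : orderOf ((t' * t) ^ k) = 2
    · have c1 := two_mem (j := 1) (by simpa using h2) (pow_mem b5 k)
      have c2 := (conj_mem_smul (g := t)).2 c1
      rw [b9, inv_mem_iff] at c2
      exact b3 (two_mem (j := 1) (by simpa using b1) (smul_eq.1 (h.ti hc h2 c2 c1)))
    · exact h.not_norm ⟨hk, h2, isConj_iff.2 ⟨t, b9⟩⟩ T (pow_mem b5 k)
  choose g hg using fun S : Sylow 2 Γ => exists_smul T S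
  let e : Sylow 2 Γ × Bool → Γ := fun p => g p.1 * (if p.2 then z else z') * (g p.1)⁻¹
  have e1 : ∀ p, orderOf (e p) = 2 := by
    rintro ⟨S, b⟩
    refine ((MulAut.conj (g S)).orderOf_eq _).trans ?_
    cases b <;> simp [a1, a2]
  have e2 : ∀ p, e p ∈ p.1.1 := by
    rintro ⟨S, b⟩
    have : (if b then z else z') ∈ T.1 := by cases b <;> simp [a3, a4]
    have := (conj_mem_smul (g := g S)).2 this
    rwa [hg] at this
  have e3 : ∀ p : {S : Sylow 2 Γ // S ≠ T} × Bool, e (p.1.1, p.2) ∉ T.1 := fun p hp =>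
    p.1.2 (h.ti hc (e1 _) (e2 (p.1.1, p.2)) hp)
  let Ψ : {S : Sylow 2 Γ // S ≠ T} × Bool → {S : Sylow 2 Γ // S ≠ T} := fun p =>
    ⟨e (p.1.1, p.2) • T, fun b => e3 p (two_mem (j := 1) (by simpa using e1 _) (smul_eq.1 b))⟩
  have hΨ : Function.Injective Ψ := by
    rintro ⟨⟨S, c1⟩, b⟩ ⟨⟨S', c2⟩, b'⟩ c3
    have c4 : e (S, b) = e (S', b') :=
      hinj _ _ (e1 _) (e1 _) (e3 (⟨S, c1⟩, b)) (congrArg Subtype.val c3)
    have c5 : S = S' := h.ti hc (e1 (S, b)) (e2 (S, b)) (c4 ▸ e2 (S', b'))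
    subst c5
    have c6 : (if b then z else z') = (if b' then z else z') :=
      mul_left_cancel (mul_right_cancel c4)
    have : b = b' := by
      cases b <;> cases b' <;> simp at c6 ⊢
      exacts [hne c6.symm, hne c6]
    subst this
    rfl
  have c7 := Nat.card_le_card_of_injective Ψ hΨ
  rw [Nat.card_prod, Nat.card_eq_fintype_card (α := Bool), Fintype.card_bool] at c7
  have c8 : IsEmpty {S : Sylow 2 Γ // S ≠ T} := by
    by_contra c9
    rw [not_isEmpty_iff] at c9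
    have := Nat.card_pos (α := {S : Sylow 2 Γ // S ≠ T})
    omega
  haveI : T.1.Normal := normalizer_eq_top_iff.1 (eq_top_iff.2 fun x _ => smul_eq.1 (by
    by_contra c9
    exact c8.false ⟨_, c9⟩))
  rw [h.O2 (syl_top Nat.prime_two T).pi, mem_bot] at a3
  rw [a3, orderOf_one] at a1
  omega

theorem cyc (T : Sylow 2 Γ) : IsCyclic T.1 := by
  haveI : Fact (Nat.Prime 2) := ⟨Nat.prime_two⟩
  rw [Subgroup.isCyclic_iff_exists_zpowers_eq_top]
  have o2 : ∀ g ∈ T.1, g ≠ 1 → orderOf g = 2 := fun g hg h1 =>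
    orderOf_eq_prime (by rw [pow_two, h.sq_one hc hg]) h1
  by_cases h1 : ∃ z ∈ T.1, z ≠ 1
  · obtain ⟨z, a1, a2⟩ := h1
    refine ⟨z, le_antisymm (zpowers_le.2 a1) fun g hg => ?_⟩
    by_cases h2 : g = 1
    · rw [h2]; exact one_mem _
    · rw [h.one_inv hc (o2 g hg h2) (o2 z a1 a2) hg a1]; exact mem_zpowers z
  · push Not at h1
    exact ⟨1, le_antisymm (zpowers_le.2 (one_mem _)) fun g hg => by rw [h1 g hg]; exact one_mem _⟩

end TI

section Singer
variable {l : ℕ} (hl : l.Prime) (hW : Nat.card W ≡ 1 [MOD l])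
  (hP : ∀ A : AddSubgroup W, Nat.card A ≡ 1 [MOD l] → A = ⊥ ∨ A = ⊤)
include hl hW hP

theorem irr {y : Γ} (hy : orderOf y = l) (A : AddSubgroup W) (hA : ∀ w ∈ A, y • w ∈ A) :
    A = ⊥ ∨ A = ⊤ := by
  have h1 := modEq hl hy (⊤ : AddSubgroup W) fun _ _ => trivial
  rw [AddSubgroup.card_top, top_inf_eq] at h1
  rcases hP _ (h1.symm.trans hW) with e | e
  · have h2 := modEq hl hy A hA
    rw [e, inf_bot_eq, AddSubgroup.card_bot] at h2
    exact hP A h2
  · have : y = 1 := h.faith y fun w => by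
      have : w ∈ U W y := e ▸ trivial
      exact this
    rw [this, orderOf_one] at hy
    exact absurd hy.symm hl.ne_one

theorem semireg {y g : Γ} (hy : orderOf y = l) (hg : g ∈ 𝓒₁(y)) {w : W} (hw : w ≠ 0)
    (e : g • w = w) : g = 1 := by
  rcases h.irr hl hW hP hy (U W g) (fun v hv => by
    show g • y • v = y • v
    rw [← mul_smul, mem_cent1.1 hg, mul_smul, show g • v = v from hv]) with e1 | e1
  · exact absurd (show w ∈ (⊥ : AddSubgroup W) from e1 ▸ e) hw
  · exact h.faith g fun v => show v ∈ U W g from e1 ▸ trivial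

theorem cent_cyc {y : Γ} (hy : orderOf y = l) : IsCyclic (𝓒₁(y)) := by
  let φ := DistribMulAction.toAddMonoidEnd Γ W
  let R := Subring.centralizer ({φ y} : Set (AddMonoid.End W))
  haveI : Finite (AddMonoid.End W) :=
    Finite.of_injective (fun f : W →+ W => (f : W → W)) DFunLike.coe_injective
  have hk : ∀ a : R, a ≠ 0 → ∀ w, a.1 w = 0 → w = 0 := by
    intro a ha w hw
    rcases h.irr hl hW hP hy (AddMonoidHom.ker a.1) (fun v hv => by
      have e : φ y * a.1 = a.1 * φ y := a.2 _ rfl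
      have e2 : (φ y * a.1) v = (a.1 * φ y) v := by rw [e]
      have e3 : y • a.1 v = a.1 (y • v) := e2
      show a.1 (y • v) = 0
      rw [← e3, show a.1 v = 0 from hv, smul_zero]) with e1 | e1
    · exact show w ∈ (⊥ : AddSubgroup W) from e1 ▸ hw
    · refine (ha (Subtype.ext (AddMonoidHom.ext fun v => ?_))).elim
      have : v ∈ AddMonoidHom.ker a.1 := e1 ▸ trivial
      exact this
  haveI : NoZeroDivisors R := ⟨fun {a b} e => by
    by_contra h1
    push Not at h1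
    refine h1.2 (Subtype.ext (AddMonoidHom.ext fun v => hk a h1.1 _ ?_))
    exact congrArg (fun c : R => c.1 v) e⟩
  haveI : Nontrivial R := ⟨0, 1, fun e => by
    obtain ⟨w, hw⟩ := exists_ne (0 : W)
    exact hw (congrArg (fun c : R => c.1 w) e).symm⟩
  haveI : IsDomain R := NoZeroDivisors.to_isDomain R
  have hF := Finite.isDomain_to_isField R
  letI : CommRing R := { (inferInstance : Ring R) with mul_comm := hF.mul_comm }
  let f : 𝓒₁(y) →* R :=
    { toFun := fun g => ⟨φ g.1, fun a ha => by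
        rw [Set.mem_singleton_iff.1 ha, ← map_mul, ← map_mul, mem_cent1.1 g.2]⟩
      map_one' := Subtype.ext (map_one φ)
      map_mul' := fun a b => Subtype.ext (map_mul φ a.1 b.1) }
  refine isCyclic_of_injective_ringHom f ((injective_iff_map_eq_one f).2 fun g e => ?_)
  exact Subtype.ext (h.faith g.1 fun w => congrArg (fun c : R => c.1 w) e)

theorem exists_y (h2 : l ≠ 2) (hn : l ∣ Nat.card (Sylow 2 Γ)) {x : Γ} (hx : RP x) :
    ∃ y : Γ, RP y ∧ orderOf y = l := by
  haveI : Fact (Nat.Prime 2) := ⟨Nat.prime_two⟩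
  obtain ⟨T⟩ : Nonempty (Sylow 2 Γ) := inferInstance
  obtain ⟨w, hw, hT⟩ := h.exists_w T
  rw [T.card_eq_index_normalizer] at hn
  have h3 : l ∣ (stabilizer Γ w).index := hn.trans (index_dvd_of_le (h.stab_le hw hT))
  have h4 : ¬ l ∣ (𝓒₁(x)).index := not_dvd_of_coprime hl (h.cop x hx w hw).symm h3
  have h5 : l ∣ ♯𝓒₁(x) := by
    have := h3.trans (stabilizer Γ w).index_dvd_card
    rw [← (𝓒₁(x)).card_mul_index] at this
    exact (hl.dvd_mul.1 this).resolve_right h4
  obtain ⟨L, hL⟩ := syl_exists hl (𝓒₁(x))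
  obtain ⟨t, ht⟩ := isConj_iff.1 hx.2.2
  have h6 : t ∈ 𝓝(𝓒₁(x)) := by
    rw [mem_norm_iff_cj, cj_cent1, ht, ← cent_zpowers, zpowers_inv, cent_zpowers]
  obtain ⟨c, hc, u, hu, rfl⟩ := hL.syl_frattini hl h6
  have h7 : u * x * u⁻¹ = x⁻¹ := by
    have e : c⁻¹ * x⁻¹ * c = x⁻¹ := by
      have := mem_cent1.1 hc
      rw [mul_assoc, inv_mul_eq_iff_eq_mul, inv_mul_eq_iff_eq_mul, ← mul_assoc, ← this,
        mul_inv_cancel_right]
    rw [← e, ← ht]; group
  obtain ⟨k, hk⟩ := exists_pow_order (two_dvd_of_inv h7 (ne_inv hx.odd hx.ne_one))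
  have hs : u ^ k ∈ 𝓝(L) := pow_mem hu k
  set s := u ^ k
  have ord : ∀ a ∈ L, a ≠ 1 → ∃ j, orderOf (a ^ j) = l := fun a ha h1 => by
    obtain ⟨j, hj⟩ := exists_prime_pow h1
    exact ⟨j, hL.pi.orderOf (pow_mem ha j) _ hj dvd_rfl⟩
  obtain ⟨⟨a, ha⟩, ha1⟩ := ne_bot_iff_exists_ne_one.1 (hL.ne_bot hl rfl h5)
  have ha1' : a ≠ 1 := fun e => ha1 (Subtype.ext e)
  have si : s⁻¹ = s := inv_eq_of_mul_eq_one_right (sq_of_order hk)
  by_cases h8 : a⁻¹ * (s * a * s⁻¹) = 1
  · obtain ⟨j, hj⟩ := ord a ha ha1'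
    have h9 : s ∈ 𝓒₁(a ^ j) := by
      rw [inv_mul_eq_one, eq_mul_inv_iff_mul_eq] at h8
      exact mem_cent1.2 (Commute.pow_right h8.symm j)
    obtain ⟨S, hS⟩ := exists_syl_mem (j := 1) (by simpa using hk)
    obtain ⟨v, hv, hS'⟩ := h.exists_w S
    rw [h.semireg hl hW hP hj h9 hv (hS' s hS), orderOf_one] at hk
    omega
  · obtain ⟨j, hj⟩ := ord _ (mul_mem (inv_mem ha) (conj_mem_of_mem_norm hs ha)) h8
    refine ⟨_, ⟨hj ▸ hl, hj ▸ h2, isConj_iff.2 ⟨s, inv_pow' ?_ j⟩⟩, hj⟩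
    calc _ = s * a⁻¹ * s * a * (s * s)⁻¹ := by group
      _ = s * a⁻¹ * s⁻¹ * a := by rw [sq_of_order hk, si]; simp
      _ = _ := by group

theorem le_cent {y : Γ} (hy : RP y) {p : ℕ} (hp : p.Prime) {Q : Subgroup Γ} [Q.Normal]
    (hQ : IsPi {p} Q) : Q ≤ 𝓒₁(y) := by
  obtain ⟨k, hk⟩ := hQ.exists_card hp
  by_cases h1 : p ∣ (𝓒₁(y)).index
  · intro g hg
    rw [h.faith g fun w => ?_]
    · exact one_mem _
    by_cases hw : w = 0
    · rw [hw, smul_zero]
    refine CA.H1Basic.normal_le_of_coprime_index (H := stabilizer Γ w) ?_ hg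
    rw [hk]
    exact ((Nat.Prime.coprime_iff_not_dvd hp).2
      (not_dvd_of_coprime hp (h.cop y hy w hw) h1)).pow_left k
  · refine CA.H1Basic.normal_le_of_coprime_index ?_
    rw [hk]
    exact ((Nat.Prime.coprime_iff_not_dvd hp).2 h1).pow_left k

theorem central {y : Γ} (hy : RP y) (hy' : orderOf y = l) (hper : _root_.commutator Γ = ⊤)
    (n : ℕ) : ∀ (R : Subgroup Γ) [R.Normal], ♯R = n → Group.IsSolvable R → R ≤ center Γ := by
  induction n using Nat.strong_induction_on with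
  | _ n ih =>
  intro R _ hn hs
  by_cases h0 : R = ⊥
  · rw [h0]; exact bot_le
  haveI : Nontrivial R := (nontrivial_iff_ne_bot R).2 h0
  have h1 : ⁅R, R⁆ ≠ R := by
    intro e
    have := Group.IsSolvable.commutator_lt_top_of_nontrivial R
    refine this.ne (map_injective R.subtype_injective ?_)
    rw [map_subtype_commutator, e, ← MonoidHom.range_eq_map, range_subtype]
  have h2 : ⁅R, R⁆ ≤ center Γ := by
    refine ih _ ?_ _ rfl ?_
    · rw [← hn]
      exact lt_of_le_of_ne (card_le_of_le (der_le R)) fun e =>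
        h1 (eq_of_le_of_card_ge (der_le R) e.ge)
    · exact Group.isSolvable_of_isSolvable_injective (inclusion_injective (der_le R))
  have h3 : Group.IsNilpotent R := by
    refine Subgroup.isNilpotent_of_ker_le_center (Abelianization.of (G := R)) ?_
    rw [Abelianization.ker_of]
    intro a ha
    have : (a : Γ) ∈ ⁅R, R⁆ := by rw [← map_subtype_commutator]; exact ⟨a, ha, rfl⟩
    exact mem_center_iff.2 fun b => Subtype.ext (mem_center_iff.1 (h2 this) b)
  refine le_of_forall_syl fun p hp _ => ?_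
  obtain ⟨P, hP'⟩ := syl_exists hp R
  refine ⟨P, hP', ?_⟩
  haveI : P.Normal := normalizer_eq_top_iff.1 (eq_top_iff.2
    ((normalizer_eq_top R).ge.trans (hP'.norm_of_nil h3)))
  have h4 := h.le_cent hl hW hP hy hp hP'.pi
  haveI := h.cent_cyc hl hW hP hy'
  have h5 : IsCyclic P := Subgroup.isCyclic_of_le h4
  obtain ⟨q, rfl⟩ := (Subgroup.isCyclic_iff_exists_zpowers_eq_top P).1 h5
  have h6 : _root_.commutator Γ ≤ 𝓒₁(q) := by
    rw [_root_.commutator_def, commutator_le]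
    intro a _ b _
    obtain ⟨i, hi⟩ := Normal.conj_mem inferInstance q (mem_zpowers q) a⁻¹
    obtain ⟨j, hj⟩ := Normal.conj_mem inferInstance q (mem_zpowers q) b⁻¹
    simp only [inv_inv] at hi hj
    have e1 : a⁻¹ * (b⁻¹ * q * b) * a = q ^ (i * j) := by
      rw [← hj, zpow_mul, hi]
      have := conj_zpow (a := a⁻¹) (b := q) (i := j)
      rw [inv_inv] at this
      exact this.symm
    have e2 : b⁻¹ * (a⁻¹ * q * a) * b = q ^ (i * j) := by
      rw [← hi, mul_comm i, zpow_mul, hj]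
      have := conj_zpow (a := b⁻¹) (b := q) (i := i)
      rw [inv_inv] at this
      exact this.symm
    rw [← inv_mem_iff, commutatorElement_inv, mem_cent1, commutatorElement_def]
    calc _ = b * a * (b⁻¹ * (a⁻¹ * q * a) * b) * b⁻¹ * a⁻¹ := by group
      _ = b * a * (a⁻¹ * (b⁻¹ * q * b) * a) * b⁻¹ * a⁻¹ := by rw [e1, e2]
      _ = _ := by group
  rw [hper] at h6
  exact zpowers_le.2 (mem_center_iff.2 fun g => mem_cent1.1 (h6 (mem_top g)))

end Singer

end Hyp

end CA.H14Rc
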