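import Cfsg.Agent.Lib.Grp.H14Rc3
import Cfsg.Agent.Lib.Grp.Zsig
import Cfsg.Agent.Lib.Perm.SRing2

/-! Solvability of the acting group. -/

set_option autoImplicit false
set_option linter.unusedSectionVars false
set_option linter.unusedVariables false

namespace CA.H14Rc
open Subgroup CA.BG MulAction

universe u

theorem exists_cinv {G : Type*} [Group G] [Finite G] {D : Subgroup G} (hD : IsPi {2} D)
    (h0 : D ≠ ⊥) : ∃ a ∈ D, orderOf a = 2 ∧ ∀ g ∈ D, g * a = a * g := by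
  haveI : Fact (Nat.Prime 2) := ⟨Nat.prime_two⟩
  haveI : Nontrivial D := (nontrivial_iff_ne_bot D).2 h0
  haveI := (hD.isPGroup Nat.prime_two).center_nontrivial
  obtain ⟨⟨⟨a, ha⟩, hc⟩, h1⟩ := exists_ne (1 : center D)
  have h2 : a ≠ 1 := fun e => h1 (Subtype.ext (Subtype.ext e))
  obtain ⟨k, hk⟩ := exists_prime_pow h2
  refine ⟨a ^ k, pow_mem ha k, hD.orderOf (pow_mem ha k) _ hk dvd_rfl, fun g hg => ?_⟩
  have : Commute g a := congrArg Subtype.val (mem_center_iff.1 hc ⟨g, hg⟩)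
  exact this.pow_right k

section
variable {Γ W : Type*} [Group Γ] [AddCommGroup W] [DistribMulAction Γ W] [Finite Γ] [Finite W]

namespace Hyp
variable (h : Hyp Γ W) [Nontrivial W]
include h

theorem two_trans {y : Γ} (hy : RP y) (hcyc : IsCyclic (𝓒₁(y)))
    (hcen : ∀ R : Subgroup Γ, R.Normal → R ≠ ⊤ → R ≤ center Γ) {p q : ℕ} (hp : p.Prime)
    (hq : q.Prime) (hpq : p ≠ q) (h1 : p ∣ Nat.card (Sylow 2 Γ)) (h2 : q ∣ Nat.card (Sylow 2 Γ))
    {a b c d : Sylow 2 Γ} (hab : a ≠ b) (hcd : c ≠ d) : ∃ g : Γ, g • a = c ∧ g • b = d := by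
  haveI : Fact (Nat.Prime 2) := ⟨Nat.prime_two⟩
  haveI : Nontrivial (Sylow 2 Γ) := ⟨a, b, hab⟩
  have fac : ∀ (T : Sylow 2 Γ) (g : Γ), ∃ s ∈ 𝓒₁(y), ∃ n ∈ 𝓝(T.1), g = s * n := by
    intro T g
    obtain ⟨w, hw, hT⟩ := h.exists_w T
    obtain ⟨s, hs, n, hn, e⟩ := CA.H1Prod.fac_of_coprime_index (h.cop y hy w hw) g
    exact ⟨s, hs, n, h.stab_le hw hT hn, e⟩
  have com : ∀ s ∈ 𝓒₁(y), ∀ s' ∈ 𝓒₁(y), s * s' = s' * s := fun s hs s' hs' =>
    congrArg Subtype.val ((comm_of_cyclic hcyc).is_comm.comm ⟨s, hs⟩ ⟨s', hs'⟩)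
  have hco : IsCoatom (stabilizer Γ a) := by
    refine ⟨fun e => h.not_norm hy a (smul_eq.1 (show y ∈ stabilizer Γ a from e ▸ mem_top y)),
      fun B hB => ?_⟩
    by_contra hB'
    have hle : 𝓝(a.1) ≤ B := fun g hg => hB.le (smul_eq.2 hg)
    refine hB.not_ge fun g hg => ?_
    obtain ⟨s, hs, n, hn, rfl⟩ := fac a g
    have h3 : s ∈ B := by simpa using mul_mem hg (inv_mem (hle hn))
    have h4 : s ∈ B.normalCore := by
      intro g
      obtain ⟨s', hs', n', hn', e⟩ := fac a g⁻¹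
      rw [inv_eq_iff_eq_inv] at e
      rw [e, show (s' * n')⁻¹ * s * (s' * n')⁻¹⁻¹ = n'⁻¹ * (s'⁻¹ * (s * s')) * n' by group,
        com s hs s' hs', inv_mul_cancel_left]
      exact mul_mem (mul_mem (inv_mem (hle hn')) h3) (hle hn')
    have h5 := hcen _ inferInstance (fun e => hB' (eq_top_iff.2 (e.ge.trans B.normalCore_le))) h4
    exact smul_eq.2 (mul_mem (center_le_normalizer _ h5) hn)
  haveI hpr := (isCoatom_stabilizer_iff_preprimitive Γ a).1 hco
  let φ := toPermHom Γ (Sylow 2 Γ)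
  have hpr' : IsPreprimitive φ.range (Sylow 2 Γ) :=
    IsPreprimitive.of_surjective (φ := φ.rangeRestrict) (f := ⟨id, fun _ _ => rfl⟩)
      Function.surjective_id
  let C := (𝓒₁(y)).map φ.rangeRestrict
  haveI : IsCyclic C := isCyclic_of_surjective _ (φ.rangeRestrict.subgroupMap_surjective _)
  have tr : ∀ S S' : Sylow 2 Γ, ∃ s ∈ 𝓒₁(y), s • S = S' := by
    intro S S'
    obtain ⟨g, rfl⟩ := exists_smul S S'
    obtain ⟨s, hs, n, hn, rfl⟩ := fac S g
    exact ⟨s, hs, by rw [mul_smul, smul_eq.2 hn]⟩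
  have h6 := CA.SRing2.two_of_cyclic hpr' hp hq hpq h1 h2 C ⟨fun S S' => by
    obtain ⟨s, hs, e⟩ := tr S S'
    exact ⟨⟨_, s, hs, rfl⟩, e⟩⟩ (fun S => by
    rw [eq_bot_iff]
    rintro ⟨_, s, hs, rfl⟩ e
    have e' : s • S = S := e
    refine Subtype.ext (Subtype.ext (Equiv.ext fun S' => ?_))
    obtain ⟨s', hs', rfl⟩ := tr S S'
    show s • s' • S = s' • S
    rw [← mul_smul, com s hs s' hs', mul_smul, e'])
  obtain ⟨⟨_, g, rfl⟩, e1, e2⟩ := is_two_pretransitive_iff.1 h6 hab hcd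
  exact ⟨g, e1, e2⟩

theorem hc_of_two (h2 : ∀ {a b c d : Sylow 2 Γ}, a ≠ b → c ≠ d → ∃ g : Γ, g • a = c ∧ g • b = d)
    {T : Sylow 2 Γ} {z : Γ} (hz : orderOf z = 2) (hT : z ∈ T.1) (hc : ∀ g ∈ T.1, g * z = z * g) :
    Nat.card W = Nat.card (Fx W T.1) ^ 2 := by
  obtain ⟨a1, a2⟩ := h.card_U hz
  suffices e : (⊤ : AddSubgroup W).map (dd W z) = Fx W T.1 by rw [a2, ← a1, e]
  refine le_antisymm ?_ (a1 ▸ Fx_le_U hT)
  rintro _ ⟨v, -, rfl⟩
  by_cases h0 : dd W z v = 0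
  · rw [h0]; exact zero_mem _
  have hv : v ≠ 0 := fun e => h0 (by rw [e, map_zero])
  obtain ⟨S, b1, -⟩ := h.exists_T hv
  have b2 : z ∉ S.1 := fun e => h0 (by rw [dd_apply, b1 z e, h.two])
  obtain ⟨R, b3, -⟩ := h.exists_T h0
  by_cases b4 : T = R
  · exact b4 ▸ b3
  have b5 : T.1 ⊓ S.1 ≤ T.1 ⊓ R.1 := by
    refine le_inf inf_le_left (h.le_T h0 b3 ((syl_top Nat.prime_two T).pi.inf_left _) ?_)
    intro g hg
    rw [dd_apply, smul_add, ← mul_smul, hc g hg.1, mul_smul, b1 g hg.2]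
  obtain ⟨g, e1, e2⟩ := h2 (show T ≠ S from fun e => b2 (e ▸ hT)) b4
  have b6 : ♯(T.1 ⊓ R.1 : Subgroup Γ) = ♯(T.1 ⊓ S.1 : Subgroup Γ) := by
    rw [← card_cj g (T.1 ⊓ S.1), cj_inf, ← smul_coe, ← smul_coe, e1, e2]
  have b7 := eq_of_le_of_card_ge b5 b6.le
  have b8 : z ∈ R.1 := h.mem_T h0 b3 (j := 1) (by simpa using hz)
    (h.map_le_U (sq_of_order hz) ⊤ ⟨v, trivial, rfl⟩)
  exact absurd (show z ∈ T.1 ⊓ S.1 from b7 ▸ ⟨hT, b8⟩).2 b2

theorem modEq_one {x : Γ} (hx : RP x) (A : AddSubgroup W) (hA : ∀ w ∈ A, x • w ∈ A) :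
    Nat.card A ≡ 1 [MOD orderOf x] := by
  have := modEq hx.1 rfl A hA
  rwa [show A ⊓ U W x = ⊥ from eq_bot_iff.2 fun w hw => h.fpf x hx w hw.2,
    AddSubgroup.card_bot] at this

theorem six (hW : Nat.card W = 64) {T₀ T₁ : Sylow 2 Γ} (hc : Nat.card (Fx W T₀.1) = 2)
    (hne : T₀ ≠ T₁) (h0 : T₀.1 ⊓ T₁.1 ≠ ⊥) : False := by
  classical
  haveI : Fact (Nat.Prime 2) := ⟨Nat.prime_two⟩
  haveI : Nonempty {p : Sylow 2 Γ × Sylow 2 Γ // p.1 ≠ p.2} := ⟨⟨(T₀, T₁), hne⟩⟩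
  obtain ⟨⟨⟨T, T'⟩, hTT⟩, hmax⟩ := Finite.exists_max
    (fun p : {p : Sylow 2 Γ × Sylow 2 Γ // p.1 ≠ p.2} => ♯(p.1.1.1 ⊓ p.1.2.1 : Subgroup Γ))
  simp only at hTT hmax
  set D : Subgroup Γ := T.1 ⊓ T'.1 with hD
  have piD : IsPi {2} D := (syl_top Nat.prime_two T).pi.inf_left _
  have D0 : D ≠ ⊥ := by
    intro e
    have := hmax ⟨(T₀, T₁), hne⟩
    rw [e, card_bot] at this
    exact h0 (card_le_one_iff_eq_bot _ |>.1 this)
  have M : ∀ (S S' : Sylow 2 Γ) (s : Γ), D ≤ S.1 → D ≤ S'.1 → s ∈ S.1 → s ∈ S'.1 → s ∉ D →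
      S = S' := by
    intro S S' s a1 a2 a3 a4 a5
    by_contra a6
    have := eq_of_le_of_card_ge (le_inf a1 a2) (hmax ⟨(S, S'), a6⟩)
    exact a5 (this ▸ ⟨a3, a4⟩)
  have big : ∀ S : Sylow 2 Γ, D ≤ S.1 → ∃ s ∈ S.1, s ∈ 𝓝(D) ∧ s ∉ D := by
    intro S hS
    have a1 : D < S.1 := lt_of_le_of_ne hS fun e => hTT (by
      have b1 : S = T := Sylow.ext (S.is_maximal' T.isPGroup' (e.ge.trans inf_le_left)).symm
      have b2 : S = T' := Sylow.ext (S.is_maximal' T'.isPGroup' (e.ge.trans inf_le_right)).symm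
      rw [← b1, b2])
    obtain ⟨s, a2, a3⟩ := SetLike.exists_of_lt
      (lt_norm_of_nilpotent ((syl_top Nat.prime_two S).pi.isNilpotent Nat.prime_two) a1)
    exact ⟨s, a2.1, a2.2, a3⟩
  obtain ⟨x, hxN, hx⟩ : ∃ x ∈ 𝓝(D), RP x := by
    by_contra a1
    push Not at a1
    obtain ⟨P, hP, hn⟩ := closed _ a1
    obtain ⟨S, hS⟩ := exists_syl_ge hP.pi
    have key : ∀ R : Sylow 2 Γ, D ≤ R.1 → R = S := fun R hR => by
      obtain ⟨s, b1, b2, b3⟩ := big R hR
      exact M R S s hR ((hP.le_of_normal hn piD (le_norm_self D)).trans hS) b1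
        (hS (hP.mem_of_normal hn b2 ((syl_top Nat.prime_two R).pi.orderOf b1))) b3
    exact hTT ((key T inf_le_left).trans (key T' inf_le_right).symm)
  have inv : ∀ g ∈ 𝓝(D), ∀ w ∈ Fx W D, g • w ∈ Fx W D := by
    intro g hg w hw d hd
    have := hw _ (conj_mem_of_mem_norm' hg hd)
    rwa [mul_smul, mul_smul, inv_smul_eq_iff] at this
  have h4 : Nat.card (Fx W D) ≤ 4 := by
    obtain ⟨s₀, b1, b2, b3⟩ := big T inf_le_left
    obtain ⟨i, hi⟩ := ((syl_top Nat.prime_two T).pi.orderOf b1).exists_pow Nat.prime_two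
      (orderOf_pos _).ne'
    have b4 : ∃ j, s₀ ^ 2 ^ (j + 1) ∈ D := ⟨i, by
      rw [pow_succ, pow_mul, ← hi, pow_orderOf_eq_one, one_pow]; exact one_mem _⟩
    have b5 := Nat.find_spec b4
    have b6 : s₀ ^ 2 ^ Nat.find b4 ∉ D := by
      rcases e : Nat.find b4 with _ | j
      · simpa using b3
      · exact Nat.find_min b4 (by omega)
    rw [pow_succ, pow_mul, pow_two] at b5
    have c1 : s₀ ^ 2 ^ Nat.find b4 ∈ T.1 := pow_mem b1 _
    have c2 : s₀ ^ 2 ^ Nat.find b4 ∈ 𝓝(D) := pow_mem b2 _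
    set s := s₀ ^ 2 ^ Nat.find b4
    obtain ⟨i', hi'⟩ := ((syl_top Nat.prime_two T).pi.orderOf c1).exists_pow Nat.prime_two
      (orderOf_pos _).ne'
    have c3 : Fx W D ⊓ U W s ≤ Fx W T.1 := by
      intro w hw
      by_cases c4 : w = 0
      · rw [c4]; exact zero_mem _
      obtain ⟨R, c5, -⟩ := h.exists_T c4
      rwa [M T R s inf_le_left (h.le_T c4 c5 piD hw.1) c1 (h.mem_T c4 c5 hi' hw.2) b6]
    have c6 : (Fx W D).map (dd W s) ≤ Fx W D ⊓ U W s := by
      rintro _ ⟨w, hw, rfl⟩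
      refine ⟨add_mem (inv s c2 w hw) hw, ?_⟩
      show s • (s • w + w) = s • w + w
      rw [smul_add, ← mul_smul, hw _ b5, add_comm]
    have c7 := AddSubgroup.card_le_of_le c3
    rw [← card_Fx T₀ T, hc] at c7
    rw [card_eq (Fx W D) (dd W s), h.ker_dd]
    exact Nat.mul_le_mul c7 ((AddSubgroup.card_le_of_le c6).trans c7)
  have h3 : orderOf x = 3 := by
    have a1 := h.modEq_one hx _ (inv x hxN)
    have a2 : 1 < Nat.card (Fx W D) :=
      (h.one_lt_c T).trans_le (AddSubgroup.card_le_of_le (Fx_anti (inf_le_left : D ≤ _)))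
    have a3 := (Nat.modEq_iff_dvd' a2.le).1 a1.symm
    have a4 := Nat.le_of_dvd (by omega) a3
    have a5 := hx.1.two_le
    have a6 := hx.2.1
    omega
  have m8 : ∀ a : Γ, orderOf a = 2 → Nat.card (U W a) = 8 := fun a ha =>
    Nat.pow_left_injective two_ne_zero ((h.card_U ha).2.symm.trans hW)
  have nc : ∀ a : Γ, a * a = 1 → x * a * x⁻¹ = a → a = 1 := by
    intro a a1 a2
    by_contra a3
    have a4 := h.modEq_one hx (U W a) fun w hw => by
      show a • x • w = x • w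
      rw [← mul_smul, ← mul_inv_eq_iff_eq_mul.1 a2, mul_smul, show a • w = w from hw]
    rw [m8 a (orderOf_eq_prime (by rw [pow_two, a1]) a3), h3] at a4
    exact absurd a4 (by decide)
  obtain ⟨a, haD, ha2, hac⟩ := exists_cinv piD D0
  have x3 : x * x * x = 1 := by rw [← pow_three', ← h3, pow_orderOf_eq_one]
  have aa := sq_of_order ha2
  obtain ⟨b, hb⟩ : ∃ b, b = x * a * x⁻¹ := ⟨_, rfl⟩
  obtain ⟨c, hc'⟩ : ∃ c, c = x * b * x⁻¹ := ⟨_, rfl⟩
  have hbD : b ∈ D := hb ▸ conj_mem_of_mem_norm hxN haD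
  have hcD : c ∈ D := hc' ▸ conj_mem_of_mem_norm hxN hbD
  have xc : x * c * x⁻¹ = a := by
    rw [hc', hb]
    calc _ = x * x * x * a * (x * x * x)⁻¹ := by group
      _ = a := by rw [x3]; simp
  have bb : b * b = 1 := by rw [hb, conj_mul, aa]; simp
  have cc : c * c = 1 := by rw [hc', conj_mul, bb]; simp
  have ba := hac b hbD
  have ca := hac c hcD
  have cb : c * b = b * c := by
    calc c * b = x * (b * a) * x⁻¹ := by rw [hc']; nth_rewrite 2 [hb]; group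
      _ = x * (a * b) * x⁻¹ := by rw [ba]
      _ = b * c := by rw [hc']; nth_rewrite 2 [hb]; group
  have abc : a * b * c = 1 := by
    refine nc _ ?_ ?_
    · calc _ = a * (b * (c * a)) * b * c := by group
        _ = a * (b * a) * (c * b) * c := by rw [ca]; group
        _ = a * a * (b * b) * (c * c) := by rw [ba, cb]; group
        _ = 1 := by rw [aa, bb, cc]; simp
    · rw [← conj_mul, ← conj_mul, ← hb, ← hc', xc, mul_assoc, ca, ← mul_assoc, ba]
  have c_eq : c = b * a := by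
    rw [ba, ← inv_eq_of_mul_eq_one_right cc]
    exact (eq_inv_of_mul_eq_one_left abc).symm
  have xa : ∀ w : W, x • a • w = b • x • w := fun w => by
    rw [← mul_smul, ← mul_smul, hb, inv_mul_cancel_right]
  have xb : ∀ w : W, x • b • w = b • a • x • w := fun w => by
    rw [← mul_smul, ← mul_smul, ← mul_smul, ← c_eq, hc', inv_mul_cancel_right]
  have ab' : ∀ w : W, a • b • w = b • a • w := fun w => by rw [← mul_smul, ← mul_smul, ba]
  have bb' : ∀ w : W, b • b • w = w := fun w => by rw [← mul_smul, bb, one_smul]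
  have aa' : ∀ w : W, a • a • w = w := fun w => by rw [← mul_smul, aa, one_smul]
  have d1 := h.modEq_one hx (U W a ⊓ U W b) fun w hw => by
    have e1 : b • x • w = x • w := by rw [← xa, show a • w = w from hw.1]
    have e2 : b • a • x • w = x • w := by rw [← xb, show b • w = w from hw.2]
    refine ⟨?_, e1⟩
    rw [← ab', e1] at e2
    exact e2
  have d2 := h.modEq_one hx ((U W a).map (dd W b)) (by
    rw [← (h.card_U ha2).1]
    rintro _ ⟨_, ⟨w, -, rfl⟩, rfl⟩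
    refine ⟨_, ⟨x • w, trivial, rfl⟩, ?_⟩
    simp only [dd_apply, smul_add, xa, xb]
    rw [ab', bb']
    abel)
  have d3 := card_eq (U W a) (dd W b)
  rw [h.ker_dd, m8 a ha2] at d3
  rw [h3] at d1 d2
  have d4 := d1.mul d2
  rw [← d3] at d4
  exact absurd d4 (by decide)

end Hyp

theorem Hyp.sub (h : Hyp Γ W) (N : Subgroup Γ) [N.Normal] : Hyp N W where
  two := h.two
  faith g hg := Subtype.ext (h.faith g.1 hg)
  odd w hw := (h.odd w hw).of_dvd_nat (CA.H1Basic.relIndex_normal_dvd_index (stabilizer Γ w) N)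
  fpf x hx := h.fpf x.1 (hx.map_inj N.subtype N.subtype_injective)
  cop x hx w hw := by
    refine ((h.cop x.1 (hx.map_inj N.subtype N.subtype_injective) w hw).coprime_dvd_left
      ?_).coprime_dvd_right (CA.H1Basic.relIndex_normal_dvd_index (stabilizer Γ w) N)
    have e : 𝓒₁(x) = (𝓒₁(x.1)).subgroupOf N := by
      ext g
      rw [mem_subgroupOf, mem_cent1, mem_cent1]
      exact Subtype.ext_iff
    rw [e]
    exact CA.H1Basic.relIndex_normal_dvd_index _ N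

end

theorem core {W : Type*} [AddCommGroup W] [Finite W] (n : ℕ) : ∀ (Γ : Type u) [Group Γ] [Finite Γ]
    [DistribMulAction Γ W], Nat.card Γ = n → Hyp Γ W → Group.IsSolvable Γ := by
  induction n using Nat.strong_induction_on with
  | _ n ih =>
  intro Γ _ _ _ hn h
  by_contra hs
  haveI : Fact (Nat.Prime 2) := ⟨Nat.prime_two⟩
  have hN : ∀ N : Subgroup Γ, N.Normal → N ≠ ⊤ → Group.IsSolvable N := fun N _ h1 =>
    ih _ (hn ▸ CA.H1Basic.card_lt_of_ne_top h1) N rfl (h.sub N)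
  have hper : _root_.commutator Γ = ⊤ := by
    by_contra h1
    exact hs (CA.H4Cls.solv_ext _ (hN _ inferInstance h1)
      (inferInstanceAs (Group.IsSolvable (Abelianization Γ))))
  haveI : Nontrivial W := by
    by_contra h1
    rw [not_nontrivial_iff_subsingleton] at h1
    haveI : Subsingleton Γ := ⟨fun a b => by
      rw [h.faith a fun _ => Subsingleton.elim _ _, h.faith b fun _ => Subsingleton.elim _ _]⟩
    exact hs inferInstance
  obtain ⟨T⟩ : Nonempty (Sylow 2 Γ) := inferInstance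
  have hev : Even (Nat.card Γ) := by
    by_contra h1
    exact hs (Cfsg.Agent.S0205.result (Nat.not_even_iff_odd.1 h1))
  have hT := syl_top Nat.prime_two T
  obtain ⟨z, z1, z2, z3⟩ := exists_cinv hT.pi
    (hT.ne_bot Nat.prime_two rfl (by rw [card_top]; exact even_iff_two_dvd.1 hev))
  have hc : Nat.card W ≠ Nat.card (Fx W T.1) ^ 2 := by
    intro hc
    obtain ⟨H, hH⟩ := Cfsg.Agent.S0219.result hev T (h.cyc hc T)
    haveI := normal_of_index_eq_two hH
    refine hs (CA.H4Cls.solv_ext H (hN H inferInstance fun e => ?_)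
      (CA.H4Cls.solv_of_isPGroup Nat.prime_two (IsPGroup.of_card (n := 1) hH)))
    rw [e, index_top] at hH
    omega
  obtain ⟨d, hd⟩ : ∃ d, Nat.card W = 2 ^ d :=
    IsPGroup.exists_card_eq (p := 2) (G := Multiplicative W) fun g => ⟨1, by
      rw [pow_one, pow_two]; exact h.two g.toAdd⟩
  have c1 := h.one_lt_c T
  have c2 := h.count_top T
  obtain ⟨k, c3⟩ := h.count_U z2 T
  have c4 := (h.card_U z2).2
  have c5 : 1 < Nat.card W := Finite.one_lt_card
  obtain ⟨e, he⟩ : ∃ e, Nat.card (Fx W T.1) = e + 1 := ⟨_, (Nat.sub_add_cancel c1.le).symm⟩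
  rw [he, Nat.add_sub_cancel] at c2 c3
  set m := Nat.card (U W z)
  have c6 : Nat.card (Sylow 2 Γ) = k * (m + 1) := by
    refine Nat.eq_of_mul_eq_mul_right (m := e) (by omega) (Nat.add_right_cancel (m := 1) ?_)
    rw [← c2, c4, c3]; ring
  have k0 : k ≠ 0 := by
    rintro rfl
    rw [c4, c3] at c5
    simp at c5
  have k1 : k ≠ 1 := by
    rintro rfl
    exact hc (by rw [c4, c3, he, one_mul])
  have m2 : 2 ∣ m := Nat.prime_two.dvd_of_dvd_pow (by
    rw [← c4, hd]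
    exact dvd_pow_self 2 (by rintro rfl; omega))
  by_cases h6 : d = 6
  · subst h6
    have m8 : m = 8 := Nat.pow_left_injective two_ne_zero (c4.symm.trans hd)
    have e1 : e = 1 := by
      have : k * e = 7 := by omega
      have k7 := (Nat.dvd_prime (by decide : Nat.Prime 7)).1 ⟨e, this.symm⟩
      rcases k7 with k7 | k7
      · exact absurd k7 k1
      · rw [k7] at this; omega
    obtain ⟨w, w1, w2⟩ : ∃ w ∈ U W z, w ∉ Fx W T.1 := by
      by_contra h1
      push Not at h1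
      have := AddSubgroup.card_le_of_le (show U W z ≤ Fx W T.1 from h1)
      omega
    have w0 : w ≠ 0 := fun e => w2 (e ▸ zero_mem _)
    obtain ⟨S, s1, -⟩ := h.exists_T w0
    refine h.six hd (T₀ := T) (T₁ := S) (by omega) (fun e => w2 (e ▸ s1)) fun e => ?_
    have : z ∈ T.1 ⊓ S.1 := ⟨z1, h.mem_T w0 s1 (j := 1) (by simpa using z2) w1⟩
    rw [e, mem_bot] at this
    rw [this, orderOf_one] at z2
    omega
  have d1 : 1 < d := by
    by_contra h1
    have : 2 ^ d ≤ 2 ^ 1 := Nat.pow_le_pow_right two_pos (by omega)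
    have : 2 ^ 2 ≤ m ^ 2 := Nat.pow_le_pow_left (Nat.le_of_dvd (by omega) m2) 2
    omega
  obtain ⟨l, hl, l1, l2⟩ := CA.Zsig.zsigmondy 2 d one_lt_two d1 (fun e => h6 e.2) (by
    rintro ⟨-, i, hi⟩
    rcases i with _ | i
    · omega
    · rw [pow_succ] at hi; omega)
  have hW : Nat.card W ≡ 1 [MOD l] := ((Nat.modEq_iff_dvd' c5.le).2 (hd ▸ l1)).symm
  have hP : ∀ A : AddSubgroup W, Nat.card A ≡ 1 [MOD l] → A = ⊥ ∨ A = ⊤ := by
    intro A hA
    obtain ⟨i, i1, i2⟩ := (Nat.dvd_prime_pow Nat.prime_two).1 (hd ▸ A.card_addSubgroup_dvd_card)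
    rcases Nat.eq_zero_or_pos i with rfl | i3
    · exact Or.inl (AddSubgroup.eq_bot_of_card_eq A i2)
    rcases i1.lt_or_eq with i4 | rfl
    · exact absurd (i2 ▸ (Nat.modEq_iff_dvd' Nat.card_pos).1 hA.symm) (l2 i i3 i4)
    · exact Or.inr (AddSubgroup.eq_top_of_card_eq A (i2.trans hd.symm))
  have l3 : l ≠ 2 := by
    rintro rfl
    have := (Nat.modEq_iff_dvd' c5.le).1 hW.symm
    have : 2 ∣ Nat.card W := hd ▸ dvd_pow_self 2 (by omega)
    omega
  have l4 : l ∣ Nat.card (Sylow 2 Γ) := by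
    have a1 := (Nat.modEq_iff_dvd' c5.le).1 hW.symm
    rw [c2, Nat.add_sub_cancel] at a1
    refine (hl.dvd_mul.1 a1).resolve_right fun a2 => ?_
    rcases hP (Fx W T.1) ((Nat.modEq_iff_dvd' c1.le).2 (by rwa [he])).symm with a3 | a3
    · rw [a3, AddSubgroup.card_bot] at c1; omega
    · rw [h.faith z fun w => (show w ∈ Fx W T.1 from a3 ▸ trivial) z z1, orderOf_one] at z2
      omega
  obtain ⟨x, hx, -⟩ := h.invol z2
  obtain ⟨y, hy, hy'⟩ := h.exists_y hl hW hP l3 l4 hx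
  have p1 := Nat.minFac_prime k1
  have p2 := Nat.minFac_prime (n := m + 1) (by omega)
  refine hc (h.hc_of_two (fun hab hcd => h.two_trans hy (h.cent_cyc hl hW hP hy')
    (fun R _ hR => h.central hl hW hP hy hy' hper _ R rfl (hN R inferInstance hR)) p1 p2 ?_
    (c6 ▸ (Nat.minFac_dvd k).mul_right _) (c6 ▸ (Nat.minFac_dvd _).mul_left _) hab hcd) z2 z1 z3)
  intro e1
  have a1 : k.minFac ∣ k * e + 2 := by
    rw [show k * e + 2 = m + 1 by omega, e1]; exact Nat.minFac_dvd _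
  have a2 := (Nat.dvd_add_right ((Nat.minFac_dvd k).mul_right e)).1 a1
  have a3 := Nat.minFac_dvd (m + 1)
  rw [← e1, (Nat.prime_dvd_prime_iff_eq p1 Nat.prime_two).1 a2] at a3
  omega

end CA.H14Rc
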