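import Cfsg.Agent.Lib.Grp.Subn
import Cfsg.Agent.Lib.Loc.H6Basic

/-! Small lemmas: the join of the subnormal subgroups inside `M`; real elements. -/

set_option autoImplicit false

namespace CA.L0Misc
open Subgroup CA.H6Basic CA.Subn

variable {G : Type*} [Group G] [Finite G]

def snIn (M : Subgroup G) : Subgroup G := sSup {L | L.IsSubnormal ∧ L ≤ M}

theorem snIn_subnormal (M : Subgroup G) : (snIn M).IsSubnormal := subnormal_sSup fun _ h => h.1

omit [Finite G] in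
theorem snIn_le (M : Subgroup G) : snIn M ≤ M := sSup_le fun _ h => h.2

omit [Finite G] in
theorem le_snIn {M L : Subgroup G} (h : L.IsSubnormal) (h' : L ≤ M) : L ≤ snIn M := le_sSup ⟨h, h'⟩

theorem mem_norm_snIn {M : Subgroup G} {x : G} (h : cj x (snIn M) ≤ M) :
    x ∈ normalizer (snIn M : Set G) :=
  mem_normalizer_of_cj_le (le_snIn (subnormal_map_conj (snIn_subnormal M) x) h)

theorem le_norm_snIn (M : Subgroup G) : M ≤ normalizer (snIn M : Set G) := fun _ hx =>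
  mem_norm_snIn (cj_le_of_mem hx (snIn_le M))

theorem eq_top_of_norm_snIn {M : Subgroup G} (h : normalizer (snIn M : Set G) ≤ M) : M = ⊤ := by
  by_contra hM
  obtain ⟨x, -, hx, hx'⟩ := SN.exists_conj (SN.top_iff.2 (snIn_subnormal M))
    (fun h' => hM (eq_top_iff.2 (h'.trans h)))
  exact hx (mem_norm_snIn (hx'.trans h))

/-- a real element is inverted by a 2-element -/
theorem exists_two_inv {x : G} (hx : IsConj x x⁻¹) :
    ∃ t : G, (∃ j : ℕ, orderOf t = 2 ^ j) ∧ t * x * t⁻¹ = x⁻¹ := by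
  obtain ⟨g, hg⟩ := isConj_iff.1 hx
  obtain ⟨j, m, hm, e⟩ := Nat.exists_eq_two_pow_mul_odd (orderOf_pos g).ne'
  have h2 : ∀ k : ℕ, g ^ (2 * k + 1) * x * (g ^ (2 * k + 1))⁻¹ = x⁻¹ := by
    intro k
    induction k with
    | zero => simpa using hg
    | succ k ih =>
      have h1 : g * x⁻¹ * g⁻¹ = x := by rw [← conj_inv, hg, inv_inv]
      calc _ = g * (g * (g ^ (2 * k + 1) * x * (g ^ (2 * k + 1))⁻¹) * g⁻¹) * g⁻¹ := by group
        _ = x⁻¹ := by rw [ih, h1, hg]
  obtain ⟨k, rfl⟩ := hm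
  refine ⟨g ^ (2 * k + 1), ⟨j, ?_⟩, h2 k⟩
  rw [orderOf_pow_of_dvd (by omega) (e ▸ dvd_mul_left _ _), e, Nat.mul_div_cancel _ (by omega)]

end CA.L0Misc
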