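import Cfsg.Agent.Lib.Grp.H14Rc4
import Cfsg.Agent.S3863

/-! Groups whose prime graph on real class sizes is disconnected. -/

set_option autoImplicit false
set_option linter.unusedSectionVars false
set_option linter.unusedVariables false

namespace CA.H14Rc
open Subgroup CA.BG MulAction

variable {G : Type*} [Group G]

theorem normal_closure_of {S : Set G} (h : ∀ s ∈ S, ∀ g, g * s * g⁻¹ ∈ S) : (closure S).Normal :=
  ⟨fun n hn g => by
    induction hn using closure_induction with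
    | mem s hs => exact subset_closure (h s hs g)
    | one => simp
    | mul a b _ _ ha hb => rw [← conj_mul]; exact mul_mem ha hb
    | inv a _ ha => rw [← conj_inv]; exact inv_mem ha⟩

theorem conj_conj (g x : G) : IsConj x (g * x * g⁻¹) := isConj_iff.2 ⟨g, rfl⟩

theorem conj_inv' {a b : G} (h : IsConj a b) : IsConj a⁻¹ b⁻¹ := by
  obtain ⟨g, rfl⟩ := isConj_iff.1 h
  exact isConj_iff.2 ⟨g, conj_inv.symm⟩

theorem real_conj {a b : G} (h : IsConj a a⁻¹) (h' : IsConj a b) : IsConj b b⁻¹ :=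
  (h'.symm.trans h).trans (conj_inv' h')

theorem idx_conj {a b : G} (h : IsConj a b) : (𝓒₁(b)).index = (𝓒₁(a)).index := by
  obtain ⟨g, rfl⟩ := isConj_iff.1 h
  rw [← cj_cent1, index_cj]

theorem order_conj {a b : G} (h : IsConj a b) : orderOf b = orderOf a := by
  obtain ⟨g, rfl⟩ := isConj_iff.1 h
  exact (MulAut.conj g).orderOf_eq a

theorem card_cls (a : G) : Nat.card {b : G | IsConj a b} = (𝓒₁(a)).index := by
  symm
  refine Nat.card_eq_of_bijective (fun q : G ⧸ 𝓒₁(a) => q.liftOn'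
    (fun g => (⟨g * a * g⁻¹, conj_conj g a⟩ : {b : G | IsConj a b})) fun g k e => ?_) ⟨?_, ?_⟩
  · have e1 := mem_cent1.1 (QuotientGroup.leftRel_apply.1 e)
    refine Subtype.ext ?_
    calc g * a * g⁻¹ = g * (a * (g⁻¹ * k)) * k⁻¹ := by group
      _ = _ := by rw [← e1]; group
  · intro q q'
    induction q using QuotientGroup.induction_on with | H g => ?_
    induction q' using QuotientGroup.induction_on with | H k => ?_
    intro e
    have e1 : g * a * g⁻¹ = k * a * k⁻¹ := congrArg Subtype.val e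
    refine QuotientGroup.eq.2 (mem_cent1.2 ?_)
    calc g⁻¹ * k * a = g⁻¹ * (k * a * k⁻¹) * k := by group
      _ = _ := by rw [← e1]; group
  · rintro ⟨b, hb⟩
    obtain ⟨g, rfl⟩ := isConj_iff.1 hb
    exact ⟨(g : G ⧸ 𝓒₁(a)), rfl⟩

/-- right stabiliser of a class -/
def RS (a : G) : Subgroup G where
  carrier := {n | ∀ b, IsConj a b ↔ IsConj a (b * n)}
  mul_mem' h1 h2 b := by rw [← mul_assoc, ← h2, ← h1]
  one_mem' b := by rw [mul_one]
  inv_mem' {n} h b := by rw [h (b * n⁻¹), inv_mul_cancel_right]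

theorem commute_of_sq {x y : G} (ho : Odd (orderOf y)) (h : Commute x (y * y)) : Commute x y := by
  obtain ⟨k, hk⟩ := ho
  have e : (y * y) ^ (k + 1) = y := by
    rw [← pow_two, ← pow_mul, show 2 * (k + 1) = 2 * k + 1 + 1 by ring, ← hk, pow_succ,
      pow_orderOf_eq_one, one_mul]
  exact e ▸ h.pow_right (k + 1)

variable [Finite G]

theorem mem_RS {a n : G} (h : ∀ b, IsConj a b → IsConj a (b * n)) : n ∈ RS a := by
  intro b
  refine ⟨h b, fun hb => ?_⟩
  have key : ∀ k : ℕ, IsConj a (b * n * n ^ k) := by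
    intro k
    induction k with
    | zero => simpa using hb
    | succ k ih => rw [pow_succ, ← mul_assoc]; exact h _ ih
  have := key (orderOf n - 1)
  rwa [mul_assoc, ← pow_succ', Nat.sub_add_cancel (orderOf_pos n), pow_orderOf_eq_one,
    mul_one] at this

theorem card_RS (a : G) : ♯(RS a) ∣ (𝓒₁(a)).index := by
  rw [← card_cls]
  have e : {b : G | IsConj a b} =
      QuotientGroup.mk ⁻¹' (QuotientGroup.mk (s := RS a) '' {b : G | IsConj a b}) := by
    ext b
    refine ⟨fun hb => ⟨b, hb, rfl⟩, ?_⟩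
    rintro ⟨c, hc, e⟩
    have := (QuotientGroup.eq.1 e c).1 hc
    rwa [mul_inv_cancel_left] at this
  rw [e, QuotientGroup.card_preimage_mk]
  exact Dvd.intro _ rfl

theorem prod_conj {a b a' b' : G} (hc : (𝓒₁(a)).index.Coprime (𝓒₁(b)).index) (ha : IsConj a a')
    (hb : IsConj b b') : IsConj (a * b) (a' * b') := by
  obtain ⟨g, rfl⟩ := isConj_iff.1 ha
  obtain ⟨k, rfl⟩ := isConj_iff.1 hb
  obtain ⟨c, h1, d, h2, e⟩ := CA.H1Prod.fac_of_coprime_index hc (g⁻¹ * k)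
  rw [inv_mul_eq_iff_eq_mul] at e
  refine isConj_iff.2 ⟨g * c, ?_⟩
  rw [e]
  calc _ = g * (c * a) * b * (g * c)⁻¹ := by group
    _ = g * (a * c) * (b * d) * d⁻¹ * (g * c)⁻¹ := by rw [mem_cent1.1 h1]; group
    _ = _ := by rw [← mem_cent1.1 h2]; group

theorem prod_real {a b : G} (hc : (𝓒₁(a)).index.Coprime (𝓒₁(b)).index) (ha : IsConj a a⁻¹)
    (hb : IsConj b b⁻¹) : IsConj (a * b) (a * b)⁻¹ :=
  (prod_conj hc ha hb).trans (isConj_iff.2 ⟨a, by group⟩)

theorem absorb {a b b' b'' : G} (hc : (𝓒₁(a)).index.Coprime (𝓒₁(b)).index)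
    (hle : (𝓒₁(a * b)).index ≤ (𝓒₁(a)).index) (h1 : IsConj b b') (h2 : IsConj b b'') :
    b' * b''⁻¹ ∈ RS a := by
  refine mem_RS fun a' ha => ?_
  let F : {c : G | IsConj a c} → {c : G | IsConj (a * b) c} := fun c =>
    ⟨c.1 * b'', prod_conj hc c.2 h2⟩
  have hF : Function.Injective F := fun c d e =>
    Subtype.ext (mul_right_cancel (congrArg Subtype.val e : c.1 * b'' = d.1 * b''))
  obtain ⟨c, e⟩ := (hF.bijective_of_nat_card_le (by rwa [card_cls, card_cls])).2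
    ⟨a' * b', prod_conj hc ha h1⟩
  have e1 : c.1 * b'' = a' * b' := congrArg Subtype.val e
  rw [← mul_assoc, ← e1, mul_inv_cancel_right]
  exact c.2

theorem two_dvd_idx {x : G} (h1 : x ≠ 1) (ho : Odd (orderOf x)) (hr : IsConj x x⁻¹) :
    2 ∣ (𝓒₁(x)).index := by
  by_contra h2
  have := (Cfsg.Agent.S3863.result x hr).2.1
    (Nat.not_even_iff_odd.1 fun e => h2 (even_iff_two_dvd.1 e))
  exact h1 (eq_one_of_sq ho (by rwa [← pow_two]))

theorem exists_conj_ne {b : G} (h : (𝓒₁(b)).index ≠ 1) : ∃ b', IsConj b b' ∧ b' ≠ b := by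
  by_contra h1
  push Not at h1
  refine h (index_eq_one.2 (eq_top_iff.2 fun g _ => mem_cent1.2 ?_))
  exact mul_inv_eq_iff_eq_mul.1 (h1 _ (conj_conj g b))

theorem solv_of_no (h : ∀ x : G, ¬ RP x) : Group.IsSolvable G := by
  haveI := solv_of_closed (⊤ : Subgroup G) fun x _ => h x
  exact Group.isSolvable_of_surjective (f := (⊤ : Subgroup G).subtype) fun x => ⟨⟨x, trivial⟩, rfl⟩

structure Dis (G : Type*) [Group G] (π₁ π₂ : Set ℕ) : Prop where
  ne₁ : ∃ q ∈ π₁, q.Prime ∧ ∃ x : G, IsConj x x⁻¹ ∧ q ∣ (𝓒₁(x)).index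
  ne₂ : ∃ q ∈ π₂, q.Prime ∧ ∃ x : G, IsConj x x⁻¹ ∧ q ∣ (𝓒₁(x)).index
  cover : ∀ q : ℕ, q.Prime → ∀ x : G, IsConj x x⁻¹ → q ∣ (𝓒₁(x)).index → q ∈ π₁ ∨ q ∈ π₂
  disj : ∀ q ∈ π₁, q ∉ π₂
  edge : ∀ a ∈ π₁, ∀ b ∈ π₂, ∀ x : G, IsConj x x⁻¹ → a ∣ (𝓒₁(x)).index →
    b ∣ (𝓒₁(x)).index → False

namespace Dis
variable {π₁ π₂ : Set ℕ} (h : Dis G π₁ π₂)
include h

theorem symm : Dis G π₂ π₁ :=
  ⟨h.ne₂, h.ne₁, fun q a x b c => (h.cover q a x b c).symm, fun q a b => h.disj q b a,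
    fun a ha b hb x c d e => h.edge b hb a ha x c e d⟩

theorem ty {x : G} (hx : IsConj x x⁻¹) {q : ℕ} (hq : q ∈ π₁) (hd : q ∣ (𝓒₁(x)).index) :
    PiNat π₁ (𝓒₁(x)).index := fun p hp e =>
  (h.cover p hp x hx e).resolve_right fun e' => h.edge q hq p e' x hx hd e

theorem cop {m n : ℕ} (h1 : PiNat π₁ m) (h2 : PiNat π₂ n) : m.Coprime n :=
  h1.coprime_of_disjoint h2 h.disj

theorem dich {a b : G} (ha : IsConj a a⁻¹) (hb : IsConj b b⁻¹) (h1 : PiNat π₁ (𝓒₁(a)).index)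
    (h2 : PiNat π₂ (𝓒₁(b)).index) :
    (∀ b' b'', IsConj b b' → IsConj b b'' → b' * b''⁻¹ ∈ RS a) ∨
    (∀ a' a'', IsConj a a' → IsConj a a'' → a' * a''⁻¹ ∈ RS b) := by
  have hc := h.cop h1 h2
  have hr := prod_real hc ha hb
  have hd : (𝓒₁(a * b)).index ∣ (𝓒₁(a)).index * (𝓒₁(b)).index := by
    rw [← CA.H1Prod.index_inf_of_coprime hc]
    refine index_dvd_of_le fun g hg => mem_cent1.2 ?_
    rw [← mul_assoc, mem_cent1.1 hg.1, mul_assoc, mem_cent1.1 hg.2, mul_assoc]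
  have pos : ∀ x : G, 0 < (𝓒₁(x)).index := fun x => Nat.pos_of_ne_zero index_ne_zero_of_finite
  by_cases h3 : PiNat π₁ (𝓒₁(a * b)).index
  · exact Or.inl fun _ _ => absorb hc (Nat.le_of_dvd (pos a)
      ((h.cop h3 h2).dvd_of_dvd_mul_right hd))
  · unfold PiNat at h3
    push Not at h3
    obtain ⟨q, q1, q2, q3⟩ := h3
    have h4 := h.symm.ty hr ((h.cover q q1 _ hr q2).resolve_left q3) q2
    refine Or.inr fun _ _ => absorb hc.symm ?_
    rw [idx_conj (show IsConj (a * b) (b * a) from isConj_iff.2 ⟨b, by group⟩)]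
    exact Nat.le_of_dvd (pos b) ((h.cop h1 h4).symm.dvd_of_dvd_mul_left hd)

theorem two : ∃ x : G, IsConj x x⁻¹ ∧ 2 ∣ (𝓒₁(x)).index := by
  by_contra h0
  push Not at h0
  have sq : ∀ x : G, IsConj x x⁻¹ → x * x = 1 := fun x hx => by
    rw [← pow_two]
    exact (Cfsg.Agent.S3863.result x hx).2.1
      (Nat.not_even_iff_odd.1 fun e => h0 x hx (even_iff_two_dvd.1 e))
  have key : ∀ a b : G, IsConj a a⁻¹ → IsConj b b⁻¹ → (𝓒₁(b)).index ≠ 1 →
      (∀ b' b'', IsConj b b' → IsConj b b'' → b' * b''⁻¹ ∈ RS a) → False := by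
    intro a b ha hb h1 h2
    obtain ⟨b', c1, c2⟩ := exists_conj_ne h1
    have c3 := h2 b' b c1 (IsConj.refl b)
    have c4 : Odd (orderOf (b' * b⁻¹)) := Nat.not_even_iff_odd.1 fun e =>
      h0 a ha (((even_iff_two_dvd.1 e).trans (orderOf_dvd_card_of_mem c3)).trans (card_RS a))
    have c5 : b⁻¹ = b := inv_eq_of_mul_eq_one_right (sq b hb)
    have c6 : b'⁻¹ = b' := inv_eq_of_mul_eq_one_right (sq b' (real_conj hb c1))
    refine c2 (mul_inv_eq_one.1 (eq_one_of_sq c4 (sq _ (isConj_iff.2 ⟨b, ?_⟩))))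
    rw [mul_inv_rev, inv_inv, c6, c5, mul_assoc, mul_assoc, sq b hb, mul_one]
  obtain ⟨p, p1, p2, a, a1, a2⟩ := h.ne₁
  obtain ⟨q, q1, q2, b, b1, b2⟩ := h.ne₂
  rcases h.dich a1 b1 (h.ty a1 p1 a2) (h.symm.ty b1 q1 b2) with e | e
  · exact key a b a1 b1 (fun e => q2.ne_one (Nat.dvd_one.1 (e ▸ b2))) e
  · exact key b a b1 a1 (fun e => p2.ne_one (Nat.dvd_one.1 (e ▸ a2))) e

variable (h2 : 2 ∈ π₁)
include h2

theorem ty_odd {x : G} (h1 : x ≠ 1) (ho : Odd (orderOf x)) (hr : IsConj x x⁻¹) :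
    PiNat π₁ (𝓒₁(x)).index := h.ty hr h2 (two_dvd_idx h1 ho hr)

theorem exists_i : ∃ i : G, i * i = 1 ∧ PiNat π₂ (𝓒₁(i)).index ∧ (𝓒₁(i)).index ≠ 1 ∧
    ∀ x : G, x ≠ 1 → Odd (orderOf x) → IsConj x x⁻¹ → ¬ Commute x i := by
  obtain ⟨q, q1, q2, i, i1, i2⟩ := h.ne₂
  have i3 := h.symm.ty i1 q1 i2
  have i4 : i * i = 1 := by
    rw [← pow_two]
    exact (Cfsg.Agent.S3863.result i i1).2.1
      (Nat.not_even_iff_odd.1 fun e => h.edge 2 h2 q q1 i i1 (even_iff_two_dvd.1 e) i2)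
  refine ⟨i, i4, i3, fun e => q2.ne_one (Nat.dvd_one.1 (e ▸ i2)), fun x x1 x2 x3 hc => ?_⟩
  have hr := prod_real (h.cop (h.ty_odd h2 x1 x2 x3) i3) x3 i1
  have e1 : 𝓒₁(x * i) ≤ 𝓒₁(i) := by
    intro g hg
    obtain ⟨k, hk⟩ := x2
    have e : (x * i) ^ orderOf x = i := by
      rw [hc.mul_pow, pow_orderOf_eq_one, one_mul, hk, pow_succ, pow_mul, pow_two, i4, one_pow,
        one_mul]
    have : Commute g (x * i) := mem_cent1.1 hg
    exact mem_cent1.2 (e ▸ this.pow_right (orderOf x))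
  have e2 : 𝓒₁(x * i) ≤ 𝓒₁(x) := by
    intro g hg
    have a1 : Commute g (x * i) := mem_cent1.1 hg
    have a2 : Commute g i := mem_cent1.1 (e1 hg)
    have := a1.mul_right a2.inv_right
    rw [mul_inv_cancel_right] at this
    exact mem_cent1.2 this
  exact h.edge 2 h2 q q1 _ hr ((two_dvd_idx x1 x2 x3).trans (index_dvd_of_le e2))
    (i2.trans (index_dvd_of_le e1))

theorem rp_mem {x : G} (hx : RP x) : orderOf x ∈ π₂ := by
  obtain ⟨i, i1, i2, i3, i4⟩ := h.exists_i h2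
  refine i2 _ hx.1 ?_
  by_contra h1
  obtain ⟨g, hg⟩ := conj_into (k := 1) hx.1 (pow_one _).symm h1
  have := hx.conj g
  exact i4 _ this.ne_one this.odd this.2.2 (mem_cent1.1 hg)

theorem solv' : Group.IsSolvable G := by
  obtain ⟨i, i1, i2, i3, i4⟩ := h.exists_i h2
  have ii : i⁻¹ = i := inv_eq_of_mul_eq_one_right i1
  have ir : IsConj i i⁻¹ := by rw [ii]
  have sq : ∀ j, IsConj i j → j * j = 1 := fun j hj => by
    obtain ⟨g, rfl⟩ := isConj_iff.1 hj
    rw [conj_mul, i1]; simp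
  have dich : ∀ x : G, x ≠ 1 → Odd (orderOf x) → IsConj x x⁻¹ →
      (∀ j k, IsConj i j → IsConj i k → j * k⁻¹ ∈ RS x) ∨
      (∀ j, IsConj i j → j * x * j⁻¹ = x⁻¹) := by
    intro x x1 x2 x3
    refine (h.dich x3 ir (h.ty_odd h2 x1 x2 x3) i2).imp_right fun e j hj => ?_
    have a1 := sq _ ((e x x⁻¹ (IsConj.refl x) x3 j).1 hj)
    rw [inv_inv] at a1
    have a2 : j * (x * x) * j⁻¹ = (x * x)⁻¹ := by
      rw [inv_eq_of_mul_eq_one_right (sq j hj), eq_inv_iff_mul_eq_one, ← a1]; group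
    obtain ⟨k, hk⟩ := x2
    have a3 : (x * x) ^ (k + 1) = x := by
      rw [← pow_two, ← pow_mul, show 2 * (k + 1) = 2 * k + 1 + 1 by ring, ← hk, pow_succ,
        pow_orderOf_eq_one, one_mul]
    have := inv_pow' a2 (k + 1)
    rwa [a3] at this
  have yi : ∀ y : G, i * y * i⁻¹ = y⁻¹ → y * i * y⁻¹ = y * y * i := fun y e => by
    have : i * y⁻¹ * i⁻¹ = y := by rw [← conj_inv, e, inv_inv]
    calc _ = y * (i * y⁻¹ * i⁻¹) * i := by group
      _ = _ := by rw [this]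
  by_cases hA : ∀ x : G, x ≠ 1 → Odd (orderOf x) → IsConj x x⁻¹ →
      ∀ j, IsConj i j → j * x * j⁻¹ = x⁻¹
  · let S : Set G := {x | Odd (orderOf x) ∧ IsConj x x⁻¹}
    haveI : (closure S).Normal := normal_closure_of fun s hs g =>
      ⟨order_conj (conj_conj g s) ▸ hs.1, real_conj hs.2 (conj_conj g s)⟩
    have com : ∀ x ∈ S, ∀ y ∈ S, x * y = y * x := by
      intro x hx y hy
      by_cases x1 : x = 1
      · simp [x1]
      by_cases y1 : y = 1
      · simp [y1]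
      have a1 := hA x x1 hx.1 hx.2 _ (conj_conj y i)
      have a2 := hA x x1 hx.1 hx.2 i (IsConj.refl i)
      rw [yi y (hA y y1 hy.1 hy.2 i (IsConj.refl i))] at a1
      have a3 : y * y * x⁻¹ * (y * y)⁻¹ = x⁻¹ := by
        nth_rewrite 1 [← a2]
        rw [← a1]; group
      have a4 : Commute (y * y) x⁻¹ := mul_inv_eq_iff_eq_mul.1 a3
      exact commute_of_sq hy.1 (Commute.inv_right_iff.1 a4).symm
    refine CA.H4Cls.solv_ext (closure S) ?_ (solv_of_no fun y hy => ?_)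
    · exact Group.isSolvable_of_comm (isMulCommutative_closure (G := G) com).is_comm.comm
    · obtain ⟨x, rfl, ⟨k, hk⟩, hr⟩ := lift _ (QuotientGroup.mk'_surjective (closure S)) hy
      exact hy.ne_one ((QuotientGroup.eq_one_iff _).2 (subset_closure ⟨hk ▸ hy.odd.pow, hr⟩))
  push Not at hA
  obtain ⟨x₀, a1, a2, a3, a4⟩ := hA
  have a5 := (dich x₀ a1 a2 a3).resolve_right fun e => by
    obtain ⟨j, b1, b2⟩ := a4
    exact b2 (e j b1)
  let S : Set G := {n | ∃ j k, IsConj i j ∧ IsConj i k ∧ n = j * k⁻¹}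
  let W := closure S
  haveI : W.Normal := normal_closure_of (by
    rintro _ ⟨j, k, b1, b2, rfl⟩ g
    exact ⟨_, _, b1.trans (conj_conj g j), b2.trans (conj_conj g k), by group⟩)
  have WR : ∀ x : G, (∀ j k, IsConj i j → IsConj i k → j * k⁻¹ ∈ RS x) → W ≤ RS x :=
    fun x hx => (closure_le _).2 (by
      rintro _ ⟨j, k, b1, b2, rfl⟩
      exact hx j k b1 b2)
  have WC : ∀ j, IsConj i j → W ≤ 𝓒₁(j) := fun j hj =>
    CA.H1Basic.normal_le_of_coprime_index (h.cop ((h.ty_odd h2 a1 a2 a3).of_dvd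
      ((card_dvd (WR x₀ a5)).trans (card_RS x₀))) (idx_conj hj ▸ i2))
  have cc : ∀ j k, IsConj i j → IsConj i k → Commute j k := fun j k b1 b2 => by
    have b3 : Commute (j * k⁻¹) k := mem_cent1.1 (WC k b2 (subset_closure ⟨j, k, b1, b2, rfl⟩))
    have := b3.mul_left (Commute.refl k)
    rwa [inv_mul_cancel_right] at this
  have com : ∀ a ∈ W, ∀ b ∈ W, a * b = b * a := by
    intro a ha b hb
    refine mem_cent1.1 ((closure_le (𝓒₁(b))).2 ?_ ha)
    rintro _ ⟨j, k, b1, b2, rfl⟩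
    exact mul_mem (mem_cent1_symm.1 (WC j b1 hb)) (inv_mem (mem_cent1_symm.1 (WC k b2 hb)))
  have sqW : ∀ a ∈ W, a * a = 1 := by
    intro a ha
    induction ha using closure_induction with
    | mem s hs =>
      obtain ⟨j, k, b1, b2, rfl⟩ := hs
      rw [inv_eq_of_mul_eq_one_right (sq k b2), (cc j k b1 b2).symm.mul_mul_mul_comm, sq j b1,
        sq k b2, mul_one]
    | one => simp
    | mul a b ha hb e1 e2 =>
      rw [(show Commute b a from com b hb a ha).mul_mul_mul_comm, e1, e2, mul_one]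
    | inv a _ e => rw [← mul_inv_rev, e, inv_one]
  have rW : ∀ a ∈ W, IsConj a a⁻¹ := fun a ha => by
    rw [inv_eq_of_mul_eq_one_right (sqW a ha)]
  obtain ⟨w₀, w1, w2⟩ : ∃ w ∈ W, w ≠ 1 := by
    obtain ⟨j, b1, b2⟩ := exists_conj_ne i3
    exact ⟨_, subset_closure ⟨j, i, b1, IsConj.refl i, rfl⟩, fun e => b2 (mul_inv_eq_one.1 e)⟩
  have fpf : ∀ x : G, x ≠ 1 → Odd (orderOf x) → IsConj x x⁻¹ → ∀ w ∈ W, Commute x w → w = 1 := by
    intro x x1 x2 x3 w hw hc
    have b1 := (dich x x1 x2 x3).resolve_right fun e => by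
      have c1 := e i (IsConj.refl i)
      have c2 : x * x * i * i = i * (x * x * i) := by
        rw [← yi x c1]; exact cc _ _ (conj_conj x i) (IsConj.refl i)
      have c3 : Commute i (x * x) := by
        rw [← mul_assoc] at c2
        exact (mul_right_cancel c2).symm
      exact i4 x x1 x2 x3 (commute_of_sq x2 c3).symm
    have b2 := order_conj ((WR x b1 hw x).1 (IsConj.refl x))
    have b3 := pow_orderOf_eq_one (x * w)
    obtain ⟨k, hk⟩ := x2
    rwa [b2, hc.mul_pow, pow_orderOf_eq_one, one_mul, hk, pow_succ, pow_mul, pow_two, sqW w hw,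
      one_pow, one_mul] at b3
  obtain ⟨k₀, hx₁⟩ := exists_rp a1 a2 a3
  have ty2 : ∀ w ∈ W, w ≠ 1 → PiNat π₂ (𝓒₁(w)).index := by
    intro w hw b1
    refine h.symm.ty (rW w hw) (h.rp_mem h2 hx₁) ?_
    by_contra b2
    obtain ⟨g, hg⟩ := conj_into (k := 1) hx₁.1 (pow_one _).symm b2
    have := hx₁.conj g
    exact b1 (fpf _ this.ne_one this.odd this.2.2 w hw (mem_cent1.1 hg))
  letI : CommGroup W := { (inferInstance : Group W) with
    mul_comm := fun a b => Subtype.ext (com a a.2 b b.2) }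
  let φ : G →* MulAut W := MulAut.conjNormal
  let f := φ.rangeRestrict
  have hf : Function.Surjective f := φ.rangeRestrict_surjective
  letI : DistribMulAction φ.range (Additive W) :=
    { smul := fun g w => Additive.ofMul (g.1 w.toMul)
      one_smul := fun _ => rfl
      mul_smul := fun _ _ _ => rfl
      smul_zero := fun g => congrArg Additive.ofMul (map_one g.1)
      smul_add := fun g a b => congrArg Additive.ofMul (map_mul g.1 _ _) }
  have st : ∀ (g : G) (w : Additive W), f g • w = w ↔ Commute g (w.toMul : W).1 := fun g w => by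
    rw [commute_iff_eq, ← mul_inv_eq_iff_eq_mul]
    exact ⟨fun e => congrArg (fun v : Additive W => ((Additive.toMul v : W) : G)) e,
      fun e => congrArg Additive.ofMul (Subtype.ext e)⟩
  have st2 : ∀ w : Additive W,
      (stabilizer φ.range w).index = (𝓒₁(((w.toMul : W) : G))).index := fun w => by
    rw [← index_comap_of_surjective _ hf]
    congr 1
    ext g
    exact (st g w).trans mem_cent1.symm
  have ne : ∀ w : Additive W, w ≠ 0 → ((w.toMul : W) : G) ≠ 1 := fun w hw e =>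
    hw (congrArg Additive.ofMul (Subtype.ext e : w.toMul = 1))
  have lf : ∀ y : φ.range, RP y → ∃ x : G, f x = y ∧ x ≠ 1 ∧ Odd (orderOf x) ∧ IsConj x x⁻¹ := by
    intro y hy
    obtain ⟨x, rfl, ⟨k, hk⟩, hr⟩ := lift f hf hy
    exact ⟨x, rfl, fun e => hy.ne_one (by rw [e, map_one]), hk ▸ hy.odd.pow, hr⟩
  have hH : Hyp φ.range (Additive W) :=
    { two := fun w => congrArg Additive.ofMul (Subtype.ext (sqW _ (w.toMul : W).2))
      faith := fun g hg => Subtype.ext (MulEquiv.ext fun w => congrArg Additive.toMul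
        (hg (Additive.ofMul w)))
      odd := fun w hw => by
        rw [st2]
        exact Nat.not_even_iff_odd.1 fun e => h.disj 2 h2
          (ty2 _ (w.toMul : W).2 (ne w hw) 2 Nat.prime_two (even_iff_two_dvd.1 e))
      fpf := fun y hy w e => by
        obtain ⟨x, rfl, x1, x2, x3⟩ := lf y hy
        by_contra hw
        exact ne w hw (fpf x x1 x2 x3 _ (w.toMul : W).2 ((st x w).1 e))
      cop := fun y hy w hw => by
        obtain ⟨x, rfl, x1, x2, x3⟩ := lf y hy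
        rw [st2, ← index_comap_of_surjective _ hf]
        refine (h.cop (h.ty_odd h2 x1 x2 x3) (ty2 _ (w.toMul : W).2 (ne w hw))).coprime_dvd_left
          (index_dvd_of_le fun g hg => ?_)
        rw [mem_comap, mem_cent1, ← map_mul, ← map_mul, mem_cent1.1 hg] }
  haveI := core _ φ.range rfl hH
  haveI := solv_of_closed f.ker fun x hx hr => w2 (fpf x hr.ne_one hr.odd hr.2.2 w₀ w1
    ((st x (Additive.ofMul ⟨w₀, w1⟩)).1 (by rw [show f x = 1 from hx, one_smul])))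
  exact Group.isSolvable_of_ker_le_range f.ker.subtype f (by rw [range_subtype])

omit h2 in
theorem two_cases : 2 ∈ π₁ ∨ 2 ∈ π₂ := by
  obtain ⟨x, a, b⟩ := h.two
  exact h.cover 2 Nat.prime_two x a b

omit h2 in
theorem solv : Group.IsSolvable G := h.two_cases.elim h.solv' h.symm.solv'

end Dis

end CA.H14Rc
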