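import Cfsg.Agent.Lib.Grp.H14Rc5

/-! Disconnected real class-size graph: the subgroup generated by the 2-elements. -/

set_option autoImplicit false
set_option linter.unusedSectionVars false
set_option linter.unusedVariables false

namespace CA.H14Rc
open Subgroup CA.BG MulAction

variable {G : Type*} [Group G] [Finite G]

/-- real class sizes -/
abbrev RC (G : Type*) [Group G] : Set ℕ :=
  {n : ℕ | ∃ x : G, IsConj x x⁻¹ ∧ (Subgroup.centralizer ({x} : Set G)).index = n}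

theorem dis_of {π₁ π₂ : Set ℕ} (h₁ : π₁.Nonempty) (h₂ : π₂.Nonempty) (hdisj : Disjoint π₁ π₂)
    (hsub : ∀ q ∈ π₁ ∪ π₂, q.Prime ∧ ∃ n ∈ RC G, q ∣ n)
    (hcover : ∀ q : ℕ, q.Prime → (∃ n ∈ RC G, q ∣ n) → q ∈ π₁ ∨ q ∈ π₂)
    (hno : ∀ a ∈ π₁, ∀ b ∈ π₂, ∀ n ∈ RC G, ¬ (a ∣ n ∧ b ∣ n)) : Dis G π₁ π₂ where
  ne₁ := by
    obtain ⟨q, hq⟩ := h₁
    obtain ⟨a, _, ⟨x, b, rfl⟩, c⟩ := hsub q (Or.inl hq)
    exact ⟨q, hq, a, x, b, c⟩
  ne₂ := by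
    obtain ⟨q, hq⟩ := h₂
    obtain ⟨a, _, ⟨x, b, rfl⟩, c⟩ := hsub q (Or.inr hq)
    exact ⟨q, hq, a, x, b, c⟩
  cover q a x b c := hcover q a ⟨_, ⟨x, b, rfl⟩, c⟩
  disj q a := Set.disjoint_left.1 hdisj a
  edge a ha b hb x c d e := hno a ha b hb _ ⟨x, c, rfl⟩ ⟨d, e⟩

/-- a solvable group generated by 2-elements has real elements of every odd prime order dividing
its order -/
theorem exists_rp_of_gen [Group.IsSolvable G]
    (hg : ∀ H : Subgroup G, (∀ g : G, (∃ k : ℕ, orderOf g = 2 ^ k) → g ∈ H) → H = ⊤) {q : ℕ}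
    (hq : q.Prime) (h2 : q ≠ 2) (hd : q ∣ Nat.card G) : ∃ y : G, RP y ∧ orderOf y = q := by
  obtain ⟨N, ⟨hN, hN'⟩, hmax⟩ := (wellFounded_gt (α := Subgroup G)).has_min
    {N : Subgroup G | N.Normal ∧ q ∣ N.index} ⟨⊥, inferInstance, by rwa [index_bot]⟩
  let f := QuotientGroup.mk' N
  have hf : Function.Surjective f := QuotientGroup.mk'_surjective N
  suffices h : ∃ y : G ⧸ N, RP y ∧ orderOf y = q by
    obtain ⟨y, hy, hy'⟩ := h
    obtain ⟨x, rfl, ⟨k, hk⟩, hr⟩ := lift f hf hy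
    obtain ⟨j, hj⟩ := exists_rp (fun e => hy.ne_one (by rw [e, map_one])) (hk ▸ hy.odd.pow) hr
    refine ⟨_, hj, (Nat.prime_dvd_prime_iff_eq hj.1 hq).1 (hj.1.dvd_of_dvd_pow (n := k) ?_)⟩
    rw [← hy', ← hk]
    exact orderOf_pow_dvd j
  by_contra h0
  push Not at h0
  have hg' : ∀ H : Subgroup (G ⧸ N), (∀ g, (∃ k : ℕ, orderOf g = 2 ^ k) → g ∈ H) → H = ⊤ := by
    intro H hH
    have := hg (H.comap f) fun g ⟨k, hk⟩ => hH _ (by
      obtain ⟨j, -, e⟩ := (Nat.dvd_prime_pow Nat.prime_two).1 (hk ▸ orderOf_map_dvd f g)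
      exact ⟨j, e⟩)
    rw [← map_comap_eq_self_of_surjective hf H, this, map_top_of_surjective f hf]
  have hd' : q ∣ Nat.card (G ⧸ N) := hN'
  obtain ⟨A, hA, -, A0, Ac⟩ := CA.H1Basic.exists_normal_comm (⊤ : Subgroup (G ⧸ N)) (fun e => by
    rw [← card_top, e, card_bot] at hd'
    exact hq.ne_one (Nat.dvd_one.1 hd'))
  have h3 : ¬ q ∣ A.index := fun e => by
    refine hmax (A.comap f) ⟨inferInstance, by rwa [index_comap_of_surjective _ hf]⟩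
      (lt_of_le_of_ne (fun g hg => ?_) fun e' => A0 ?_)
    · show f g ∈ A
      rw [show f g = 1 from (QuotientGroup.eq_one_iff g).2 hg]
      exact one_mem A
    · rw [← map_comap_eq_self_of_surjective hf A, ← e']
      exact QuotientGroup.map_mk'_self N
  obtain ⟨Q, hQ⟩ := syl_exists hq A
  have hQ' : Syl q Q ⊤ := hQ.of_idx le_top (by
    rw [relIndex_top_right, piNat_compl_iff hq]; exact h3)
  haveI : Q.Normal := normalizer_eq_top_iff.1 (eq_top_iff.2 ((normalizer_eq_top A).ge.trans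
    (hQ.norm_of_normal (norm_of_comm Ac hQ.le))))
  have nQ : ∀ B : Subgroup (G ⧸ N), B ≤ 𝓝(Q) := fun B => le_top.trans (normalizer_eq_top Q).ge
  have h4 : 𝓒(Q) = ⊤ := by
    refine hg' _ fun t ⟨k, hk⟩ => ?_
    have b1 : IsPi {2} (zpowers t) := isPi_zpowers.2 (hk ▸ piNat_pow Nat.prime_two k)
    have b2 : IsPi {2, q} (zpowers t ⊔ Q) :=
      (b1.sub (by simp)).sup (hQ.pi.sub (by simp)) (nQ _)
    obtain ⟨P, hP, hn⟩ := closed (zpowers t ⊔ Q) fun x hx hr => by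
      rcases b2.orderOf hx _ hr.1 dvd_rfl with e | e
      · exact hr.2.1 e
      · exact h0 x hr e
    exact cent_of_norm_disjoint (nQ P) (le_sup_right.trans hn)
      (inf_eq_bot_of_cop (hP.pi.coprime_ne hQ.pi h2.symm))
      (hP.le_of_normal hn b1 le_sup_left (mem_zpowers t))
  obtain ⟨C, hC⟩ := exists_right_complement'_of_coprime (N := Q) (by
    simpa [relIndex_top_right] using hQ'.coprime)
  haveI : C.Normal := normalizer_eq_top_iff.1 (eq_top_iff.2 (hC.sup_eq_top.ge.trans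
    (sup_le (norm_of_cent (cent_symm (h4 ▸ le_top))) (le_norm_self C))))
  have h5 : C = ⊤ := hg' C fun t ⟨k, hk⟩ => by
    refine CA.H1Basic.le_normal_of_coprime_index (K := zpowers t) ?_ (mem_zpowers t)
    rw [hC.index_eq_card]
    exact (isPi_zpowers.2 (hk ▸ piNat_pow Nat.prime_two k)).coprime_ne hQ.pi h2.symm
  have h6 := hC.disjoint
  rw [h5, disjoint_top] at h6
  exact hQ'.ne_bot hq rfl (by rwa [card_top]) h6

abbrev K2 (G : Type*) [Group G] : Subgroup G := closure {g : G | ∃ k : ℕ, orderOf g = 2 ^ k}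

instance K2_normal : (K2 G).Normal := normal_closure_of fun s ⟨k, hk⟩ g =>
  ⟨k, (order_conj (conj_conj g s)).trans hk⟩

theorem K2_odd : Odd (K2 G).index := by
  obtain ⟨P, hP⟩ := syl_exists (G := G) Nat.prime_two ⊤
  exact CA.H4Cls.odd_index hP fun g hg => subset_closure
    ((hP.pi.orderOf hg).exists_pow Nat.prime_two (orderOf_pos g).ne')

theorem idx_sub (N : Subgroup G) [N.Normal] (x : N) : (𝓒₁(x)).index ∣ (𝓒₁(x.1)).index := by
  have e : 𝓒₁(x) = (𝓒₁(x.1)).subgroupOf N := by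
    ext g
    rw [mem_subgroupOf, mem_cent1, mem_cent1]
    exact Subtype.ext_iff
  rw [e]
  exact CA.H1Basic.relIndex_normal_dvd_index _ N

theorem Dis.struct {π₁ π₂ : Set ℕ} (h : Dis G π₁ π₂) (h2 : 2 ∈ π₁) {x : G} (hx : RP x) :
    (∃ π₁ π₂ : Set ℕ, π₁.Nonempty ∧ π₂.Nonempty ∧ Disjoint π₁ π₂ ∧
      (∀ q ∈ π₁ ∪ π₂, q.Prime ∧ ∃ n ∈ RC (K2 G), q ∣ n) ∧
      (∀ q : ℕ, q.Prime → (∃ n ∈ RC (K2 G), q ∣ n) → q ∈ π₁ ∨ q ∈ π₂) ∧
      ∀ a ∈ π₁, ∀ b ∈ π₂, ∀ n ∈ RC (K2 G), ¬ (a ∣ n ∧ b ∣ n)) ∧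
    ∀ n ∈ RC (K2 G), Odd n ∨ ∃ j : ℕ, n = 2 ^ j := by
  haveI := h.solv
  have hg : ∀ H : Subgroup (K2 G), (∀ g, (∃ k : ℕ, orderOf g = 2 ^ k) → g ∈ H) → H = ⊤ := by
    intro H hH
    have : K2 G ≤ H.map (K2 G).subtype := (closure_le _).2 fun g ⟨k, hk⟩ =>
      ⟨⟨g, subset_closure ⟨k, hk⟩⟩, hH _ ⟨k, by rw [← hk, Subgroup.orderOf_mk]⟩, rfl⟩
    rw [eq_top_iff]
    intro g _
    obtain ⟨g', a, b⟩ := this g.2
    rwa [← Subtype.ext b]
  have key : ∀ n ∈ RC (K2 G), 2 ∣ n → PiNat {2} n := by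
    rintro _ ⟨a, a1, rfl⟩ a2 q q1 q2
    by_contra q3
    have a3 : IsConj a.1 a.1⁻¹ := (K2 G).subtype.map_isConj a1
    obtain ⟨y, y1, y2⟩ := exists_rp_of_gen hg q1 q3 (q2.trans (index_dvd_card _))
    have y3 := h.rp_mem h2 (y1.map_inj (K2 G).subtype (K2 G).subtype_injective)
    rw [coe_subtype, Subgroup.orderOf_coe, y2] at y3
    exact h.edge 2 h2 q y3 a.1 a3 (a2.trans (idx_sub _ a)) (q2.trans (idx_sub _ a))
  obtain ⟨xK, x1⟩ := (Cfsg.Agent.S3863.result x hx.2.2).2.2 (K2 G) K2_odd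
  obtain ⟨i, i1, i2, i3, i4⟩ := h.exists_i h2
  obtain ⟨iK, i5⟩ := (Cfsg.Agent.S3863.result i
    (by rw [inv_eq_of_mul_eq_one_right i1])).2.2 (K2 G) K2_odd
  have i6 : (𝓒₁((⟨i, iK⟩ : K2 G))).index ≠ 1 := fun e => by
    have : (⟨x, xK⟩ : K2 G) ∈ 𝓒₁((⟨i, iK⟩ : K2 G)) := index_eq_one.1 e ▸ mem_top _
    exact i4 x hx.ne_one hx.odd hx.2.2 (congrArg Subtype.val (mem_cent1.1 this))
  refine ⟨⟨{2}, {q | q.Prime ∧ q ≠ 2 ∧ ∃ n ∈ RC (K2 G), q ∣ n}, ⟨2, rfl⟩,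
    ⟨_, Nat.minFac_prime i6, fun e => ?_, _, ⟨_, i5, rfl⟩, Nat.minFac_dvd _⟩,
    Set.disjoint_left.2 fun q a b => b.2.1 a, ?_, fun q a b => ?_, ?_⟩, fun n hn => ?_⟩
  · exact h.disj 2 h2 (i2 2 Nat.prime_two ((e ▸ Nat.minFac_dvd _).trans (idx_sub _ ⟨i, iK⟩)))
  · rintro q (rfl | ⟨a, -, b⟩)
    · exact ⟨Nat.prime_two, _, ⟨_, x1, rfl⟩, two_dvd_idx
        (fun e => hx.ne_one (congrArg Subtype.val e)) (by rw [Subgroup.orderOf_mk]; exact hx.odd) x1⟩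
    · exact ⟨a, b⟩
  · by_cases e : q = 2
    · exact Or.inl e
    · exact Or.inr ⟨a, e, b⟩
  · rintro _ rfl b hb n hn ⟨c, d⟩
    exact hb.2.1 (key n hn c b hb.1 d)
  · by_cases e : 2 ∣ n
    · refine Or.inr ((key n hn e).exists_pow Nat.prime_two ?_)
      obtain ⟨a, -, rfl⟩ := hn
      exact index_ne_zero_of_finite
    · exact Or.inl (Nat.not_even_iff_odd.1 fun e' => e (even_iff_two_dvd.1 e'))

end CA.H14Rc
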