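/-
Fusion and transfer lemmas for involutions acting on a semisimple group.
-/
import Cfsg.Agent.Lib.Grp.Trf
import Cfsg.Agent.Lib.Grp.MC3
import Cfsg.Agent.Lib.Grp.PGNormalCyclic

set_option autoImplicit false

namespace CA.H14Ss

open Subgroup Cfsg CA.SylIn CA.PGBasic CA.Two CA.MC2 CA.MC3 CA.PGCyclicMax CA.PGNormalCyclic
open scoped commutatorElement

variable {G : Type*} [Group G]

/-- the properties of a semisimple subgroup that are used -/
structure Ss (A : Subgroup G) : Prop where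
  perf : ⁅A, A⁆ = A
  zs : ∀ H S : Subgroup G, A ≤ H → H ≤ normalizer (A : Set G) → IsSylowIn 2 S H → ∀ z ∈ S, z ∈ A →
    orderOf z = 2 → (∀ g ∈ H, g * z * g⁻¹ ∈ S → g * z * g⁻¹ = z) → ∀ a ∈ A, a * z = z * a
  ab : ∀ T : Subgroup G, IsSylowIn 2 T A → (∀ x ∈ T, ∀ y ∈ T, x * y = y * x) →
    ∀ x ∈ T, ∀ a ∈ A, a * (x * x) = (x * x) * a

variable [Finite G] {A H S T P : Subgroup G}

theorem extremal (hS : IsSylowIn 2 S H) {z v g y : G} (hz : ∀ s ∈ S, s * z = z * s) (hg : g ∈ H)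
    (e : g * v * g⁻¹ = z) (hy : y ∈ S) (hc : y * v = v * y) :
    ∃ g' ∈ H, g' * v * g'⁻¹ = z ∧ g' * y * g'⁻¹ ∈ S := by
  have h1 : IsSylowIn 2 S (H ⊓ centralizer {z}) :=
    hS.of_le (le_inf hS.le fun s hs => mem_centralizer_singleton_iff.2 (hz s hs)) inf_le_left
  have h2 : IsPGroup 2 (g •ᶜ zpowers y : Subgroup G) :=
    isPGroup_conj (hS.isPGroup.to_le (zpowers_le.2 hy)) g
  obtain ⟨c, hc', h3⟩ := h1.exists_conj_le h2 (by
    rw [conj_zpowers, zpowers_le]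
    refine ⟨H.mul_mem (H.mul_mem hg (hS.le hy)) (H.inv_mem hg), mem_centralizer_singleton_iff.2 ?_⟩
    rw [← e]
    calc g * y * g⁻¹ * (g * v * g⁻¹) = g * (y * v) * g⁻¹ := by group
      _ = _ := by rw [hc]; group)
  refine ⟨c * g, H.mul_mem hc'.1 hg, ?_, ?_⟩
  · have := mem_centralizer_singleton_iff.1 hc'.2
    calc c * g * v * (c * g)⁻¹ = c * (g * v * g⁻¹) * c⁻¹ := by group
      _ = z := by rw [e, this]; group
  · rw [conj_conj, conj_zpowers, zpowers_le] at h3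
    exact h3

/-- a central element of order four isolates its square -/
theorem iso_of_root (hS : IsSylowIn 2 S H) {y z : G} (hy : y ∈ S) (hc : ∀ s ∈ S, s * y = y * s)
    (hz : y * y = z) (hz1 : z ≠ 1) (hz2 : z * z = 1)
    (hsq : ∀ s ∈ S, (s * s) * (s * s) = 1 → s * s = 1 ∨ s * s = z) :
    ∀ g ∈ H, g * z * g⁻¹ ∈ S → g * z * g⁻¹ = z := by
  intro g hg hv
  have hzc : ∀ s ∈ S, s * z = z * s := fun s hs => by
    rw [← hz, ← mul_assoc, hc s hs, mul_assoc, hc s hs, mul_assoc]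
  obtain ⟨g', -, h1, h2⟩ := extremal hS (v := g * z * g⁻¹) hzc (H.inv_mem hg) (by group) hy (hc _ hv).symm
  have e : g' * y * g'⁻¹ * (g' * y * g'⁻¹) = g' * z * g'⁻¹ := by rw [← hz]; group
  rcases hsq _ h2 (by rw [e, show g' * z * g'⁻¹ * (g' * z * g'⁻¹) = g' * (z * z) * g'⁻¹ by group, hz2]; group)
    with h | h
  · rw [e] at h
    exact absurd (by rw [show z = g'⁻¹ * (g' * z * g'⁻¹) * g' by group, h]; group) hz1
  · rw [e] at h
    exact mul_left_cancel (mul_right_cancel (h1.trans h.symm))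

/-- a conjugate of a power that is central in the Sylow subgroup is a power -/
theorem pow_of_conj (hS : IsSylowIn 2 S H) {x g : G} {n : ℕ} (hx : x ∈ S) (hg : g ∈ H)
    (hc : ∀ s ∈ S, s * (g * x ^ n * g⁻¹) = (g * x ^ n * g⁻¹) * s) : ∃ s ∈ S, s ^ n = g * x ^ n * g⁻¹ := by
  obtain ⟨g', -, h1, h2⟩ := extremal hS hc hg rfl hx ((Commute.refl x).pow_right n).eq
  exact ⟨_, h2, by rw [conj_pow, h1]⟩

open scoped IsMulCommutative in
theorem tr_top (hS : Odd S.index) (hP : ⁅S, S⁆ ≤ P) {x y : G} (hx : x ∈ S) (hy : y ∈ S) (hx2 : x * x = 1)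
    (hy2 : y * y = 1) (hxy : x⁻¹ * y ∈ _root_.commutator G)
    (kx : ∀ g, g * x * g⁻¹ ∈ S → x⁻¹ * (g * x * g⁻¹) ∈ P)
    (ky : ∀ g, g * y * g⁻¹ ∈ S → y⁻¹ * (g * y * g⁻¹) ∈ P) : x⁻¹ * y ∈ P := by
  have hc : _root_.commutator S ≤ P.subgroupOf S := by
    rw [← map_subtype_le_map_subtype, map_subtype_commutator, subgroupOf_map_subtype]
    exact le_inf hP (commutator_le_self S)
  have hn : (P.subgroupOf S).Normal := Normal.of_commutator_le _ hc
  have hcomm : IsMulCommutative (S ⧸ P.subgroupOf S) :=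
    Normal.quotient_commutative_iff_commutator_le.2 hc
  set φ := QuotientGroup.mk' (P.subgroupOf S)
  have key : ∀ w (hw : w ∈ S), w * w = 1 → (∀ g, g * w * g⁻¹ ∈ S → w⁻¹ * (g * w * g⁻¹) ∈ P) →
      MonoidHom.transfer φ w = φ ⟨w, hw⟩ := by
    intro w hw hw2 kw
    have h2 : φ ⟨w, hw⟩ ^ 2 = 1 := by
      rw [← map_pow, show (⟨w, hw⟩ : S) ^ 2 = 1 from Subtype.ext (by simpa [pow_two] using hw2), map_one]
    rw [CA.Trf.transfer_eq_pow_of φ w (φ ⟨w, hw⟩)]
    · obtain ⟨k, hk⟩ := hS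
      rw [hk, pow_succ, pow_mul, h2, one_pow, one_mul]
    · intro k hk t h
      have hd : k ∣ 2 := hk.trans (orderOf_dvd_of_pow_eq_one (by rw [pow_two, hw2]))
      rcases (Nat.dvd_prime Nat.prime_two).1 hd with rfl | rfl
      · rw [pow_one (φ _), eq_comm, QuotientGroup.mk'_apply, QuotientGroup.mk'_apply, QuotientGroup.eq]
        simpa [mem_subgroupOf] using kw t (by simpa using h)
      · rw [h2, show (⟨_, h⟩ : S) = 1 from Subtype.ext (by simp [pow_two, hw2]), map_one]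
  have := CA.Trf.transfer_eq_one_of_mem_commutator φ hxy
  rw [map_mul, map_inv, key x hx hx2 kx, key y hy hy2 ky, inv_mul_eq_one, QuotientGroup.mk'_apply,
    QuotientGroup.mk'_apply, QuotientGroup.eq] at this
  exact this

theorem tr2 (hS : IsSylowIn 2 S H) (hP : ⁅S, S⁆ ≤ P) {x y : G} (hx : x ∈ S) (hy : y ∈ S) (hx2 : x * x = 1)
    (hy2 : y * y = 1) (hxy : x⁻¹ * y ∈ ⁅H, H⁆)
    (kx : ∀ g ∈ H, g * x * g⁻¹ ∈ S → x⁻¹ * (g * x * g⁻¹) ∈ P)
    (ky : ∀ g ∈ H, g * y * g⁻¹ ∈ S → y⁻¹ * (g * y * g⁻¹) ∈ P) : x⁻¹ * y ∈ P := by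
  have := tr_top (G := H) (S := S.subgroupOf H) (P := P.subgroupOf H) (x := ⟨x, hS.le hx⟩) (y := ⟨y, hS.le hy⟩)
    (Nat.not_even_iff_odd.1 fun h => hS.not_dvd h.two_dvd) ?_ hx hy (Subtype.ext hx2) (Subtype.ext hy2) ?_
    (fun g h => kx g g.2 h) (fun g h => ky g g.2 h)
  · exact this
  · rw [commutator_le]
    intro a ha b hb
    exact hP (commutator_mem_commutator (g₁ := (a : G)) (g₂ := (b : G)) ha hb)
  · rw [← map_subtype_commutator] at hxy
    obtain ⟨w, hw, e⟩ := hxy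
    rwa [show (⟨x, hS.le hx⟩ : H)⁻¹ * ⟨y, hS.le hy⟩ = w from Subtype.ext e.symm]

theorem tr1 (hA : ⁅A, A⁆ = A) (hT : IsSylowIn 2 T A) (hP : ⁅T, T⁆ ≤ P) {u : G} (hu : u ∈ T) (hu2 : u * u = 1)
    (k : ∀ g ∈ A, g * u * g⁻¹ ∈ T → u⁻¹ * (g * u * g⁻¹) ∈ P) : u ∈ P := by
  simpa using tr2 hT hP T.one_mem hu (mul_one 1) hu2 (by rw [hA]; simpa using hT.le hu)
    (fun g _ _ => by simp) k

/-- with `z` central in `A`: all other involutions of `T` are congruent to `u` modulo `P` -/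
theorem tr_cent (hA : ⁅A, A⁆ = A) (hT : IsSylowIn 2 T A) (hP : ⁅T, T⁆ ≤ P) {u z : G} (hu : u ∈ T)
    (hu2 : u * u = 1) (huz : u ≠ z) (hz : ∀ a ∈ A, a * z = z * a)
    (k : ∀ v ∈ T, v * v = 1 → v ≠ 1 → v ≠ z → u⁻¹ * v ∈ P) : u ∈ P := by
  by_cases h1 : u = 1
  · rw [h1]; exact P.one_mem
  refine tr1 hA hT hP hu hu2 fun g hg h => k _ h ?_ ?_ ?_
  · rw [show g * u * g⁻¹ * (g * u * g⁻¹) = g * (u * u) * g⁻¹ by group, hu2]; group
  · intro e; exact h1 (by rw [show u = g⁻¹ * (g * u * g⁻¹) * g by group, e]; group)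
  · intro e
    apply huz
    rw [show u = g⁻¹ * (g * u * g⁻¹) * g by group, e, mul_assoc, ← hz g hg]; group

theorem no_swap (hT : IsSylowIn 2 T A) {u z g : G} (hu : ∀ s ∈ T, s * u = u * s) (hz : ∀ s ∈ T, s * z = z * s)
    (hg : g ∈ A) (e1 : g * u * g⁻¹ = u * z) (e2 : g * z = z * g) (hz2 : z * z = 1) : z = 1 := by
  by_contra hz1
  set K := A ⊓ (centralizer {u} ⊓ centralizer {z}) with hK
  have mK : ∀ k, k ∈ K ↔ k ∈ A ∧ k * u = u * k ∧ k * z = z * k := fun k => by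
    simp [hK, mem_centralizer_singleton_iff]
  have e3 : g⁻¹ * u * g = u * z := by
    have : g * (u * z) * g⁻¹ = u := by
      rw [show g * (u * z) * g⁻¹ = g * u * g⁻¹ * (g * z * g⁻¹) by group, e1, e2, mul_inv_cancel_right,
        mul_assoc, hz2, mul_one]
    rw [← this]; nth_rewrite 2 [this]; group
  have hn : g ∈ normalizer (K : Set G) := mem_normalizer_of_forall fun k hk => by
    obtain ⟨h1, h2, h3⟩ := (mK k).1 hk
    refine (mK _).2 ⟨A.mul_mem (A.mul_mem hg h1) (A.inv_mem hg), ?_, ?_⟩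
    · calc g * k * g⁻¹ * u = g * (k * (g⁻¹ * u * g)) * g⁻¹ := by group
        _ = g * ((g⁻¹ * u * g) * k) * g⁻¹ := by
          rw [e3, ← mul_assoc k, h2, mul_assoc u, h3, ← mul_assoc u]
        _ = _ := by group
    · have e4 : g⁻¹ * z = z * g⁻¹ := by rw [inv_mul_eq_iff_eq_mul, ← mul_assoc, e2]; group
      rw [mul_assoc, e4, ← mul_assoc, mul_assoc g, h3, ← mul_assoc, e2]; group
  have h2 := two_dvd_relIndex (K := K) (N := K ⊔ zpowers g) le_sup_left
    (sup_le K.le_normalizer (zpowers_le.2 hn)) (mem_sup_right (mem_zpowers g)) (fun h => by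
      have := ((mK g).1 h).2.1
      rw [this, mul_inv_cancel_right] at e1
      exact hz1 (by simpa using e1)) ((mK _).2 ⟨A.pow_mem hg 2, by
        have : g ^ 2 * u * (g ^ 2)⁻¹ = u := by
          rw [show g ^ 2 * u * (g ^ 2)⁻¹ = g * (g * u * g⁻¹) * g⁻¹ by rw [pow_two]; group, e1,
            show g * (u * z) * g⁻¹ = g * u * g⁻¹ * (g * z * g⁻¹) by group, e1, e2, mul_inv_cancel_right,
            mul_assoc, hz2, mul_one]
        rwa [mul_inv_eq_iff_eq_mul] at this,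
        ((show Commute g z from e2).pow_left 2).eq⟩)
  have hTK : T ≤ K := fun s hs => (mK s).2 ⟨hT.le hs, hu s hs, hz s hs⟩
  have h3 := hT.of_le (hTK.trans (le_sup_left (b := zpowers g)))
    (sup_le inf_le_left (zpowers_le.2 hg))
  exact h3.not_dvd (h2.trans (relIndex_dvd_of_le_left _ hTK))

theorem syl_sup (hT : IsSylowIn 2 T A) {t : G} (hA : t ∈ normalizer (A : Set G)) (ht : t ∈ normalizer (T : Set G))
    (h2 : t * t = 1) : IsSylowIn 2 (T ⊔ zpowers t) (A ⊔ zpowers t) := by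
  have h2' : t ^ 2 = 1 := by rw [pow_two, h2]
  have hp : IsPGroup 2 (T ⊔ zpowers t : Subgroup G) := by
    have h1 : IsPGroup 2 (zpowers t) :=
      isPGroup_of_isElementaryAbelian (isElementaryAbelian_zpowers h2')
    exact hT.isPGroup.to_sup_of_normal_left' h1 (zpowers_le.2 ht)
  refine isSylowIn_of_maximal hp (sup_le_sup_right hT.le _) fun Q hQ h1 h3 => le_antisymm (fun q hq => ?_) h1
  have e := hT.inf_eq_of_le hQ (le_sup_left.trans h1)
  have htQ : t ∈ Q := h1 (mem_sup_right (mem_zpowers t))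
  rw [mem_sup_two ht (h2' ▸ T.one_mem)]
  rcases (mem_sup_two hA (h2' ▸ A.one_mem)).1 (h3 hq) with h | h
  · exact Or.inl (e ▸ ⟨hq, h⟩)
  · exact Or.inr (e ▸ ⟨Q.mul_mem hq (Q.inv_mem htQ), h⟩)

/-- a normal four-group `{1, z, u, uz}` of `S` inside `T` -/
structure Fr (S T : Subgroup G) (z u : G) : Prop where
  zT : z ∈ T
  uT : u ∈ T
  z2 : z * z = 1
  u2 : u * u = 1
  z1 : z ≠ 1
  u1 : u ≠ 1
  uz : u ≠ z
  zc : ∀ s ∈ S, s * z = z * s
  uc : ∀ s ∈ S, s * u * s⁻¹ = u ∨ s * u * s⁻¹ = u * z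

theorem fr_of (hS : IsPGroup 2 S) (E : Subgroup S) (hE : E.Normal) (hET : E ≤ T.subgroupOf S)
    (h1 : IsElementaryAbelian 2 E) (h2 : Nat.card E = 2 ^ 2) : ∃ z u, Fr S T z u := by
  have hk : IsKleinFour E := isKleinFour_of (by simpa using h2) h1.2
  obtain ⟨z, hz, hzc, hzo⟩ := exists_mem_center_orderOf hS (M := E) (fun h => by simp [h] at h2)
  obtain ⟨u, hu, hu1, huz⟩ := klein_exists hk z
  have z1 : z ≠ 1 := fun h => by simp [h] at hzo
  refine ⟨z, u, hET hz, hET hu, ?_, ?_, by simpa using z1, by simpa using hu1, by simpa using huz,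
    fun s hs => congrArg Subtype.val (mem_center_iff.1 hzc ⟨s, hs⟩), fun s hs => ?_⟩
  · simpa [pow_two] using congrArg Subtype.val (klein_sq hk hz)
  · simpa [pow_two] using congrArg Subtype.val (klein_sq hk hu)
  · rcases klein_mem hk hu hz hu1 z1 huz (hE.conj_mem u hu ⟨s, hs⟩) with h | h | h | h
    · exact absurd (by simpa using h) hu1
    · exact Or.inl (congrArg Subtype.val h)
    · refine absurd ?_ huz
      rw [show u = (⟨s, hs⟩ : S)⁻¹ * (⟨s, hs⟩ * u * (⟨s, hs⟩ : S)⁻¹) * ⟨s, hs⟩ by group, h, mul_assoc,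
        ← mem_center_iff.1 hzc]; group
    · exact Or.inr (congrArg Subtype.val h)

theorem rel_tri (hS : IsPGroup 2 S) (hTS : T ≤ S) (hn : S ≤ normalizer (T : Set G)) :
    IsCyclic T ∨ (∃ z u, Fr S T z u) ∨
      ∃ (n : ℕ) (a y : G), orderOf a = 2 ^ n ∧ zpowers a ⊔ zpowers y = T ∧ DQS n a y ∧
        S ≤ normalizer (zpowers a : Set G) := by
  have four := fr_of (T := T) hS
  have := hS.isNilpotent
  have hTn : (T.subgroupOf S).Normal := (normal_subgroupOf_iff_le_normalizer hTS).2 hn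
  obtain ⟨C, ⟨hCn, hCc, hCT⟩, hmax⟩ := Set.Finite.exists_maximal (Set.toFinite
    {B : Subgroup S | B.Normal ∧ IsMulCommutative B ∧ B ≤ T.subgroupOf S}) ⟨⊥, inferInstance, inferInstance, bot_le⟩
  have hC := centralizer_inf_le_of_maximal hCT
    (fun B h1 h2 h3 h4 => le_antisymm (hmax ⟨h1, h2, h4⟩ h3) h3)
  by_cases hc : IsCyclic C
  swap
  · obtain ⟨E, h1, h2, h3, h4⟩ := exists_normal_four_of_abelian hS hc
    exact Or.inr (Or.inl (four E h1 (h2.trans hCT) h3 h4))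
  obtain ⟨a, rfl⟩ := (Subgroup.isCyclic_iff_exists_zpowers_eq_top C).1 hc
  have haT : (a : G) ∈ T := hCT (mem_zpowers a)
  have hna : S ≤ normalizer (zpowers (a : G) : Set G) := fun s hs => mem_normalizer_of_forall fun x hx => by
    obtain ⟨k, rfl⟩ := mem_zpowers_iff.1 hx
    obtain ⟨j, hj⟩ := mem_zpowers_iff.1 (hCn.conj_mem _ (zpow_mem_zpowers a k) ⟨s, hs⟩)
    exact mem_zpowers_iff.2 ⟨j, by simpa using congrArg Subtype.val hj⟩
  set b : T := ⟨a, haT⟩
  have hT : IsPGroup 2 T := hS.to_le hTS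
  have hbn : (zpowers b).Normal := ⟨fun x hx g => by
    obtain ⟨k, rfl⟩ := mem_zpowers_iff.1 hx
    obtain ⟨j, hj⟩ := mem_zpowers_iff.1
      (conj_mem_of_mem_normalizer (hna (hTS g.2)) (zpow_mem_zpowers (a : G) k))
    exact mem_zpowers_iff.2 ⟨j, Subtype.ext (by simpa using hj)⟩⟩
  by_cases ht : zpowers b = ⊤
  · exact Or.inl (isCyclic_iff_exists_zpowers_eq_top.2 ⟨b, ht⟩)
  obtain ⟨n, hbo⟩ := IsPGroup.iff_orderOf.1 hT b
  have hao : orderOf (a : G) = 2 ^ n := by rw [← hbo]; exact (orderOf_coe b)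
  have hC' : ∀ g : T, g * b = b * g → g ∈ zpowers b := fun g hg => by
    obtain ⟨j, hj⟩ := mem_zpowers_iff.1 (hC (x := ⟨g, hTS g.2⟩) ⟨g.2, mem_centralizer_zpowers
      (show Commute a ⟨g, hTS g.2⟩ from Subtype.ext (by
        have : (g : G) * a = a * g := congrArg Subtype.val hg
        exact this.symm))⟩)
    exact mem_zpowers_iff.2 ⟨j, Subtype.ext (by simpa using congrArg Subtype.val hj)⟩
  right
  rcases selfcentralizing_cyclic hT hbo hC' ht with ⟨-, y, h1, h2⟩ | ⟨y, h1, h2⟩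
  · have h0 : zpowers (b : G) ⊔ zpowers (y : G) = T := map_sup_eq h1
    refine Or.inr ⟨n, b, y, hao, h0, ⟨h2.1, ?_⟩, hna⟩
    rcases h2.2 with ⟨h3, h4⟩ | ⟨h3, h4⟩ | ⟨h0, h3, h4⟩
    · exact Or.inl ⟨congrArg Subtype.val h3, congrArg Subtype.val h4⟩
    · exact Or.inr (Or.inl ⟨congrArg Subtype.val h3, congrArg Subtype.val h4⟩)
    · exact Or.inr (Or.inr ⟨h0, congrArg Subtype.val h3, congrArg Subtype.val h4⟩)
  · left
    set y' : S := ⟨y, hTS y.2⟩
    have h1' : Modular 2 n a y' := ⟨h1.1, h1.2.1, Subtype.ext (congrArg Subtype.val h1.2.2.1 :),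
      Subtype.ext (congrArg Subtype.val h1.2.2.2 :)⟩
    have hao' : orderOf a = 2 ^ n := by rw [← hao]; exact (orderOf_coe a).symm
    obtain ⟨h5, h6⟩ := modular_four Nat.prime_two hao' h1'
    have h7 : zpowers a ⊔ zpowers y' = T.subgroupOf S ⊓ centralizer {a ^ 2} := by
      apply map_injective S.subtype_injective
      have := congrArg (Subgroup.map T.subtype) h2
      rw [Subgroup.map_sup, MonoidHom.map_zpowers, MonoidHom.map_zpowers] at this ⊢
      refine this.trans (le_antisymm ?_ ?_)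
      · rintro _ ⟨g, hg, rfl⟩
        exact ⟨⟨g, hTS g.2⟩, ⟨g.2, mem_centralizer_singleton_iff.2
          (Subtype.ext (congrArg Subtype.val (mem_centralizer_singleton_iff.1 hg) :))⟩, rfl⟩
      · rintro _ ⟨g, hg, rfl⟩
        exact ⟨⟨g, hg.1⟩, mem_centralizer_singleton_iff.2
          (Subtype.ext (congrArg Subtype.val (mem_centralizer_singleton_iff.1 hg.2) :)), rfl⟩
    have h8 : zpowers (a ^ 2 ^ (n - 1)) ⊔ zpowers y' ≤ zpowers a ⊔ zpowers y' :=
      sup_le_sup_right (zpowers_le.2 (npow_mem_zpowers a _)) _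
    refine four _ ⟨fun e he g => modular_omega Nat.prime_two hao' h1' ?_ ?_⟩ (h8.trans (h7 ▸ inf_le_left)) h5 h6
    · rw [h7]
      have := normal_centralizer_pow (a := a) 2
      exact (inferInstance : (T.subgroupOf S ⊓ centralizer {a ^ 2}).Normal).conj_mem e (h7 ▸ h8 he) g
    · rw [conj_pow, h5.2 e he]; group

end CA.H14Ss
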