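/-
An involution acting on a semisimple group with dihedral or semidihedral Sylow 2-subgroups.
-/
import Cfsg.Agent.Lib.Grp.H14Ss1

set_option autoImplicit false

namespace CA.H14Ss

open Subgroup Cfsg CA.SylIn CA.PGBasic CA.Two CA.MC2 CA.MC3 CA.PGCyclicMax CA.PGNormalCyclic
open scoped commutatorElement

variable {G : Type*} [Group G] {A H S T P : Subgroup G}

theorem mul_mem_iff_two (h : P.relIndex S = 2) {x y : G} (hx : x ∈ S) (hy : y ∈ S) :
    x * y ∈ P ↔ (x ∈ P ↔ y ∈ P) :=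
  mul_mem_iff_of_index_two (H := P.subgroupOf S) h (a := ⟨x, hx⟩) (b := ⟨y, hy⟩)

theorem comm_le_two (h : P.relIndex S = 2) : ⁅S, S⁆ ≤ P := by
  rw [commutator_le]
  intro x hx y hy
  rw [commutatorElement_def, mul_mem_iff_two h (S.mul_mem (S.mul_mem hx hy) (S.inv_mem hx)) (S.inv_mem hy),
    mul_mem_iff_two h (S.mul_mem hx hy) (S.inv_mem hx), mul_mem_iff_two h hx hy, inv_mem_iff, inv_mem_iff]
  tauto

/-- the centralizer of `t` in `A` has 2-rank at most one -/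
def R1 (A : Subgroup G) (t : G) : Prop :=
  ∀ v ∈ A, ∀ w ∈ A, v * v = 1 → v ≠ 1 → w * w = 1 → w ≠ 1 → v * w = w * v → t * v = v * t → t * w = w * t → v = w

theorem R1.conj {t g : G} (h : R1 A t) (hg : g ∈ normalizer (A : Set G)) : R1 A (g * t * g⁻¹) := by
  intro v hv w hw h1 h2 h3 h4 h5 h6 h7
  have := h (g⁻¹ * v * g) (inv_conj_mem_of_mem_normalizer hg hv) (g⁻¹ * w * g)
    (inv_conj_mem_of_mem_normalizer hg hw)
    (by rw [show g⁻¹ * v * g * (g⁻¹ * v * g) = g⁻¹ * (v * v) * g by group, h1]; group)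
    (fun e => h2 (by rw [show v = g * (g⁻¹ * v * g) * g⁻¹ by group, e]; group))
    (by rw [show g⁻¹ * w * g * (g⁻¹ * w * g) = g⁻¹ * (w * w) * g by group, h3]; group)
    (fun e => h4 (by rw [show w = g * (g⁻¹ * w * g) * g⁻¹ by group, e]; group))
    (by rw [show g⁻¹ * v * g * (g⁻¹ * w * g) = g⁻¹ * (v * w) * g by group, h5]; group)
    (by rw [show t * (g⁻¹ * v * g) = g⁻¹ * (g * t * g⁻¹ * v) * g by group, h6]; group)
    (by rw [show t * (g⁻¹ * w * g) = g⁻¹ * (g * t * g⁻¹ * w) * g by group, h7]; group)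
  simpa using this

variable [Finite G] {m : ℕ} {ε δ : ℤ} {a y t : G}

theorem mc_nz (hA : Ss A) (hT : IsSylowIn 2 T A) (h : MC m ε 0 a y) (e : zpowers a ⊔ zpowers y = T) :
    ¬ ∀ g ∈ A, g * a ^ (2 ^ m : ℤ) = a ^ (2 ^ m : ℤ) * g := by
  intro hz
  subst e
  have hy : y * y = 1 := by simpa [pow_two] using h.sq
  refine h.notMem (tr_cent hA.perf hT (comm_le_two h.relIndex) (mem_sup_right (mem_zpowers y)) hy
    (fun e => h.notMem (e ▸ zpow_mem_zpowers a _)) hz fun v hv h1 h2 h3 => ?_)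
  rw [mul_mem_iff_two h.relIndex (inv_mem (mem_sup_right (mem_zpowers y))) hv, inv_mem_iff]
  exact iff_of_false h.notMem fun h4 => h3 (h.eq_z h4 (by rw [pow_two, h1]) h2)

theorem mc_cent4 (hA : Ss A) (hT : IsSylowIn 2 T A) (h : MC m ε 0 a y) (e : zpowers a ⊔ zpowers y = T)
    (htA : t ∈ normalizer (A : Set G)) (htT : t ∈ normalizer (T : Set G)) (h2 : t * t = 1) {b : G} (hb : b ∈ T)
    (h3 : t * b = b * t) (h4 : b * b = a ^ (2 ^ m : ℤ)) (h5 : t * a * t⁻¹ = b * a * b⁻¹)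
    (h6 : t * y * t⁻¹ = b * y * b⁻¹) : False := by
  have hS := syl_sup hT htA htT h2
  have h2' : t ^ 2 = 1 := by rw [pow_two, h2]
  have hz2 : a ^ (2 ^ m : ℤ) * a ^ (2 ^ m : ℤ) = 1 := by rw [← pow_two, h.z_sq]
  have hwT : ∀ x ∈ T, x * (b⁻¹ * t) = (b⁻¹ * t) * x := by
    have : T ≤ centralizer {b⁻¹ * t} := by
      rw [← e, sup_le_iff, zpowers_le, zpowers_le, mem_centralizer_singleton_iff, mem_centralizer_singleton_iff]
      constructor
      · rw [show b⁻¹ * t * a = b⁻¹ * (t * a * t⁻¹) * t by group, h5]; group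
      · rw [show b⁻¹ * t * y = b⁻¹ * (t * y * t⁻¹) * t by group, h6]; group
    exact fun x hx => mem_centralizer_singleton_iff.1 (this hx)
  have hw2 : b⁻¹ * t * (b⁻¹ * t) = a ^ (2 ^ m : ℤ) := by
    have : t * b⁻¹ = b⁻¹ * t := ((show Commute t b from h3).inv_right).eq
    rw [mul_assoc, ← mul_assoc t, this, mul_assoc, h2, mul_one, ← mul_inv_rev, h4, inv_eq_iff_mul_eq_one, hz2]
  have hsq : ∀ x ∈ T, x * x ∈ zpowers a := by
    intro x hx
    obtain ⟨i, rfl | rfl⟩ := h.mem_iff.1 (e ▸ hx)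
    · exact mul_mem (zpow_mem_zpowers a i) (zpow_mem_zpowers a i)
    · simpa [pow_two] using (h.shift i).sq_mem
  have hcase : ∀ s ∈ T ⊔ zpowers t, s ∈ T ∨ ∃ x ∈ T, s = x * (b⁻¹ * t) := by
    intro s hs
    rcases (mem_sup_two htT (h2' ▸ T.one_mem)).1 hs with h7 | h7
    · exact Or.inl h7
    · exact Or.inr ⟨s * t⁻¹ * b, T.mul_mem h7 hb, by group⟩
  have hzT : a ^ (2 ^ m : ℤ) ∈ T := e ▸ zpow_mem_left a y _
  refine mc_nz hA hT h e (hA.zs _ _ le_sup_left (sup_le A.le_normalizer (zpowers_le.2 htA)) hS _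
    (mem_sup_left hzT) (hT.le hzT) h.ord_z (iso_of_root hS (y := b⁻¹ * t)
      (mul_mem (mem_sup_left (inv_mem hb)) (mem_sup_right (mem_zpowers t))) (fun s hs => ?_) hw2 h.z_ne hz2
      fun s hs h7 => ?_))
  · rcases hcase s hs with h7 | ⟨x, hx, rfl⟩
    · exact hwT s h7
    · rw [← mul_assoc (b⁻¹ * t), ← hwT x hx]
  · have : s * s ∈ zpowers a := by
      rcases hcase s hs with h7 | ⟨x, hx, rfl⟩
      · exact hsq s h7
      · rw [mul_assoc, ← mul_assoc (b⁻¹ * t), ← hwT x hx, mul_assoc, hw2, ← mul_assoc]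
        exact mul_mem (hsq x hx) (zpow_mem_zpowers a _)
    by_cases h8 : s * s = 1
    · exact Or.inl h8
    · exact Or.inr (h.eq_z this (by rw [pow_two, h7]) h8)

theorem mc_sd (hA : Ss A) (hT : IsSylowIn 2 T A) (h : MC (m + 2) 1 0 a y) (e : zpowers a ⊔ zpowers y = T)
    (htA : t ∈ normalizer (A : Set G)) (htT : t ∈ normalizer (T : Set G)) (h2 : t * t = 1) (h1 : t ≠ 1)
    (hR : R1 A t) (h3 : t * a * t⁻¹ = a⁻¹) {i : ℤ} (hi : Odd i) (h4 : t * y * t⁻¹ = a ^ (2 * i) * y) : False := by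
  have hS := syl_sup hT htA htT h2
  have h2' : t ^ 2 = 1 := by rw [pow_two, h2]
  have hti : t⁻¹ = t := inv_eq_of_mul_eq_one_right h2
  have hy2 : y * y = 1 := by simpa [pow_two] using h.sq
  have hz2 : a ^ (2 ^ (m + 2) : ℤ) * a ^ (2 ^ (m + 2) : ℤ) = 1 := by rw [← pow_two, h.z_sq]
  have hzT : a ^ (2 ^ (m + 2) : ℤ) ∈ T := e ▸ zpow_mem_left a y _
  have haT : ∀ k : ℤ, a ^ k ∈ T := fun k => e ▸ zpow_mem_left a y _
  have hyT : ∀ k : ℤ, a ^ k * y ∈ T := fun k => e ▸ zpow_mul_mem a y _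
  have h5 : ∀ k : ℤ, t * a ^ k * t⁻¹ = a ^ (-k) := fun k => by rw [← conj_zpow, h3]; group
  have h6 : ∀ k : ℤ, t * (a ^ k * y) * t⁻¹ = a ^ (2 * i - k) * y := fun k => by
    rw [show t * (a ^ k * y) * t⁻¹ = (t * a ^ k * t⁻¹) * (t * y * t⁻¹) by group, h5, h4]; group
  have htz : t * a ^ (2 ^ (m + 2) : ℤ) = a ^ (2 ^ (m + 2) : ℤ) * t := by
    rw [← mul_inv_eq_iff_eq_mul, h5, zpow_neg, inv_eq_iff_mul_eq_one, hz2]
  have htA' : t ∉ A := fun ht => by
    have := hR t ht _ (hT.le hzT) h2 h1 hz2 h.z_ne htz rfl htz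
    have h7 := h5 1
    rw [this, ← zpow_add, ← zpow_neg, ← zpow_add, h.zpow_eq] at h7
    have := Int.le_of_dvd (by omega) (show (2 : ℤ) ^ (m + 2 + 1) ∣ 2 by simpa using h7)
    have h8 : (0 : ℤ) < 2 ^ m := by positivity
    rw [pow_succ, pow_succ, pow_succ] at this; omega
  have htT' : t ∉ T := fun ht => htA' (hT.le ht)
  set D := H 1 a y
  have hDT : D ≤ T := e ▸ H_le 1 a y
  have hn : a * t ∈ normalizer (D : Set G) := by
    refine mul_mem (h.le_normalizer_H_one (by omega) (mem_sup_left (mem_zpowers a))) ?_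
    refine mem_normalizer_of_forall fun x hx => ?_
    obtain ⟨k, hk, rfl | rfl⟩ := (h.mem_H_iff (by omega)).1 hx
    · rw [h5]; exact zpow_mem_H a y (by omega)
    · rw [h6, h.zpow_mul_mem_H_iff (by omega)]; omega
  have hat : a * t * (a * t) = 1 := by
    rw [show a * t * (a * t) = a * (t * a * t⁻¹) * (t * t) by group, h3, h2]; group
  have hat' : (a * t) ^ 2 ∈ D := by rw [pow_two, hat]; exact D.one_mem
  have hatT : a * t ∉ T := fun h7 => htT' ((T.mul_mem_cancel_left (by simpa using haT 1)).1 h7)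
  set P := D ⊔ zpowers (a * t)
  have hatS : a * t ∈ T ⊔ zpowers t :=
    mul_mem (mem_sup_left (by simpa using haT 1)) (mem_sup_right (mem_zpowers t))
  have hPS : P ≤ T ⊔ zpowers t := sup_le (hDT.trans le_sup_left) (zpowers_le.2 hatS)
  have hidx : P.relIndex (T ⊔ zpowers t) = 2 := by
    have a1 := relIndex_sup_zpowers Nat.prime_two hn (fun h7 => hatT (hDT h7)) hat'
    have a2 := relIndex_sup_zpowers Nat.prime_two htT htT' (h2' ▸ T.one_mem)
    have a3 : D.relIndex T = 2 := e ▸ h.relIndex_H_one (by omega)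
    have a4 := relIndex_mul_relIndex D T _ hDT (le_sup_left (b := zpowers t))
    have a5 := relIndex_mul_relIndex D P _ le_sup_left hPS
    rw [a3, a2] at a4
    rw [a1, ← a4] at a5
    omega
  have htS : t ∈ T ⊔ zpowers t := mem_sup_right (mem_zpowers t)
  have haP : a ∉ P := fun h7 => by
    rcases (mem_sup_two hn hat').1 h7 with h8 | h8
    · have := (h.zpow_mem_H_iff (k := 1) (i := 1) (by omega)).1 (by simpa using h8)
      omega
    · have := hDT h8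
      rw [show a * (a * t)⁻¹ = a * t⁻¹ * a⁻¹ by group, T.mul_mem_cancel_right (by simpa using haT (-1)),
        hti] at this
      exact hatT this
  have hatP : a * t ∈ P := mem_sup_right (mem_zpowers _)
  have htP : t ∉ P := fun h7 => haP ((P.mul_mem_cancel_right h7).1 hatP)
  have outer : ∀ v, v ∈ T ⊔ zpowers t → v ∉ T → v * v = 1 → (∃ s ∈ T, v = s * t * s⁻¹) ∨
      (v ∈ P ∧ ∃ d ∈ T, d * d = 1 ∧ d ∉ zpowers a ∧ v * d = d * v) := by
    intro v hv hv' hv2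
    obtain ⟨k, hk | hk⟩ := h.mem_iff.1 (e ▸ ((mem_sup_two htT (h2' ▸ T.one_mem)).1 hv).resolve_left hv')
    · obtain rfl : v = a ^ k * t := by rw [← hk]; group
      rcases Int.even_or_odd' k with ⟨l, rfl | rfl⟩
      · refine Or.inl ⟨a ^ l, haT l, ?_⟩
        rw [show a ^ l * t * (a ^ l)⁻¹ = a ^ l * (t * a ^ (-l) * t⁻¹) * t by group, h5]; group
      · refine Or.inr ⟨?_, a ^ (i + (2 * l + 1) * (1 - 2 ^ (m + 1))) * y, hyT _, ?_, (h.shift _).notMem, ?_⟩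
        · rw [show a ^ (2 * l + 1) * t = a ^ (2 * l) * (a * t) by group]
          exact mul_mem (mem_sup_left (zpow_mem_H a y (by omega))) hatP
        · rw [← pow_two, (h.shift _).sq_eq_one]
          obtain ⟨j, rfl⟩ := hi
          exact ⟨j + l + 1 - (2 * l + 1) * 2 ^ m, by ring⟩
        · rw [← mul_inv_eq_iff_eq_mul, show ∀ d, a ^ (2 * l + 1) * t * d * (a ^ (2 * l + 1) * t)⁻¹ =
            a ^ (2 * l + 1) * (t * d * t⁻¹) * (a ^ (2 * l + 1))⁻¹ by intro; group, h6,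
            show ∀ k : ℤ, a ^ (2 * l + 1) * (a ^ k * y) * (a ^ (2 * l + 1))⁻¹ =
              a ^ k * (a ^ (2 * l + 1) * y * (a ^ (2 * l + 1))⁻¹) by intro; group, h.conj_y, ← mul_assoc,
            ← zpow_add]
          congr 2; ring
    · obtain rfl : v = a ^ k * y * t := by rw [← hk]; group
      have h7 : (2 : ℤ) ^ (m + 2 + 1) ∣ k + (2 ^ (m + 2) * 1 - 1) * (2 * i - k) := by
        rw [← h.zpow_one, zpow_add, ← h.conj_zpow, ← hv2,
          show a ^ k * y * t * (a ^ k * y * t) = a ^ k * y * (t * (a ^ k * y) * t⁻¹) * (t * t) by group, h6, h2,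
          inv_eq_of_mul_eq_one_right hy2]
        group
      refine Or.inr ⟨?_, y, by simpa using hyT 0, hy2, h.notMem, ?_⟩
      · rw [mem_sup_two hn hat', show a ^ k * y * t * (a * t)⁻¹ = a ^ k * (y * a ^ (-1 : ℤ)) by group, h.y_mul,
          ← mul_assoc, ← zpow_add, h.zpow_mul_mem_H_iff (by omega)]
        right
        obtain ⟨c, hc⟩ := h7
        obtain ⟨j, rfl⟩ := hi
        refine ⟨j + 1 - 2 ^ (m + 1) + 2 ^ (m + 1) * c - 2 ^ m * (2 * (2 * j + 1) - k), ?_⟩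
        have : (2 : ℤ) * (k + (2 ^ (m + 2) * 1 - 1) * -1) = 2 * (2 ^ 1 *
          (j + 1 - 2 ^ (m + 1) + 2 ^ (m + 1) * c - 2 ^ m * (2 * (2 * j + 1) - k))) := by
          linear_combination hc
        omega
      · rw [← mul_inv_eq_iff_eq_mul, show a ^ k * y * t * y * (a ^ k * y * t)⁻¹ =
          a ^ k * ((y * (t * y * t⁻¹)) * y⁻¹) * (a ^ k)⁻¹ by group, h4, ← mul_assoc y, mul_inv_cancel_right, h.y_mul,
          show ∀ j : ℤ, a ^ k * (a ^ j * y) * (a ^ k)⁻¹ = a ^ j * (a ^ k * y * (a ^ k)⁻¹) by intro; group,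
          h.conj_y, ← mul_assoc, ← zpow_add, h.zpow_one.2 (by convert h7 using 1; ring), one_mul]
  have hHn : A ⊔ zpowers t ≤ normalizer (A : Set G) := sup_le A.le_normalizer (zpowers_le.2 htA)
  have nA : ∀ w, w ∉ A → ∀ g ∈ A ⊔ zpowers t, g * w * g⁻¹ ∉ T := fun w hw g hg h7 =>
    hw (by simpa [mul_assoc] using inv_conj_mem_of_mem_normalizer (hHn hg) (hT.le h7))
  have cj2 : ∀ g w : G, w * w = 1 → g * w * g⁻¹ * (g * w * g⁻¹) = 1 := fun g w hw => by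
    rw [show g * w * g⁻¹ * (g * w * g⁻¹) = g * (w * w) * g⁻¹ by group, hw]; group
  have kx : ∀ g ∈ A ⊔ zpowers t, g * t * g⁻¹ ∈ T ⊔ zpowers t → g * t * g⁻¹ ∉ P := by
    intro g hg hv
    rcases outer _ hv (nA t htA' g hg) (cj2 g t h2) with ⟨s, hs, h7⟩ | ⟨-, d, hd, h7, h8, h9⟩
    · rw [h7, mul_mem_iff_two hidx (mul_mem (mem_sup_left hs) htS) (mem_sup_left (inv_mem hs)),
        mul_mem_iff_two hidx (mem_sup_left hs) htS, inv_mem_iff]
      tauto
    · refine fun _ => h8 ?_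
      rw [hR.conj (hHn hg) d (hT.le hd) _ (hT.le hzT) h7 (fun e => h8 (e ▸ one_mem _)) hz2 h.z_ne
        (h.z_central (e ▸ hd)) h9 ?_]
      · exact zpow_mem_zpowers a _
      · rcases (mem_sup_two htT (h2' ▸ T.one_mem)).1 hv with h10 | h10
        · exact h.z_central (e ▸ h10)
        · have := h.z_central (e ▸ h10)
          rw [show g * t * g⁻¹ = g * t * g⁻¹ * t⁻¹ * t by group, mul_assoc _ t, htz, ← mul_assoc, this, mul_assoc]
  have := tr2 hS (comm_le_two hidx) htS hatS h2 hat ?_ (fun g hg hv => ?_) (fun g hg hv => ?_)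
  · rw [mul_mem_iff_two hidx (inv_mem htS) hatS, inv_mem_iff] at this
    exact htP (this.2 hatP)
  · refine commutator_mono le_sup_left le_sup_left ?_
    rw [hA.perf, ← mul_assoc]
    exact inv_conj_mem_of_mem_normalizer htA (hT.le (by simpa using haT 1))
  · rw [mul_mem_iff_two hidx (inv_mem htS) hv, inv_mem_iff]
    exact iff_of_false htP (kx g hg hv)
  · rw [P.mul_mem_cancel_left (inv_mem hatP)]
    have hatA : a * t ∉ A := fun h7 => htA' ((A.mul_mem_cancel_left (hT.le (by simpa using haT 1))).1 h7)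
    rcases outer _ hv (nA _ hatA g hg) (cj2 g _ hat) with ⟨s, hs, h7⟩ | ⟨h7, -⟩
    · have h8 : (g⁻¹ * s) * t * (g⁻¹ * s)⁻¹ = a * t := by
        rw [show (g⁻¹ * s) * t * (g⁻¹ * s)⁻¹ = g⁻¹ * (s * t * s⁻¹) * g by group, ← h7]; group
      exact absurd (h8 ▸ hatP) (kx _ (mul_mem (inv_mem hg) (mem_sup_left (hT.le hs))) (h8 ▸ hatS))
    · exact h7

theorem mc_main (hA : Ss A) (hT : IsSylowIn 2 T A) (h : MC (m + 1) ε 0 a y) (hε : ε = 0 ∨ (ε = 1 ∧ 1 ≤ m))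
    (e : zpowers a ⊔ zpowers y = T) (htA : t ∈ normalizer (A : Set G)) (htT : t ∈ normalizer (T : Set G))
    (hta : t ∈ normalizer (zpowers a : Set G)) (h2 : t * t = 1) (h1 : t ≠ 1) (hR : R1 A t) :
    (ε = 0 ∧ t * a * t⁻¹ = a⁻¹ ∧ ∃ i, Odd i ∧ t * y * t⁻¹ = a ^ (i : ℤ) * y) ∨
      (ε = 1 ∧ t * a * t⁻¹ = a ^ (1 + 2 ^ (m + 1) : ℤ) ∧ t * y * t⁻¹ = a ^ (2 ^ (m + 1) : ℤ) * y) := by
  have hti : t⁻¹ = t := inv_eq_of_mul_eq_one_right h2
  have hy2 : y * y = 1 := by simpa [pow_two] using h.sq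
  have hz2 : a ^ (2 ^ (m + 1) : ℤ) * a ^ (2 ^ (m + 1) : ℤ) = 1 := by rw [← pow_two, h.z_sq]
  have haT : ∀ k : ℤ, a ^ k ∈ T := fun k => e ▸ zpow_mem_left a y _
  have hyT : ∀ k : ℤ, a ^ k * y ∈ T := fun k => e ▸ zpow_mul_mem a y _
  have tt : ∀ x, t * (t * x * t⁻¹) * t⁻¹ = x := fun x => by
    rw [show t * (t * x * t⁻¹) * t⁻¹ = (t * t) * x * (t * t)⁻¹ by group, h2]; group
  obtain ⟨i, hi⟩ := h.eq_of_notMem (g := t * y * t⁻¹) (e ▸ conj_mem_of_mem_normalizer htT (by simpa using hyT 0))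
    (fun h3 => h.notMem (by simpa [mul_assoc] using inv_conj_mem_of_mem_normalizer hta h3))
  have hie : Even (ε * i) := by
    have := (h.shift i).sq_eq_one.1 (by rw [← hi, conj_pow, pow_two, hy2]; group)
    simpa using this
  have htz : t * a ^ (2 ^ (m + 1) : ℤ) = a ^ (2 ^ (m + 1) : ℤ) * t := by
    rw [← mul_inv_eq_iff_eq_mul]
    refine h.eq_z (conj_mem_of_mem_normalizer hta (zpow_mem_zpowers a _)) (by rw [conj_pow, h.z_sq]; group) ?_
    simpa using h.z_ne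
  have main : ∀ j : ℤ, t * a * t⁻¹ = a ^ j → (∀ k : ℤ, t * (a ^ k * y) * t⁻¹ = a ^ (j * k + i) * y) ∧
      (2 : ℤ) ^ (m + 1 + 1) ∣ j * i + i ∧
      ∀ k : ℤ, Even (ε * k) → ¬ (2 : ℤ) ^ (m + 1 + 1) ∣ j * k + i - k := by
    intro j hj
    have h6 : ∀ k : ℤ, t * (a ^ k * y) * t⁻¹ = a ^ (j * k + i) * y := fun k => by
      rw [show t * (a ^ k * y) * t⁻¹ = (t * a ^ k * t⁻¹) * (t * y * t⁻¹) by group, conj_zpow_eq hj, hi]; group
    refine ⟨h6, ?_, fun k hk h7 => ?_⟩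
    · have := tt y
      rw [hi, h6] at this
      exact h.zpow_one.1 (by simpa using this)
    · have := hR _ (hT.le (hyT k)) _ (hT.le (haT _)) (by
        rw [← pow_two, (h.shift k).sq_eq_one]; simpa using hk) (h.shift k).y_ne_one hz2 h.z_ne
        (h.z_central (e ▸ hyT k)) (by rw [← mul_inv_eq_iff_eq_mul, h6, h.zpow_eq.2 h7]) htz
      exact h.zpow_ne _ _ this.symm
  have c1 : t * a * t⁻¹ ≠ a ^ (1 : ℤ) := by
    intro hj
    obtain ⟨h6, h7, h8⟩ := main 1 hj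
    have h9 : t * y * t⁻¹ = a ^ (2 ^ (m + 1) : ℤ) * y := by
      rw [hi, h.zpow_eq.2]
      have := h8 0 (by simp)
      obtain ⟨c, hc⟩ := h7
      obtain ⟨d, rfl | rfl⟩ := Int.even_or_odd' c
      · refine absurd ⟨d, ?_⟩ this
        have : (2 : ℤ) * i = 2 * (2 ^ (m + 1 + 1) * d) := by linear_combination hc
        omega
      · refine ⟨d, ?_⟩
        have : (2 : ℤ) * (i - 2 ^ (m + 1)) = 2 * (2 ^ (m + 1 + 1) * d) := by linear_combination hc
        omega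
    refine mc_cent4 hA hT h e htA htT h2 (haT (2 ^ m)) ?_ ?_ ?_ ?_
    · rw [← mul_inv_eq_iff_eq_mul, conj_zpow_eq hj, one_mul]
    · rw [← zpow_add]; congr 1; ring
    · rw [hj]; group
    · rw [h9, h.conj_y, h.zpow_eq.2]
      rcases hε with rfl | ⟨rfl, hm⟩
      · exact ⟨0, by ring⟩
      · obtain ⟨m, rfl⟩ : ∃ k, m = k + 1 := ⟨m - 1, by omega⟩
        exact ⟨2 ^ m, by ring⟩
  obtain ⟨j, hj⟩ := exists_conj_eq_zpow hta
  have hjj : (2 : ℤ) ^ (m + 1 + 1) ∣ j ^ 2 - 1 := by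
    have := tt a
    rw [hj, conj_zpow_eq hj] at this
    rw [pow_two j]
    exact h.zpow_eq.1 (by rw [this, zpow_one])
  have c2 : t * a * t⁻¹ = a ^ (-1 : ℤ) → (ε = 0 ∧ t * a * t⁻¹ = a⁻¹ ∧ ∃ i, Odd i ∧ t * y * t⁻¹ = a ^ (i : ℤ) * y) := by
    intro hj
    obtain ⟨h6, h7, h8⟩ := main _ hj
    rcases hε with rfl | ⟨rfl, hm⟩
    · refine ⟨rfl, by simpa using hj, i, ?_, hi⟩
      obtain ⟨d, rfl | rfl⟩ := Int.even_or_odd' i
      · exact absurd ⟨0, by ring⟩ (h8 d (by simp))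
      · exact ⟨d, rfl⟩
    · obtain ⟨m, rfl⟩ : ∃ k, m = k + 1 := ⟨m - 1, by omega⟩
      obtain ⟨d, hd⟩ := hie
      obtain rfl : i = 2 * d := by omega
      refine (mc_sd hA hT h e htA htT h2 h1 hR (by simpa using hj) ?_ hi).elim
      rcases Int.even_or_odd d with h9 | h9
      · exact absurd ⟨0, by ring⟩ (h8 d (by simpa using h9))
      · exact h9
  rcases Nat.eq_zero_or_pos m with rfl | hm
  · left
    refine c2 ?_
    have hj' : ¬ (2 : ℤ) ^ (0 + 1 + 1) ∣ j - 1 := fun h3 => c1 (by rw [hj, h.zpow_eq.2 h3])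
    rw [hj, h.zpow_eq]
    rcases nt_two hjj with h3 | h3 <;> norm_num at hj' h3 ⊢ <;> omega
  obtain ⟨m, rfl⟩ : ∃ k, m = k + 1 := ⟨m - 1, by omega⟩
  rcases nt_two hjj with ⟨c, hc⟩ | ⟨c, hc⟩
  · obtain ⟨d, rfl | rfl⟩ := Int.even_or_odd' c
    · exact absurd (hj.trans (h.zpow_eq.2 ⟨d, by linear_combination hc⟩)) c1
    have hj' : t * a * t⁻¹ = a ^ (1 + 2 ^ (m + 1 + 1) : ℤ) :=
      hj.trans (h.zpow_eq.2 ⟨d, by linear_combination hc⟩)
    obtain ⟨h6, ⟨c, h7⟩, h8⟩ := main _ hj'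
    obtain ⟨c, rfl⟩ : (2 : ℤ) ^ (m + 1 + 1) ∣ i := two_pow_dvd_of_mul (s := -2 ^ m) ⟨c, by
      have : (2 : ℤ) * (i * (1 - 2 * -2 ^ m)) = 2 * (2 ^ (m + 1 + 1) * c) := by linear_combination h7
      omega⟩
    obtain ⟨d, rfl | rfl⟩ := Int.even_or_odd' c
    · exact absurd ⟨d, by ring⟩ (h8 0 (by simp))
    rcases hε with rfl | ⟨rfl, -⟩
    · exact absurd ⟨d + 1, by ring⟩ (h8 1 (by simp))
    · exact Or.inr ⟨rfl, hj', hi.trans (congrArg (· * y) (h.zpow_eq.2 ⟨d, by ring⟩))⟩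
  · obtain ⟨d, rfl | rfl⟩ := Int.even_or_odd' c
    · exact Or.inl (c2 (hj.trans (h.zpow_eq.2 ⟨d, by linear_combination hc⟩)))
    have hj' : t * a * t⁻¹ = a ^ (2 ^ (m + 1 + 1) - 1 : ℤ) :=
      hj.trans (h.zpow_eq.2 ⟨d, by linear_combination hc⟩)
    obtain ⟨h6, ⟨c, h7⟩, h8⟩ := main _ hj'
    obtain rfl : i = 2 * c := by
      have : (2 : ℤ) ^ (m + 1 + 1) * i = 2 ^ (m + 1 + 1) * (2 * c) := by linear_combination h7
      exact mul_left_cancel₀ (by positivity) this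
    have h9 : (2 : ℤ) ^ (m + 1 + 1 + 1) ∣ (2 ^ (m + 1 + 1) - 1) * (c * (1 + 2 ^ (m + 1))) + 2 * c -
        c * (1 + 2 ^ (m + 1)) := ⟨c * 2 ^ m, by ring⟩
    exfalso
    rcases Int.even_or_odd (ε * (c * (1 + 2 ^ (m + 1)))) with h10 | h10
    · exact h8 _ h10 h9
    obtain rfl : ε = 1 := by
      rcases hε with rfl | ⟨rfl, -⟩
      · simp at h10
      · rfl
    have h11 : t * (a ^ (c * (1 + 2 ^ (m + 1))) * y) * t⁻¹ = a ^ (c * (1 + 2 ^ (m + 1))) * y := by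
      rw [h6, h.zpow_eq.2 h9]
    have h12 : t * a * t⁻¹ = (a ^ (c * (1 + 2 ^ (m + 1))) * y) * a * (a ^ (c * (1 + 2 ^ (m + 1))) * y)⁻¹ := by
      rw [hj', (h.shift _).conj, mul_one]
    refine mc_cent4 hA hT h e htA htT h2 (hyT (c * (1 + 2 ^ (m + 1)))) (mul_inv_eq_iff_eq_mul.1 h11) ?_ h12 ?_
    · rw [← pow_two, (h.shift _).sq_eq_z]; simpa using h10
    · generalize c * (1 + 2 ^ (m + 1)) = k at h11 h12
      have h13 : t * a ^ (-k) * t⁻¹ = (a ^ k * y) * a ^ (-k) * (a ^ k * y)⁻¹ := by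
        rw [← conj_zpow, ← conj_zpow, h12]
      calc t * y * t⁻¹ = (t * a ^ (-k) * t⁻¹) * (t * (a ^ k * y) * t⁻¹) := by group
        _ = _ := by rw [h11, h13]; group

end CA.H14Ss
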