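/-
Sylow 2-subgroups `T = ⟨c, u, b⟩` with an abelian subgroup `⟨c⟩ × ⟨u⟩` of index two in a semisimple group.
-/
import Cfsg.Agent.Lib.Grp.H14Ss2
import Cfsg.Agent.Lib.Grp.H13Inv

set_option autoImplicit false

namespace CA.H14Ss

open Subgroup Cfsg CA.SylIn CA.PGBasic CA.Two CA.MC2 CA.MC3 CA.PGCyclicMax CA.PGNormalCyclic
open scoped commutatorElement

variable {G : Type*} [Group G] {A H S T P : Subgroup G}

theorem inv_uniq [Finite G] {c v w : G} (hv : v ∈ zpowers c) (hw : w ∈ zpowers c) (h1 : v * v = 1) (h2 : v ≠ 1)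
    (h3 : w * w = 1) (h4 : w ≠ 1) : v = w := by
  rw [(H13Inv.eq_pow_half_of_mem_zpowers (H13Inv.orderOf_eq_two_iff.2 ⟨h1, h2⟩) hv).2,
    ← (H13Inv.eq_pow_half_of_mem_zpowers (H13Inv.orderOf_eq_two_iff.2 ⟨h3, h4⟩) hw).2]

theorem conj_sq {g w : G} (hw : w * w = 1) : g * w * g⁻¹ * (g * w * g⁻¹) = 1 := by
  rw [show g * w * g⁻¹ * (g * w * g⁻¹) = g * (w * w) * g⁻¹ by group, hw]; group

theorem conj_ne {g w : G} (hw : w ≠ 1) : g * w * g⁻¹ ≠ 1 := by simpa using hw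

/-- membership in `⟨c⟩ × ⟨u⟩` -/
def InB (u c x : G) : Prop := ∃ i : ℤ, x = c ^ i ∨ x = u * c ^ i

structure C2 (T : Subgroup G) (z u c b : G) (m : ℤ) : Prop where
  uT : u ∈ T
  cT : c ∈ T
  bT : b ∈ T
  z2 : z * z = 1
  u2 : u * u = 1
  z1 : z ≠ 1
  u1 : u ≠ 1
  uz : u ≠ z
  zc : ∀ s ∈ T, s * z = z * s
  cu : Commute c u
  cm : c ^ (2 * m) = z
  mem : ∀ x ∈ T, InB u c x ∨ ∃ y, InB u c y ∧ x = y * b
  bc : b * c * b⁻¹ = c⁻¹ ∨ b * c * b⁻¹ = z * c⁻¹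
  bu : b * u * b⁻¹ = u ∨ b * u * b⁻¹ = u * z

namespace C2
variable {z u c b : G} {m : ℤ} (h : C2 T z u c b m)
include h

theorem zc' : z ∈ zpowers c := h.cm ▸ zpow_mem_zpowers c _
theorem zT : z ∈ T := (zpowers_le.2 h.cT) h.zc'
theorem zz {x : G} : x ∈ zpowers z ↔ x = 1 ∨ x = z := mem_zpowers_two (by rw [pow_two, h.z2])
theorem Bmem {x : G} (hx : InB u c x) : x ∈ T := by
  obtain ⟨i, rfl | rfl⟩ := hx
  · exact zpow_mem h.cT i
  · exact mul_mem h.uT (zpow_mem h.cT i)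
theorem Bc {x : G} (hx : InB u c x) : Commute x c := by
  obtain ⟨i, rfl | rfl⟩ := hx
  · exact (Commute.refl c).zpow_left i
  · exact h.cu.symm.mul_left ((Commute.refl c).zpow_left i)
theorem Bu {x : G} (hx : InB u c x) : Commute x u := by
  obtain ⟨i, rfl | rfl⟩ := hx
  · exact h.cu.zpow_left i
  · exact (Commute.refl u).mul_left (h.cu.zpow_left i)
theorem Bcomm {x y : G} (hx : InB u c x) (hy : InB u c y) : Commute x y := by
  obtain ⟨i, rfl | rfl⟩ := hy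
  · exact (h.Bc hx).zpow_right i
  · exact (h.Bu hx).mul_right ((h.Bc hx).zpow_right i)
theorem Bsq {x : G} (hx : InB u c x) : ∃ i : ℤ, x * x = c ^ (2 * i) ∧ (x = c ^ i ∨ x = u * c ^ i) := by
  obtain ⟨i, rfl | rfl⟩ := hx
  · exact ⟨i, by group, Or.inl rfl⟩
  · refine ⟨i, ?_, Or.inr rfl⟩
    rw [mul_assoc, ← mul_assoc (c ^ i), (h.cu.zpow_left i).eq, ← mul_assoc, ← mul_assoc, h.u2]; group
theorem Bsq' {x : G} (hx : InB u c x) : x * x ∈ zpowers c := by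
  obtain ⟨i, e, -⟩ := h.Bsq hx
  exact e ▸ zpow_mem_zpowers c _
theorem Bmul {x y : G} (hx : InB u c x) (hy : InB u c y) : InB u c (x * y) := by
  obtain ⟨i, rfl | rfl⟩ := hx <;> obtain ⟨j, rfl | rfl⟩ := hy <;> refine ⟨i + j, ?_⟩
  · left; group
  · right; rw [← mul_assoc, (h.cu.zpow_left i).eq]; group
  · right; group
  · left; rw [mul_assoc, ← mul_assoc (c ^ i), (h.cu.zpow_left i).eq, ← mul_assoc, ← mul_assoc, h.u2]; group
theorem Binv {x : G} (hx : InB u c x) : InB u c x⁻¹ := by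
  obtain ⟨i, rfl | rfl⟩ := hx <;> refine ⟨-i, ?_⟩
  · left; group
  · right; rw [mul_inv_rev, inv_eq_of_mul_eq_one_right h.u2, ← zpow_neg, (h.cu.zpow_left _).eq]
theorem K1 {x : G} (hx : InB u c x) : x * (b * x * b⁻¹) ∈ zpowers z := by
  have h1 : ∀ i : ℤ, c ^ i * (b * c ^ i * b⁻¹) ∈ zpowers z := by
    intro i
    have h2 : Commute c (b * c * b⁻¹) := by
      rcases h.bc with e | e <;> rw [e]
      · exact (Commute.refl c).inv_right
      · exact (show Commute c z from h.zc c h.cT).mul_right (Commute.refl c).inv_right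
    rw [← conj_zpow, ← h2.mul_zpow]
    refine zpow_mem ?_ i
    rcases h.bc with e | e <;> rw [e]
    · simp
    · rw [← mul_assoc, h.zc c h.cT]; simp
  obtain ⟨i, rfl | rfl⟩ := hx
  · exact h1 i
  · have h3 : Commute (c ^ i) (b * u * b⁻¹) := by
      rcases h.bu with e | e <;> rw [e]
      · exact h.cu.zpow_left i
      · exact (h.cu.mul_right (h.zc c h.cT)).zpow_left i
    rw [show u * c ^ i * (b * (u * c ^ i) * b⁻¹) = u * (c ^ i * (b * u * b⁻¹)) * (b * c ^ i * b⁻¹) by group, h3.eq,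
      show ∀ x y w v : G, x * (y * w) * v = (x * y) * (w * v) by intros; group]
    refine mul_mem ?_ (h1 i)
    rcases h.bu with e | e <;> rw [e]
    · rw [h.u2]; exact one_mem _
    · rw [← mul_assoc, h.u2]; simp
theorem out_sq {x : G} (hx : InB u c x) : x * b * (x * b) = b * b ∨ x * b * (x * b) = z * (b * b) := by
  rw [show x * b * (x * b) = x * (b * x * b⁻¹) * (b * b) by group]
  rcases h.zz.1 (h.K1 hx) with e | e <;> simp [e]
theorem K2 {x : G} (hx : InB u c x) : x⁻¹ * (b * x * b⁻¹) ∈ zpowers c := by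
  rw [show x⁻¹ * (b * x * b⁻¹) = (x * x)⁻¹ * (x * (b * x * b⁻¹)) by group]
  exact mul_mem (inv_mem (h.Bsq' hx)) ((zpowers_le.2 h.zc') (h.K1 hx))
theorem Bconj {x : G} (hx : InB u c x) : InB u c (b * x * b⁻¹) := by
  obtain ⟨i, hi⟩ := mem_zpowers_iff.1 (h.K2 hx)
  rw [show b * x * b⁻¹ = x * (x⁻¹ * (b * x * b⁻¹)) by group, ← hi]
  exact h.Bmul hx ⟨i, Or.inl rfl⟩
theorem comm_le : ⁅T, T⁆ ≤ zpowers c := by
  have h1 : ∀ x y, InB u c x → InB u c y → ⁅x, y * b⁆ ∈ zpowers c := by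
    intro x y hx hy
    have := h.K2 (h.Binv hx)
    rw [commutatorElement_def, show x * (y * b) * x⁻¹ * (y * b)⁻¹ = x * (y * (b * x⁻¹ * b⁻¹) * y⁻¹) by group,
      (h.Bcomm hy (h.Bconj (h.Binv hx))).eq, mul_inv_cancel_right]
    simpa using this
  rw [commutator_le]
  intro x' hx' y' hy'
  rcases h.mem x' hx' with hx | ⟨x, hx, rfl⟩ <;> rcases h.mem y' hy' with hy | ⟨y, hy, rfl⟩
  · rw [(h.Bcomm hx hy).commutator_eq]; exact one_mem _
  · exact h1 _ y hx hy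
  · rw [← commutatorElement_inv]; exact inv_mem (h1 _ x hy hx)
  · have h2 := h.Bmul hy (h.Binv hx)
    have := h.K2 h2
    rw [commutatorElement_def, show x * b * (y * b) * (x * b)⁻¹ * (y * b)⁻¹ =
      x * ((b * (y * x⁻¹) * b⁻¹) * y⁻¹) by group, (h.Bcomm (h.Bconj h2) (h.Binv hy)).eq]
    simpa [mul_assoc] using this

variable [Finite G]

theorem uc : u ∉ zpowers c := fun e => h.uz (inv_uniq e h.zc' h.u2 h.u1 h.z2 h.z1)
theorem cinv {v : G} (hv : v ∈ zpowers c) (h1 : v * v = 1) : v = 1 ∨ v = z := by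
  by_cases h2 : v = 1
  · exact Or.inl h2
  · exact Or.inr (inv_uniq hv h.zc' h1 h2 h.z2 h.z1)
theorem Binvol {v : G} (hv : InB u c v) (h1 : v * v = 1) : v = 1 ∨ v = z ∨ v = u ∨ v = u * z := by
  obtain ⟨i, e, h2⟩ := h.Bsq hv
  have := h.cinv (zpow_mem_zpowers c i) (by rw [← h1, e]; group)
  rcases h2 with rfl | rfl <;> rcases this with h3 | h3 <;> simp [h3]

theorem fin (hA : Ss A) (hT : IsSylowIn 2 T A) (hz : ∀ a ∈ A, a * z = z * a)
    (hB : ∀ x, InB u c x → x * b * (x * b) ≠ 1) : False := by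
  refine h.uc (tr_cent hA.perf hT h.comm_le h.uT h.u2 h.uz hz fun v hv h1 h2 h3 => ?_)
  rcases h.mem v hv with h4 | ⟨x, hx, rfl⟩
  · rcases h.Binvol h4 h1 with rfl | rfl | rfl | rfl
    · exact absurd rfl h2
    · exact absurd rfl h3
    · simp
    · simpa using h.zc'
  · exact absurd h1 (hB x hx)

omit [Finite G] in
theorem cent (hA : Ss A) (hT : IsSylowIn 2 T A) (hi : ∀ g ∈ A, g * z * g⁻¹ ∈ T → g * z * g⁻¹ = z) :
    ∀ a ∈ A, a * z = z * a :=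
  hA.zs A T le_rfl A.le_normalizer hT z h.zT (hT.le h.zT) (H13Inv.orderOf_eq_two_iff.2 ⟨h.z2, h.z1⟩) hi

omit [Finite G] in
theorem ucent (hu : b * u * b⁻¹ = u) : ∀ s ∈ T, s * u = u * s := by
  intro s hs
  have hb : Commute b u := mul_inv_eq_iff_eq_mul.1 hu
  rcases h.mem s hs with h1 | ⟨x, hx, rfl⟩
  · exact h.Bu h1
  · exact (h.Bu hx).mul_left hb

theorem nfus (hT : IsSylowIn 2 T A) (hu : b * u * b⁻¹ = u) {x : G} {n : ℕ} (hx : x ∈ T) (hn : x ^ n = z)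
    (hp : ∀ s ∈ T, s ^ n ∈ zpowers c) {g : G} (hg : g ∈ A) (hv : InB u c (g * z * g⁻¹)) : g * z * g⁻¹ = z := by
  have key : (∀ s ∈ T, s * (g * z * g⁻¹) = (g * z * g⁻¹) * s) → g * z * g⁻¹ ∈ zpowers c := by
    intro hc
    obtain ⟨s, hs, e⟩ := pow_of_conj hT (n := n) hx hg (hn ▸ hc)
    rw [hn] at e
    exact e ▸ hp s hs
  rcases h.Binvol hv (conj_sq h.z2) with e | e | e | e
  · exact absurd e (conj_ne h.z1)
  · exact e
  · exact absurd (e ▸ key (e ▸ h.ucent hu)) h.uc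
  · refine absurd ((mul_mem_cancel_right h.zc').1 (e ▸ key (e ▸ fun s hs => ?_))) h.uc
    rw [← mul_assoc, h.ucent hu s hs, mul_assoc, h.zc s hs, mul_assoc]

theorem isoB (hA : Ss A) (hT : IsSylowIn 2 T A) (hu : b * u * b⁻¹ = u) {x : G} {n : ℕ} (hx : x ∈ T)
    (hn : x ^ n = z) (hp : ∀ s ∈ T, s ^ n ∈ zpowers c) (hB : ∀ x, InB u c x → x * b * (x * b) ≠ 1) : False := by
  refine h.fin hA hT (h.cent hA hT fun g hg hv => ?_) hB
  rcases h.mem _ hv with h1 | ⟨y, hy, e⟩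
  · exact h.nfus hT hu hx hn hp hg h1
  · exact absurd (e ▸ conj_sq h.z2) (hB y hy)

/-- a central element of order four, all elements outside `B` having squares in a cyclic group -/
theorem root (hA : Ss A) (hT : IsSylowIn 2 T A) {y : G} (hy : y ∈ T) (hc : ∀ s ∈ T, s * y = y * s)
    (h2 : y * y = z) (hB : ∀ x, InB u c x → x * b * (x * b) ∈ zpowers y) : ∀ a ∈ A, a * z = z * a := by
  refine h.cent hA hT (iso_of_root hT hy hc h2 h.z1 h.z2 fun s hs h1 => ?_)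
  rcases h.mem _ hs with h3 | ⟨x, hx, rfl⟩
  · exact h.cinv (h.Bsq' h3) h1
  · by_cases h4 : x * b * (x * b) = 1
    · exact Or.inl h4
    · exact Or.inr (inv_uniq (hB x hx) (h2 ▸ mul_mem (mem_zpowers y) (mem_zpowers y)) h1 h4 h.z2 h.z1)

/-- `⟨c, v⟩` has index two -/
theorem idx {v : G} (hvT : v ∈ T)
    (hvu : u * v * u⁻¹ * v⁻¹ ∈ zpowers c) (hb : InB u c (b * v⁻¹)) (hu : u ∉ zpowers c ⊔ zpowers v) :
    (zpowers c ⊔ zpowers v).relIndex T = 2 := by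
  have hn : u ∈ normalizer ((zpowers c ⊔ zpowers v : Subgroup G) : Set G) := by
    refine mem_normalizer_of_conj_le ?_
    rw [conj_sup, conj_zpowers, conj_zpowers, sup_le_iff, zpowers_le, zpowers_le]
    constructor
    · rw [← h.cu.eq, mul_inv_cancel_right]; exact mem_sup_left (mem_zpowers c)
    · rw [show u * v * u⁻¹ = u * v * u⁻¹ * v⁻¹ * v by group]
      exact mul_mem (mem_sup_left hvu) (mem_sup_right (mem_zpowers v))
  have e : (zpowers c ⊔ zpowers v) ⊔ zpowers u = T := by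
    refine le_antisymm (sup_le (sup_le (zpowers_le.2 h.cT) (zpowers_le.2 hvT)) (zpowers_le.2 h.uT)) ?_
    have h1 : ∀ x, InB u c x → x ∈ (zpowers c ⊔ zpowers v) ⊔ zpowers u := by
      rintro x ⟨i, rfl | rfl⟩
      · exact mem_sup_left (mem_sup_left (zpow_mem_zpowers c i))
      · exact mul_mem (mem_sup_right (mem_zpowers u)) (mem_sup_left (mem_sup_left (zpow_mem_zpowers c i)))
    intro x hx
    rcases h.mem x hx with h2 | ⟨y, hy, rfl⟩
    · exact h1 x h2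
    · rw [show y * b = y * (b * v⁻¹) * v by group]
      exact mul_mem (h1 _ (h.Bmul hy hb)) (mem_sup_left (mem_sup_right (mem_zpowers v)))
  rw [← e]
  exact relIndex_sup_zpowers Nat.prime_two hn hu (by rw [pow_two, h.u2]; exact one_mem _)

omit h in
theorem mem_cv {v x : G} (hv : v * c * v⁻¹ = c⁻¹) (hv2 : v * v ∈ zpowers c) (hx : x ∈ zpowers c ⊔ zpowers v) :
    x ∈ zpowers c ∨ ∃ i : ℤ, x = c ^ i * v := by
  rcases (mem_sup_two (mem_normalizer_zpowers (u := -1) (by simpa using hv)) (by rwa [pow_two])).1 hx with h1 | h1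
  · exact Or.inl h1
  · obtain ⟨i, hi⟩ := mem_zpowers_iff.1 h1
    exact Or.inr ⟨i, by rw [hi]; group⟩

omit h [Finite G] in
theorem cv_sq {v : G} (hv : v * c * v⁻¹ = c⁻¹) (i : ℤ) : c ^ i * v * (c ^ i * v) = v * v := by
  rw [show c ^ i * v * (c ^ i * v) = c ^ i * (v * c ^ i * v⁻¹) * (v * v) by group, ← conj_zpow, hv]; group

omit h [Finite G] in
theorem cv_conj {v : G} (hv : v * c * v⁻¹ = c⁻¹) (i : ℤ) : c ^ i * v * (c ^ i)⁻¹ = c ^ (2 * i) * v := by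
  rw [show c ^ i * v * (c ^ i)⁻¹ = c ^ i * (v * c ^ (-i) * v⁻¹) * v by group, ← conj_zpow, hv]; group

/-- quaternion times a central element of order four -/
theorem quat (hA : Ss A) (hT : IsSylowIn 2 T A) (hz : ∀ a ∈ A, a * z = z * a) {v : G} (hv : v * c * v⁻¹ = c⁻¹)
    (hvT : v ∈ T) (hv2 : v * v = z) (hvu : u * v * u⁻¹ * v⁻¹ ∈ zpowers c) (hb : InB u c (b * v⁻¹)) : False := by
  have h1 : ∀ w ∈ zpowers c ⊔ zpowers v, w * w = 1 → w = 1 ∨ w = z := by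
    intro w hw h2
    rcases mem_cv hv (hv2 ▸ h.zc') hw with h3 | ⟨i, rfl⟩
    · exact h.cinv h3 h2
    · rw [cv_sq hv, hv2] at h2; exact absurd h2 h.z1
  have hu : u ∉ zpowers c ⊔ zpowers v := fun e => (h1 u e h.u2).elim h.u1 h.uz
  have hi := h.idx hvT hvu hb hu
  refine hu (tr_cent hA.perf hT (comm_le_two hi) h.uT h.u2 h.uz hz fun w hw h2 h3 h4 => ?_)
  rw [mul_mem_iff_two hi (inv_mem h.uT) hw, inv_mem_iff]
  exact iff_of_false hu fun e => (h1 w e h2).elim h3 h4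

/-- dihedral times a central involution -/
theorem trD (hA : Ss A) (hT : IsSylowIn 2 T A) (hu : b * u * b⁻¹ = u) {v : G} (hv : v * c * v⁻¹ = c⁻¹)
    (hvT : v ∈ T) (hv2 : v * v = 1) (hb : InB u c (b * v⁻¹)) :
    ∃ g ∈ A, g * u * g⁻¹ = z ∨ ∃ i : ℤ, g * u * g⁻¹ = c ^ i * v := by
  by_contra hn
  have h1 : ∀ g ∈ A, g * u * g⁻¹ ∉ zpowers c ⊔ zpowers v := by
    intro g hg e
    rcases mem_cv hv (hv2 ▸ one_mem _) e with h3 | h3
    · exact hn ⟨g, hg, Or.inl ((h.cinv h3 (conj_sq h.u2)).resolve_left (conj_ne h.u1))⟩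
    · exact hn ⟨g, hg, Or.inr h3⟩
  have hu' : u ∉ zpowers c ⊔ zpowers v := by simpa using h1 1 A.one_mem
  have hi := h.idx hvT (by rw [← h.ucent hu v hvT]; simp) hb hu'
  refine hu' (tr1 hA.perf hT (comm_le_two hi) h.uT h.u2 fun g hg hw => ?_)
  rw [mul_mem_iff_two hi (inv_mem h.uT) hw, inv_mem_iff]
  exact iff_of_false hu' (h1 g hg)

theorem dih (hA : Ss A) (hT : IsSylowIn 2 T A) (hu : b * u * b⁻¹ = u) (hc : b * c * b⁻¹ = c⁻¹) (hb : b * b = 1)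
    {t : G} (htA : t ∈ normalizer (A : Set G)) (htz : t * z * t⁻¹ = z) (htu : t * u * t⁻¹ = u * z)
    (htc : t * c * t⁻¹ = c⁻¹) (htb : t * b * t⁻¹ = b * c) : False := by
  have hp : ∀ s ∈ T, s ^ 2 ∈ zpowers c := by
    intro s hs
    rw [pow_two]
    rcases h.mem s hs with h1 | ⟨x, hx, rfl⟩
    · exact h.Bsq' h1
    · rcases h.out_sq hx with e | e <;> rw [e, hb]
      · exact one_mem _
      · simpa using h.zc'
  have hn : (c ^ m) ^ 2 = z := by rw [← h.cm, ← zpow_natCast, ← zpow_mul, mul_comm]; rfl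
  have nf := fun g hg => h.nfus hT hu (zpow_mem h.cT m) hn hp (g := g) hg
  have nf' : ∀ g ∈ A, g * z * g⁻¹ ≠ u := fun g hg e => h.uz (e ▸ nf g hg ⟨0, Or.inr (by simpa using e)⟩)
  have hbc : ∀ i : ℤ, b * c ^ i = c ^ (-i) * b := fun i => by
    rw [← mul_inv_eq_iff_eq_mul, ← conj_zpow, hc]; group
  have hz : ∀ a ∈ A, a * z = z * a := by
    refine h.cent hA hT fun g hg hv => ?_
    rcases h.mem _ hv with h1 | ⟨x, hx, e⟩
    · exact nf g hg h1
    exfalso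
    have hv : x * b * c * (x * b)⁻¹ = c⁻¹ := by
      rw [show x * b * c * (x * b)⁻¹ = x * (b * c * b⁻¹) * x⁻¹ by group, hc, (h.Bc hx).inv_right.eq]; group
    obtain ⟨k, hk⟩ : ∃ k : ℤ, t * (x * b) * t⁻¹ = c ^ (2 * k + 1) * (x * b) := by
      have h1 : ∀ i : ℤ, t * (c ^ i * b) * t⁻¹ = c ^ (2 * (-i - 1) + 1) * (c ^ i * b) := fun i => by
        rw [show t * (c ^ i * b) * t⁻¹ = (t * c ^ i * t⁻¹) * (t * b * t⁻¹) by group, ← conj_zpow, htc, htb,
          show b * c = b * c ^ (1 : ℤ) by simp, hbc]; group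
      obtain ⟨i, rfl | rfl⟩ := hx
      · exact ⟨_, h1 i⟩
      · refine ⟨m - i - 1, ?_⟩
        rw [show t * (u * c ^ i * b) * t⁻¹ = (t * u * t⁻¹) * (t * (c ^ i * b) * t⁻¹) by group, h1, htu, ← h.cm,
          ← mul_assoc (c ^ (2 * (m - i - 1) + 1)), ← mul_assoc (c ^ (2 * (m - i - 1) + 1)), (h.cu.zpow_left _).eq]
        group
    obtain ⟨g', hg', h2 | ⟨i, h2⟩⟩ := h.trD hA hT hu hv (e ▸ ‹_›) (e ▸ conj_sq h.z2)
      (by rw [show b * (x * b)⁻¹ = x⁻¹ by group]; exact h.Binv hx)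
    · exact nf' g'⁻¹ (inv_mem hg') (by rw [← h2]; group)
    · obtain ⟨j, rfl | rfl⟩ := Int.even_or_odd' i
      · refine nf' (g'⁻¹ * c ^ j * g) (mul_mem (mul_mem (inv_mem hg') (hT.le (zpow_mem h.cT j))) hg) ?_
        rw [show g'⁻¹ * c ^ j * g * z * (g'⁻¹ * c ^ j * g)⁻¹ = g'⁻¹ * (c ^ j * (g * z * g⁻¹) * (c ^ j)⁻¹) * g' by
          group, e, cv_conj hv, ← h2]; group
      · refine nf' (g'⁻¹ * c ^ (j - k) * (t * g * t⁻¹)) (mul_mem (mul_mem (inv_mem hg')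
          (hT.le (zpow_mem h.cT _))) (conj_mem_of_mem_normalizer htA hg)) ?_
        have h3 : t⁻¹ * z * t = z := by rw [← htz]; nth_rewrite 2 [htz]; group
        have h4 : ∀ i : ℤ, c ^ (j - k) * (c ^ i * (x * b)) * (c ^ (j - k))⁻¹ =
            c ^ i * (c ^ (j - k) * (x * b) * (c ^ (j - k))⁻¹) := fun i => by group
        rw [show g'⁻¹ * c ^ (j - k) * (t * g * t⁻¹) * z * (g'⁻¹ * c ^ (j - k) * (t * g * t⁻¹))⁻¹ =
          g'⁻¹ * (c ^ (j - k) * (t * (g * (t⁻¹ * z * t) * g⁻¹) * t⁻¹) * (c ^ (j - k))⁻¹) * g' by group, h3, e, hk, h4,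
          cv_conj hv, ← mul_assoc (c ^ (2 * k + 1)), ← zpow_add, show 2 * k + 1 + 2 * (j - k) = 2 * j + 1 by ring, ← h2]
        group
  obtain ⟨g, hg, h2 | ⟨i, h2⟩⟩ := h.trD hA hT hu hc h.bT hb ⟨0, Or.inl (by simp)⟩
  · exact nf' g⁻¹ (inv_mem hg) (by rw [← h2]; group)
  · refine h.z1 (no_swap hT (h.ucent hu) h.zc (g := g⁻¹ * c ^ m * g)
      (mul_mem (mul_mem (inv_mem hg) (hT.le (zpow_mem h.cT m))) hg) ?_
      (hz _ (mul_mem (mul_mem (inv_mem hg) (hT.le (zpow_mem h.cT m))) hg)) h.z2)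
    have h3 : c ^ m * (g * u * g⁻¹) * (c ^ m)⁻¹ = z * (g * u * g⁻¹) := by
      rw [h2, show c ^ m * (c ^ i * b) * (c ^ m)⁻¹ = c ^ i * (c ^ m * b * (c ^ m)⁻¹) by group, cv_conj hc, ← h.cm]
      group
    rw [show g⁻¹ * c ^ m * g * u * (g⁻¹ * c ^ m * g)⁻¹ = g⁻¹ * (c ^ m * (g * u * g⁻¹) * (c ^ m)⁻¹) * g by group, h3,
      ← mul_assoc, hz _ (inv_mem hg), h.zc u h.uT]
    group

end C2

end CA.H14Ss
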