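/-
An involution with `C_T(t) ≅ Z₄` acting on a semisimple group: the case of a normal four-group.
-/
import Cfsg.Agent.Lib.Grp.H14Ss3
import Cfsg.Agent.Lib.Grp.H7Max

set_option autoImplicit false

namespace CA.H14Ss

open Subgroup Cfsg CA.SylIn CA.PGBasic CA.Two CA.MC2 CA.MC3 CA.PGCyclicMax CA.PGNormalCyclic
open scoped commutatorElement

variable {G : Type*} [Group G] [Finite G] {A H S T P : Subgroup G}

/-- Suzuki: an involution with centralizer of order four -/
theorem suz (hG : IsPGroup 2 G) {t r : G} (h1 : t ≠ 1) (h2 : t * t = 1) (h3 : r * r = 1) (h4 : t ≠ r)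
    (hc : ∀ s, s * t = t * s → s = 1 ∨ s = r ∨ s = t ∨ s = r * t) :
    ∃ a, (∀ s, s ∈ zpowers a ∨ s * t⁻¹ ∈ zpowers a) ∧ t ∉ zpowers a := by
  classical
  by_cases hz : ∀ s, s * t = t * s
  · refine ⟨r, fun s => ?_, fun h => ((mem_zpowers_two (by rw [pow_two, h3])).1 h).elim h1 h4⟩
    rcases hc s (hz s) with rfl | rfl | rfl | rfl <;> simp
  obtain ⟨k, hk⟩ := IsPGroup.iff_card.1 hG
  obtain ⟨n, rfl⟩ : ∃ n, k = n + 3 := by
    by_contra hn
    have : k = 0 ∨ k = 1 ∨ k = 2 := by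
      by_contra h
      exact hn ⟨k - 3, by omega⟩
    refine hz fun s => ?_
    rcases this with rfl | rfl | rfl
    · have := (Nat.card_eq_one_iff_unique.1 (by simpa using hk)).1
      exact Subsingleton.elim _ _
    · have := isCyclic_of_prime_card (p := 2) (by simpa using hk)
      exact IsCyclic.isMulCommutative.is_comm.comm s t
    · exact (IsPGroup.isMulCommutative_of_card_eq_prime_sq hk).is_comm.comm s t
  have h5 := CA.H7Max.lcs_ne_bot_of_cent (H := ⊤) (n := n) Nat.prime_two (by simpa using hk) (mem_top t) (by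
    rw [inf_top_eq]
    have : ((centralizer {t} : Subgroup G) : Set G) ⊆ ({1, r, t, r * t} : Finset G) := fun s hs => by
      simpa using hc s (mem_centralizer_singleton_iff.1 hs)
    refine (Nat.card_mono (Set.toFinite _) this).trans ?_
    simpa using Finset.card_le_four)
  obtain ⟨a, y, h, e⟩ := CA.H7Max.mc3_of_class hk h5
  obtain ⟨ε, δ, h⟩ := h.exists
  have h6 : t ∉ zpowers a := fun h6 => hz fun s => by
    rw [h.eq_z h6 (by rw [pow_two, h2]) h1]; exact h.z_central (e ▸ mem_top s)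
  obtain ⟨δ', h', e'⟩ := h.out (e ▸ mem_top t) h6
  refine ⟨a, fun s => ?_, h6⟩
  obtain ⟨i, rfl | rfl⟩ := h'.mem_iff.1 (e' ▸ e ▸ mem_top s) <;> simp

/-- membership in `{1, z, u, uz}` -/
def InU (z u x : G) : Prop := x = 1 ∨ x = z ∨ x = u ∨ x = u * z

namespace Fr
variable {z u : G} (F : Fr S T z u) (hTS : T ≤ S)
include F hTS

omit [Finite G] in
theorem zu : z * u = u * z := (F.zc u (hTS F.uT)).symm

theorem memU {x : G} : x ∈ zpowers z ⊔ zpowers u ↔ InU z u x := by
  have hz : z ^ 2 = 1 := by rw [pow_two, F.z2]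
  rw [mem_sup_two (mem_normalizer_zpowers (u := 1) (by simp [← F.zu hTS])) (by rw [pow_two, F.u2]; exact one_mem _),
    mem_zpowers_two hz, mem_zpowers_two hz, mul_inv_eq_one, mul_inv_eq_iff_eq_mul, F.zu hTS, InU, or_assoc]

theorem norm : S ≤ normalizer ((zpowers z ⊔ zpowers u : Subgroup G) : Set G) := fun s hs => by
  refine mem_normalizer_of_conj_le ?_
  rw [conj_sup, conj_zpowers, conj_zpowers, sup_le_iff, zpowers_le, zpowers_le, F.memU hTS, F.memU hTS, F.zc s hs]
  exact ⟨Or.inr (Or.inl (by simp)), Or.inr (Or.inr (F.uc s hs))⟩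

theorem exists_a (hS : IsPGroup 2 S) {t r : G} (ht : t ∈ S) (hr : r ∈ T) (htT : t ∉ T) (h2 : t * t = 1)
    (h3 : r * r = z) (hc : ∀ s ∈ S, s * t * s⁻¹ * t⁻¹ ∈ zpowers z ⊔ zpowers u → ∃ e ∈ zpowers z ⊔ zpowers u,
      s = e ∨ s = e * r ∨ s = e * t ∨ s = e * (r * t)) :
    ∃ a ∈ S, (∀ s ∈ S, s ∈ (zpowers z ⊔ zpowers u) ⊔ zpowers a ∨ s * t⁻¹ ∈ (zpowers z ⊔ zpowers u) ⊔ zpowers a) ∧
      t ∉ (zpowers z ⊔ zpowers u) ⊔ zpowers a := by
  set U := zpowers z ⊔ zpowers u with hU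
  have hUT : U ≤ T := sup_le (zpowers_le.2 F.zT) (zpowers_le.2 F.uT)
  have hn : (U.subgroupOf S).Normal := (normal_subgroupOf_iff_le_normalizer (hUT.trans hTS)).2 (F.norm hTS)
  set φ := QuotientGroup.mk' (U.subgroupOf S)
  have hk : ∀ x : S, φ x = 1 ↔ (x : G) ∈ U := fun x => QuotientGroup.eq_one_iff x
  have hm : ∀ a x : S, φ x ∈ zpowers (φ a) ↔ (x : G) ∈ U ⊔ zpowers (a : G) := fun a x => by
    rw [mem_sup_zpowers (F.norm hTS a.2), mem_zpowers_iff]
    constructor
    · rintro ⟨k, e⟩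
      refine ⟨x * ((a : G) ^ k)⁻¹, ?_, k, by group⟩
      have := (hk (x * (a ^ k)⁻¹)).1 (by rw [map_mul, map_inv, map_zpow, e, mul_inv_cancel])
      simpa using this
    · rintro ⟨n, hn', k, e⟩
      refine ⟨k, ?_⟩
      rw [show x = ⟨n, hTS (hUT hn')⟩ * a ^ k from Subtype.ext (by simpa using e), map_mul, (hk ⟨n, _⟩).2 hn', one_mul,
        map_zpow]
  obtain ⟨a, h4, h5⟩ := suz (hS.to_quotient (U.subgroupOf S)) (t := φ ⟨t, ht⟩) (r := φ ⟨r, hTS hr⟩)
    (fun e => htT (hUT ((hk _).1 e))) (by rw [← map_mul, hk]; simp [h2])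
    (by rw [← map_mul, hk]; simpa [h3] using mem_sup_left (mem_zpowers z))
    (fun e => htT (by
      rw [← mul_inv_eq_one, ← map_inv, ← map_mul, hk] at e
      exact (mul_mem_cancel_right (inv_mem hr)).1 (hUT e))) (fun s hs => by
      obtain ⟨s, rfl⟩ := QuotientGroup.mk'_surjective _ s
      obtain ⟨e, he, h⟩ := hc s s.2 ((hk (s * ⟨t, ht⟩ * s⁻¹ * (⟨t, ht⟩ : S)⁻¹)).1 (by
        simp only [map_mul, map_inv]; rw [show φ s * φ ⟨t, ht⟩ = φ ⟨t, ht⟩ * φ s from hs]; group))
      have h6 : φ ⟨e, hTS (hUT he)⟩ = 1 := (hk _).2 he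
      rcases h with h | h | h | h
      · left; rw [← h6]; exact congrArg φ (Subtype.ext h)
      · right; left; rw [← one_mul (φ ⟨r, _⟩), ← h6, ← map_mul]; exact congrArg φ (Subtype.ext h)
      · right; right; left; rw [← one_mul (φ ⟨t, _⟩), ← h6, ← map_mul]; exact congrArg φ (Subtype.ext h)
      · right; right; right
        rw [← one_mul (φ ⟨r, _⟩ * _), ← h6, ← map_mul, ← map_mul]; exact congrArg φ (Subtype.ext h))
  obtain ⟨a, rfl⟩ := QuotientGroup.mk'_surjective _ a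
  refine ⟨a, a.2, fun s hs => (h4 (φ ⟨s, hs⟩)).imp (hm a _).1 fun h => ?_, fun h => h5 ((hm a _).2 h)⟩
  rw [← map_inv, ← map_mul] at h
  exact (hm a _).1 h

omit [Finite G] hTS in
theorem Ucomm {e x : G} (he : InU z u e) (hx : x ∈ S) (h : x * u = u * x) : Commute x e := by
  rcases he with rfl | rfl | rfl | rfl
  · exact Commute.one_right x
  · exact F.zc x hx
  · exact h
  · exact Commute.mul_right h (F.zc x hx)

omit [Finite G] in
theorem Usq {e : G} (he : InU z u e) : e * e = 1 := by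
  rcases he with rfl | rfl | rfl | rfl
  · simp
  · exact F.z2
  · exact F.u2
  · rw [mul_assoc, ← mul_assoc z, F.zu hTS, mul_assoc, F.z2, mul_one, F.u2]

theorem c1 (hA : Ss A) (hT : IsSylowIn 2 T A) {a r : G} (ha : a ∈ T)
    (hm : ∀ x ∈ T, x ∈ (zpowers z ⊔ zpowers u) ⊔ zpowers a) (hr : r ∈ T) (h3 : r * r = z) (hru : r * u = u * r) :
    False := by
  obtain ⟨e, he, k, hk⟩ := (mem_sup_zpowers (F.norm hTS (hTS ha))).1 (hm r hr)
  rw [F.memU hTS] at he
  have h1 : a ^ k = e⁻¹ * r := by rw [hk]; group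
  have h2 : Commute u (a ^ k) := h1 ▸ (F.Ucomm he (hTS F.uT) rfl).inv_right.mul_right hru.symm
  have h4 : a ^ k * a ^ k = z := by
    rw [h1, inv_eq_of_mul_eq_one_right (F.Usq hTS he), mul_assoc, ← mul_assoc r, (F.Ucomm he (hTS hr) hru).eq,
      ← mul_assoc, ← mul_assoc, F.Usq hTS he, one_mul, h3]
  have h5 : z ∈ zpowers a := h4 ▸ mul_mem (zpow_mem_zpowers a k) (zpow_mem_zpowers a k)
  have h6 : u ∉ zpowers a := fun h => F.uz (inv_uniq h h5 F.u2 F.u1 F.z2 F.z1)
  have hn : u ∈ normalizer (zpowers a : Set G) := by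
    refine mem_normalizer_of_conj_le ?_
    rw [conj_zpowers, zpowers_le, inv_eq_of_mul_eq_one_right F.u2, mul_assoc]
    rcases F.uc a (hTS ha) with h | h <;> rw [mul_inv_eq_iff_eq_mul.1 h, ← mul_assoc]
    · rw [F.u2, one_mul]; exact mem_zpowers a
    · rw [← mul_assoc, F.u2, one_mul]; exact mul_mem h5 (mem_zpowers a)
  have e1 : zpowers a ⊔ zpowers u = T := le_antisymm (sup_le (zpowers_le.2 ha) (zpowers_le.2 F.uT)) fun x hx =>
    (sup_le (sup_le (zpowers_le.2 (mem_sup_left h5)) le_sup_right) le_sup_left :) (hm x hx)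
  have hi : (zpowers a).relIndex T = 2 :=
    e1 ▸ relIndex_sup_zpowers Nat.prime_two hn h6 (by rw [pow_two, F.u2]; exact one_mem _)
  have h7 : T ≤ centralizer {a ^ k} := e1 ▸ sup_le (zpowers_le.2 (mem_centralizer_singleton_iff.2
    ((Commute.refl a).zpow_right k))) (zpowers_le.2 (mem_centralizer_singleton_iff.2 h2))
  have hz := hA.zs A T le_rfl A.le_normalizer hT z F.zT (hT.le F.zT) (H13Inv.orderOf_eq_two_iff.2 ⟨F.z2, F.z1⟩)
    (iso_of_root hT (zpow_mem ha k) (fun s hs => mem_centralizer_singleton_iff.1 (h7 hs)) h4 F.z1 F.z2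
      fun s hs h8 => by
        by_cases h9 : s * s = 1
        · exact Or.inl h9
        · exact Or.inr (inv_uniq ((mul_mem_iff_two hi hs hs).2 Iff.rfl) h5 h8 h9 F.z2 F.z1))
  refine h6 (tr_cent hA.perf hT (comm_le_two hi) F.uT F.u2 F.uz hz fun v hv h8 h9 h10 => ?_)
  rw [mul_mem_iff_two hi (inv_mem F.uT) hv, inv_mem_iff]
  exact iff_of_false h6 fun h => h10 (inv_uniq h h5 h8 h9 F.z2 F.z1)

end Fr

omit [Finite G] in
theorem bcb {a t : G} (h2 : t * t = 1) : a * t * (a * a) * (a * t)⁻¹ =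
    a * t * (a * t) * (a⁻¹ * (a * t * (a * t)) * a) * (a * a)⁻¹ := by
  rw [show a * t * (a * t) * (a⁻¹ * (a * t * (a * t)) * a) * (a * a)⁻¹ = a * t * a * (t * t) * a * (t * t) * t⁻¹ * a⁻¹ by
    group, h2]; group

theorem case2 (hA : Ss A) (hT : IsSylowIn 2 T A) {z u a t r e : G} {m : ℤ} (h : C2 T z u (a * a) (a * t) m)
    (hr : InB u (a * a) r) (h3 : r * r = z) (hrt : t * r = r * t) (h2 : t * t = 1)
    (htA : t ∈ normalizer (A : Set G)) (htz : t * z = z * t) (htu : t * u * t⁻¹ = u * z) (haz : a * z = z * a)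
    (hau : a * u * a⁻¹ = u ∨ a * u * a⁻¹ = u * z) (he : InU z u e)
    (hf : a * t * (a * t) = e ∨ a * t * (a * t) = e * r) : False := by
  have hbc := bcb (a := a) h2
  have hbu : a * t * u * (a * t)⁻¹ = a * u * a⁻¹ * z := by
    rw [show a * t * u * (a * t)⁻¹ = a * (t * u * t⁻¹) * a⁻¹ by group, htu, mul_assoc a, mul_assoc u,
      (show Commute a z from haz).inv_left.eq.symm]; group
  have htb : t * (a * t) * t⁻¹ = (a * t)⁻¹ * (a * a) := by
    rw [mul_inv_rev, inv_eq_of_mul_eq_one_right h2, mul_assoc, mul_assoc, h2]; group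
  have htc : t * (a * a) * t⁻¹ = a⁻¹ * (a * t * (a * t)) * a⁻¹ * (a * t * (a * t)) := by
    rw [show a⁻¹ * (a * t * (a * t)) * a⁻¹ * (a * t * (a * t)) = t * a * (t * t) * a * (t * t) * t⁻¹ by group, h2]; group
  set c := a * a
  set b := a * t with hb
  have zi : z⁻¹ = z := inv_eq_of_mul_eq_one_right h.z2
  have hrT := h.Bmem hr
  have hrz := h.zc r hrT
  have huz := h.zc u h.uT
  have cB : InB u c c := ⟨1, Or.inl (by simp)⟩
  have out : ∀ {y : G}, b * b ∈ zpowers y → y * y = z → ∀ x, InB u c x → x * b * (x * b) ∈ zpowers y := by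
    intro y h4 h5 x hx
    rcases h.out_sq hx with e | e <;> rw [e]
    · exact h4
    · exact mul_mem (h5 ▸ mul_mem (mem_zpowers y) (mem_zpowers y)) h4
  have out1 : b * b ≠ 1 → b * b ≠ z → ∀ x, InB u c x → x * b * (x * b) ≠ 1 := by
    intro h4 h5 x hx
    rcases h.out_sq hx with e | e <;> rw [e]
    · exact h4
    · exact fun e => h5 (by rw [← zi, eq_inv_of_mul_eq_one_right e])
  have cen : ∀ y, InB u c y → b * y = y * b → ∀ s ∈ T, s * y = y * s := by
    intro y hy h4 s hs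
    rcases h.mem s hs with h1 | ⟨x, hx, rfl⟩
    · exact h.Bcomm h1 hy
    · exact (h.Bcomm hx hy).mul_left h4
  have eB : InB u c e := by
    rcases he with rfl | rfl | rfl | rfl
    · exact ⟨0, Or.inl (by simp)⟩
    · exact ⟨_, Or.inl h.cm.symm⟩
    · exact ⟨0, Or.inr (by simp)⟩
    · exact ⟨_, Or.inr (by rw [h.cm])⟩
  have e2 : e * e = 1 := by
    rcases he with rfl | rfl | rfl | rfl
    · simp
    · exact h.z2
    · exact h.u2
    · rw [mul_assoc, ← mul_assoc z, ← huz, mul_assoc, h.z2, mul_one, h.u2]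
  have er : e * r * (e * r) = z := by
    rw [mul_assoc, ← mul_assoc r, (h.Bcomm hr eB).eq, ← mul_assoc, ← mul_assoc, e2, one_mul, h3]
  have ne : ∀ {y : G}, y * y = z → y ≠ 1 ∧ y ≠ z := fun h4 =>
    ⟨fun e => h.z1 (by rw [← h4, e, mul_one]), fun e => h.z1 (by rw [← h4, e, h.z2])⟩
  rcases hau with hau | hau
  · -- `r` is central in `T`
    rw [hau] at hbu
    have aB : ∀ x, InB u c x → Commute a x := by
      have h4 : Commute a c := (Commute.refl a).mul_right (Commute.refl a)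
      rintro x ⟨i, rfl | rfl⟩
      · exact h4.zpow_right i
      · exact Commute.mul_right (mul_inv_eq_iff_eq_mul.1 hau) (h4.zpow_right i)
    have hbr : Commute b r := (aB r hr).mul_left hrt
    have hbe : e = 1 ∨ e = z := by
      have h4 : Commute b e := by
        have h5 : Commute b (b * b) := (Commute.refl b).mul_right (Commute.refl b)
        rcases hf with h6 | h6 <;> rw [h6] at h5
        · exact h5
        · simpa using h5.mul_right hbr.inv_right
      have h5 : ¬ Commute b u := fun h6 => h.z1 (by rw [h6.eq, mul_inv_cancel_right] at hbu; simpa using hbu)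
      rcases he with rfl | rfl | rfl | rfl
      · exact Or.inl rfl
      · exact Or.inr rfl
      · exact absurd h4 h5
      · refine absurd ?_ h5
        simpa using h4.mul_right (show Commute b z from h.zc b h.bT).inv_right
    have hz := h.root hA hT hrT (cen r hr hbr) h3 (out (by
      have h4 : e ∈ zpowers r := by
        rcases hbe with rfl | rfl
        · exact one_mem _
        · exact h3 ▸ mul_mem (mem_zpowers r) (mem_zpowers r)
      rcases hf with h6 | h6 <;> rw [h6]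
      · exact h4
      · exact mul_mem h4 (mem_zpowers r)) h3)
    rcases hf with hf | hf
    swap
    · exact h.fin hA hT hz (out1 (hf ▸ (ne er).1) (hf ▸ (ne er).2))
    rw [hf, mul_assoc a⁻¹, ← (aB e eB).eq, inv_mul_cancel_left, e2, one_mul] at hbc
    have hvu : ∀ v ∈ T, u * v * u⁻¹ * v⁻¹ ∈ zpowers c := fun v hv => h.comm_le (commutator_mem_commutator h.uT hv)
    rcases hbe with rfl | rfl
    · refine h.quat hA hT hz (v := b * r) ?_ (mul_mem h.bT hrT) ?_ (hvu _ (mul_mem h.bT hrT)) ?_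
      · rw [show b * r * c * (b * r)⁻¹ = b * (r * c * r⁻¹) * b⁻¹ by group, (h.Bc hr).eq, mul_inv_cancel_right, hbc]
      · rw [mul_assoc, ← mul_assoc r, ← hbr.eq, ← mul_assoc, ← mul_assoc, hf, one_mul, h3]
      · rw [hbr.eq, show b * (r * b)⁻¹ = r⁻¹ by group]; exact h.Binv hr
    · exact h.quat hA hT hz hbc h.bT hf (hvu _ h.bT) ⟨0, Or.inl (by simp)⟩
  · -- `u` is central in `T`
    rw [hau, mul_assoc u, h.z2, mul_one] at hbu
    rcases hf with hf | hf
    swap
    · have hz := h.root hA hT (h.Bmem (h.Bmul eB hr)) (cen _ (h.Bmul eB hr) (by rw [← hf, mul_assoc b b b])) er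
        (out (hf ▸ mem_zpowers _) er)
      exact h.fin hA hT hz (out1 (hf ▸ (ne er).1) (hf ▸ (ne er).2))
    have haz' : a⁻¹ * z * a = z := by rw [mul_assoc, ← haz]; group
    have hau' : a⁻¹ * u * a = u * z := by
      have : a * (u * z) * a⁻¹ = u := by
        rw [← mul_assoc, mul_assoc _ z, (show Commute a z from haz).inv_left.eq.symm, ← mul_assoc, hau, mul_assoc,
          h.z2, mul_one]
      rw [← this]; nth_rewrite 2 [this]; group
    have last : b * b ≠ 1 → b * b ≠ z → b * c * b⁻¹ = z * c⁻¹ → False := by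
      intro h4 h5 h6
      by_cases h7 : c * c = z
      · have h8 : b * c = c * b := by rw [← mul_inv_eq_iff_eq_mul, h6, ← h7]; group
        have h9 : ∀ x, InB u c x → b * x = x * b := by
          rintro x ⟨i, rfl | rfl⟩
          · exact (show Commute b c from h8).zpow_right i
          · exact Commute.mul_right (mul_inv_eq_iff_eq_mul.1 hbu) ((show Commute b c from h8).zpow_right i)
        refine h.fin hA hT (h7 ▸ hA.ab T hT (fun x hx y hy => ?_) c h.cT) (out1 h4 h5)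
        rcases h.mem y hy with h1 | ⟨y, h1, rfl⟩
        · exact cen y h1 (h9 y h1) x hx
        · refine Commute.mul_right (cen y h1 (h9 y h1) x hx) ?_
          rcases h.mem x hx with h10 | ⟨x, h10, rfl⟩
          · exact (h9 x h10).symm
          · exact Commute.mul_left (h9 x h10).symm rfl
      obtain ⟨j, rfl | rfl⟩ := Int.even_or_odd' m
      · refine h.isoB hA hT hbu (n := 4) (zpow_mem h.cT j) (by rw [← h.cm, ← zpow_natCast, ← zpow_mul]; congr 1; omega)
          (fun s hs => ?_) (out1 h4 h5)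
        rw [show s ^ 4 = s * s * (s * s) by simp only [pow_succ, pow_zero, one_mul, mul_assoc]]
        rcases h.mem s hs with h1 | ⟨x, hx, rfl⟩
        · exact mul_mem (h.Bsq' h1) (h.Bsq' h1)
        · rcases h.out_sq hx with h8 | h8 <;> rw [h8, hf]
          · rw [e2]; exact one_mem _
          · rw [mul_assoc, ← mul_assoc e, h.zc e (h.Bmem eB), ← mul_assoc, ← mul_assoc, h.z2, one_mul, e2]
            exact one_mem _
      · obtain ⟨n, hn⟩ := IsPGroup.iff_orderOf.1 hT.isPGroup ⟨c, h.cT⟩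
        rw [← orderOf_coe] at hn
        have h8 : (c ^ 4) ^ (2 * j + 1) = 1 := by
          rw [← h.z2, ← h.cm, ← zpow_natCast, ← zpow_mul, ← zpow_add]; congr 1; omega
        have h9 : c ^ 4 = 1 := by
          have h10 := orderOf_dvd_iff_zpow_eq_one.2 h8
          have h11 : orderOf (c ^ 4) ∣ 2 ^ n := hn ▸ orderOf_pow_dvd 4
          rw [← orderOf_eq_one_iff]
          obtain ⟨k, -, hk⟩ := (Nat.dvd_prime_pow Nat.prime_two).1 h11
          rcases k with _ | k
          · simpa using hk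
          · rw [hk] at h10
            have := (Dvd.intro_left _ rfl : (2 : ℤ) ∣ 2 ^ k * 2).trans (by simpa [pow_succ] using h10)
            omega
        apply h7
        rw [← h.cm, show 2 * (2 * j + 1) = (4 : ℕ) * j + 2 by omega, zpow_add, zpow_mul, zpow_natCast, h9, one_zpow,
          one_mul, zpow_two]
    have nu : ∀ x, x ∈ zpowers z → u ≠ x := fun x hx e => h.uc (zpowers_le.2 h.zc' (e ▸ hx))
    rcases he with rfl | rfl | rfl | rfl
    · rw [hf] at hbc htc
      refine h.dih hA hT hbu (by rw [hbc]; group) hf htA (by rw [htz]; group) htu (by rw [htc]; simp [c]) ?_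
      rw [htb, inv_eq_of_mul_eq_one_right hf]
    · rw [hf, haz', h.z2, one_mul] at hbc
      refine h.isoB hA hT hbu (n := 2) (zpow_mem h.cT m) (by rw [← h.cm, ← zpow_natCast, ← zpow_mul, mul_comm]; rfl)
        (fun s hs => ?_) ?_
      · rw [pow_two]
        rcases h.mem s hs with h1 | ⟨x, hx, rfl⟩
        · exact h.Bsq' h1
        · rcases h.out_sq hx with h8 | h8 <;> rw [h8, hf]
          · exact h.zc'
          · exact mul_mem h.zc' h.zc'
      · rintro x ⟨i, rfl | rfl⟩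
        · rw [C2.cv_sq hbc, hf]; exact h.z1
        · rw [mul_assoc u, mul_assoc u, ← mul_assoc _ u, h.ucent hbu _ (mul_mem (zpow_mem h.cT i) h.bT), mul_assoc u,
            ← mul_assoc u, h.u2, one_mul, C2.cv_sq hbc, hf]
          exact h.z1
    · exact last (hf ▸ h.u1) (hf ▸ h.uz) (by rw [hbc, hf, hau', ← mul_assoc e, h.u2, one_mul])
    · refine last (hf ▸ fun h4 => h.uz (by rw [← zi, eq_inv_of_mul_eq_one_left h4])) (hf ▸ fun h4 => h.u1 (by simpa using h4)) ?_
      rw [hbc, hf, show a⁻¹ * (u * z) * a = (a⁻¹ * u * a) * (a⁻¹ * z * a) by group, hau', haz', ← mul_assoc (u * z), e2,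
        one_mul]

theorem four_case (hA : Ss A) (hT : IsSylowIn 2 T A) {t z u r : G} (htA : t ∈ normalizer (A : Set G))
    (htT : t ∈ normalizer (T : Set G)) (h2 : t * t = 1) (F : Fr (T ⊔ zpowers t) T z u) (hr : r ∈ T)
    (hr4 : orderOf r = 4) (hrt : t * r = r * t) (hC : ∀ s ∈ T, t * s = s * t → s ∈ zpowers r) : False := by
  have hS := (syl_sup hT htA htT h2).isPGroup
  have mS : ∀ s, s ∈ T ⊔ zpowers t ↔ s ∈ T ∨ s * t⁻¹ ∈ T := fun s =>
    mem_sup_two htT (by rw [pow_two, h2]; exact one_mem _)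
  have hTS : T ≤ T ⊔ zpowers t := le_sup_left
  have htS : t ∈ T ⊔ zpowers t := mem_sup_right (mem_zpowers t)
  generalize T ⊔ zpowers t = S at *
  have hti : t⁻¹ = t := inv_eq_of_mul_eq_one_right h2
  have ui : u⁻¹ = u := inv_eq_of_mul_eq_one_right F.u2
  have r4 : r * r * (r * r) = 1 := by
    rw [← pow_orderOf_eq_one r, hr4]; simp only [pow_succ, pow_zero, one_mul, mul_assoc]
  have r2 : r * r ≠ 1 := fun e => by
    have := orderOf_dvd_of_pow_eq_one (show r ^ 2 = 1 by rw [pow_two, e])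
    rw [hr4] at this; omega
  have htz := F.zc t htS
  have hz : z ∈ zpowers r := hC z F.zT htz
  have h3 : r * r = z := inv_uniq (mul_mem (mem_zpowers r) (mem_zpowers r)) hz r4 r2 F.z2 F.z1
  have hur : u ∉ zpowers r := fun h => F.uz (inv_uniq h hz F.u2 F.u1 F.z2 F.z1)
  have htu : t * u * t⁻¹ = u * z := (F.uc t htS).resolve_left fun e => hur (hC u F.uT (mul_inv_eq_iff_eq_mul.1 e))
  have htu' : t * u ≠ u * t := fun e => F.z1 (by rw [e, mul_inv_cancel_right] at htu; simpa using htu)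
  have htT' : t ∉ T := fun h => by
    by_cases h1 : t = 1
    · exact htu' (by simp [h1])
    · exact htu' (by rw [inv_uniq (hC t h rfl) hz h2 h1 F.z2 F.z1, F.zu hTS])
  have hn := F.norm hTS
  have mU := fun x => F.memU hTS (x := x)
  have ea := F.exists_a hTS hS htS hr htT' h2 h3
  have c1 := fun a => F.c1 hTS hA hT (a := a) (r := r)
  have hUT : zpowers z ⊔ zpowers u ≤ T := sup_le (zpowers_le.2 F.zT) (zpowers_le.2 F.uT)
  have hzU : z ∈ zpowers z ⊔ zpowers u := mem_sup_left (mem_zpowers z)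
  have huU : u ∈ zpowers z ⊔ zpowers u := mem_sup_right (mem_zpowers u)
  have hUr : ∀ a, a ∈ T → z ∈ zpowers a → T ≤ (zpowers z ⊔ zpowers u) ⊔ zpowers a → zpowers a ⊔ zpowers u = T :=
    fun a ha h5 hm => le_antisymm (sup_le (zpowers_le.2 ha) (zpowers_le.2 F.uT))
      (hm.trans (sup_le (sup_le (zpowers_le.2 (mem_sup_left h5)) le_sup_right) le_sup_left))
  generalize zpowers z ⊔ zpowers u = U at *
  have hrr : ∀ x ∈ zpowers r, ∃ e ∈ U, x = e ∨ x = e * r := fun x hx => by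
    rcases (mem_sup_two (hn (hTS hr)) (by rw [pow_two, h3]; exact hzU)).1 (mem_sup_right hx) with h | h
    · exact ⟨x, h, Or.inl rfl⟩
    · exact ⟨_, h, Or.inr (by group)⟩
  have C4 : ∀ s ∈ T, s * t * s⁻¹ * t⁻¹ ∈ U → ∃ e ∈ U, s = e ∨ s = e * r := by
    intro s hs h
    have h4 : s * t * s⁻¹ * t⁻¹ * (t * (s * t * s⁻¹ * t⁻¹) * t⁻¹) = 1 := by
      rw [show s * t * s⁻¹ * t⁻¹ * (t * (s * t * s⁻¹ * t⁻¹) * t⁻¹) = s * (t * t) * s⁻¹ * (t * t)⁻¹ by group, h2]; group
    rcases (mU _).1 h with h | h | h | h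
    · exact hrr s (hC s hs (by rw [mul_inv_eq_one, mul_inv_eq_iff_eq_mul] at h; exact h.symm))
    · obtain ⟨e, he, h5⟩ := hrr (u * s) (hC _ (mul_mem F.uT hs) (by
        rw [mul_inv_eq_iff_eq_mul, mul_inv_eq_iff_eq_mul] at h
        rw [mul_assoc u, h, ← mul_assoc t, mul_inv_eq_iff_eq_mul.1 htu]; group))
      refine ⟨u⁻¹ * e, mul_mem (inv_mem huU) he, h5.imp (fun h6 => ?_) fun h6 => ?_⟩
      · rw [← h6]; group
      · rw [mul_assoc, ← h6]; group
    · rw [h, htu, ← mul_assoc, F.u2, one_mul] at h4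
      exact absurd h4 F.z1
    · rw [h, show t * (u * z) * t⁻¹ = t * u * t⁻¹ * (t * z * t⁻¹) by group, htu, htz, mul_inv_cancel_right,
        ← mul_assoc, F.Usq hTS (Or.inr (Or.inr (Or.inr rfl))), one_mul] at h4
      exact absurd h4 F.z1
  obtain ⟨a, ha, hK, htK⟩ := ea fun s hs h => by
    rcases (mS s).1 hs with h4 | h4
    · obtain ⟨e, he, h5⟩ := C4 s h4 h
      exact ⟨e, he, h5.imp_right Or.inl⟩
    · obtain ⟨e, he, h5⟩ := C4 _ h4 (by rwa [show s * t⁻¹ * t * (s * t⁻¹)⁻¹ * t⁻¹ = s * t * s⁻¹ * t⁻¹ by group])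
      refine ⟨e, he, Or.inr (Or.inr (h5.imp (fun h6 => ?_) fun h6 => ?_))⟩
      · rw [← h6]; group
      · rw [← mul_assoc, ← h6]; group
  have nT : ∀ x ∈ T, x * t⁻¹ ∉ T := fun x hx h => htT' (inv_mem_iff.1 ((mul_mem_cancel_left hx).1 h))
  obtain ⟨w, hw, hwK⟩ : ∃ w, (w = r ∨ w = r * t⁻¹) ∧ w ∈ U ⊔ zpowers a :=
    (hK r (hTS hr)).elim (fun h => ⟨_, Or.inl rfl, h⟩) fun h => ⟨_, Or.inr rfl, h⟩
  obtain ⟨e, he, k, hk⟩ := (mem_sup_zpowers (hn ha)).1 hwK
  obtain ⟨j, rfl | rfl⟩ := Int.even_or_odd' k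
  swap
  · -- `T = U⟨r⟩`
    have h4 : U ⊔ zpowers a ≤ U ⊔ zpowers w := by
      refine sup_le le_sup_left (zpowers_le.2 ?_)
      obtain ⟨n, h5⟩ := IsPGroup.iff_orderOf.1 hS ⟨a, ha⟩
      rw [← orderOf_coe] at h5
      have h6 : a ∈ zpowers (a ^ (2 * j + 1)) := by
        rw [mem_zpowers_zpow_iff, h5]
        push_cast
        exact Int.isCoprime_iff_gcd_eq_one.1 (IsCoprime.pow_right ⟨1, -j, by ring⟩)
      refine (zpowers_le.2 ?_ : zpowers _ ≤ _) h6
      rw [show a ^ (2 * j + 1) = e⁻¹ * w by rw [hk]; group]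
      exact mul_mem (mem_sup_left (inv_mem he)) (mem_sup_right (mem_zpowers w))
    have hm : T ≤ U ⊔ zpowers r := by
      intro s hs
      rcases hw with rfl | rfl
      · exact (hK s (hTS hs)).elim (fun h => h4 h) fun h => absurd (sup_le hUT (zpowers_le.2 hr) (h4 h)) (nT s hs)
      · have h5 := fun x => mem_sup_two (g := x) (hn (mul_mem (hTS hr) (inv_mem htS))) (by
          rw [pow_two, hti, mul_assoc, ← mul_assoc t, hrt, mul_assoc, h2, mul_one, h3]; exact hzU)
        rcases hK s (hTS hs) with h | h <;> rcases (h5 _).1 (h4 h) with h | h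
        · exact mem_sup_left h
        · refine absurd ?_ htT'
          have := mul_mem (mul_mem (inv_mem hs) (hUT h)) hr
          rwa [show s⁻¹ * (s * (r * t⁻¹)⁻¹) * r = t by group] at this
        · exact absurd (hUT h) (nT s hs)
        · rw [show s = s * t⁻¹ * (r * t⁻¹)⁻¹ * r by group]
          exact mul_mem (mem_sup_left h) (mem_sup_right (mem_zpowers r))
    rcases F.uc r (hTS hr) with h | h
    · exact c1 r hr hm hr h3 (mul_inv_eq_iff_eq_mul.1 h)
    · refine mc_cent4 (m := 1) (ε := 0) hA hT ⟨hr4, hur, ?_, by simp [pow_two, F.u2], by simp⟩ (hUr r hr hz hm)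
        htA htT h2 hr hrt (by rw [pow_one, zpow_two]) (by rw [hrt]; group) (by rw [htu, h])
      rw [ui, mul_assoc, mul_inv_eq_iff_eq_mul.1 h, ← mul_assoc, ← mul_assoc, F.u2, one_mul, ← h3]
      simpa [eq_inv_iff_mul_eq_one, mul_assoc] using r4
  have haz := F.zc a ha
  have hau := F.uc a ha
  have cT : a * a ∈ T := by
    rcases (mS a).1 ha with h | h
    · exact mul_mem h h
    · have := mul_mem h (conj_mem_of_mem_normalizer htT h)
      rwa [show a * t⁻¹ * (t * (a * t⁻¹) * t⁻¹) = a * a * (t * t)⁻¹ by group, h2, inv_one, mul_one] at this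
  have cu : Commute (a * a) u := by
    rw [Commute, SemiconjBy, ← mul_inv_eq_iff_eq_mul, show a * a * u * (a * a)⁻¹ = a * (a * u * a⁻¹) * a⁻¹ by group]
    rcases hau with h | h
    · rw [h, h]
    · rw [h, show a * (u * z) * a⁻¹ = a * u * a⁻¹ * (a * z * a⁻¹) by group, h, haz, mul_inv_cancel_right, mul_assoc,
        F.z2, mul_one]
  have ev : ∀ i : ℤ, a ^ (2 * i) = (a * a) ^ i := fun i => by rw [zpow_mul, zpow_two]
  rw [ev] at hk
  obtain rfl : w = r := hw.resolve_right fun h => nT r hr (h ▸ hk ▸ mul_mem (hUT he) (zpow_mem cT j))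
  have he' := (mU e).1 he
  have hru : w * u = u * w := hk ▸ ((F.Ucomm he' (hTS F.uT) rfl).symm.mul_left (cu.zpow_left j))
  by_cases haT : a ∈ T
  · exact c1 a haT (fun x hx => (hK x (hTS hx)).resolve_right fun h => nT x hx (sup_le hUT (zpowers_le.2 haT) h))
      hr h3 hru
  have bT : a * t ∈ T := hti ▸ ((mS a).1 ha).resolve_left haT
  have cm : (a * a) ^ (2 * j) = z := by
    rw [two_mul, zpow_add, show (a * a) ^ j = e⁻¹ * w by rw [hk]; group, inv_eq_of_mul_eq_one_right (F.Usq hTS he'),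
      mul_assoc, ← mul_assoc w, (F.Ucomm he' (hTS hr) hru).eq, ← mul_assoc, ← mul_assoc, F.Usq hTS he', one_mul, h3]
  have UB : ∀ x ∈ U, ∀ i : ℤ, InB u (a * a) (x * (a * a) ^ i) := by
    intro x hx i
    rcases (mU x).1 hx with rfl | rfl | rfl | rfl
    · exact ⟨i, Or.inl (by simp)⟩
    · exact ⟨2 * j + i, Or.inl (by rw [zpow_add, cm])⟩
    · exact ⟨i, Or.inr rfl⟩
    · exact ⟨2 * j + i, Or.inr (by rw [zpow_add, cm, mul_assoc])⟩
  have BT : ∀ x, InB u (a * a) x → x ∈ T := by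
    rintro x ⟨i, rfl | rfl⟩
    · exact zpow_mem cT i
    · exact mul_mem F.uT (zpow_mem cT i)
  have KB : ∀ x ∈ U ⊔ zpowers a, InB u (a * a) x ∨ InB u (a * a) (x * a⁻¹) := by
    intro x hx
    obtain ⟨y, hy, k, rfl⟩ := (mem_sup_zpowers (hn ha)).1 hx
    obtain ⟨i, rfl | rfl⟩ := Int.even_or_odd' k
    · exact Or.inl (ev i ▸ UB y hy i)
    · exact Or.inr (by rw [zpow_add, zpow_one, ← mul_assoc, mul_inv_cancel_right, ev]; exact UB y hy i)
  have mem : ∀ x ∈ T, InB u (a * a) x ∨ ∃ y, InB u (a * a) y ∧ x = y * (a * t) := by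
    intro x hx
    rcases hK x (hTS hx) with h | h <;> rcases KB _ h with h | h
    · exact Or.inl h
    · exact absurd (inv_mem_iff.1 ((mul_mem_cancel_left hx).1 (BT _ h))) haT
    · exact absurd (BT _ h) (nT x hx)
    · exact Or.inr ⟨_, h, by group⟩
  have fB : InB u (a * a) (a * t * (a * t)) := (mem _ (mul_mem bT bT)).resolve_right fun ⟨y, hy, h⟩ => htK (by
    rw [show t = a⁻¹ * y by rw [← mul_right_cancel h]; group]
    refine mul_mem (mem_sup_right (inv_mem (mem_zpowers a))) ?_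
    have h4 : ∀ i : ℤ, (a * a) ^ i ∈ U ⊔ zpowers a := fun i => ev i ▸ mem_sup_right (zpow_mem_zpowers a _)
    obtain ⟨i, rfl | rfl⟩ := hy
    · exact h4 i
    · exact mul_mem (mem_sup_left huU) (h4 i))
  have aB : ∀ x, InB u (a * a) x → a⁻¹ * x * a = x ∨ a⁻¹ * x * a = z * x := by
    have h4 : ∀ i : ℤ, a⁻¹ * (a * a) ^ i * a = (a * a) ^ i := fun i => by rw [← ev]; group
    rintro x ⟨i, rfl | rfl⟩
    · exact Or.inl (h4 i)
    · rw [show a⁻¹ * (u * (a * a) ^ i) * a = a⁻¹ * u * a⁻¹⁻¹ * (a⁻¹ * (a * a) ^ i * a) by group, h4]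
      rcases F.uc _ (inv_mem ha) with h | h <;> rw [h]
      · exact Or.inl rfl
      · exact Or.inr (by rw [← F.zu hTS, mul_assoc])
  have fz := F.zc _ (hTS (mul_mem bT bT))
  obtain ⟨e', he'', hf⟩ := C4 _ (mul_mem bT bT) (by
    rw [show a * t * (a * t) * t * (a * t * (a * t))⁻¹ * t⁻¹ =
      a * t * (a * t) * (a⁻¹ * (a * t * (a * t)) * a)⁻¹ by group]
    rcases aB _ fB with h | h <;> rw [h]
    · rw [mul_inv_cancel]; exact one_mem _
    · rw [mul_inv_rev z, mul_inv_cancel_left]; exact inv_mem hzU)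
  have he3 := (mU _).1 he''
  have f2 : a * t * (a * t) * (a * t * (a * t)) = 1 ∨ a * t * (a * t) * (a * t * (a * t)) = z := by
    rcases hf with h | h <;> rw [h]
    · exact Or.inl (F.Usq hTS he3)
    · right
      rw [mul_assoc, ← mul_assoc w, (F.Ucomm he3 (hTS hr) hru).eq, ← mul_assoc, ← mul_assoc, F.Usq hTS he3, one_mul, h3]
  refine case2 hA hT (m := j) ⟨F.uT, cT, bT, F.z2, F.u2, F.z1, F.u1, F.uz, fun s hs => F.zc s (hTS hs), cu, cm, mem,
    ?_, F.uc _ (hTS bT)⟩ (hk ▸ UB e he j) h3 hrt h2 htA htz htu haz hau he3 hf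
  rw [bcb h2]
  rcases aB _ fB with h | h <;> rw [h]
  · rcases f2 with h | h <;> simp [h]
  · rw [← mul_assoc _ z, fz, mul_assoc z]
    rcases f2 with h | h <;> simp [h, F.z2]

end CA.H14Ss
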