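/-
Involutions and four-groups acting on semisimple groups with small fixed points.
-/
import Cfsg.Agent.Lib.Grp.H14Ss4

set_option autoImplicit false

namespace CA.H14Ss

open Subgroup Cfsg CA.SylIn CA.PGBasic CA.Two CA.MC2 CA.MC3 CA.PGCyclicMax CA.PGNormalCyclic
open scoped commutatorElement

variable {G : Type*} [Group G] [Finite G] {A H S T P : Subgroup G}

omit [Finite G] in
theorem rank_iff {k : ℕ} : PRankLE 2 k A ↔
    ∀ E ≤ A, IsMulCommutative E → (∀ a ∈ E, a ^ 2 = 1) → Nat.card E ≤ 2 ^ k := by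
  constructor
  · intro h E hE h1 h2
    rw [← Nat.card_congr (subgroupOfEquivOfLe hE).toEquiv]
    exact h _ inferInstance fun a ha => Subtype.ext (h2 a ha)
  · intro h E h1 h2
    rw [← card_map_of_injective A.subtype_injective]
    refine h _ (map_subtype_le _) inferInstance ?_
    rintro _ ⟨a, ha, rfl⟩
    exact congrArg Subtype.val (h2 a ha)

theorem not_dvd_two (k : ℕ) : ¬ (2 : ℤ) ^ (k + 1 + 1) ∣ 2 := fun h => by
  rw [pow_succ, pow_succ, mul_assoc] at h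
  have := (Dvd.intro_left _ rfl).trans h
  omega

theorem tri (h : ¬ PRankLE 2 1 A) (hT : IsSylowIn 2 T A) (hS : IsPGroup 2 S) (hTS : T ≤ S)
    (hn : S ≤ normalizer (T : Set G)) : (∃ z u, Fr S T z u) ∨ ∃ (m : ℕ) (ε : ℤ) (a y : G), MC (m + 1) ε 0 a y ∧
      (ε = 0 ∨ (ε = 1 ∧ 1 ≤ m)) ∧ zpowers a ⊔ zpowers y = T ∧ S ≤ normalizer (zpowers a : Set G) := by
  have key : ¬ ∃ z, ∀ v ∈ T, v * v = 1 → v ≠ 1 → v = z := by
    rintro ⟨z, hz⟩
    refine h (rank_iff.2 fun E hE h1 h2 => ?_)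
    obtain ⟨g, -, h3⟩ := hT.exists_conj_le (Q := E) (fun x => ⟨1, Subtype.ext (by simpa using h2 x x.2)⟩) hE
    rw [← card_conj g]
    classical
    have : ((g •ᶜ E : Subgroup G) : Set G) ⊆ ({1, z} : Finset G) := fun v hv => by
      obtain ⟨w, hw, rfl⟩ := mem_conj'.1 hv
      simpa using (em _).imp_right (hz _ (h3 hv) (conj_sq (by rw [← pow_two, h2 w hw])))
    refine (Nat.card_mono (Set.toFinite _) this).trans ?_
    simpa using Finset.card_le_two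
  rcases rel_tri hS hTS hn with h1 | h1 | ⟨n, a, y, h1, h2, h3, h4⟩
  · obtain ⟨c, rfl⟩ := (Subgroup.isCyclic_iff_exists_zpowers_eq_top T).1 h1
    by_cases h2 : ∃ z ∈ zpowers c, z * z = 1 ∧ z ≠ 1
    · obtain ⟨z, h2, h3, h4⟩ := h2
      exact absurd ⟨z, fun v hv h5 h6 => inv_uniq hv h2 h5 h6 h3 h4⟩ key
    · exact absurd ⟨1, fun v hv h5 h6 => absurd ⟨v, hv, h5, h6⟩ h2⟩ key
  · exact Or.inl h1
  obtain ⟨m, -, h5 | h5 | ⟨h6, h5⟩⟩ := CA.H7Max.mc3_of_dqs h1 h3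
  · exact Or.inr ⟨m, 0, a, y, h5, Or.inl rfl, h2, h4⟩
  · refine absurd ⟨a ^ (2 ^ (m + 1) : ℤ), fun v hv h6 h7 => ?_⟩ key
    obtain ⟨i, rfl | rfl⟩ := h5.mem_iff.1 (h2 ▸ hv)
    · exact h5.eq_z (zpow_mem_zpowers a i) (by rw [pow_two, h6]) h7
    · simpa using (h5.shift i).even_of_ord (H13Inv.orderOf_eq_two_iff.2 ⟨h6, h7⟩)
  · exact Or.inr ⟨m, 1, a, y, h5, Or.inr ⟨rfl, h6⟩, h2, h4⟩

theorem inv_z4 (hA : Ss A) {t : G} (ht : orderOf t = 2) (htA : t ∈ normalizer (A : Set G))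
    (hC : ∀ R, IsSylowIn 2 R (A ⊓ centralizer {t}) → ∃ r, orderOf r = 4 ∧ zpowers r = R) :
    PRankLE 2 1 A ∧ ¬ PRankLE 2 0 A := by
  obtain ⟨h2, h1⟩ := H13Inv.orderOf_eq_two_iff.1 ht
  obtain ⟨R, hR⟩ := exists_isSylowIn 2 (A ⊓ centralizer {t})
  obtain ⟨r, hr4, rfl⟩ := hC R hR
  have hrA := hR.le (mem_zpowers r)
  have hrt : t * r = r * t := (mem_centralizer_singleton_iff.1 hrA.2).symm
  have hr2 : orderOf (r ^ 2) = 2 := by rw [orderOf_pow, hr4]; rfl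
  refine ⟨by_contra fun h => ?_, fun h => ?_⟩
  swap
  · have := rank_iff.1 h (zpowers (r ^ 2)) (zpowers_le.2 (pow_mem hrA.1 2)) inferInstance
      (isElementaryAbelian_zpowers (by have := pow_orderOf_eq_one (r ^ 2); rwa [hr2] at this)).2
    rw [Nat.card_zpowers, hr2] at this
    omega
  have hR1 : R1 A t := fun v hv w hw h3 h4 h5 h6 h7 h8 h9 => by_contra fun hne => by
    obtain ⟨R', hR', h10⟩ := exists_isSylowIn_ge (H := A ⊓ centralizer {t}) (klein_isPGroup (isKleinFour_sup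
      (H13Inv.orderOf_eq_two_iff.2 ⟨h3, h4⟩) (H13Inv.orderOf_eq_two_iff.2 ⟨h5, h6⟩) h7 hne))
      (sup_le (zpowers_le.2 ⟨hv, mem_centralizer_singleton_iff.2 h8.symm⟩)
        (zpowers_le.2 ⟨hw, mem_centralizer_singleton_iff.2 h9.symm⟩))
    obtain ⟨c, -, rfl⟩ := hC R' hR'
    exact hne (inv_uniq (h10 (mem_sup_left (mem_zpowers v))) (h10 (mem_sup_right (mem_zpowers w))) h3 h4 h5 h6)
  obtain ⟨S, hS, h3⟩ := exists_isSylowIn_ge (H := A ⊔ zpowers t) (Q := zpowers r ⊔ zpowers t)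
    (hR.isPGroup.to_sup_of_normal_left' (isPGroup_of_isElementaryAbelian (isElementaryAbelian_zpowers
      (by rw [pow_two, h2]))) (zpowers_le.2 (mem_normalizer_zpowers (u := 1) (by simp [hrt]))))
    (sup_le_sup_right (hR.le.trans inf_le_left) _)
  have hT := hS.inf_of_normal le_sup_left (sup_le A.le_normalizer (zpowers_le.2 htA))
  have htT : t ∈ normalizer ((S ⊓ A : Subgroup G) : Set G) := inf_normalizer_le_normalizer_inf S A
    ⟨S.le_normalizer (h3 (mem_sup_right (mem_zpowers t))), htA⟩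
  have hr : r ∈ S ⊓ A := ⟨h3 (mem_sup_left (mem_zpowers r)), hrA.1⟩
  have hc : ∀ s ∈ S ⊓ A, t * s = s * t → s ∈ zpowers r := fun s hs h4 => by
    rw [← hR.inf_eq_of_le hS.isPGroup (le_sup_left.trans h3)]
    exact ⟨hs.1, hs.2, mem_centralizer_singleton_iff.2 h4.symm⟩
  generalize S ⊓ A = T at *
  rcases tri h hT (syl_sup hT htA htT h2).isPGroup le_sup_left (sup_le T.le_normalizer (zpowers_le.2 htT)) with
    ⟨z, u, F⟩ | ⟨m, ε, a, y, h4, h5, e, h6⟩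
  · exact four_case hA hT htA htT h2 F hr hr4 hrt hc
  rcases mc_main hA hT h4 h5 e htA htT (h6 (mem_sup_right (mem_zpowers t))) h2 h1 hR1 with
    ⟨rfl, h7, -⟩ | ⟨rfl, h7, h8⟩
  · obtain ⟨i, rfl | rfl⟩ := h4.mem_iff.1 (e ▸ hr)
    · have h8 : t * a ^ i * t⁻¹ = (a ^ i)⁻¹ := by rw [← conj_zpow, h7, inv_zpow]
      rw [hrt, mul_inv_cancel_right, eq_inv_iff_mul_eq_one, ← pow_two] at h8
      rw [h8] at hr2; simp at hr2
    · rw [(h4.shift i).ord_two (by simp)] at hr4; omega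
  · have h9 : a ^ (2 ^ (m + 1) : ℤ) * a ^ (2 ^ (m + 1) : ℤ) = 1 := by rw [← pow_two, h4.z_sq]
    obtain ⟨i, hi⟩ := mem_zpowers_iff.1 (hc _ (e ▸ zpow_mem_left a y 2) (by
      rw [← mul_inv_eq_iff_eq_mul, ← conj_zpow, h7, ← zpow_mul, h4.zpow_eq]
      exact ⟨1, by ring⟩))
    obtain ⟨j, hj⟩ := mem_zpowers_iff.1 (hc _ (e ▸ zpow_mul_mem a y 1) (by
      rw [← mul_inv_eq_iff_eq_mul, zpow_one, show t * (a * y) * t⁻¹ = t * a * t⁻¹ * (t * y * t⁻¹) by group, h7, h8,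
        zpow_add, mul_assoc, ← mul_assoc (a ^ (2 ^ (m + 1) : ℤ)), h9, one_mul, zpow_one]))
    have h10 : a ^ (1 : ℤ) * y * a ^ (2 : ℤ) = a ^ (2 : ℤ) * (a ^ (1 : ℤ) * y) := by rw [← hi, ← hj]; group
    have h11 := (h4.shift 1).commute_iff.1 h10
    obtain ⟨k, rfl⟩ : ∃ k, m = k + 1 := ⟨m - 1, by omega⟩
    exact not_dvd_two k h11

theorem four_act (hA : Ss A) {U : Subgroup G} (hU : IsKleinFour U) (hUA : U ≤ normalizer (A : Set G))
    (hR : ∀ x ∈ U, x ≠ 1 → R1 A x) : PRankLE 2 1 A := by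
  by_contra h
  obtain ⟨S, hS, h3⟩ := exists_isSylowIn_ge (H := A ⊔ U) (klein_isPGroup hU) le_sup_right
  have hn : A ⊔ U ≤ normalizer (A : Set G) := sup_le A.le_normalizer hUA
  have hT := hS.inf_of_normal le_sup_left hn
  have hST : S ≤ normalizer ((S ⊓ A : Subgroup G) : Set G) := fun s hs => inf_normalizer_le_normalizer_inf S A
    ⟨S.le_normalizer hs, hn (hS.le hs)⟩
  obtain ⟨x, hx, x1, -⟩ := klein_exists hU 1
  obtain ⟨y, hy, y1, yx⟩ := klein_exists hU x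
  have key : ∀ a b : G, (∀ x ∈ U, x ≠ 1 → x * a * x⁻¹ = b) → a = b := fun a b h1 => by
    rw [← h1 (x⁻¹ * y) (mul_mem (inv_mem hx) hy) (fun e => yx (inv_mul_eq_one.1 e).symm),
      show x⁻¹ * y * a * (x⁻¹ * y)⁻¹ = x⁻¹ * (y * a * y⁻¹) * x by group, h1 y hy y1, ← h1 x hx x1]
    group
  rcases tri h hT hS.isPGroup inf_le_left hST with ⟨z, u, F⟩ | ⟨m, ε, a, b, h4, h5, e, h6⟩
  · refine F.z1 (left_eq_mul.1 (key u (u * z) fun w hw w1 => (F.uc w (h3 hw)).resolve_left fun h1 => F.uz ?_))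
    exact hR w hw w1 u F.uT.2 z F.zT.2 F.u2 F.u1 F.z2 F.z1 (F.zc u F.uT.1) (mul_inv_eq_iff_eq_mul.1 h1)
      (F.zc w (h3 hw))
  have h7 := fun w (hw : w ∈ U) w1 => mc_main hA hT h4 h5 e (hUA hw) (hST (h3 hw)) (h6 (h3 hw))
    (by rw [← pow_two, klein_sq hU hw]) w1 (hR w hw w1)
  rcases h5 with rfl | ⟨rfl, -⟩
  · have := key a a⁻¹ fun w hw w1 => ((h7 w hw w1).resolve_right (by simp)).2.1
    exact not_dvd_two m (h4.zpow_one.1 (by rw [zpow_two, ← eq_inv_iff_mul_eq_one, ← this]))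
  · have := key a _ fun w hw w1 => ((h7 w hw w1).resolve_left (by simp)).2.1
    rw [zpow_add, zpow_one, left_eq_mul] at this
    exact h4.z_ne this

end CA.H14Ss
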