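/-
Local obstructions to alternating sections.
-/
import Mathlib

set_option autoImplicit false

namespace CA.H23Sec

open Subgroup Equiv

variable {G G' Q : Type*} [Group G] [Group G'] [Group Q] {p : ℕ}

theorem exists_conj [Fact p.Prime] {P T : Subgroup G} (hP : IsPGroup p P) (hi : ¬p ∣ T.index) :
    ∃ c, ∀ x ∈ P, c⁻¹ * x * c ∈ T := by
  obtain ⟨c, hc⟩ := hP.nonempty_fixed_point_of_prime_not_dvd_card (G ⧸ T) hi
  obtain ⟨c, rfl⟩ := QuotientGroup.mk_surjective c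
  exact ⟨c, fun x hx => by rw [mul_assoc]; exact QuotientGroup.eq.1 (hc ⟨x, hx⟩).symm⟩

/-- the Frattini argument -/
theorem lift [Fact p.Prime] [Finite G] (φ : G →* Q) (M : Subgroup G) {R : Subgroup Q} (hR : IsPGroup p R)
    (h : R ≤ M.map φ) : ∃ P ≤ M, IsPGroup p P ∧ P.map φ = R ∧
      ∀ y ∈ M.map φ, (∀ x ∈ R, y * x * y⁻¹ ∈ R) → ∃ g ∈ M, φ g = y ∧ ∀ x ∈ P, g * x * g⁻¹ ∈ P := by
  obtain ⟨S⟩ : Nonempty (Sylow p ↥(M ⊓ R.comap φ)) := inferInstance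
  let ψ : ↥(M ⊓ R.comap φ) →* R := (φ.comp (Subgroup.subtype _)).codRestrict R fun x => x.2.2
  have hψ : Function.Surjective ψ := fun x => by
    obtain ⟨y, hy, e⟩ := h x.2
    exact ⟨⟨y, hy, show φ y ∈ R from e ▸ x.2⟩, Subtype.ext e⟩
  haveI := Finite.of_surjective ψ hψ
  have h1 : (S.1.map (Subgroup.subtype _)).map φ = R := by
    refine le_antisymm (by rintro _ ⟨_, ⟨x, -, rfl⟩, rfl⟩; exact x.2.2) fun x hx => ?_
    obtain ⟨a, ha, e⟩ : (⟨x, hx⟩ : R) ∈ (S.mapSurjective hψ).1 := by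
      rw [((S.mapSurjective hψ).is_maximal' (hR.to_subgroup ⊤) le_top).symm]; trivial
    exact ⟨_, ⟨a, ha, rfl⟩, congrArg Subtype.val e⟩
  refine ⟨_, (map_subtype_le _).trans inf_le_left, S.2.map _, h1, ?_⟩
  rintro _ ⟨y, hy, rfl⟩ h2
  have hn : y ∈ normalizer ((M ⊓ R.comap φ : Subgroup G) : Set G) :=
    mem_normalizer_fintype fun g hg => ⟨M.mul_mem (M.mul_mem hy hg.1) (M.inv_mem hy), by
      change φ _ ∈ R
      rw [map_mul, map_mul, map_inv]; exact h2 _ hg.2⟩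
  obtain ⟨n, hS⟩ := MulAction.exists_smul_eq ↥(M ⊓ R.comap φ) ((M ⊓ R.comap φ).normalizerMonoidHom ⟨y, hn⟩ • S) S
  obtain ⟨a, ha, e⟩ := h1.ge (n.2.2 : φ n ∈ R)
  refine ⟨a⁻¹ * (n * y), mul_mem (inv_mem (map_subtype_le _ ha).1) (mul_mem n.2.1 hy), by simp [e], ?_⟩
  rintro _ ⟨b, hb, rfl⟩
  have : n.1 * (y * b.1 * y⁻¹) * n.1⁻¹ ∈ S.1.map (Subgroup.subtype _) := by
    refine ⟨MulAut.conj n ((M ⊓ R.comap φ).normalizerMonoidHom ⟨y, hn⟩ b), ?_, rfl⟩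
    rw [← hS]
    exact smul_mem_pointwise_smul _ _ _ (smul_mem_pointwise_smul _ _ _ hb)
  convert mul_mem (mul_mem (inv_mem ha) this) ha using 1
  change a⁻¹ * (n.1 * y) * b.1 * _ = _
  group

theorem isP_zpowers {x : Q} (h : x ^ p = 1) : IsPGroup p (zpowers x) := by
  rintro ⟨_, k, rfl⟩
  exact ⟨1, Subtype.ext (by
    change (x ^ k) ^ p ^ 1 = 1
    rw [pow_one, ← zpow_natCast, ← zpow_mul, mul_comm, zpow_mul, zpow_natCast, h, one_zpow])⟩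

theorem conj_zpowers {x y : Q} {a : ℕ} (h : y * x * y⁻¹ = x ^ a) : ∀ z ∈ zpowers x, y * z * y⁻¹ ∈ zpowers x := by
  rintro _ ⟨k, rfl⟩
  rw [← conj_zpow, h]
  exact zpow_mem (pow_mem (mem_zpowers x) _) _

theorem conj_map (j : G →* G') {P : Subgroup G} {g : G} (h : ∀ x ∈ P, g * x * g⁻¹ ∈ P) :
    ∀ x ∈ P.map j, j g * x * (j g)⁻¹ ∈ P.map j := by
  rintro _ ⟨y, hy, rfl⟩; exact ⟨_, h y hy, by simp⟩

/-- normalisers of `p`-subgroups act through groups of exponent dividing `n` -/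
def Pr (p n : ℕ) (G : Type*) [Group G] : Prop :=
  ∀ P : Subgroup G, IsPGroup p P → ∀ g, (∀ h ∈ P, g * h * g⁻¹ ∈ P) → ∀ h ∈ P, g ^ n * h * (g ^ n)⁻¹ = h

theorem Pr.inj {n : ℕ} (h : Pr p n G') (j : G →* G') (hj : Function.Injective j) : Pr p n G := fun P hP g hg x hx =>
  hj (by simpa using h _ (hP.map j) _ (conj_map j hg) _ ⟨x, hx, rfl⟩)

theorem Pr.false [Fact p.Prime] [Finite G] {n : ℕ} (h : Pr p n G) (φ : G →* Q) {x y : Q} (hx : x ∈ φ.range)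
    (hy : y ∈ φ.range) (h1 : x ^ p = 1) {a : ℕ} (h2 : y * x * y⁻¹ = x ^ a) (h3 : y ^ n * x * (y ^ n)⁻¹ ≠ x) : False := by
  rw [φ.range_eq_map] at hx hy
  obtain ⟨P, -, hP, e, h4⟩ := lift φ ⊤ (isP_zpowers h1) (zpowers_le.2 hx)
  obtain ⟨g, -, rfl, hg⟩ := h4 y hy (conj_zpowers h2)
  obtain ⟨x', hx', rfl⟩ := e.ge (mem_zpowers x)
  exact h3 (by simpa using congrArg φ (h P hP g hg x' hx'))

/-- the obstruction to the normaliser of an element of order `35` of `A₁₂` -/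
def Two (G : Type*) [Group G] : Prop :=
  ∀ P R : Subgroup G, IsPGroup 5 P → IsPGroup 7 R → (∀ a ∈ R, ∀ h ∈ P, a * h * a⁻¹ ∈ P) →
    ∀ g, (∀ h ∈ P, g * h * g⁻¹ ∈ P) → (∀ h ∈ R, g * h * g⁻¹ ∈ R) → (∀ h ∈ R, g ^ 8 * h * (g ^ 8)⁻¹ = h) ∨
      (∀ h ∈ P, g ^ 6 * h * (g ^ 6)⁻¹ = h) ∨ ∀ h ∈ R, g ^ 6 * h * (g ^ 6)⁻¹ = h⁻¹

theorem Two.inj (h : Two G') (j : G →* G') (hj : Function.Injective j) : Two G := fun P R hP hR h1 g h2 h3 =>
  (h _ _ (hP.map j) (hR.map j) (by rintro _ ⟨a, ha, rfl⟩; exact conj_map j (h1 a ha)) _ (conj_map j h2)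
    (conj_map j h3)).imp (fun H x hx => hj (by simpa using H _ ⟨x, hx, rfl⟩))
    (.imp (fun H x hx => hj (by simpa using H _ ⟨x, hx, rfl⟩)) fun H x hx => hj (by simpa using H _ ⟨x, hx, rfl⟩))

theorem Two.false [Finite G] (h : Two G) (φ : G →* Q) {x y z : Q} (hx : x ∈ φ.range) (hy : y ∈ φ.range)
    (hz : z ∈ φ.range) (h1 : x ^ 5 = 1) (h2 : z ^ 7 = 1) (h3 : z * x * z⁻¹ = x ^ 1) (h4 : y * x * y⁻¹ = x ^ 2)
    (h5 : y * z * y⁻¹ = z ^ 3) (h6 : y ^ 8 * z * (y ^ 8)⁻¹ ≠ z) (h7 : y ^ 6 * x * (y ^ 6)⁻¹ ≠ x)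
    (h8 : y ^ 6 * z * (y ^ 6)⁻¹ ≠ z⁻¹) : False := by
  haveI := Fact.mk Nat.prime_five
  haveI := Fact.mk Nat.prime_seven
  rw [φ.range_eq_map] at hx hy hz
  obtain ⟨P, -, hP, e, H⟩ := lift φ ⊤ (isP_zpowers h1) (zpowers_le.2 hx)
  have k : ∀ {u : Q} {a : ℕ}, u ∈ map φ ⊤ → u * x * u⁻¹ = x ^ a → u ∈ (normalizer (P : Set G)).map φ := fun hu h => by
    obtain ⟨g, -, rfl, hg⟩ := H _ hu (conj_zpowers h)
    exact ⟨g, mem_normalizer_fintype hg, rfl⟩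
  obtain ⟨R, hM, hR, e', H'⟩ := lift φ (normalizer (P : Set G)) (isP_zpowers h2) (zpowers_le.2 (k hz h3))
  obtain ⟨g, hg, rfl, hg'⟩ := H' y (k hy h4) (conj_zpowers h5)
  obtain ⟨x', hx', rfl⟩ := e.ge (mem_zpowers x)
  obtain ⟨z', hz', rfl⟩ := e'.ge (mem_zpowers z)
  rcases h P R hP hR (fun a ha b hb => (mem_normalizer_iff.1 (hM ha) b).1 hb) g
    (fun b hb => (mem_normalizer_iff.1 hg b).1 hb) hg' with h | h | h
  exacts [h6 (by simpa using congrArg φ (h z' hz')), h7 (by simpa using congrArg φ (h x' hx')),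
    h8 (by simpa using congrArg φ (h z' hz'))]

/-- the squares of a `2`-subgroup lie in an abelian subgroup of `2`-rank at most two -/
def Pr2 (G : Type*) [Group G] : Prop :=
  ∀ P : Subgroup G, IsPGroup 2 P → ∃ A : Subgroup G, (∀ a ∈ A, ∀ b ∈ A, a * b = b * a) ∧
    Nat.card {a // a ∈ A ∧ a ^ 2 = 1} ≤ 4 ∧ ∀ g ∈ P, g ^ 2 ∈ A

theorem Pr2.inj [Finite G'] (h : Pr2 G') (j : G →* G') (hj : Function.Injective j) : Pr2 G := fun P hP => by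
  obtain ⟨A, h1, h2, h3⟩ := h _ (hP.map j)
  refine ⟨A.comap j, fun a ha b hb => hj (by simpa using h1 _ ha _ hb), le_trans (Nat.card_le_card_of_injective
    (fun a => ⟨j a.1, a.2.1, by rw [← map_pow, a.2.2, map_one]⟩) fun a b e =>
      Subtype.ext (hj (congrArg Subtype.val e))) h2, fun g hg => ?_⟩
  simpa using h3 _ ⟨g, hg, rfl⟩

theorem Pr2.false [Finite G] (h : Pr2 G) (φ : G →* Q) {R : Subgroup Q} (hR : IsPGroup 2 R) (h1 : R ≤ φ.range)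
    {a b c : Q} (ha : a ∈ R) (hb : b ∈ R) (hc : c ∈ R) (ha' : (a ^ 2) ^ 2 = 1) (hb' : (b ^ 2) ^ 2 = 1)
    (hc' : (c ^ 2) ^ 2 = 1) (h3 : [1, a ^ 2, b ^ 2, c ^ 2, a ^ 2 * b ^ 2].Nodup) : False := by
  classical
  obtain ⟨P, -, hP, rfl, -⟩ := lift φ ⊤ hR (φ.range_eq_map ▸ h1)
  obtain ⟨A, h5, h6, h7⟩ := h P hP
  have hA : ∀ x ∈ A.map φ, ∀ y ∈ A.map φ, Commute x y := by
    rintro _ ⟨x, hx, rfl⟩ _ ⟨y, hy, rfl⟩; exact Commute.map (h5 x hx y hy) φ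
  let E : Subgroup Q :=
    { carrier := {x | x ∈ A.map φ ∧ x ^ 2 = 1}
      one_mem' := ⟨one_mem _, one_pow 2⟩
      mul_mem' := fun hx hy => ⟨mul_mem hx.1 hy.1, by rw [(hA _ hx.1 _ hy.1).mul_pow, hx.2, hy.2, one_mul]⟩
      inv_mem' := fun hx => ⟨inv_mem hx.1, by rw [inv_pow, hx.2, inv_one]⟩ }
  have hE : ∀ x ∈ P.map φ, (x ^ 2) ^ 2 = 1 → x ^ 2 ∈ E := by
    rintro _ ⟨x, hx, rfl⟩ h; exact ⟨⟨_, h7 x hx, map_pow φ x 2⟩, h⟩
  letI : CommGroup ↥(A ⊓ E.comap φ) := { mul_comm := fun a b => Subtype.ext (h5 _ a.2.1 _ b.2.1) }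
  let ψ : ↥(A ⊓ E.comap φ) →* E := (φ.comp (Subgroup.subtype _)).codRestrict E fun x => x.2.2
  have hψ : Function.Surjective ψ := by
    rintro ⟨_, ⟨g, hg, rfl⟩, e⟩
    exact ⟨⟨g, hg, ⟨g, hg, rfl⟩, e⟩, rfl⟩
  haveI := Finite.of_surjective ψ hψ
  have h8 : (powMonoidHom 2 : ↥(A ⊓ E.comap φ) →* _).range ≤ ψ.ker := by
    rintro _ ⟨x, rfl⟩
    exact Subtype.ext ((map_pow φ x.1 2).trans x.2.2.2)
  have h9 := Nat.le_of_dvd (Nat.pos_of_ne_zero index_ne_zero_of_finite) (index_dvd_of_le h8)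
  rw [index_range, index_ker, MonoidHom.range_eq_top.2 hψ, card_top] at h9
  have h4 := Set.ncard_le_ncard (s := (([1, a ^ 2, b ^ 2, c ^ 2, a ^ 2 * b ^ 2].toFinset : Finset Q) : Set Q)) (t := E) (by
    intro x hx
    replace hx := List.mem_toFinset.1 (Finset.mem_coe.1 hx)
    simp only [List.mem_cons, List.not_mem_nil, or_false] at hx
    rcases hx with rfl | rfl | rfl | rfl | rfl
    exacts [one_mem E, hE a ha ha', hE b hb hb', hE c hc hc', E.mul_mem (hE a ha ha') (hE b hb hb')]) (Set.toFinite _)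
  rw [Set.ncard_coe_finset, List.toFinset_card_of_nodup h3] at h4
  refine absurd (h4.trans (h9.trans (le_trans (Nat.card_le_card_of_injective
    (fun a => (⟨a.1.1, a.1.2.1, congrArg Subtype.val a.2⟩ : {a // a ∈ A ∧ a ^ 2 = 1})) fun a b e => ?_) h6))) (by simp)
  exact Subtype.ext (Subtype.ext (congrArg (fun x : {a // a ∈ A ∧ a ^ 2 = 1} => x.1) e))

theorem sec {r : ℕ} {N : Subgroup G} [N.Normal] (h : Nonempty (G ⧸ N ≃* alternatingGroup (Fin r))) {n : ℕ} (hn : n ≤ r) :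
    ∃ (H : Subgroup G) (ψ : H →* Perm (Fin n)), alternatingGroup (Fin n) ≤ ψ.range := by
  classical
  obtain ⟨e⟩ := h
  let j : Perm (Fin n) →* Perm (Fin r) := Perm.extendDomainHom (ofInjective _ (Fin.castLEEmb hn).2)
  have hj : Function.Injective j := Perm.extendDomainHom_injective _
  let Φ : G →* Perm (Fin r) := (Subgroup.subtype _).comp (e.toMonoidHom.comp (QuotientGroup.mk' N))
  refine ⟨j.range.comap Φ, (MonoidHom.ofInjective hj).symm.toMonoidHom.comp (Φ.subgroupComap _), fun x hx => ?_⟩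
  obtain ⟨g, hg⟩ := (e.surjective.comp (QuotientGroup.mk'_surjective N)) ⟨j x, by
    rw [Perm.mem_alternatingGroup] at hx ⊢
    exact (Perm.sign_extendDomain x _).trans hx⟩
  replace hg : Φ g = j x := congrArg Subtype.val hg
  exact ⟨⟨g, x, hg.symm⟩, (MonoidHom.ofInjective hj).symm_apply_eq.2 (Subtype.ext hg)⟩

theorem step {X : Type*} {a b : X → ℕ} {g : Perm X} (h : ∀ x y z, a x = a y → a y = a z → b x = b y ∨ b y = b z ∨ b x = b z)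
    (ha : ∀ x, a (g x) = a x) (hb : ∀ x y, b x = b y ↔ b (g x) = b (g y)) (x : X) : b ((g * g) x) = b x := by
  rcases h x (g x) (g (g x)) (ha x).symm (ha _).symm with h | h | h
  exacts [((hb _ _).1 h).symm.trans h.symm, h.symm.trans ((hb _ _).2 h).symm, h.symm]

/-- the automorphism group of the binary tree with eight leaves -/
def tree : Subgroup (Perm (Fin 8)) where
  carrier := {g | ∀ x y : Fin 8, (x.1 / 2 = y.1 / 2 ↔ (g x).1 / 2 = (g y).1 / 2) ∧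
    (x.1 / 4 = y.1 / 4 ↔ (g x).1 / 4 = (g y).1 / 4)}
  one_mem' _ _ := ⟨Iff.rfl, Iff.rfl⟩
  mul_mem' ha hb x y := ⟨(hb x y).1.trans (ha _ _).1, (hb x y).2.trans (ha _ _).2⟩
  inv_mem' {g} h x y := by simpa using And.intro (h (g⁻¹ x) (g⁻¹ y)).1.symm (h (g⁻¹ x) (g⁻¹ y)).2.symm

theorem isP_tree : IsPGroup 2 tree := fun g => ⟨3, Subtype.ext (Equiv.ext fun x => Fin.ext (by
  have h1 := step (a := fun _ => 0) (b := fun x : Fin 8 => x.1 / 4) (g := g.1) (by intro x y z _ _; omega) (fun _ => rfl)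
    fun x y => (g.2 x y).2
  have h2 := step (a := fun x : Fin 8 => x.1 / 4) (b := fun x : Fin 8 => x.1 / 2) (by intro x y z; omega) h1 fun x y => ((g * g).2 x y).1
  have h3 := step (a := fun x : Fin 8 => x.1 / 2) (b := fun x : Fin 8 => x.1) (by intro x y z; omega) h2 (fun x y => by
    simp only [Fin.val_inj, EmbeddingLike.apply_eq_iff_eq]) x
  rwa [show g.1 * g.1 * (g.1 * g.1) * (g.1 * g.1 * (g.1 * g.1)) = g.1 ^ 2 ^ 3 by simp [pow_succ, mul_assoc]] at h3))⟩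

/-- a permutation from its values and those of its inverse -/
def pm {n : ℕ} [NeZero n] (L M : List ℕ) (h : (∀ x : Fin n, Fin.ofNat n (M.getD (Fin.ofNat n (L.getD x 0)) 0) = x) ∧
    ∀ x : Fin n, Fin.ofNat n (L.getD (Fin.ofNat n (M.getD x 0)) 0) = x := by decide +kernel) : Perm (Fin n) :=
  ⟨fun x => Fin.ofNat n (L.getD x 0), fun x => Fin.ofNat n (M.getD x 0), h.1, h.2⟩

theorem mem_alt {n : ℕ} {g : Perm (Fin n)} (u v : Perm (Fin n)) (h : ∀ x, g x = (u * u * (v * v)) x) :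
    g ∈ alternatingGroup (Fin n) := by
  rw [Equiv.ext h, Perm.mem_alternatingGroup]; simp

theorem ne_of {n : ℕ} {g h : Perm (Fin n)} (x : Fin n) (e : g x ≠ h x) : g ≠ h := fun e' => e (e' ▸ rfl)

variable [Finite G] {r : ℕ} {N : Subgroup G} [N.Normal] (h : Nonempty (G ⧸ N ≃* alternatingGroup (Fin r)))
include h

theorem Pr2.le (H : Pr2 G) : r ≤ 7 := by
  by_contra hr
  obtain ⟨M, ψ, h1⟩ := sec h (n := 8) (by omega)
  have k : ∀ g : Perm (Fin 8), (∀ x y : Fin 8, (x.1 / 2 = y.1 / 2 ↔ (g x).1 / 2 = (g y).1 / 2) ∧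
    (x.1 / 4 = y.1 / 4 ↔ (g x).1 / 4 = (g y).1 / 4)) → g ∈ tree := fun _ h => h
  exact (H.inj M.subtype M.subtype_injective).false ψ (R := tree ⊓ alternatingGroup _) isP_tree.to_inf_left
    (inf_le_right.trans h1) (a := pm [2, 3, 1, 0, 5, 4, 6, 7] [3, 2, 0, 1, 5, 4, 6, 7])
    (b := pm [1, 0, 2, 3, 6, 7, 5, 4] [1, 0, 2, 3, 7, 6, 4, 5]) (c := pm [4, 5, 6, 7, 2, 3, 0, 1] [6, 7, 4, 5, 0, 1, 2, 3])
    ⟨k _ (by decide +kernel), mem_alt (pm [1, 3, 0, 5, 4, 6, 7, 2] [2, 0, 7, 1, 4, 3, 5, 6])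
      (pm [5, 7, 2, 1, 3, 6, 4, 0] [7, 3, 2, 4, 6, 0, 5, 1]) (by decide +kernel)⟩
    ⟨k _ (by decide +kernel), mem_alt (pm [3, 5, 0, 7, 1, 4, 6, 2] [2, 4, 7, 0, 5, 1, 6, 3])
      (pm [4, 2, 7, 1, 5, 6, 0, 3] [6, 3, 1, 7, 0, 4, 5, 2]) (by decide +kernel)⟩
    ⟨k _ (by decide +kernel), mem_alt (pm [1, 2, 0, 5, 3, 6, 7, 4] [2, 0, 1, 4, 7, 3, 5, 6])
      (pm [7, 3, 1, 4, 5, 0, 2, 6] [5, 2, 6, 1, 3, 4, 7, 0]) (by decide +kernel)⟩
    (Equiv.ext (by decide +kernel)) (Equiv.ext (by decide +kernel)) (Equiv.ext (by decide +kernel))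
    (List.Nodup.of_map (fun g => (g 0, g 4)) (by decide +kernel))

theorem Pr.le5 (H : Pr 5 6 G) : r ≤ 6 := by
  by_contra hr
  haveI := Fact.mk Nat.prime_five
  obtain ⟨M, ψ, h1⟩ := sec h (n := 7) (by omega)
  exact (H.inj M.subtype M.subtype_injective).false ψ (x := pm [1, 2, 3, 4, 0, 5, 6] [4, 0, 1, 2, 3, 5, 6])
    (y := pm [0, 2, 4, 1, 3, 6, 5] [0, 3, 1, 4, 2, 6, 5])
    (h1 (mem_alt (pm [3, 4, 0, 1, 2, 5, 6] [2, 3, 4, 0, 1, 5, 6]) 1 (by decide +kernel)))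
    (h1 (mem_alt (pm [6, 4, 1, 5, 2, 0, 3] [5, 2, 4, 6, 1, 3, 0]) (pm [4, 1, 2, 0, 3, 6, 5] [3, 1, 2, 4, 0, 6, 5])
      (by decide +kernel))) (Equiv.ext (by decide +kernel)) (a := 2) (Equiv.ext (by decide +kernel))
    (ne_of 0 (by decide +kernel))

theorem Pr.le11 (H : Pr 11 1152 G) : r ≤ 10 := by
  by_contra hr
  haveI := Fact.mk Nat.prime_eleven
  obtain ⟨M, ψ, h1⟩ := sec h (n := 11) (by omega)
  let x : Perm (Fin 11) := pm [1, 2, 3, 4, 5, 6, 7, 8, 9, 10, 0] [10, 0, 1, 2, 3, 4, 5, 6, 7, 8, 9]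
  let y : Perm (Fin 11) := pm [0, 3, 6, 9, 1, 4, 7, 10, 2, 5, 8] [0, 4, 8, 1, 5, 9, 2, 6, 10, 3, 7]
  refine (H.inj M.subtype M.subtype_injective).false ψ (x := x) (y := y) (h1 (mem_alt (x ^ 6) 1 (by decide +kernel)))
    (h1 (mem_alt (y ^ 3) 1 (by decide +kernel))) (Equiv.ext (by decide +kernel)) (a := 3) (Equiv.ext (by decide +kernel)) ?_
  rw [pow_eq_pow_mod 1152 (show y ^ 5 = 1 from Equiv.ext (by decide +kernel))]
  exact ne_of 0 (by decide +kernel)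

theorem Two.le (H : Two G) : r ≤ 11 := by
  by_contra hr
  obtain ⟨M, ψ, h1⟩ := sec h (n := 12) (by omega)
  let x : Perm (Fin 12) := pm [0, 1, 2, 3, 4, 5, 6, 8, 9, 10, 11, 7] [0, 1, 2, 3, 4, 5, 6, 11, 7, 8, 9, 10]
  let z : Perm (Fin 12) := pm [1, 2, 3, 4, 5, 6, 0, 7, 8, 9, 10, 11] [6, 0, 1, 2, 3, 4, 5, 7, 8, 9, 10, 11]
  exact (H.inj M.subtype M.subtype_injective).false ψ (x := x) (z := z)
    (y := pm [0, 3, 6, 2, 5, 1, 4, 7, 9, 11, 8, 10] [0, 5, 3, 1, 6, 4, 2, 7, 10, 8, 11, 9])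
    (h1 (mem_alt (x ^ 3) 1 (by decide +kernel)))
    (h1 (mem_alt (pm [2, 8, 3, 5, 10, 9, 6, 11, 7, 4, 1, 0] [11, 10, 0, 2, 9, 3, 6, 8, 1, 5, 4, 7])
      (pm [1, 7, 8, 5, 9, 11, 3, 0, 6, 2, 10, 4] [7, 0, 9, 6, 11, 3, 8, 1, 2, 4, 10, 5]) (by decide +kernel)))
    (h1 (mem_alt (z ^ 4) 1 (by decide +kernel))) (Equiv.ext (by decide +kernel)) (Equiv.ext (by decide +kernel))
    (Equiv.ext (by decide +kernel)) (Equiv.ext (by decide +kernel)) (Equiv.ext (by decide +kernel))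
    (ne_of 0 (by decide +kernel)) (ne_of 7 (by decide +kernel)) (ne_of 0 (by decide +kernel))

end CA.H23Sec
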