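import Cfsg.Agent.Lib.Odd.BGSigma
import Cfsg.Agent.Lib.Char.CharOrth

/-! Counting conjugacy classes of `π`-elements through commuting pairs. -/

set_option autoImplicit false

namespace CA.H7Cls

open Finset CA.BG Subgroup

variable {G : Type*} [Group G]

/-- The number of conjugacy classes of `π`-elements. -/
noncomputable def kpi (π : Set ℕ) (G : Type*) [Group G] : ℕ :=
  Nat.card {C : ConjClasses G //
    ∀ q : ℕ, q.Prime → (∃ g : G, ConjClasses.mk g = C ∧ q ∣ orderOf g) → q ∈ π}

theorem kpi_univ : kpi Set.univ G = Nat.card (ConjClasses G) := by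
  unfold kpi
  exact Nat.card_congr (Equiv.subtypeUnivEquiv fun _ _ _ _ => trivial)

theorem cls_iff (π : Set ℕ) (g : G) :
    (∀ q : ℕ, q.Prime → (∃ h : G, ConjClasses.mk h = ConjClasses.mk g ∧ q ∣ orderOf h) → q ∈ π) ↔
      PiElt π g := by
  constructor
  · exact fun h q hq hd => h q hq ⟨g, rfl, hd⟩
  · rintro h q hq ⟨x, hx, hd⟩
    obtain ⟨c, rfl⟩ := isConj_iff.1 (ConjClasses.mk_eq_mk_iff_isConj.1 hx)
    refine h q hq ?_
    rwa [show c * x * c⁻¹ = MulAut.conj c x from rfl, MulEquiv.orderOf_eq]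

open Classical in
theorem sum_cent [Fintype G] (π : Set ℕ) :
    ∑ g ∈ univ.filter (fun g : G => PiElt π g), Nat.card 𝓒₁(g) = Nat.card G * kpi π G := by
  have := CChar.CharOrth.sum_card_centralizer_filter (G := G) fun C =>
    ∀ q : ℕ, q.Prime → (∃ g : G, ConjClasses.mk g = C ∧ q ∣ orderOf g) → q ∈ π
  unfold kpi
  rw [← this]
  refine sum_congr ?_ fun _ _ => rfl
  ext g
  simp only [mem_filter, mem_univ, true_and]
  exact (cls_iff π g).symm

open Classical in
theorem card_inf_eq [Fintype G] (y : G) (H : Subgroup G) :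
    Nat.card (𝓒₁(y) ⊓ H : Subgroup G) = (univ.filter fun b => b ∈ H ∧ b * y = y * b).card := by
  rw [← Nat.card_eq_finsetCard]
  refine Nat.card_congr (Equiv.subtypeEquivRight fun b => ?_)
  simp only [Subgroup.mem_inf, mem_filter, mem_univ, true_and, mem_centralizer_singleton_iff]
  exact and_comm

open Classical in
theorem sum_cent_sub [Fintype G] (π : Set ℕ) (H : Subgroup G) :
    ∑ g ∈ univ.filter (fun g : G => g ∈ H ∧ PiElt π g), Nat.card (𝓒₁(g) ⊓ H : Subgroup G) =
      Nat.card H * kpi π H := by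
  rw [← sum_cent π]
  symm
  refine sum_bij (fun g _ => (g : G)) (fun g hg => ?_) (fun a _ b _ h => Subtype.ext h)
    (fun g hg => ?_) (fun g hg => ?_)
  · simp only [mem_filter, mem_univ, true_and] at hg ⊢
    exact ⟨g.2, fun q hq hd => hg q hq (by rwa [orderOf_coe] at hd)⟩
  · simp only [mem_filter, mem_univ, true_and] at hg ⊢
    exact ⟨⟨g, hg.1⟩, fun q hq hd => hg.2 q hq (by rwa [← orderOf_coe] at hd), rfl⟩
  · rw [← card_map_of_injective (K := 𝓒₁(g)) H.subtype_injective]
    congr 2
    ext x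
    simp only [Subgroup.mem_map, Subgroup.mem_inf, mem_centralizer_singleton_iff, coe_subtype]
    constructor
    · rintro ⟨x, hx, rfl⟩
      exact ⟨congrArg Subtype.val hx, x.2⟩
    · rintro ⟨h1, h2⟩
      exact ⟨⟨x, h2⟩, Subtype.ext h1, rfl⟩

theorem card_pairs {α β : Type*} (s : Finset α) (t : Finset β) (r : α → β → Prop)
    [∀ a b, Decidable (r a b)] :
    ((s ×ˢ t).filter fun p => r p.1 p.2).card = ∑ a ∈ s, (t.filter (r a)).card := by
  simp only [card_filter, sum_product]

theorem sum_le_of_injOn {α β : Type*} [DecidableEq β] {s : Finset α} {t : Finset β} {f : α → ℕ}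
    {g : β → ℕ} (e : α → β) (he : Set.InjOn e s) (ht : s.image e ⊆ t)
    (h : ∀ a ∈ s, f a ≤ g (e a)) : ∑ a ∈ s, f a ≤ ∑ b ∈ t, g b :=
  (sum_le_sum h).trans ((sum_image he).symm.le.trans (sum_le_sum_of_subset ht))

theorem card_cent_le [Finite G] {K : Type*} [Group K] [Finite K] (f : G →* K) (y : G) :
    Nat.card 𝓒₁(y) ≤ Nat.card (𝓒₁(y) ⊓ f.ker : Subgroup G) * Nat.card 𝓒₁(f y) := by
  have h1 := (f.domRestrict 𝓒₁(y)).ker.card_mul_index
  rw [index_ker, MonoidHom.ker_domRestrict, MonoidHom.domRestrict_range] at h1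
  rw [← h1, ← Nat.card_congr (subgroupOfEquivOfLe (inf_le_left : 𝓒₁(y) ⊓ f.ker ≤ _)).toEquiv,
    inf_comm, inf_subgroupOf_right]
  refine Nat.mul_le_mul_left _ (card_le_of_le ?_)
  rintro _ ⟨x, hx, rfl⟩
  rw [mem_centralizer_singleton_iff, ← map_mul, ← map_mul, mem_centralizer_singleton_iff.1 hx]

open Classical in
theorem sum_coset_le [Fintype G] (π : Set ℕ) (N : Subgroup G) [N.Normal] (c : G ⧸ N) :
    ∑ y ∈ univ.filter (fun y : G => PiElt π y ∧ (y : G ⧸ N) = c),
      Nat.card (𝓒₁(y) ⊓ N : Subgroup G) ≤ Nat.card N * kpi π N := by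
  rw [← sum_cent_sub]
  simp only [card_inf_eq]
  rw [← card_pairs]
  calc _ ≤ (((univ.filter fun g : G => g ∈ N ∧ PiElt π g) ×ˢ (univ : Finset G)).filter
        fun p => (p.2 : G ⧸ N) = c ∧ p.2 * p.1 = p.1 * p.2).card := by
        refine card_le_card_of_injOn (fun p => (constt π p.2, p.1 * constt πᶜ p.2)) ?_ ?_
        · rintro ⟨y, n⟩ h
          simp only [coe_filter, mem_product, mem_filter, mem_univ, true_and, and_true,
            Set.mem_setOf_eq] at h ⊢
          obtain ⟨⟨hy, hc⟩, hn, hyn⟩ := h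
          refine ⟨⟨constt_mem π hn, constt_elt π n⟩, ?_, ?_⟩
          · rw [QuotientGroup.mk_mul_of_mem y (constt_mem _ hn), hc]
          · refine mem_centralizer_singleton_iff.1 (mul_mem (cent1_le_constt π n ?_) ?_)
            · exact mem_centralizer_singleton_iff.2 hyn.symm
            · refine cent1_le_constt π n ?_
              obtain ⟨k, hk⟩ := constt_mem_zpowers πᶜ n
              rw [← hk]
              exact zpow_mem (mem_centralizer_singleton_iff.2 rfl) k
        · rintro ⟨y, n⟩ h ⟨y', n'⟩ h' e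
          simp only [coe_filter, mem_product, mem_filter, mem_univ, true_and, and_true,
            Set.mem_setOf_eq, Prod.mk.injEq] at h h' e
          have k : ∀ {y n : G}, PiElt π y → n * y = y * n → constt π (y * constt πᶜ n) = y :=
            fun hy h => constt_mul_eq hy (constt_elt _ _)
              (cent1_le_constt _ _ (mem_centralizer_singleton_iff.2 h.symm))
          have e1 : y = y' := by rw [← k h.1.1 h.2.2, e.2, k h'.1.1 h'.2.2]
          subst e1
          have e2 := mul_left_cancel e.2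
          rw [← constt_mul_compl π n, ← constt_mul_compl π n', e.1, e2]
    _ ≤ _ := by
        rw [card_pairs (r := fun (u w : G) => (w : G ⧸ N) = c ∧ w * u = u * w)]
        refine sum_le_sum fun u _ => ?_
        rcases (univ.filter fun w : G => (w : G ⧸ N) = c ∧ w * u = u * w).eq_empty_or_nonempty with
          h | ⟨w0, hw0⟩
        · rw [h]; simp
        · refine card_le_card_of_injOn (fun w => w0⁻¹ * w) ?_ fun a _ b _ h => mul_left_cancel h
          intro w hw
          simp only [coe_filter, mem_filter, mem_univ, true_and, Set.mem_setOf_eq] at hw hw0 ⊢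
          refine ⟨QuotientGroup.eq.1 (hw0.1.trans hw.1.symm), ?_⟩
          exact mem_centralizer_singleton_iff.1 (mul_mem (inv_mem
            (mem_centralizer_singleton_iff.2 hw0.2)) (mem_centralizer_singleton_iff.2 hw.2))

theorem kpi_le_mul [Finite G] (π : Set ℕ) (N : Subgroup G) [N.Normal] :
    kpi π G ≤ kpi π N * kpi π (G ⧸ N) := by
  classical
  haveI := Fintype.ofFinite G
  haveI := Fintype.ofFinite (G ⧸ N)
  refine Nat.le_of_mul_le_mul_left ?_ (Nat.card_pos (α := G))
  rw [← sum_cent]
  calc _ ≤ ∑ g ∈ univ.filter (fun g : G => PiElt π g),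
        Nat.card (𝓒₁(g) ⊓ N : Subgroup G) * Nat.card 𝓒₁((g : G ⧸ N)) := by
        refine sum_le_sum fun g _ => ?_
        have := card_cent_le (QuotientGroup.mk' N) g
        rwa [QuotientGroup.ker_mk'] at this
    _ = ∑ c ∈ univ.filter (fun c : G ⧸ N => PiElt π c),
          ∑ g ∈ univ.filter (fun g : G => PiElt π g ∧ (g : G ⧸ N) = c),
            Nat.card (𝓒₁(g) ⊓ N : Subgroup G) * Nat.card 𝓒₁(c) := by
        rw [← sum_fiberwise_of_maps_to (g := fun g : G => (g : G ⧸ N))
          (t := univ.filter (fun c : G ⧸ N => PiElt π c))]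
        · refine sum_congr rfl fun c _ => ?_
          rw [filter_filter]
          refine sum_congr rfl fun g hg => ?_
          rw [(mem_filter.1 hg).2.2]
        · intro g hg
          simp only [mem_filter, mem_univ, true_and] at hg ⊢
          exact fun q hq hd => hg q hq (hd.trans (orderOf_map_dvd (QuotientGroup.mk' N) g))
    _ ≤ ∑ c ∈ univ.filter (fun c : G ⧸ N => PiElt π c),
          (Nat.card N * kpi π N) * Nat.card 𝓒₁(c) := by
        refine sum_le_sum fun c _ => ?_
        rw [← sum_mul]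
        exact Nat.mul_le_mul_right _ (by convert sum_coset_le π N c)
    _ = _ := by
        rw [← mul_sum, sum_cent, N.card_eq_card_quotient_mul_card_subgroup]
        ring

theorem kpi_single_le [Finite G] (p : ℕ) [hp : Fact p.Prime] :
    kpi {p} G ≤ p ^ (Nat.card G).factorization p := by
  obtain ⟨P⟩ : Nonempty (Sylow p G) := inferInstance
  rw [← P.card_eq_multiplicity]
  have hm : ∀ x : P, ∀ q : ℕ, q.Prime → (∃ h : G, ConjClasses.mk h = ConjClasses.mk (x : G) ∧
      q ∣ orderOf h) → q ∈ ({p} : Set ℕ) := fun x => by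
    refine (cls_iff _ _).2 fun q hq hd => ?_
    obtain ⟨k, hk⟩ := IsPGroup.iff_orderOf.1 P.isPGroup' x
    rw [orderOf_coe, hk] at hd
    exact (Nat.prime_dvd_prime_iff_eq hq hp.out).1 (hq.dvd_of_dvd_pow hd)
  refine Nat.card_le_card_of_surjective (fun x : P => ⟨ConjClasses.mk (x : G), hm x⟩) ?_
  rintro ⟨C, hC⟩
  obtain ⟨g, rfl⟩ := ConjClasses.mk_surjective C
  have hg := (cls_iff _ _).1 hC
  have hpg : IsPGroup p (zpowers g) := by
    refine IsPGroup.of_card (n := (orderOf g).primeFactorsList.length) ?_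
    rw [Nat.card_zpowers]
    refine Nat.eq_prime_pow_of_unique_prime_dvd (orderOf_pos g).ne' fun {d} hd h => hg d hd h
  obtain ⟨Q, hQ⟩ := hpg.exists_le_sylow
  obtain ⟨c, rfl⟩ := MulAction.exists_smul_eq G P Q
  have := hQ (mem_zpowers g)
  rw [Sylow.coe_subgroup_smul, mem_pointwise_smul_iff_inv_smul_mem] at this
  refine ⟨⟨_, this⟩, Subtype.ext (ConjClasses.mk_eq_mk_iff_isConj.2 (isConj_iff.2 ⟨c, ?_⟩))⟩
  simp [mul_assoc]

open Classical in
theorem sum_finset_le [Fintype G] (s : Finset ℕ) (hs : ∀ p ∈ s, p.Prime) (H : Subgroup G) :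
    ∑ g ∈ univ.filter (fun g : G => g ∈ H ∧ PiElt (s : Set ℕ) g),
      Nat.card (𝓒₁(g) ⊓ H : Subgroup G) ≤
      Nat.card H * ∏ p ∈ s, p ^ (Nat.card G).factorization p := by
  induction s using Finset.induction_on generalizing H with
  | empty =>
    have : univ.filter (fun g : G => g ∈ H ∧ PiElt ((∅ : Finset ℕ) : Set ℕ) g) ⊆ {1} := by
      intro g hg
      rw [mem_singleton, ← orderOf_eq_one_iff]
      by_contra h1
      simpa using (mem_filter.1 hg).2.2 _ (Nat.minFac_prime h1) (Nat.minFac_dvd _)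
    refine (sum_le_sum_of_subset this).trans ?_
    rw [sum_singleton, prod_empty, mul_one]
    exact card_le_of_le inf_le_right
  | insert p s hps ih =>
    haveI := Fact.mk (hs p (mem_insert_self _ _))
    have ih' := ih fun q hq => hs q (mem_insert_of_mem hq)
    calc _ ≤ ∑ x ∈ univ.filter (fun g : G => g ∈ H ∧ PiElt {p} g),
          ∑ z ∈ univ.filter (fun g : G => g ∈ 𝓒₁(x) ⊓ H ∧ PiElt (s : Set ℕ) g),
            Nat.card (𝓒₁(z) ⊓ (𝓒₁(x) ⊓ H) : Subgroup G) := by
          rw [sum_sigma']
          refine sum_le_of_injOn (fun g => ⟨constt {p} g, constt {p}ᶜ g⟩) ?_ ?_ ?_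
          · intro a _ b _ h
            simp only [Sigma.mk.injEq, heq_eq_eq] at h
            rw [← constt_mul_compl {p} a, h.1, h.2, constt_mul_compl]
          · intro x hx
            obtain ⟨g, hg, rfl⟩ := mem_image.1 hx
            simp only [mem_filter, mem_univ, true_and, mem_sigma, Subgroup.mem_inf] at hg ⊢
            have hz : constt {p}ᶜ g ∈ 𝓒₁(g) := by
              obtain ⟨k, hk⟩ := constt_mem_zpowers {p}ᶜ g
              rw [← hk]
              exact zpow_mem (mem_centralizer_singleton_iff.2 rfl) k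
            refine ⟨⟨constt_mem _ hg.1, constt_elt _ _⟩, ⟨cent1_le_constt _ _ hz, constt_mem _ hg.1⟩,
              fun q hq hd => ?_⟩
            have h1 := constt_elt {p}ᶜ g q hq hd
            have h2 := hg.2 q hq (hd.trans (orderOf_dvd_of_mem_zpowers (constt_mem_zpowers _ _)))
            simp only [coe_insert, Set.mem_insert_iff, Set.mem_compl_iff,
              Set.mem_singleton_iff] at h1 h2
            exact h2.resolve_left h1
          · intro g _
            exact card_le_of_le (le_inf (inf_le_left.trans (cent1_le_constt _ _))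
              (inf_le_inf_right _ (cent1_le_constt _ _)))
      _ ≤ ∑ x ∈ univ.filter (fun g : G => g ∈ H ∧ PiElt {p} g),
          Nat.card (𝓒₁(x) ⊓ H : Subgroup G) * ∏ p ∈ s, p ^ (Nat.card G).factorization p :=
          sum_le_sum fun x _ => by convert ih' _
      _ ≤ _ := by
          rw [← sum_mul, prod_insert hps, ← mul_assoc]
          refine Nat.mul_le_mul_right _ ?_
          have := sum_cent_sub {p} H
          rw [show ∑ x ∈ univ.filter (fun g : G => g ∈ H ∧ PiElt {p} g),
            Nat.card (𝓒₁(x) ⊓ H : Subgroup G) = Nat.card H * kpi {p} H by convert this]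
          refine Nat.mul_le_mul_left _ ((kpi_single_le p).trans (Nat.pow_le_pow_right
            (Fact.out : p.Prime).pos ?_))
          exact (Nat.factorization_le_iff_dvd Nat.card_pos.ne' Nat.card_pos.ne').2
            H.card_subgroup_dvd_card p

/-- Number of commuting pairs with one entry in `Y`, computed in the two ways. -/
theorem sum_inf_eq [Fintype G] (Y : Subgroup G) [DecidablePred (· ∈ Y)] :
    ∑ x : G, Nat.card (𝓒₁(x) ⊓ Y : Subgroup G) =
      ∑ y ∈ univ.filter (· ∈ Y), Nat.card 𝓒₁(y) := by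
  classical
  have h : ∀ y : G, Nat.card 𝓒₁(y) = (univ.filter fun b => b * y = y * b).card := fun y => by
    rw [← inf_top_eq 𝓒₁(y), card_inf_eq]; simp
  simp only [card_inf_eq, h, card_filter]
  rw [sum_comm, sum_filter]
  refine sum_congr rfl fun y _ => ?_
  by_cases hy : y ∈ Y
  · simp only [hy, true_and, if_true]
    exact sum_congr rfl fun x _ => by simp only [eq_comm]
  · simp [hy]

theorem card_le_index_mul [Finite G] (C Y : Subgroup G) :
    Nat.card C ≤ Y.index * Nat.card (C ⊓ Y : Subgroup G) := by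
  have h1 := (Y.subgroupOf C).index_mul_card
  rw [← h1, ← inf_subgroupOf_right, inf_comm,
    Nat.card_congr (subgroupOfEquivOfLe (inf_le_left : C ⊓ Y ≤ _)).toEquiv]
  refine Nat.mul_le_mul_right _ ?_
  rw [inf_comm, inf_subgroupOf_right]
  exact relIndex_le_of_le_right le_top (by rw [relIndex_top_right]; exact Y.index_ne_zero_of_finite)
    |>.trans_eq Y.relIndex_top_right

end CA.H7Cls
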