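import Cfsg.Agent.Lib.Char.Cons
import Cfsg.Agent.Lib.Char.GalC
import Cfsg.Agent.Lib.Char.CharInt
import Cfsg.Agent.Lib.Block.H13Q8G
import Cfsg.Agent.Lib.Grp.Kegel
import Cfsg.Agent.Lib.Cit.D1
import Cfsg.Agent.Lib.Odd.BG4a

/-! Self-centralising elements of order three: basic facts and the character count. -/

set_option autoImplicit false
set_option linter.unusedSectionVars false

namespace CA.H7FT

open Subgroup Cfsg CA.BG

variable {G : Type*} [Group G] [Finite G]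

theorem char_int {x : G} (hx : orderOf x = 3) (hc : IsConj x x⁻¹) {χ : G → ℂ} (h : IsCharacter G χ) :
    ∃ z : ℤ, χ x = z := by
  refine CA.GalC.exists_int_of_fixed (CChar.CharFun.char_isIntegral h x) fun σ => ?_
  obtain ⟨k, hk, hσ⟩ := CA.GalC.exists_pow_of_hom (σ : ℂ →+* ℂ) (n := 3) (by norm_num)
  have e := CA.Cons.map_char_apply (σ : ℂ →+* ℂ) h x k (by rw [hx]; exact hσ)
  have e' : σ (χ x) = χ (x ^ k) := e
  rw [e', ← pow_mod_orderOf, hx]
  have h3 : k % 3 = 1 ∨ k % 3 = 2 := by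
    have : ¬ 3 ∣ k := fun hd => by
      have := Nat.Coprime.eq_one_of_dvd hk.symm hd
      omega
    omega
  rcases h3 with h3 | h3 <;> rw [h3]
  · rw [pow_one]
  · have : x ^ 2 = x⁻¹ := by
      rw [eq_inv_iff_mul_eq_one, ← pow_succ, show 2 + 1 = 3 from rfl, ← hx, pow_orderOf_eq_one]
    rw [this]
    exact (CChar.CharFun.classFun_of_isConj (CChar.CharFun.char_classFun h) hc).symm

theorem count {x : G} (hx : orderOf x = 3) (h3 : ♯𝓒₁(x) = 3) (hc : IsConj x x⁻¹) :
    Nat.card G < 9 * Nat.card {p : G × G // IsConj x p.1 ∧ IsConj x p.2 ∧ p.1 * p.2 = x} := by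
  classical
  have hz : ∀ χ : IrrCharacter G, ∃ z : ℤ, (χ : G → ℂ) x = z := fun χ =>
    char_int hx hc (CChar.CharFun.char_of_irr χ.2)
  choose z hz using hz
  have x1 : x ≠ 1 := by rintro rfl; simp at hx
  have s3 : ∑ χ, z χ * z χ = 3 := by
    have := CChar.CharOrth.sum_irr_mul_conj_of_isConj (IsConj.refl x)
    rw [h3] at this
    simp only [hz, map_intCast] at this
    exact_mod_cast this
  have z1 : z (CChar.CharOrth.irrOne G) = 1 := by
    have := hz (CChar.CharOrth.irrOne G)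
    rw [CChar.CharOrth.irrOne_apply] at this
    exact_mod_cast this.symm
  obtain ⟨a, b, T⟩ := CA.H13Q8G.exists_three' z1 s3
  have hd : ∀ χ : IrrCharacter G, (χ : G → ℂ) 1 = charDegree (χ : G → ℂ) := fun χ =>
    CChar.CharInt.irr_apply_one_eq χ.2
  have hp : ∀ χ : IrrCharacter G, 0 < charDegree (χ : G → ℂ) := fun χ => CChar.CharInt.charDegree_pos χ.2
  have d1 : charDegree (CChar.CharOrth.irrOne G : G → ℂ) = 1 := by
    have := hd (CChar.CharOrth.irrOne G)
    rw [CChar.CharOrth.irrOne_apply] at this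
    exact_mod_cast this.symm
  have s0 : (1 : ℤ) + z a * charDegree (a : G → ℂ) + z b * charDegree (b : G → ℂ) = 0 := by
    have e := CChar.CharOrth.sum_degree_mul_apply x
    rw [CChar.CharOrth.regChar_of_ne x1] at e
    simp only [hz, hd] at e
    have e2 := T.sum (fun χ => (charDegree (χ : G → ℂ) : ℂ))
    simp only [d1] at e2
    have : ∑ χ : IrrCharacter G, (z χ : ℂ) * (charDegree (χ : G → ℂ) : ℂ) = 0 := by
      rw [← e]; exact Finset.sum_congr rfl fun _ _ => mul_comm _ _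
    rw [e2] at this
    exact_mod_cast this
  have e := CChar.CharInt.card_class_mul x x x
  simp only [hz, hd, map_intCast] at e
  have e2 := T.sum (fun χ => ((z χ : ℂ) * z χ / (charDegree (χ : G → ℂ) : ℂ)))
  have e3 : ∑ χ : IrrCharacter G, (z χ : ℂ) * z χ * z χ / (charDegree (χ : G → ℂ) : ℂ) =
      ∑ χ : IrrCharacter G, (z χ : ℂ) * ((z χ : ℂ) * z χ / (charDegree (χ : G → ℂ) : ℂ)) :=
    Finset.sum_congr rfl fun _ _ => by ring
  rw [e3, e2] at e
  simp only [z1, d1] at e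
  have hi : 𝓒₁(x).index * 3 = Nat.card G := by rw [← h3]; exact index_mul_card _
  set N := Nat.card {p : G × G // IsConj x p.1 ∧ IsConj x p.2 ∧ p.1 * p.2 = x}
  set i := 𝓒₁(x).index
  set da := charDegree (a : G → ℂ)
  set db := charDegree (b : G → ℂ)
  have ha : 0 < da := hp a
  have hb : 0 < db := hp b
  have hi0 : 0 < i := by
    have : 0 < Nat.card G := Nat.card_pos
    omega
  rw [← hi] at e ⊢
  have eq : (N : ℚ) = i * i / ((i * 3 : ℕ) : ℚ) * (((1 : ℤ) : ℚ) * ((1 : ℤ) : ℚ) / ((1 : ℕ) : ℚ) +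
      z a * ((z a : ℚ) * z a / da) + z b * ((z b : ℚ) * z b / db)) := by
    apply Rat.cast_injective (α := ℂ)
    push_cast at e ⊢
    exact e
  have key : (1 : ℚ) < ((1 : ℤ) : ℚ) * ((1 : ℤ) : ℚ) / ((1 : ℕ) : ℚ) +
      z a * ((z a : ℚ) * z a / da) + z b * ((z b : ℚ) * z b / db) := by
    have ha' : (0 : ℚ) < da := by exact_mod_cast ha
    have hb' : (0 : ℚ) < db := by exact_mod_cast hb
    rcases T.za with h1 | h1 <;> rcases T.zb with h2 | h2 <;> rw [h1, h2] at s0 ⊢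
    · omega
    · have : (da : ℚ) < db := by exact_mod_cast (by omega : da < db)
      have := one_div_lt_one_div_of_lt ha' this
      push_cast; linarith [show (1 : ℚ) * 1 / da = 1 / da by ring, show (-1 : ℚ) * -1 / db = 1 / db by ring]
    · have : (db : ℚ) < da := by exact_mod_cast (by omega : db < da)
      have := one_div_lt_one_div_of_lt hb' this
      push_cast; linarith [show (1 : ℚ) * 1 / db = 1 / db by ring, show (-1 : ℚ) * -1 / da = 1 / da by ring]
    · omega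
  have hi' : (0 : ℚ) < i := by exact_mod_cast hi0
  have : ((i * 3 : ℕ) : ℚ) < ((9 * N : ℕ) : ℚ) := by
    have e4 : (i : ℚ) * i / ((i * 3 : ℕ) : ℚ) = i / 3 := by push_cast; field_simp
    rw [e4] at eq
    push_cast
    rw [eq]
    nlinarith
  exact_mod_cast this

/-- `x` has order three and is self-centralising. -/
structure SC (x : G) : Prop where
  ord : orderOf x = 3
  cent : 𝓒₁(x) ≤ zpowers x

/-- An `x`-invariant subgroup of order prime to three. -/
structure Inv (x : G) (H : Subgroup G) : Prop where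
  norm : x ∈ 𝓝(H)
  pi : IsPi {3}ᶜ H

variable {x t g u w : G} {A H K M N : Subgroup G}

theorem p3 : Nat.Prime 3 := Nat.prime_three

namespace SC
variable (h : SC x)
include h

theorem card : ♯(zpowers x) = 3 := by rw [Nat.card_zpowers, h.ord]
theorem prime : (♯(zpowers x)).Prime := h.card ▸ p3
theorem pi3 : IsPi {3} (zpowers x) := isPi_of_card_eq p3 h.card
theorem ne : x ≠ 1 := by rintro rfl; simpa using h.ord
theorem cube : x ^ 3 = 1 := by rw [← h.ord, pow_orderOf_eq_one]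
theorem cent_eq : 𝓒₁(x) = zpowers x :=
  le_antisymm h.cent (zpowers_le.2 (mem_cent1_self x))
theorem sq : x * x = x⁻¹ := by rw [eq_inv_iff_mul_eq_one, ← h.cube, pow_three, mul_assoc]

theorem mem_cases (hg : g ∈ zpowers x) : g = 1 ∨ g = x ∨ g = x⁻¹ := by
  obtain ⟨k, rfl⟩ := (Submonoid.mem_powers_iff _ _).1 (mem_powers_iff_mem_zpowers.2 hg)
  rw [← pow_mod_orderOf, h.ord]
  have : k % 3 = 0 ∨ k % 3 = 1 ∨ k % 3 = 2 := by omega
  rcases this with e | e | e <;> rw [e]
  · simp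
  · simp
  · rw [pow_two, h.sq]; simp

theorem syl : Syl 3 (zpowers x) ⊤ := by
  refine syl_of_maximal p3 le_top h.pi3 fun Q hQ h1 _ => le_antisymm ?_ h1
  have hz := hQ.center_ne_bot (ne_bot_mono h1 (ne_bot_of_prime h.prime))
  have h2 : 𝓩(Q) ≤ zpowers x := (inf_le_right.trans (cent_le_cent1 (h1 (mem_zpowers x)))).trans h.cent
  have h3 : zpowers x ≤ 𝓩(Q) := le_of_inf_ne_bot_of_prime h.prime (by rwa [inf_eq_right.2 h2])
  exact (le_cent1_iff.2 (h3 (mem_zpowers x)).2).trans h.cent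

theorem syl' (hx : x ∈ M) : Syl 3 (zpowers x) M := h.syl.of_le (zpowers_le.2 hx) le_top

theorem conj (g : G) : SC (g * x * g⁻¹) :=
  ⟨by rw [← h.ord]; exact (MulAut.conj g).orderOf_eq x, by
    rw [← cj_cent1, ← cj_zpowers]; exact cj_mono g h.cent⟩

theorem inv : SC x⁻¹ := ⟨by rw [orderOf_inv, h.ord], by
  rw [zpowers_inv, ← cent_zpowers, zpowers_inv, cent_zpowers]; exact h.cent⟩

theorem conj_cases (hu : orderOf u = 3) : ∃ g : G, u = g * x * g⁻¹ ∨ u = g * x⁻¹ * g⁻¹ := by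
  have hc : ♯(zpowers u) = 3 := by rw [Nat.card_zpowers, hu]
  obtain ⟨g, -, e⟩ := h.syl.syl_le_conj p3 (isPi_of_card_eq p3 hc) le_top
  have := mem_cj.1 (e (mem_zpowers u))
  refine ⟨g, ?_⟩
  rcases h.mem_cases this with e | e | e
  · have : u = 1 := by simpa [mul_assoc] using congrArg (fun y => g * y * g⁻¹) e
    rw [this] at hu; simp at hu
  · left; rw [← e]; group
  · right; rw [← e]; group

theorem of_ord (hu : orderOf u = 3) : SC u := by
  obtain ⟨g, e | e⟩ := h.conj_cases hu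
  · exact e ▸ h.conj g
  · exact e ▸ h.inv.conj g

/-- The centraliser of a nontrivial `3'`-element is a `3'`-group. -/
theorem cent1_pi (hw : PiNat {3}ᶜ (orderOf w)) (h1 : w ≠ 1) : IsPi {3}ᶜ 𝓒₁(w) := by
  rw [isPi_compl_iff p3]
  intro hd
  obtain ⟨u, hu, ho⟩ := exists_orderOf_eq p3 hd
  have hs := h.of_ord ho
  have := hs.cent (mem_cent1_symm.1 hu)
  exact h1 (orderOf_eq_one_iff.1 ((hs.pi3.orderOf this).eq_one hw))

theorem cent_pi (hA : IsPi {3}ᶜ A) (h1 : A ≠ ⊥) : IsPi {3}ᶜ 𝓒(A) := by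
  obtain ⟨w, hw, w1⟩ := exists_ne_one h1
  exact (h.cent1_pi (hA.orderOf hw) w1).of_le (cent_le_cent1 hw)

theorem fpf (hH : IsPi {3}ᶜ H) : H ⊓ 𝓒₁(x) = ⊥ := by
  rw [h.cent_eq]; exact hH.inf_eq_bot' h.pi3

theorem nil (hH : Inv x H) : Group.IsNilpotent H :=
  CA.Kegel.isNilpotent_of_fpf hH.norm p3 h.cube (h.fpf hH.pi)

theorem mod (hH : Inv x H) : ♯H % 3 = 1 := by
  have := CA.BG4.card_modEq_cent p3 h.pi3 (zpowers_le.2 hH.norm)
  rw [cent_zpowers, h.fpf hH.pi, card_bot] at this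
  exact this

theorem norm_cases (hg : g ∈ 𝓝(zpowers x)) : g ∈ zpowers x ∨ g * x * g⁻¹ = x⁻¹ := by
  rcases h.mem_cases (conj_mem_of_mem_norm hg (mem_zpowers x)) with e | e | e
  · exact (h.conj g).ne e |>.elim
  · exact Or.inl (h.cent (mem_cent1.2 (mul_inv_eq_iff_eq_mul.1 e)))
  · exact Or.inr e

theorem norm_cases' (ht : t * x * t⁻¹ = x⁻¹) (hg : g ∈ 𝓝(zpowers x)) :
    g ∈ zpowers x ∨ t⁻¹ * g ∈ zpowers x := by
  refine (h.norm_cases hg).imp id fun e => h.cent (mem_cent1.2 ?_)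
  have : t⁻¹ * g * x * (t⁻¹ * g)⁻¹ = x := by
    calc _ = t⁻¹ * (g * x * g⁻¹) * t := by group
      _ = x := by rw [e, ← ht]; group
  calc _ = t⁻¹ * g * x * (t⁻¹ * g)⁻¹ * (t⁻¹ * g) := by group
    _ = _ := by rw [this]

theorem not_mem_of_inv (ht : t * x * t⁻¹ = x⁻¹) : t ∉ zpowers x := fun hm => by
  have e : t * x = x * t := mem_cent1.1 (h.cent_eq ▸ hm)
  rw [e, mul_inv_cancel_right, ← h.sq] at ht
  exact h.ne (by simpa using ht)

theorem mem_norm_of_inv (ht : t * x * t⁻¹ = x⁻¹) : t ∈ 𝓝(zpowers x) := by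
  rw [mem_norm_iff_cj, cj_zpowers, ht, zpowers_inv]

theorem card_norm : ♯𝓝(zpowers x) = 3 ∨ ♯𝓝(zpowers x) = 6 := by
  by_cases hle : 𝓝(zpowers x) ≤ zpowers x
  · left; rw [le_antisymm hle (le_norm_self _), h.card]
  · obtain ⟨t, ht, hn⟩ := SetLike.not_le_iff_exists.1 hle
    have ht' := (h.norm_cases ht).resolve_left hn
    right
    have : (zpowers x).relIndex 𝓝(zpowers x) = 2 := by
      rw [relIndex, index_eq_two_iff_exists_notMem_and']
      refine ⟨⟨t⁻¹, inv_mem ht⟩, fun hm => hn (by simpa [mem_subgroupOf] using hm), fun b => ?_⟩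
      exact (h.norm_cases' ht' b.2).symm
    rw [← card_mul_relIndex (le_norm_self _), this, h.card]

/-- Two conjugate subgroups normalised by `x` are conjugate under the normaliser of `⟨x⟩`. -/
theorem conj_inv (ht : t * x * t⁻¹ = x⁻¹) (h1 : x ∈ 𝓝(H)) (h2 : x ∈ 𝓝(cj g H)) :
    cj g H = H ∨ cj g H = cj t H := by
  have h3 : g⁻¹ * x * g⁻¹⁻¹ ∈ 𝓝(H) := by
    rw [← cj_norm, mem_cj] at h2; simpa using h2
  obtain ⟨n, hn, e⟩ := (h.syl' h1).syl_conj p3 ((h.conj g⁻¹).syl' h3)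
  have h4 : g * n ∈ 𝓝(zpowers x) := by
    rw [mem_norm_iff_cj, cj_mul, e, ← cj_zpowers, cj_cj_inv]
  have h5 : cj g H = cj (g * n) H := by rw [cj_mul, cj_of_mem_norm hn]
  rw [h5]
  rcases h.norm_cases' ht h4 with e | e
  · exact Or.inl (cj_of_mem_norm (zpowers_le.2 h1 e))
  · right
    rw [show g * n = t * (t⁻¹ * (g * n)) by group, cj_mul, cj_of_mem_norm (zpowers_le.2 h1 e)]

theorem sub (hx : x ∈ M) : SC (⟨x, hx⟩ : M) := by
  refine ⟨by rw [← h.ord]; exact (orderOf_mk x hx), fun g hg => ?_⟩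
  have := h.cent (mem_cent1.2 (congrArg Subtype.val (mem_cent1.1 hg)))
  obtain ⟨k, e⟩ := mem_zpowers_iff.1 this
  exact mem_zpowers_iff.2 ⟨k, Subtype.ext (by simpa using e)⟩

theorem map {Γ : Type*} [Group Γ] [Finite Γ] (f : G →* Γ) (hf : Function.Surjective f)
    (hk : IsPi {3}ᶜ f.ker) : SC (f x) := by
  have hx : x ∉ f.ker := fun hm => h.ne (orderOf_eq_one_iff.1
    ((h.pi3.orderOf (mem_zpowers x)).eq_one (hk.orderOf hm)))
  haveI := Fact.mk p3
  refine ⟨orderOf_eq_prime (by rw [← map_pow, h.cube, map_one]) hx, fun g' hg => ?_⟩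
  obtain ⟨g, rfl⟩ := hf g'
  have hn : zpowers x ≤ 𝓝(f.ker) := by rw [normalizer_eq_top]; exact le_top
  have e : f (g * x * g⁻¹) = f x := by rw [map_mul, map_mul, mem_cent1.1 hg, map_inv]; group
  have h1 : g * x * g⁻¹ ∈ zpowers x ⊔ f.ker := by
    rw [show g * x * g⁻¹ = x * (x⁻¹ * (g * x * g⁻¹)) by group]
    exact mul_mem_sup (mem_zpowers x) (by rw [MonoidHom.mem_ker, map_mul, e]; simp)
  obtain ⟨n, hn', e2⟩ := ((h.conj g).syl' h1).syl_conj p3 (h.syl' (mem_sup_left (mem_zpowers x)))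
  obtain ⟨a, ha, m, hm, rfl⟩ := (mem_sup_norm hn).1 hn'
  have h2 : a * m * g ∈ 𝓝(zpowers x) := by
    rw [mem_norm_iff_cj, cj_mul, cj_zpowers g, e2]
  have hm' : f m = 1 := hm
  have ha' : f a ∈ zpowers (f x) := by
    rw [← MonoidHom.map_zpowers]; exact mem_map_of_mem f ha
  rcases h.norm_cases h2 with e3 | e3
  · have : f (a * m * g) ∈ zpowers (f x) := by
      rw [← MonoidHom.map_zpowers]; exact mem_map_of_mem f e3
    rw [map_mul, map_mul, hm', mul_one] at this
    exact (mul_mem_cancel_left ha').1 this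
  · exfalso
    have e4 := congrArg f e3
    have e5 : f a * f x = f x * f a := by
      have := mem_cent1.1 (h.cent_eq ▸ ha)
      rw [← map_mul, this, map_mul]
    have e6 : f g * f x = f x * f g := mem_cent1.1 hg
    simp only [map_mul, map_inv, hm', mul_one] at e4
    rw [mul_assoc (f a), e6, ← mul_assoc, e5, mul_assoc (f x), mul_inv_cancel_right, ← map_inv, ← h.sq,
      map_mul] at e4
    exact hx (by simpa using e4)

/-- The solutions counted by `count` lie in invariant `3'`-subgroups. -/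
theorem sol {a : G} (h1 : (a * x) ^ 3 = 1) (h2 : (a * x⁻¹) ^ 3 = 1) (n1 : a ≠ x) (n2 : a ≠ x⁻¹) :
    a = 1 ∨ ∃ A, Inv x A ∧ a ∈ A := by
  have hs := h.sq
  have hs' : x⁻¹ * x⁻¹ = x := by rw [← mul_inv_rev, hs, inv_inv]
  set b := x * a * x⁻¹ with hb
  set c := x⁻¹ * a * x with hc
  have e1 : a * b * c = 1 := by
    rw [← h1, pow_three]
    calc _ = a * x * a * (x⁻¹ * x⁻¹) * a * x := by rw [hb, hc]; group
      _ = _ := by rw [hs']; group
  have e2 : a * c * b = 1 := by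
    rw [← h2, pow_three]
    calc _ = a * x⁻¹ * a * (x * x) * a * x⁻¹ := by rw [hb, hc]; group
      _ = _ := by rw [hs]; group
  have bc : b * c = c * b := by
    rw [mul_assoc] at e1 e2; exact mul_left_cancel (e1.trans e2.symm)
  have ea : a = (b * c)⁻¹ := by rw [mul_assoc] at e1; exact eq_inv_of_mul_eq_one_left e1
  set A := zpowers b ⊔ zpowers c with hA
  have hbA : b ∈ A := mem_sup_left (mem_zpowers b)
  have hcA : c ∈ A := mem_sup_right (mem_zpowers c)
  have haA : a ∈ A := by rw [ea]; exact inv_mem (mul_mem hbA hcA)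
  have hcomm : IsMulCommutative A := comm_sup (comm_of_cyclic (cyc_zpowers b)) (comm_of_cyclic (cyc_zpowers c))
    (by rw [cent_zpowers, zpowers_le, mem_cent1, bc])
  have hn : x ∈ 𝓝(A) := by
    refine mem_norm_of_cj_le ?_
    rw [hA, cj_sup, cj_zpowers, cj_zpowers]
    refine sup_le (zpowers_le.2 ?_) (zpowers_le.2 ?_)
    · have : x * b * x⁻¹ = c := by
        calc _ = (x * x) * a * (x⁻¹ * x⁻¹) := by rw [hb]; group
          _ = _ := by rw [hs, hs']
      rw [this]; exact hcA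
    · have : x * c * x⁻¹ = a := by rw [hc]; group
      rw [this]; exact haA
  by_cases hp : IsPi {3}ᶜ A
  · exact Or.inr ⟨A, ⟨hn, hp⟩, haA⟩
  · left
    have hO : 𝓞({3}, A) ≠ ⊥ := fun e => hp (e ▸ nil_hall_core {3} (nil_of_comm hcomm)).isPi_compl_of_eq_bot
    have := h.pi3.meet_cent (core_pi _ A) (norm_core _ (zpowers_le.2 hn)) hO
    rw [cent_zpowers, h.cent_eq, inf_comm] at this
    have hxA : x ∈ A := core_le _ _ (le_of_inf_ne_bot_of_prime h.prime this (mem_zpowers x))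
    have := h.cent (cent_le_cent1 hxA (comm_iff_le_cent.1 hcomm haA))
    rcases h.mem_cases this with e | e | e
    exacts [e, (n1 e).elim, (n2 e).elim]

open Classical in
theorem count' (ht : t * x * t⁻¹ = x⁻¹) (U : Finset G) (h1 : 1 ∈ U)
    (hU : ∀ A, Inv x A → ∀ a ∈ A, a ∈ U) : Nat.card G < 9 * U.card := by
  have hc : IsConj x x⁻¹ := isConj_iff.2 ⟨t, ht⟩
  refine (count h.ord (by rw [h.cent_eq, h.card]) hc).trans_le (Nat.mul_le_mul_left 9 ?_)
  rw [← Nat.card_eq_finsetCard U]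
  have cube : ∀ y, IsConj x y → y ^ 3 = 1 ∧ y ≠ 1 := fun y hy => by
    obtain ⟨g, rfl⟩ := isConj_iff.1 hy
    exact ⟨(h.conj g).cube, (h.conj g).ne⟩
  refine Nat.card_le_card_of_injective (fun p => ⟨p.1.1 * x, ?_⟩) ?_
  · obtain ⟨⟨y, z⟩, hy, hz, e⟩ := p
    obtain ⟨y3, y1⟩ := cube y hy
    obtain ⟨z3, z1⟩ := cube z hz
    have ez : z = y⁻¹ * x := by rw [← e]; group
    have := h.sol (a := y * x) ?_ (by simpa using y3) (by simpa using y1) ?_
    · rcases this with e | ⟨A, hA, ha⟩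
      · show y * x ∈ U
        rw [e]; exact h1
      · exact hU A hA _ ha
    · rw [mul_assoc, h.sq]
      have : y * x⁻¹ = x * z⁻¹ * x⁻¹ := by rw [ez]; group
      rw [this, conj_pow, inv_pow, z3]; simp
    · intro e'
      apply z1
      have : y = x := by
        have e2 : y * x = x * x := by rw [e', h.sq]
        exact mul_right_cancel e2
      rw [ez, this, inv_mul_cancel]
  · rintro ⟨⟨y, z⟩, hy, hz, e⟩ ⟨⟨y', z'⟩, hy', hz', e'⟩ hp
    have : y = y' := by simpa using hp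
    subst this
    have : z = z' := mul_left_cancel (e.trans e'.symm)
    subst this; rfl

end SC

theorem Inv.sup (h1 : Inv x A) (h2 : Inv x N) (hn : A ≤ 𝓝(N)) : Inv x (A ⊔ N) :=
  ⟨norm_sup (zpowers_le.2 h1.norm) (zpowers_le.2 h2.norm) (mem_zpowers x), h1.pi.sup h2.pi hn⟩

theorem Inv.core (h : Inv x H) (π : Set ℕ) : Inv x 𝓞(π, H) :=
  ⟨norm_le_norm_core π H h.norm, h.pi.of_le (core_le _ _)⟩

theorem Inv.cj (h : Inv x H) (g : G) : Inv (g * x * g⁻¹) (cj g H) :=
  ⟨by rw [← cj_norm]; exact conj_mem_cj.2 h.norm, h.pi.cj g⟩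

end CA.H7FT
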