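import Cfsg.Agent.Lib.Grp.H7FT1
import Cfsg.Agent.Lib.Char.CharOrth

/-! Self-centralising elements of order three: maximal invariant `3'`-subgroups. -/

set_option autoImplicit false
set_option linter.unusedSectionVars false

namespace CA.H7FT

open Subgroup Cfsg CA.BG

variable {G : Type*} [Group G] [Finite G] {x y t g u w : G} {A H K L M N R S T : Subgroup G}

theorem p2 : Nat.Prime 2 := Nat.prime_two

theorem norm_of_two (h : S ≤ T) (hc : ♯T = 2 * ♯S) : T ≤ 𝓝(S) := by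
  have : S.relIndex T = 2 := by
    have := card_mul_relIndex h
    have h0 := card_pos' S
    rw [hc, mul_comm 2] at this
    exact Nat.eq_of_mul_eq_mul_left h0 this
  exact (normal_subgroupOf_iff_le_normalizer h).1 (normal_of_index_eq_two this)

theorem eq_or_of_two (h1 : S ≤ L) (h2 : L ≤ T) (hc : ♯T = 2 * ♯S) : L = S ∨ L = T := by
  obtain ⟨a, ha⟩ := card_dvd h1
  obtain ⟨b, hb⟩ := card_dvd h2
  have h0 := card_pos' S
  have : a * b = 2 := by
    rw [ha, hc, mul_assoc, mul_comm 2] at hb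
    exact (Nat.eq_of_mul_eq_mul_left h0 hb).symm
  rcases (Nat.dvd_prime p2).1 (Dvd.intro _ this) with e | e
  · left; rw [e, mul_one] at ha; exact (eq_of_le_of_card_eq h1 ha.symm).symm
  · right; exact eq_of_le_of_card_eq h2 (by rw [ha, hc, e, mul_comm])

theorem mul_mem_of_two (h : S ≤ T) (hc : ♯T = 2 * ♯S) {a b : G} (ha : a ∈ T) (hb : b ∈ T) (na : a ∉ S)
    (nb : b ∉ S) : a⁻¹ * b ∈ S := by
  have : S.relIndex T = 2 := by
    have := card_mul_relIndex h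
    have h0 := card_pos' S
    rw [hc, mul_comm 2] at this
    exact Nat.eq_of_mul_eq_mul_left h0 this
  have := (mul_mem_iff_of_index_two (H := S.subgroupOf T) this (a := ⟨a, ha⟩⁻¹) (b := ⟨b, hb⟩)).2
    (by simp [mem_subgroupOf, na, nb])
  simpa [mem_subgroupOf] using this

theorem SC.no_idx_two (h : SC x) (hS : Inv x S) (hy : y ∈ S) : ♯S ≠ 2 * ♯(S ⊓ 𝓒₁(y) : Subgroup G) := by
  intro hc
  set C := S ⊓ 𝓒₁(y) with hC
  have hf := h.fpf hS.pi
  have e1 : cj x C = S ⊓ 𝓒₁(x * y * x⁻¹) := by rw [hC, cj_inf, cj_of_mem_norm hS.norm, cj_cent1]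
  have hn : ¬ cj x C ≤ C := fun hle => by
    have h1 := h.mod hS
    have h2 := h.mod (H := C) ⟨mem_norm_of_cj_le hle, hS.pi.inf_left _⟩
    omega
  obtain ⟨s, hs, ns⟩ := SetLike.not_le_iff_exists.1 hn
  rw [e1] at hs
  have t1 := CA.Cit.tri3 hS.norm h.cube hf hy
  have s1 : s * (x * y * x⁻¹) * s⁻¹ = x * y * x⁻¹ := by rw [mem_cent1.1 hs.2]; group
  have hs' : x * s * x⁻¹ ∈ S := conj_mem_of_mem_norm hS.norm hs.1
  have ns' : x * s * x⁻¹ ∉ C := fun hm => ns ⟨hs.1, mem_cent1.2 (by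
    have e := mem_cent1.1 hm.2
    have s2 : s * (x⁻¹ * y * x) * s⁻¹ = x⁻¹ * y * x := by
      calc _ = x⁻¹ * (x * s * x⁻¹ * y) * x * s⁻¹ := by group
        _ = _ := by rw [e]; group
    have e3 : y = ((x * y * x⁻¹) * (x⁻¹ * y * x))⁻¹ := by
      rw [mul_assoc] at t1; exact eq_inv_of_mul_eq_one_left t1
    have : s * y * s⁻¹ = y := by
      conv_lhs => rw [e3]
      calc _ = ((s * (x * y * x⁻¹) * s⁻¹) * (s * (x⁻¹ * y * x) * s⁻¹))⁻¹ := by group
        _ = _ := by rw [s1, s2, ← e3]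
    exact mul_inv_eq_iff_eq_mul.1 this)⟩
  have hm := mul_mem_of_two inf_le_left hc hs.1 hs' ns ns'
  have e2 : x * s * x⁻¹ * y * (x * s * x⁻¹)⁻¹ = s * y * s⁻¹ := by
    have e := mem_cent1.1 hm.2
    calc _ = s * (s⁻¹ * (x * s * x⁻¹) * y) * (x * s * x⁻¹)⁻¹ := by group
      _ = _ := by rw [e]; group
  set z := s * y * s⁻¹ with hz
  have hzC : z ∈ C := conj_mem_of_norm (norm_of_two inf_le_left hc) hs.1 ⟨hy, mem_cent1_self y⟩
  have hzy : z * y = y * z := mem_cent1.1 hzC.2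
  have t2 : z * (x * y * x⁻¹) * (x⁻¹ * z * x) = 1 := by
    calc _ = s * y * s⁻¹ * (s * (x * y * x⁻¹) * s⁻¹) *
        (x⁻¹ * (x * s * x⁻¹ * y * (x * s * x⁻¹)⁻¹) * x) := by rw [s1, e2]
      _ = s * (y * (x * y * x⁻¹) * (x⁻¹ * y * x)) * s⁻¹ := by group
      _ = 1 := by rw [t1]; group
  have hw : y⁻¹ * z ∈ S := mul_mem (inv_mem hy) hzC.1
  have w1 : x⁻¹ * (y⁻¹ * z) * x = (y⁻¹ * z)⁻¹ := by
    rw [eq_inv_iff_mul_eq_one]
    have e4 : x⁻¹ * z * x = (z * (x * y * x⁻¹))⁻¹ := eq_inv_of_mul_eq_one_right t2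
    have e5 : x⁻¹ * y * x = (y * (x * y * x⁻¹))⁻¹ := eq_inv_of_mul_eq_one_right t1
    calc _ = (x⁻¹ * y * x)⁻¹ * (x⁻¹ * z * x) * (y⁻¹ * z) := by group
      _ = y * (y * z)⁻¹ * z := by rw [e4, e5]; group
      _ = 1 := by rw [← hzy]; group
  have w2 : x * (y⁻¹ * z) * x⁻¹ = (y⁻¹ * z)⁻¹ := by
    have : x * (y⁻¹ * z)⁻¹ * x⁻¹ = y⁻¹ * z := by rw [← w1]; group
    calc _ = (x * (y⁻¹ * z)⁻¹ * x⁻¹)⁻¹ := by group
      _ = _ := by rw [this]
  have t3 := CA.Cit.tri3 hS.norm h.cube hf hw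
  rw [w1, w2, mul_inv_cancel, one_mul, inv_eq_one, inv_mul_eq_one] at t3
  exact ns ⟨hs.1, mem_cent1.2 (mul_inv_eq_iff_eq_mul.1 t3.symm)⟩

/-- A maximal nontrivial `x`-invariant `3'`-subgroup. -/
structure Max (x : G) (H : Subgroup G) : Prop where
  inv : Inv x H
  ne : H ≠ ⊥
  max : ∀ K, Inv x K → H ≤ K → K = H

theorem Max.cj (h : Max x H) (g : G) : Max (g * x * g⁻¹) (cj g H) :=
  ⟨h.inv.cj g, by simpa using h.ne, fun K hK hle => by
    have := h.max (BG.cj g⁻¹ K) (by simpa [mul_assoc] using hK.cj g⁻¹) (cj_le_iff.1 hle)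
    rw [← this, cj_cj_inv]⟩

theorem Inv.exists_max (h : Inv x A) (h1 : A ≠ ⊥) : ∃ H, Max x H ∧ A ≤ H := by
  obtain ⟨K, hK, h2, h3⟩ := exists_maximal_ge (P := Inv x) h
  exact ⟨K, ⟨h2, ne_bot_mono hK h1, h3⟩, hK⟩

theorem Max.cent (hm : Max x H) (h : SC x) (hA : Inv x A) (h1 : A ≠ ⊥) (hc : H ≤ 𝓒(A)) : 𝓒(A) = H :=
  hm.max _ ⟨norm_cent (zpowers_le.2 hA.norm) (mem_zpowers x), h.cent_pi hA.pi h1⟩ hc

theorem Max.cent_center (hm : Max x H) (h : SC x) : 𝓒(𝓩(H)) = H :=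
  hm.cent h ⟨norm_center H hm.inv.norm, hm.inv.pi.inf_left _⟩ (center_ne_bot_of_nil (h.nil hm.inv) hm.ne)
    (cent_symm inf_le_right)

theorem lemK {S' : Subgroup G} (h : SC x) (h' : SC y) (hm : Max x S) (hm' : Max y S') (hT : IsPi {2} T)
    (h1 : S ≤ T) (h2 : S' ≤ T) (c1 : ♯T = 2 * ♯S) (c2 : ♯T = 2 * ♯S') (hn : ♯𝓝(S) = 6 * ♯S)
    (h4 : 4 < ♯S) : S' = S := by
  by_contra hne
  have hcc : ♯S' = ♯S := by omega
  have n1 := norm_of_two h1 c1
  have nle : ¬ S ≤ S' := fun hle => hne (eq_of_le_of_card_eq hle hcc.symm).symm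
  have nle' : ¬ S' ≤ S := fun hle => hne (eq_of_le_of_card_eq hle hcc)
  have hsup : S' ⊔ S = T := (eq_or_of_two le_sup_right (sup_le h2 h1) c1).resolve_left
    fun e => nle' (e ▸ le_sup_left)
  have c0 : ♯S = 2 * ♯(S' ⊓ S : Subgroup G) := by
    have := card_sup_mul_inf (h2.trans n1)
    rw [hsup, c1, hcc, mul_comm 2, mul_assoc] at this
    exact (Nat.eq_of_mul_eq_mul_left (card_pos' S) this).symm
  by_cases hz : 𝓩(S') ≤ S
  · have : ¬ 𝓩(S') ≤ 𝓒(S) := fun hle => nle (hm'.cent_center h' ▸ cent_symm hle)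
    obtain ⟨z, hz1, hz2⟩ := SetLike.not_le_iff_exists.1 this
    refine h.no_idx_two hm.inv (hz hz1) ?_
    have hle : S' ⊓ S ≤ S ⊓ 𝓒₁(z) := le_inf inf_le_right (inf_le_left.trans (le_cent1_iff.2 hz1.2))
    rcases eq_or_of_two hle inf_le_left c0 with e | e
    · rw [e]; exact c0
    · exact (hz2 (le_cent1_iff.1 (e ▸ inf_le_right))).elim
  obtain ⟨z, hz1, hz2⟩ := SetLike.not_le_iff_exists.1 hz
  have hzT : z ∈ T := h2 hz1.1
  set D := S' ⊓ S with hD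
  have hD1 : D ≤ 𝓒₁(z) := inf_le_left.trans (le_cent1_iff.2 hz1.2)
  have hD2 : cj x D ≤ 𝓒₁(x * z * x⁻¹) := by rw [← cj_cent1]; exact cj_mono x hD1
  have hD3 : cj x D ≤ S := by rw [← cj_of_mem_norm hm.inv.norm]; exact cj_mono x inf_le_right
  have hDD : D ⊓ cj x D ≠ ⊥ := fun e => by
    have := card_sup_of_disjoint (A := D) (N := cj x D)
      (inf_le_right.trans (norm_of_two hD3 (by rw [card_cj]; exact c0))) e
    have h5 := card_le_of_le' (sup_le (inf_le_right : D ≤ S) hD3)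
    rw [this, card_cj] at h5
    nlinarith
  set W := zpowers z ⊔ zpowers (x * z * x⁻¹) with hW
  have hS2 : IsPi {2} S := hT.of_le h1
  have hWp : IsPi {3}ᶜ W := (h.cent_pi (A := D ⊓ cj x D) (hm.inv.pi.of_le (inf_le_right.trans hD3)) hDD).of_le
    (sup_le (zpowers_le.2 (le_cent1_iff.1 (inf_le_left.trans hD1)))
      (zpowers_le.2 (le_cent1_iff.1 (inf_le_right.trans hD2))))
  have hWn : W ≤ 𝓝(S) := sup_le (zpowers_le.2 (n1 hzT))
    (zpowers_le.2 (mul_mem (mul_mem hm.inv.norm (n1 hzT)) (inv_mem hm.inv.norm)))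
  have hTe : zpowers z ⊔ S = T := (eq_or_of_two le_sup_right (sup_le (zpowers_le.2 hzT) h1) c1).resolve_left
    fun e => hz2 (e ▸ mem_sup_left (mem_zpowers z))
  have hTle : T ≤ W ⊔ S := hTe ▸ sup_le_sup_right le_sup_left _
  have hWS : W ⊔ S = T := by
    have hp := (isPi_compl_iff p3).1 (hWp.sup hm.inv.pi hWn)
    obtain ⟨a, ha⟩ := card_dvd hTle
    obtain ⟨b, hb⟩ := card_dvd (sup_le hWn (le_norm_self S))
    have : a * b = 3 := by
      rw [ha, hn, c1] at hb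
      have h0 := card_pos' S
      nlinarith
    rcases (Nat.dvd_prime p3).1 (Dvd.intro _ this) with e | e
    · rw [e, mul_one] at ha; exact (eq_of_le_of_card_eq hTle ha.symm).symm
    · exact (hp (by rw [ha, e]; exact Dvd.intro_left _ rfl)).elim
  have hxT : x ∈ 𝓝(T) := by
    refine mem_norm_of_cj_le ?_
    conv_lhs => rw [← hTe]
    rw [cj_sup, cj_zpowers, cj_of_mem_norm hm.inv.norm, ← hWS]
    exact sup_le_sup_right le_sup_right _
  have := hm.max T ⟨hxT, hT.ne (by norm_num)⟩ h1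
  rw [this] at c1
  omega

/-- The structure of the normalisers of invariant subgroups. -/
def Loc (x : G) (A : Subgroup G) : Prop :=
  (∃ N, Inv x N ∧ N ≤ 𝓝(A) ∧ 𝓝(A) ≤ 𝓝(N) ∧ (♯𝓝(A) = 3 * ♯N ∨ ♯𝓝(A) = 6 * ♯N)) ∨
    (IsPi {2} A ∧ ∃ K, Inv x K ∧ A < K)

structure Hyp (x t : G) : Prop where
  sc : SC x
  inv : t * x * t⁻¹ = x⁻¹
  loc : ∀ A, Inv x A → A ≠ ⊥ → Loc x A

namespace Hyp
variable (h : Hyp x t)
include h

theorem card_norm (hm : Max x H) : ♯𝓝(H) = 3 * ♯H ∨ ♯𝓝(H) = 6 * ♯H := by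
  rcases h.loc H hm.inv hm.ne with ⟨N, h1, h2, h3, h4⟩ | ⟨-, K, hK, hlt⟩
  · have e := hm.max _ (hm.inv.sup h1 ((le_norm_self H).trans h3)) le_sup_left
    have hle : N ≤ H := e ▸ le_sup_right
    have c1 := h.sc.mod hm.inv
    have c2 := h.sc.mod h1
    have : H = N := by
      by_contra hne
      obtain ⟨a, ha⟩ := card_dvd hle
      obtain ⟨b, hb⟩ := card_dvd (le_norm_self H)
      have h0 := card_pos' N
      have a1 : a ≠ 1 := fun e => hne (eq_of_le_of_card_eq hle (by rw [ha, e, mul_one])).symm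
      have a3 : a % 3 = 1 := by rw [ha, Nat.mul_mod, c2] at c1; omega
      have : a * b = 3 ∨ a * b = 6 := by
        rw [ha] at hb
        rcases h4 with e | e <;> rw [e] at hb
        · left; nlinarith
        · right; nlinarith
      have a6 : a ∣ 6 := this.elim (fun e => (Dvd.intro _ e).trans (by norm_num)) fun e => Dvd.intro _ e
      have := Nat.le_of_dvd (by norm_num) a6
      interval_cases a <;> omega
    rw [this] at h4 ⊢
    exact h4
  · exact (hlt.ne (hm.max K hK hlt.le).symm).elim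

theorem t_mem (hm : Max x H) (h6 : ♯𝓝(H) = 6 * ♯H) : t ∈ 𝓝(H) := by
  have hx : zpowers x ≤ 𝓝(H) := zpowers_le.2 hm.inv.norm
  have hc : ♯(zpowers x ⊔ H : Subgroup G) = 3 * ♯H := by
    rw [card_sup_of_disjoint hx (h.sc.pi3.inf_eq_bot hm.inv.pi), h.sc.card]
  have hle : zpowers x ⊔ H ≤ 𝓝(H) := sup_le hx (le_norm_self H)
  have hn := norm_of_two hle (by omega)
  have : ¬ 𝓝(H) ≤ zpowers x ⊔ H := fun h' => by
    have := card_le_of_le' h'
    have := card_pos' H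
    omega
  obtain ⟨g, hg, ng⟩ := SetLike.not_le_iff_exists.1 this
  obtain ⟨n, hn', y, hy, rfl⟩ := (h.sc.syl' (mem_sup_left (mem_zpowers x))).syl_frattini p3 (hn hg)
  have hy' : y ∈ 𝓝(H) := (mul_mem_cancel_left (hle hn')).1 hg
  rcases h.sc.norm_cases' h.inv hy with e | e
  · exact (ng (mul_mem hn' (mem_sup_left e))).elim
  · simpa using (mul_mem_cancel_right hy').1 (hx e)

theorem conj_eq (hm : Max x H) (h6 : ♯𝓝(H) = 6 * ♯H) (hg : x ∈ 𝓝(cj g H)) : cj g H = H :=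
  (h.sc.conj_inv h.inv hm.inv.norm hg).elim id fun e => e.trans (cj_of_mem_norm (h.t_mem hm h6))

theorem odd_prime (hm : Max x H) {r : ℕ} (hr : r.Prime) (h2 : r ≠ 2) (hd : r ∣ ♯H) :
    𝓝(𝓞({r}, H)) = 𝓝(H) ∧ Syl r 𝓞({r}, H) ⊤ := by
  have hs : Syl r 𝓞({r}, H) H := nil_hall_core _ (h.sc.nil hm.inv)
  have h0 := hs.ne_bot hr rfl hd
  have h3 : r ≠ 3 := fun e => (isPi_compl_iff p3).1 hm.inv.pi (e ▸ hd)
  have e : 𝓝(𝓞({r}, H)) = 𝓝(H) := by
    refine le_antisymm ?_ (norm_le_norm_core _ _)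
    rcases h.loc _ (hm.inv.core {r}) h0 with ⟨N, h1, h2, h3, h4⟩ | ⟨h1, -⟩
    · have e := hm.max _ (hm.inv.sup h1 ((le_norm_core _ H).trans h3)) le_sup_left
      have hle : N ≤ H := e ▸ le_sup_right
      have c1 := card_le_of_le' hle
      have c2 := card_le_of_le' (norm_le_norm_core {r} H)
      by_cases hNH : N = H
      · exact h3.trans (by rw [hNH])
      · have c3 : 2 * ♯N ≤ ♯H := by
          obtain ⟨a, ha⟩ := card_dvd hle
          have : a ≠ 1 := fun e => hNH (eq_of_le_of_card_eq hle (by rw [ha, e, mul_one]))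
          have h5 := card_pos' H
          have : a ≠ 0 := by rintro rfl; omega
          rw [ha, mul_comm]; exact Nat.mul_le_mul_left _ (by omega)
        refine (eq_of_le_of_card_le (norm_le_norm_core {r} H) ?_).ge
        rcases h.card_norm hm with e | e <;> omega
    · exact (h2 ((core_pi {r} H).mem_of_ne_bot h0 h1)).elim
  refine ⟨e, Hall.syl_of_norm_le (K := 𝓝(H)) hr (hs.of_idx (le_norm_self H) ?_) le_top (by rw [e]; simp)⟩
  have h5 := card_mul_relIndex (le_norm_self H)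
  have h6 := card_pos' H
  have : H.relIndex 𝓝(H) ∣ 6 := by
    rcases h.card_norm hm with e | e <;> rw [e, mul_comm _ ♯H] at h5 <;>
      rw [Nat.eq_of_mul_eq_mul_left h6 h5] <;> norm_num
  rw [piNat_compl_iff hr]
  intro hd'
  rcases (Nat.Prime.dvd_mul hr (m := 2) (n := 3)).1 (hd'.trans this) with e | e
  · exact h2 ((Nat.prime_dvd_prime_iff_eq hr p2).1 e)
  · exact h3 ((Nat.prime_dvd_prime_iff_eq hr p3).1 e)

theorem index_mod (hm : Max x H) {r : ℕ} (hr : r.Prime) (h2 : r ≠ 2) (hd : r ∣ ♯H) :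
    𝓝(H).index ≡ 1 [MOD r] := by
  haveI := Fact.mk hr
  obtain ⟨e, hs⟩ := h.odd_prime hm hr h2 hd
  obtain ⟨P, hP⟩ := hs.exists_sylow_top hr
  have e2 : Nat.card (Sylow r G) = 𝓝((P : Subgroup G)).index := P.card_eq_index_normalizer
  rw [← e, ← hP, ← e2]
  exact card_sylow_modEq_one r G

theorem core_norm (hm : Max x H) : 𝓞({3}ᶜ, 𝓝(H)) = H :=
  hm.max _ ⟨le_norm_core _ _ hm.inv.norm, core_pi _ _⟩ (le_core hm.inv.pi (le_norm_self H) le_rfl)

theorem pair (hm : Max x H) (hm' : Max x K) {r : ℕ} (hr : r.Prime) (h2 : r ≠ 2) (hd : r ∣ ♯H)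
    (hd' : r ∣ ♯K) : K = H ∨ K = cj t H := by
  obtain ⟨e, hs⟩ := h.odd_prime hm hr h2 hd
  obtain ⟨e', hs'⟩ := h.odd_prime hm' hr h2 hd'
  obtain ⟨g, -, hg⟩ := hs.syl_conj hr hs'
  have : cj g H = K := by
    rw [← h.core_norm hm', ← e', ← hg, ← cj_norm, e, ← cj_core, h.core_norm hm]
  rw [← this]
  exact h.sc.conj_inv h.inv hm.inv.norm (this ▸ hm'.inv.norm)

theorem sylA (hm : Max x S) (hS : IsPi {2} S) (h3 : ♯𝓝(S) = 3 * ♯S) : Syl 2 S ⊤ := by
  refine Hall.syl_of_norm_le (K := 𝓝(S)) p2 (Syl.mk'' p2 (le_norm_self S) hS ?_) le_top (by simp)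
  have h5 := card_mul_relIndex (le_norm_self S)
  rw [h3, mul_comm 3] at h5
  rw [Nat.eq_of_mul_eq_mul_left (card_pos' S) h5]; norm_num

theorem exists_two (hm : Max x S) (hS : IsPi {2} S) (h6 : ♯𝓝(S) = 6 * ♯S) :
    ∃ T, Syl 2 T 𝓝(S) ∧ S ≤ T ∧ ♯T = 2 * ♯S := by
  obtain ⟨T, hT, hle⟩ := syl_superset p2 hS (le_norm_self S)
  refine ⟨T, hT, hle, ?_⟩
  obtain ⟨a, ha⟩ := card_dvd hle
  have h1 := card_mul_relIndex hT.le
  have h2 := hT.not_dvd p2
  have h0 := card_pos' S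
  have h3 : a * T.relIndex 𝓝(S) = 6 := by rw [ha, h6] at h1; nlinarith
  have h4 : ¬ 3 ∣ a := fun hd => (isPi_compl_iff p3).1 (hT.pi.ne (by norm_num)) (ha ▸ hd.mul_left _)
  have := Nat.le_of_dvd (by norm_num) (Dvd.intro _ h3)
  rw [ha]
  interval_cases a <;> omega

theorem sylB (hm : Max x S) (hS : IsPi {2} S) (h6 : ♯𝓝(S) = 6 * ♯S) (h4 : 4 < ♯S) :
    ∃ T, Syl 2 T ⊤ ∧ S ≤ T ∧ ♯T = 2 * ♯S := by
  obtain ⟨T, hT, hle, hc⟩ := h.exists_two hm hS h6
  refine ⟨T, hT.syl_of_norm_le p2 le_top fun g hg => mem_norm_iff_cj.2 ?_, hle, hc⟩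
  exact lemK h.sc (h.sc.conj g) hm (hm.cj g) hT.pi hle
    (by rw [← cj_of_mem_norm hg.2]; exact cj_mono g hle) hc (by rw [card_cj]; exact hc) h6 h4

theorem uniqB {S' : Subgroup G} (hm : Max x S) (hS : IsPi {2} S) (h6 : ♯𝓝(S) = 6 * ♯S) (h4 : 4 < ♯S)
    (hm' : Max x S') (hS' : IsPi {2} S') (h6' : ♯𝓝(S') = 6 * ♯S') (h4' : 4 < ♯S') : S' = S := by
  obtain ⟨T, hT, hle, hc⟩ := h.sylB hm hS h6 h4
  obtain ⟨T', hT', hle', hc'⟩ := h.sylB hm' hS' h6' h4'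
  obtain ⟨g, -, hg⟩ := hT'.syl_conj p2 hT
  have e := lemK h.sc (h.sc.conj g) hm (hm'.cj g) hT.pi hle (hg ▸ cj_mono g hle') hc
    (by rw [card_cj, ← hg, card_cj]; exact hc') h6 h4
  rw [← e]
  exact (h.conj_eq hm' h6' (e ▸ hm.inv.norm)).symm

theorem repC (hT : Syl 2 T ⊤) (hm : Max x S) (h6 : ♯𝓝(S) = 6 * ♯S) (h4 : ♯S = 4) :
    8 ∣ ♯T ∧ ∃ v : T, v ≠ 1 ∧ ∃ g, T ⊓ 𝓒₁((v : G)) = cj g S := by
  have hS : IsPi {2} S := isPi_of_card_eq_pow p2 (k := 2) h4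
  obtain ⟨T0, hT0, -, hc⟩ := h.exists_two hm hS h6
  have h8 : 8 ∣ ♯T := by
    have := hT.card_dvd hT0.pi le_top
    rwa [hc, h4] at this
  refine ⟨h8, ?_⟩
  obtain ⟨g, -, hg⟩ := hT.syl_conj_le p2 hS le_top
  haveI := Fact.mk p2
  have hcomm : IsMulCommutative S := IsPGroup.isMulCommutative_of_card_eq_prime_sq (p := 2) h4
  have hC : 𝓒(cj g S) = cj g S := by
    rw [← cj_cent, hm.cent h.sc hm.inv hm.ne (comm_iff_le_cent.1 hcomm)]
  set V := cj g S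
  have hV : ♯V = 4 := by rw [card_cj, h4]
  have hT1 : T ≠ ⊥ := ne_bot_mono hg fun e => by rw [e] at hV; simp at hV
  obtain ⟨z, hz, z1⟩ := exists_ne_one (hT.pi.center_ne_bot hT1)
  have hzV : z ∈ V := hC ▸ cent_anti hg hz.2
  have hTV : ¬ T ≤ V := fun hle => by
    have := card_le_of_le' hle
    have := Nat.le_of_dvd (card_pos' T) h8
    omega
  have : ¬ V ≤ zpowers z := fun hle =>
    hTV (hC ▸ ((le_cent1_iff.2 hz.2).trans (cent_zpowers z).ge).trans (cent_anti hle))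
  obtain ⟨v, hv, nv⟩ := SetLike.not_le_iff_exists.1 this
  refine ⟨⟨v, hg hv⟩, fun e => nv (by rw [show v = 1 from congrArg Subtype.val e]; exact one_mem _), g,
    le_antisymm ?_ (le_inf hg ((hC.ge).trans (cent_le_cent1 hv)))⟩
  have hzz : ♯(zpowers z) = 2 := by
    have h1 := card_dvd (zpowers_le.2 hzV)
    have h2 : ♯(zpowers z) ≠ 1 := by rw [Nat.card_zpowers]; simpa using z1
    have h3 : ♯(zpowers z) ≠ 4 := fun e => this (eq_of_le_of_card_eq (zpowers_le.2 hzV) (e.trans hV.symm)).ge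
    rw [hV] at h1
    have := Nat.le_of_dvd (by norm_num) h1
    interval_cases ♯(zpowers z) <;> omega
  have hsup : zpowers z ⊔ zpowers v = V :=
    (eq_or_of_two le_sup_left (sup_le (zpowers_le.2 hzV) (zpowers_le.2 hv)) (by omega)).resolve_left
      fun e => nv (e ▸ mem_sup_right (mem_zpowers v))
  show T ⊓ 𝓒₁(v) ≤ V
  rw [← hC, ← hsup, cent_sup, cent_zpowers, cent_zpowers]
  exact inf_le_inf_right _ (le_cent1_iff.2 hz.2)

open Classical in
theorem cardC (hT : Syl 2 T ⊤) (F : Finset (Subgroup G))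
    (hF : ∀ S ∈ F, Max x S ∧ ♯𝓝(S) = 6 * ♯S ∧ ♯S = 4) : F.card ≤ 3 := by
  haveI := Fintype.ofFinite T
  have hv : ∀ S : F, ∃ v : T, v ≠ 1 ∧ ∃ g, T ⊓ 𝓒₁((v : G)) = cj g S := fun S =>
    (h.repC hT (hF _ S.2).1 (hF _ S.2).2.1 (hF _ S.2).2.2).2
  choose v v1 γ hγ using hv
  have hc : ∀ S : F, 4 * (Finset.univ.filter (IsConj (v S))).card = ♯T := fun S => by
    rw [← CChar.CharOrth.card_centralizer_mul_card_class (v S), ← (hF _ S.2).2.2, ← card_cj (γ S), ← hγ]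
    congr 1
    swap
    · convert rfl
    have : (𝓒₁(v S)).map T.subtype = T ⊓ 𝓒₁((v S : G)) := by
      ext a
      simp only [mem_map, mem_cent1, mem_inf]
      exact ⟨by rintro ⟨b, hb, rfl⟩; exact ⟨b.2, congrArg Subtype.val hb⟩,
        fun ⟨h1, h2⟩ => ⟨⟨a, h1⟩, Subtype.ext h2, rfl⟩⟩
    rw [← this, card_map_of_injective T.subtype_injective]
  have hd : ∀ S ∈ (Finset.univ : Finset F), ∀ S' ∈ (Finset.univ : Finset F), S ≠ S' →
      Disjoint (Finset.univ.filter (IsConj (v S))) (Finset.univ.filter (IsConj (v S'))) := by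
    intro S _ S' _ hne
    rw [Finset.disjoint_filter]
    intro a _ h1 h2
    obtain ⟨τ, hτ⟩ := isConj_iff.1 (h1.trans h2.symm)
    have e : cj ((γ S')⁻¹ * τ * γ S) (S : Subgroup G) = S' := by
      rw [cj_mul, cj_mul, ← hγ, cj_inf, cj_cent1, cj_of_mem τ.2, cj_eq_iff, inv_inv, ← hγ, ← hτ]; rfl
    exact hne (Subtype.ext ((h.conj_eq (hF _ S.2).1 (hF _ S.2).2.1 (e ▸ (hF _ S'.2).1.inv.norm)).symm.trans e))
  have hle : (Finset.univ.biUnion fun S : F => Finset.univ.filter (IsConj (v S))) ⊆ Finset.univ.erase 1 := by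
    intro a ha
    obtain ⟨S, -, hS⟩ := Finset.mem_biUnion.1 ha
    refine Finset.mem_erase.2 ⟨?_, Finset.mem_univ _⟩
    rintro rfl
    exact v1 S (isConj_one_left.1 (Finset.mem_filter.1 hS).2)
  have h1 := Finset.card_le_card hle
  rw [Finset.card_biUnion hd, Finset.card_erase_of_mem (Finset.mem_univ _), Finset.card_univ,
    ← Nat.card_eq_fintype_card] at h1
  have h2 : 4 * ∑ S : F, (Finset.univ.filter (IsConj (v S))).card = F.card * ♯T := by
    rw [Finset.mul_sum, Finset.sum_congr rfl fun S _ => hc S]; simp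
  have h0 := card_pos' T
  by_contra hlt
  have : 4 * ♯T ≤ F.card * ♯T := Nat.mul_le_mul_right _ (by omega)
  omega

end Hyp

end CA.H7FT
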