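import Cfsg.Agent.Lib.Grp.H7FT2
import Cfsg.Agent.Lib.Grp.H28Simp
import Cfsg.Agent.S0496

/-! Self-centralising elements of order three: the counting argument in a simple group. -/

set_option autoImplicit false
set_option linter.unusedSectionVars false

namespace CA.H7FT

open Subgroup Cfsg CA.BG

theorem odd_part {a b m m' : ℕ} (h : 2 ^ a * m = 2 ^ b * m') (hm : ¬ 2 ∣ m) (hm' : ¬ 2 ∣ m') : m = m' :=
  Nat.dvd_antisymm
    ((((Nat.Prime.coprime_iff_not_dvd p2).2 hm).symm.pow_right b).dvd_of_dvd_mul_left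
      (h ▸ Dvd.intro_left _ rfl))
    ((((Nat.Prime.coprime_iff_not_dvd p2).2 hm').symm.pow_right a).dvd_of_dvd_mul_left
      (h.symm ▸ Dvd.intro_left _ rfl))

theorem prime_ge {r o : ℕ} (hr : r.Prime) (hd : r ∣ o) (ho : o % 6 = 1) : 5 ≤ r := by
  have := hr.two_le
  by_contra hlt
  have : r = 2 ∨ r = 3 ∨ r = 4 := by omega
  rcases this with rfl | rfl | rfl
  · omega
  · omega
  · norm_num at hr

theorem k_ge {r k : ℕ} (h5 : 5 ≤ r) (hk : k ≡ 1 [MOD r]) (h0 : 0 < k) (h1 : k ≠ 1) (h3 : ¬ 3 ∣ k) :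
    r ∣ k - 1 ∧ 8 ≤ k ∧ k ≠ 13 ∨ r ∣ k - 1 ∧ ¬ r.Prime := by
  have hd : r ∣ k - 1 := (Nat.modEq_iff_dvd' h0).1 hk.symm
  by_cases hp : r.Prime
  · left
    have := Nat.le_of_dvd (by omega) hd
    refine ⟨hd, ?_, ?_⟩
    · by_contra hlt
      have : k = 7 := by omega
      subst this
      have : r = 5 ∨ r = 6 := by omega
      rcases this with rfl | rfl <;> first | omega | norm_num at hp
    · rintro rfl
      have : r ≤ 12 := by omega
      interval_cases r <;> first | omega | norm_num at hp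
  · exact Or.inr ⟨hd, hp⟩

theorem num1 {n a k2 k c h o b r w : ℕ} (hn : n = 3 * 2 ^ a * k2) (h2 : ¬ 2 ∣ k2) (h11 : 11 ≤ k2)
    (hn' : n = k * c * h) (hc : c = 3 ∨ c = 6) (hh : h = o * 2 ^ b) (ho : o % 6 = 1) (o1 : 1 < o)
    (hr : r.Prime) (hro : r ∣ o) (hk : k ≡ 1 [MOD r]) (k3 : ¬ 3 ∣ k) (k1 : k ≠ 1)
    (hi : n < 9 * (w + 1) + 18 * h) (hw : 16 * (w + 1) ≤ 49 * 2 ^ a) : False := by
  have e0 : 0 < 2 ^ a := by positivity
  have n0 : 0 < n := by rw [hn]; positivity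
  have k0 : 0 < k := by
    rcases Nat.eq_zero_or_pos k with rfl | h
    · simp at hn'; omega
    · exact h
  have h5 := prime_ge hr hro ho
  obtain ⟨hd, k8, -⟩ := (k_ge h5 hk k0 k1 k3).resolve_right fun h => h.2 hr
  have h3 : 3 * k * h ≤ n := by rcases hc with rfl | rfl <;> nlinarith
  have main : 16 * k * k2 < 147 * k + 96 * k2 := by
    have i1 : 16 * n < 441 * 2 ^ a + 288 * h := by omega
    have i2 : 16 * n * (k * k2) < (441 * 2 ^ a + 288 * h) * (k * k2) :=
      Nat.mul_lt_mul_of_pos_right i1 (by positivity)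
    have i3 : (441 * 2 ^ a + 288 * h) * (k * k2) ≤ n * (147 * k + 96 * k2) := by
      have : 288 * h * (k * k2) ≤ n * (96 * k2) := by nlinarith
      have : 441 * 2 ^ a * (k * k2) = n * (147 * k) := by rw [hn]; ring
      nlinarith
    by_contra hle
    have : n * (147 * k + 96 * k2) ≤ n * (16 * k * k2) := Nat.mul_le_mul_left _ (by omega)
    nlinarith
  obtain ⟨j, k', hk', rfl⟩ := Nat.exists_eq_two_pow_mul_odd k0.ne'
  have hk'' : ¬ 2 ∣ k' := hk'.not_two_dvd_nat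
  have e : k2 = k' * o := by
    have ho' : ¬ 2 ∣ k' * o := fun hd => ((Nat.Prime.dvd_mul p2).1 hd).elim hk'' (by omega)
    rcases hc with rfl | rfl
    · exact odd_part (a := a) (b := j + b) (by rw [hn, hh] at hn'; rw [pow_add]; nlinarith) h2 ho'
    · exact odd_part (a := a) (b := j + b + 1) (by rw [hn, hh] at hn'; rw [pow_add, pow_add]; nlinarith) h2 ho'
  by_cases hk1 : k' = 1
  · subst hk1
    rw [one_mul] at e
    subst e
    rw [mul_one] at *
    have j3 : 3 ≤ j := by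
      by_contra hlt
      have : j ≤ 2 := by omega
      interval_cases j <;> omega
    obtain rfl | rfl | hj : j = 3 ∨ j = 4 ∨ 5 ≤ j := by omega
    · have : r = 7 := (Nat.prime_dvd_prime_iff_eq hr (by norm_num)).1 hd
      subst this
      omega
    · have : r = 5 := by
        have : r ≤ 15 := Nat.le_of_dvd (by norm_num) hd
        interval_cases r <;> first | omega | norm_num at hr
      subst this
      omega
    · have : 2 ^ 5 ≤ 2 ^ j := Nat.pow_le_pow_right (by norm_num) hj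
      have : 13 ≤ k2 := by omega
      nlinarith
  · have k'3 : ¬ 3 ∣ k' := fun hd => k3 (hd.mul_left _)
    have : 5 ≤ k' := by omega
    have : 35 ≤ k2 := by rw [e]; nlinarith [show 7 ≤ o by omega]
    have : 2 ^ j * k' ≠ 8 := fun e8 => hk1 (odd_part (a := j) (b := 3) (m' := 1) e8 hk'' (by norm_num))
    have : 10 ≤ 2 ^ j * k' := by omega
    nlinarith

theorem seven_le {s : ℕ} (h : 3 ≤ s) : 7 * s ≤ 5 ^ (s - 1) := by
  obtain ⟨m, rfl⟩ := Nat.exists_eq_add_of_le h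
  rw [show 3 + m - 1 = m + 2 by omega]
  induction m with
  | zero => norm_num
  | succ m ih => have := ih (by omega); rw [show m + 1 + 2 = m + 2 + 1 by omega, pow_succ]; omega

variable {G : Type*} [Group G] [Finite G] {x y t g u w : G} {A H K L M N R S T : Subgroup G}

theorem card_le_two_of (F : Finset (Subgroup G)) (h : ∀ S ∈ F, ∀ S' ∈ F, S' = S ∨ S' = cj t S) :
    F.card ≤ 2 := by
  classical
  rcases F.eq_empty_or_nonempty with rfl | ⟨S, hS⟩
  · simp
  · refine (Finset.card_le_card (t := {S, cj t S}) fun S' hS' => ?_).trans Finset.card_le_two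
    simpa using h S hS S' hS'

/-- The order of the odd part of a nilpotent subgroup. -/
noncomputable def od (H : Subgroup G) : ℕ := ♯𝓞({2}ᶜ, H)

theorem od_cj (g : G) (H : Subgroup G) : od (cj g H) = od H := by rw [od, ← cj_core, card_cj, od]

theorem od_dvd (H : Subgroup G) : od H ∣ ♯H := card_dvd (core_le _ _)

namespace Hyp
variable (h : Hyp x t)
include h

theorem od_facts (hm : Max x H) (hn : ¬ IsPi {2} H) :
    od H % 6 = 1 ∧ 1 < od H ∧ ∃ b, ♯H = od H * 2 ^ b := by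
  have hh := nil_hall_core {2}ᶜ (h.sc.nil hm.inv)
  have h1 := h.sc.mod (hm.inv.core {2}ᶜ)
  have h2 := (isPi_compl_iff p2).1 (core_pi {2}ᶜ H)
  have h3 : 𝓞({2}ᶜ, H) ≠ ⊥ := fun e => hn (by
    have := (e ▸ hh).isPi_compl_of_eq_bot
    rwa [compl_compl] at this)
  have h4 := (one_lt_card_iff_ne_bot _).2 h3
  refine ⟨by unfold od; omega, h4, ?_⟩
  obtain ⟨b, hb⟩ := PiNat.exists_pow p2 (by simpa using hh.idx) (relIndex_ne_zero' _ H)
  exact ⟨b, by rw [← hb, od, card_mul_relIndex hh.le]⟩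

theorem not_nine : ¬ 9 ∣ Nat.card G := fun hd => by
  have h1 := card_mul_relIndex (le_top : zpowers x ≤ ⊤)
  have h2 := h.sc.syl.not_dvd p3
  rw [h.sc.card, card_top] at h1
  omega

theorem three_dvd : 3 ∣ Nat.card G := h.sc.ord ▸ orderOf_dvd_natCard x

theorem norm_ne [IsSimpleGroup G] (hm : Max x H) : 𝓝(H) ≠ ⊤ :=
  CA.H28Simp.normalizer_ne_top hm.ne fun e =>
    (isPi_compl_iff p3).1 hm.inv.pi (by rw [e, card_top]; exact h.three_dvd)

theorem k_facts [IsSimpleGroup G] (hm : Max x H) : 𝓝(H).index ≠ 1 ∧ ¬ 3 ∣ 𝓝(H).index ∧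
    ∃ c, (c = 3 ∨ c = 6) ∧ Nat.card G = 𝓝(H).index * c * ♯H := by
  have h1 := index_mul_card 𝓝(H)
  refine ⟨fun e => h.norm_ne hm (index_eq_one.1 e), fun ⟨m, hd⟩ => h.not_nine ?_, ?_⟩
  · rw [← h1, hd]
    rcases h.card_norm hm with e | e <;> rw [e]
    exacts [⟨m * ♯H, by ring⟩, ⟨m * 2 * ♯H, by ring⟩]
  · rcases h.card_norm hm with e | e
    exacts [⟨3, Or.inl rfl, by rw [← h1, e]; ring⟩, ⟨6, Or.inr rfl, by rw [← h1, e]; ring⟩]

theorem od_cop (hm : Max x H) (hm' : Max x K) (hn : ¬ IsPi {2} K) (hne : ¬ (K = H ∨ K = cj t H)) :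
    (od K).Coprime ♯H := by
  by_contra hc
  obtain ⟨p, hp, h1, h2⟩ := Nat.Prime.not_coprime_iff_dvd.1 hc
  have := prime_ge hp h1 (h.od_facts hm' hn).1
  exact hne (h.pair hm hm' hp (by omega) h2 (h1.trans (od_dvd K)))

theorem od_dvd_k [IsSimpleGroup G] (hm : Max x H) (hm' : Max x K) (hn : ¬ IsPi {2} K)
    (hne : ¬ (K = H ∨ K = cj t H)) : od K ∣ 𝓝(H).index := by
  obtain ⟨-, -, c, hc, e⟩ := h.k_facts hm
  have h1 := (h.od_facts hm' hn).1
  have h6 : (od K).Coprime 6 := by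
    rw [Nat.Coprime, Nat.gcd_comm, Nat.gcd_rec, h1]; rfl
  have : (od K).Coprime (c * ♯H) := Nat.Coprime.mul_right
    (h6.coprime_dvd_right (by rcases hc with rfl | rfl <;> norm_num)) (h.od_cop hm hm' hn hne)
  exact this.dvd_of_dvd_mul_right (by
    rw [← mul_assoc, ← e]; exact (od_dvd K).trans (card_subgroup_dvd_card K))

open Classical in
theorem two_bound [IsSimpleGroup G] (hT : Syl 2 T ⊤) (F : Finset (Subgroup G))
    (hF : ∀ S ∈ F, Max x S ∧ IsPi {2} S) :
    16 * (∑ S ∈ F, (♯S - 1) + 1) ≤ 49 * ♯T ∧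
      (∑ S ∈ F, (♯S - 1) ≤ 9 ∨ ∃ L : Subgroup G, L ≠ ⊤ ∧ ♯L = 3 * ♯T) := by
  have h0 := card_pos' T
  set FA := F.filter fun S : Subgroup G => ♯𝓝(S) = 3 * ♯S
  set F' := F.filter fun S : Subgroup G => ¬ ♯𝓝(S) = 3 * ♯S
  set FC := F'.filter fun S : Subgroup G => ♯S = 4
  set FB := F'.filter fun S : Subgroup G => ¬ ♯S = 4
  have e : ∑ S ∈ F, (♯S - 1) = ∑ S ∈ FA, (♯S - 1) + (∑ S ∈ FC, (♯S - 1) + ∑ S ∈ FB, (♯S - 1)) := by
    rw [Finset.sum_filter_add_sum_filter_not, Finset.sum_filter_add_sum_filter_not]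
  have hA : ∀ S ∈ FA, Max x S ∧ Syl 2 S ⊤ ∧ ♯𝓝(S) = 3 * ♯S := fun S hS => by
    obtain ⟨h1, h2⟩ := Finset.mem_filter.1 hS
    exact ⟨(hF S h1).1, h.sylA (hF S h1).1 (hF S h1).2 h2, h2⟩
  have h' : ∀ S ∈ F', Max x S ∧ IsPi {2} S ∧ ♯𝓝(S) = 6 * ♯S := fun S hS => by
    obtain ⟨h1, h2⟩ := Finset.mem_filter.1 hS
    exact ⟨(hF S h1).1, (hF S h1).2, (h.card_norm (hF S h1).1).resolve_left h2⟩
  have hC : ∀ S ∈ FC, Max x S ∧ ♯𝓝(S) = 6 * ♯S ∧ ♯S = 4 := fun S hS => by
    obtain ⟨h1, h2⟩ := Finset.mem_filter.1 hS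
    exact ⟨(h' S h1).1, (h' S h1).2.2, h2⟩
  have hB : ∀ S ∈ FB, Max x S ∧ IsPi {2} S ∧ ♯𝓝(S) = 6 * ♯S ∧ 4 < ♯S := fun S hS => by
    obtain ⟨h1, h2⟩ := Finset.mem_filter.1 hS
    have h3 := h.sc.mod (h' S h1).1.inv
    have h4 := (one_lt_card_iff_ne_bot _).2 (h' S h1).1.ne
    exact ⟨(h' S h1).1, (h' S h1).2.1, (h' S h1).2.2, by omega⟩
  have hB' : ∀ S ∈ FB, ♯T = 2 * ♯S := fun S hS => by
    obtain ⟨h1, h2, h3, h4⟩ := hB S hS
    obtain ⟨T', h5, -, h6⟩ := h.sylB h1 h2 h3 h4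
    rw [hT.card_eq h5, h6]
  have sA : ∑ S ∈ FA, (♯S - 1) ≤ 2 * (♯T - 1) := by
    refine (Finset.sum_le_card_nsmul _ _ (♯T - 1) fun S hS => by rw [(hA S hS).2.1.card_eq hT]).trans ?_
    refine Nat.mul_le_mul_right _ (card_le_two_of (t := t) _ fun S hS S' hS' => ?_)
    obtain ⟨g, -, hg⟩ := (hA S hS).2.1.syl_conj p2 (hA S' hS').2.1
    rw [← hg]
    exact h.sc.conj_inv h.inv (hA S hS).1.inv.norm (hg ▸ (hA S' hS').1.inv.norm)
  have sB : 2 * ∑ S ∈ FB, (♯S - 1) ≤ ♯T := by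
    have c1 : FB.card ≤ 1 := Finset.card_le_one.2 fun S hS S' hS' => by
      obtain ⟨h1, h2, h3, h4⟩ := hB S hS
      obtain ⟨h5, h6, h7, h8⟩ := hB S' hS'
      exact h.uniqB h5 h6 h7 h8 h1 h2 h3 h4
    rw [Finset.mul_sum]
    refine (Finset.sum_le_card_nsmul _ _ ♯T fun S hS => by rw [hB' S hS]; omega).trans ?_
    simpa using Nat.mul_le_mul_right ♯T c1
  have sC : ∑ S ∈ FC, (♯S - 1) ≤ 9 := by
    refine (Finset.sum_le_card_nsmul _ _ 3 fun S hS => by rw [(hC S hS).2.2]).trans ?_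
    exact Nat.mul_le_mul_right 3 (h.cardC hT FC hC)
  have c8 : ∑ S ∈ FC, (♯S - 1) = 0 ∨ 8 ∣ ♯T := by
    rcases FC.eq_empty_or_nonempty with e | ⟨S, hS⟩
    · left; rw [e]; rfl
    · exact Or.inr (h.repC hT (hC S hS).1 (hC S hS).2.1 (hC S hS).2.2).1
  rw [e]
  rcases FA.eq_empty_or_nonempty with eA | ⟨S, hS⟩
  · rcases FB.eq_empty_or_nonempty with eB | ⟨S, hS⟩
    · rw [eA, eB, Finset.sum_empty]
      exact ⟨by omega, Or.inl (by omega)⟩
    · have h1 := hB' S hS
      obtain ⟨h2, -, h3, h4⟩ := hB S hS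
      exact ⟨by omega, Or.inr ⟨_, h.norm_ne h2, by omega⟩⟩
  · obtain ⟨h1, h2, h3⟩ := hA S hS
    have h4 := h2.card_eq hT
    have h5 := h.sc.mod h1.inv
    exact ⟨by omega, Or.inr ⟨_, h.norm_ne h1, by omega⟩⟩

open Classical in
theorem many [IsSimpleGroup G] (F : Finset (Subgroup G)) (hF : ∀ H ∈ F, Max x H ∧ ¬ IsPi {2} H)
    (h2 : ∀ H ∈ F, ∃ K ∈ F, ¬ (K = H ∨ K = cj t H)) : 21 * ∑ H ∈ F, (♯H - 1) ≤ 2 * Nat.card G := by
  rcases F.eq_empty_or_nonempty with rfl | hne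
  · simp
  set f : Subgroup G → ℕ := fun H => (od H).minFac with hf
  have fp : ∀ H ∈ F, (f H).Prime ∧ f H ∣ od H ∧ 5 ≤ f H := fun H hH => by
    obtain ⟨h1, h2, -⟩ := h.od_facts (hF H hH).1 (hF H hH).2
    have := Nat.minFac_prime (n := od H) (by omega)
    exact ⟨this, Nat.minFac_dvd _, prime_ge this (Nat.minFac_dvd _) h1⟩
  set s := (F.image f).card with hs
  have s0 : 0 < s := (hne.image f).card_pos
  have c2 : F.card ≤ 2 * s := Finset.card_le_mul_card_image F 2 fun p _ =>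
    card_le_two_of (t := t) _ fun S hS S' hS' => by
      obtain ⟨h1, h2⟩ := Finset.mem_filter.1 hS
      obtain ⟨h3, h4⟩ := Finset.mem_filter.1 hS'
      have := (fp S h1).2.2
      exact h.pair (hF S h1).1 (hF S' h3).1 (fp S h1).1 (by omega) ((fp S h1).2.1.trans (od_dvd S))
        (h2.trans h4.symm ▸ (fp S' h3).2.1.trans (od_dvd S'))
  have hk : ∀ H ∈ F, 7 * s ≤ 𝓝(H).index := fun H hH => by
    have k0 : 0 < 𝓝(H).index := Nat.pos_of_ne_zero index_ne_zero_of_finite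
    obtain ⟨k1, k3, -⟩ := h.k_facts (hF H hH).1
    by_cases h3 : 3 ≤ s
    · refine (seven_le h3).trans (le_trans ?_ (Nat.le_of_dvd k0
        (Finset.prod_primes_dvd (s := (F.image f).erase (f H)) _ (fun p hp => ?_) fun p hp => ?_)))
      · rw [← Finset.card_erase_of_mem (Finset.mem_image_of_mem f hH)]
        refine Finset.pow_card_le_prod _ _ _ fun p hp => ?_
        obtain ⟨K, hK, rfl⟩ := Finset.mem_image.1 (Finset.mem_erase.1 hp).2
        exact (fp K hK).2.2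
      · obtain ⟨K, hK, rfl⟩ := Finset.mem_image.1 (Finset.mem_erase.1 hp).2
        exact (fp K hK).1.prime
      · obtain ⟨K, hK, rfl⟩ := Finset.mem_image.1 (Finset.mem_erase.1 hp).2
        refine (fp K hK).2.1.trans (h.od_dvd_k (hF H hH).1 (hF K hK).1 (hF K hK).2 ?_)
        rintro (rfl | rfl)
        · exact (Finset.mem_erase.1 hp).1 rfl
        · exact (Finset.mem_erase.1 hp).1 (by simp only [hf, od_cj])
    · obtain ⟨K, hK, hne⟩ := h2 H hH
      have d := h.od_dvd_k (hF H hH).1 (hF K hK).1 (hF K hK).2 hne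
      obtain ⟨o1, o2, -⟩ := h.od_facts (hF K hK).1 (hF K hK).2
      obtain ⟨-, k8, k13⟩ := (k_ge (fp H hH).2.2 (h.index_mod (hF H hH).1 (fp H hH).1
        (by have := (fp H hH).2.2; omega) ((fp H hH).2.1.trans (od_dvd H))) k0 k1 k3).resolve_right
          fun h => h.2 (fp H hH).1
      obtain ⟨m, hm⟩ := d
      have : 14 ≤ 𝓝(H).index := by
        by_contra hlt
        have : m = 1 := by
          have : m ≠ 0 := by rintro rfl; omega
          by_contra m1
          have : 7 * 2 ≤ od K * m := Nat.mul_le_mul (by omega) (by omega)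
          omega
        subst this
        omega
      omega
  have hb : ∀ H ∈ F, 21 * s * (♯H - 1) ≤ Nat.card G := fun H hH => by
    obtain ⟨-, -, c, hc, e⟩ := h.k_facts (hF H hH).1
    have h1 := hk H hH
    rw [e, show 21 * s = 7 * s * 3 by ring]
    exact Nat.mul_le_mul (Nat.mul_le_mul h1 (by omega)) (Nat.sub_le _ _)
  have := Finset.sum_le_card_nsmul F _ _ hb
  rw [← Finset.mul_sum, smul_eq_mul] at this
  have h3 : F.card * Nat.card G ≤ 2 * s * Nat.card G := Nat.mul_le_mul_right _ c2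
  refine Nat.le_of_mul_le_mul_left (c := s) ?_ s0
  nlinarith

theorem small [IsSimpleGroup G] (hG : ¬ IsMulCommutative G) (hn : Nat.card G < 660) :
    Nat.card G = 60 ∨ Nat.card G = 168 := by
  have h1 := Cfsg.Agent.S0496.result hG (by omega)
  have h2 := h.not_nine
  omega

open Classical in
theorem main [IsSimpleGroup G] (hG : ¬ IsMulCommutative G) : Nat.card G = 60 ∨ Nat.card G = 168 := by
  haveI := Fintype.ofFinite G
  haveI := Fintype.ofFinite (Subgroup G)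
  obtain ⟨T, hT⟩ := syl_exists p2 (⊤ : Subgroup G)
  obtain ⟨a, ha⟩ := hT.pi.exists_card p2
  obtain ⟨k2, hn⟩ : 3 * ♯T ∣ Nat.card G := Nat.Coprime.mul_dvd_of_dvd_of_dvd
    (by rw [ha]; exact Nat.Coprime.pow_right _ (by norm_num)) h.three_dvd (card_subgroup_dvd_card T)
  have T0 := card_pos' T
  have k22 : ¬ 2 ∣ k2 := fun hd => hT.not_dvd p2 (by
    have h1 := card_mul_relIndex (le_top : T ≤ ⊤)
    rw [card_top, hn, mul_comm 3, mul_assoc] at h1
    rw [Nat.eq_of_mul_eq_mul_left T0 h1]; exact hd.mul_left _)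
  have k23 : ¬ 3 ∣ k2 := fun ⟨m, hd⟩ => h.not_nine ⟨♯T * m, by rw [hn, hd]; ring⟩
  set F := Finset.univ.filter (Max x) with hF
  have hU := h.sc.count' h.inv (insert 1 (F.biUnion fun H => (Finset.univ.filter (· ∈ H)).erase 1))
    (Finset.mem_insert_self _ _) fun A hA a ha => by
      by_cases h1 : a = 1
      · rw [h1]; exact Finset.mem_insert_self _ _
      · obtain ⟨H, hH, hle⟩ := hA.exists_max (ne_bot_of_mem ha h1)
        exact Finset.mem_insert_of_mem (Finset.mem_biUnion.2 ⟨H, by simpa [hF] using hH, by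
          simpa [h1] using hle ha⟩)
  have hc : (insert 1 (F.biUnion fun H => (Finset.univ.filter (· ∈ H)).erase 1)).card ≤
      ∑ H ∈ F, (♯H - 1) + 1 := by
    refine (Finset.card_insert_le _ _).trans (Nat.succ_le_succ (Finset.card_biUnion_le.trans
      (Finset.sum_le_sum fun H _ => ?_)))
    rw [Finset.card_erase_of_mem (by simp), Nat.card_eq_fintype_card, Fintype.card_subtype]
  rw [← Finset.sum_filter_add_sum_filter_not F (IsPi {2})] at hc
  obtain ⟨hw, hL⟩ := h.two_bound hT (F.filter (IsPi {2})) fun S hS => by simpa [hF] using hS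
  set w := ∑ S ∈ F.filter (IsPi {2}), (♯S - 1)
  set Fo := F.filter fun H => ¬ IsPi {2} H
  have hFo : ∀ H ∈ Fo, Max x H ∧ ¬ IsPi {2} H := fun H hH => by simpa [Fo, hF] using hH
  have hi : Nat.card G < 9 * (w + 1) + 9 * ∑ H ∈ Fo, (♯H - 1) := by omega
  have hL' : w ≤ 9 ∨ Nat.card G < 660 ∨ 11 ≤ k2 := by
    refine hL.imp id fun ⟨L, hL, hc⟩ => ?_
    have hi : L.index = k2 := by
      have := index_mul_card L
      rw [hc, hn, mul_comm] at this
      exact Nat.eq_of_mul_eq_mul_left (by omega) this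
    have hd := CA.H28Simp.two_mul_card_dvd hG L hL
    by_cases h7 : k2 ≤ 7
    · left
      have hd' := hd.trans (Nat.factorial_dvd_factorial (hi ▸ h7))
      have : a ≤ 3 := by
        by_contra hlt
        have : 2 ^ 4 ∣ 2 ^ a := pow_dvd_pow _ (by omega)
        have : 2 * 2 ^ 4 ∣ 2 * Nat.card G := Nat.mul_dvd_mul_left _
          (this.trans (ha ▸ card_subgroup_dvd_card T))
        exact absurd (this.trans hd') (by decide)
      have : 2 ^ a ≤ 2 ^ 3 := Nat.pow_le_pow_right (by norm_num) this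
      rw [hn, ha]; nlinarith
    · omega
  by_cases h1 : ∃ H ∈ Fo, ∀ K ∈ Fo, K = H ∨ K = cj t H
  · obtain ⟨H, hH, h1⟩ := h1
    have s1 : ∑ K ∈ Fo, (♯K - 1) ≤ 2 * (♯H - 1) := by
      refine (Finset.sum_le_card_nsmul _ _ (♯H - 1) fun K hK => ?_).trans ?_
      · rcases h1 K hK with e | e <;> rw [e]
        rw [card_cj]
      · refine Nat.mul_le_mul_right _ ((Finset.card_le_card (t := {H, cj t H}) fun K hK => ?_).trans
          Finset.card_le_two)
        simpa using h1 K hK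
    obtain ⟨o1, o2, b, hb⟩ := h.od_facts (hFo H hH).1 (hFo H hH).2
    obtain ⟨k1, k3, c, hc, e⟩ := h.k_facts (hFo H hH).1
    have hp := Nat.minFac_prime (n := od H) (by omega)
    have h5 := prime_ge hp (Nat.minFac_dvd _) o1
    have hk := h.index_mod (hFo H hH).1 hp (by omega) ((Nat.minFac_dvd _).trans (od_dvd H))
    have H0 := card_pos' H
    rcases hL' with h9 | h9 | h9
    · obtain ⟨-, k8, -⟩ := (k_ge h5 hk (Nat.pos_of_ne_zero index_ne_zero_of_finite) k1 k3).resolve_right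
        fun h => h.2 hp
      have : 8 * 3 * ♯H ≤ Nat.card G := by
        rw [e]; exact Nat.mul_le_mul_right _ (Nat.mul_le_mul k8 (by omega))
      exact h.small hG (by omega)
    · exact h.small hG h9
    · exact (num1 (w := w) (ha ▸ hn) k22 h9 e hc hb o1 o2 hp (Nat.minFac_dvd _) hk k3 k1 (by omega)
        (ha ▸ hw)).elim
  push Not at h1
  rcases Fo.eq_empty_or_nonempty with e | ⟨H, hH⟩
  · rw [e, Finset.sum_empty] at hi
    rcases hL' with h9 | h9 | h9
    · exact h.small hG (by omega)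
    · exact h.small hG h9
    · have : 3 * ♯T * 11 ≤ 3 * ♯T * k2 := Nat.mul_le_mul_left _ h9
      omega
  · have hm := h.many Fo hFo fun H hH => by simpa only [not_or] using h1 H hH
    obtain ⟨K, hK, hne⟩ := h1 H hH
    obtain ⟨o1, o2, -⟩ := h.od_facts (hFo H hH).1 (hFo H hH).2
    obtain ⟨o3, o4, -⟩ := h.od_facts (hFo K hK).1 (hFo K hK).2
    have cop := (h.od_cop (hFo H hH).1 (hFo K hK).1 (hFo K hK).2 (not_or.2 hne)).coprime_dvd_right (od_dvd H)
    have d : od K * od H ∣ k2 := by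
      have h6 : ∀ o : ℕ, o % 6 = 1 → o.Coprime (3 * 2 ^ a) := fun o ho =>
        Nat.Coprime.mul_right ((Nat.Prime.coprime_iff_not_dvd p3).2 (by omega)).symm
          (((Nat.Prime.coprime_iff_not_dvd p2).2 (by omega)).symm.pow_right a)
      refine (Nat.Coprime.mul_left (h6 _ o3) (h6 _ o1)).dvd_of_dvd_mul_left ?_
      rw [← ha, ← hn]
      exact cop.mul_dvd_of_dvd_of_dvd ((od_dvd K).trans (card_subgroup_dvd_card K))
        ((od_dvd H).trans (card_subgroup_dvd_card H))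
    have hne' : od K ≠ od H := fun e => by rw [e, Nat.coprime_self] at cop; omega
    have : 91 ≤ od K * od H := by
      rcases Nat.lt_or_gt_of_ne hne' with hl | hl
      · exact Nat.mul_le_mul (show 7 ≤ od K by omega) (show 13 ≤ od H by omega)
      · exact Nat.mul_le_mul (show 13 ≤ od K by omega) (show 7 ≤ od H by omega)
    have := this.trans (Nat.le_of_dvd (by omega) d)
    have : 3 * ♯T * 91 ≤ 3 * ♯T * k2 := Nat.mul_le_mul_left _ this
    omega

end Hyp

end CA.H7FT
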