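import Cfsg.Agent.Lib.Solv.PX1
import Cfsg.Agent.Lib.Grp.H7Max
import Cfsg.Agent.Lib.Grp.NPC2
import Cfsg.Agent.S3975
import Mathlib.GroupTheory.FiniteAbelian.Duality
import Mathlib.RingTheory.RootsOfUnity.Complex

/-! Counting subgroups of prime power order modulo `p ^ 2` (Kulakoff, Hall, Berkovich). -/

namespace CA.H7Kul
open Subgroup
open scoped Pointwise commutatorElement

universe u

theorem dvd_of_orbits {A X : Type*} [Group A] [MulAction A X] [Finite X] {d : ℕ}
    (h : ∀ x : X, d ∣ (MulAction.stabilizer A x).index) : d ∣ Nat.card X := by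
  classical
  have := Fintype.ofFinite (Quotient (MulAction.orbitRel A X))
  have : ∀ ω : Quotient (MulAction.orbitRel A X), Finite (A ⧸ MulAction.stabilizer A ω.out) :=
    fun ω => Finite.of_equiv _ (MulAction.orbitEquivQuotientStabilizer A ω.out)
  rw [Nat.card_congr (MulAction.selfEquivSigmaOrbitsQuotientStabilizer A X), Nat.card_sigma]
  exact Finset.dvd_sum fun ω _ => h _

theorem card_split {X : Type*} [Finite X] (Q R : X → Prop) :
    Nat.card {x // Q x} = Nat.card {x // Q x ∧ R x} + Nat.card {x // Q x ∧ ¬ R x} := by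
  classical
  rw [← Nat.card_sum]
  exact Nat.card_congr (((Equiv.sumCompl fun x : {x // Q x} => R x.1).symm).trans
    (Equiv.sumCongr (Equiv.subtypeSubtypeEquivSubtypeInter Q R)
      (Equiv.subtypeSubtypeEquivSubtypeInter Q fun x => ¬ R x)))

variable {p : ℕ} [hp : Fact p.Prime]

/-- `P / L` is elementary abelian of order `p ^ 2` -/
structure L2 (p : ℕ) {P : Type*} [Group P] (L : Subgroup P) : Prop where
  com : commutator P ≤ L
  pw : ∀ x, x ^ p ∈ L
  idx : L.index = p ^ 2

theorem L2.normal {P : Type*} [Group P] {L : Subgroup P} (h : L2 p L) : L.Normal :=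
  Normal.of_commutator_le _ h.com

theorem exA {P : Type u} [Group P] [Finite P] {L : Subgroup P} (h : L2 p L) {z : P}
    (hz : orderOf z = p) : ∃ (A : Type u) (_ : Group A) (φ : A → P →* P), Nat.card A = p ^ 2 ∧
      (∀ a x, φ a x ∈ zpowers z) ∧ (∀ a b x, φ (a * b) x = φ a x * φ b x) ∧
      (∀ a, ∀ x ∈ L, φ a x = 1) ∧ ∀ a, (∀ x, φ a x = 1) → a = 1 := by
  have := h.normal
  have : NeZero p := ⟨hp.out.ne_zero⟩
  have hc : IsMulCommutative (P ⧸ L) := Normal.quotient_commutative_iff_commutator_le.2 h.com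
  letI : CommGroup (P ⧸ L) := { (inferInstance : Group (P ⧸ L)) with mul_comm := hc.1.1 }
  have : NeZero (Monoid.exponent (P ⧸ L)) := ⟨Monoid.exponent_ne_zero_of_finite⟩
  have e : rootsOfUnity p ℂ ≃* zpowers z := mulEquivOfPrimeCardEq (p := p)
    (Complex.card_rootsOfUnity p) (by rw [Nat.card_zpowers, hz])
  have hm : ∀ (χ : P ⧸ L →* ℂˣ) (x : P), χ x ∈ rootsOfUnity p ℂ := fun χ x => by
    rw [mem_rootsOfUnity, ← map_pow, ← QuotientGroup.mk_pow, (QuotientGroup.eq_one_iff _).2 (h.pw x),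
      map_one]
  refine ⟨P ⧸ L →* ℂˣ, inferInstance, fun χ => (zpowers z).subtype.comp (e.toMonoidHom.comp
    ((χ.comp (QuotientGroup.mk' L)).codRestrict _ (hm χ))), ?_, fun a x => (e _).2, ?_, ?_, ?_⟩
  · rw [CommGroup.card_monoidHom_of_hasEnoughRootsOfUnity, ← h.idx]; rfl
  · intro a b x
    exact congrArg Subtype.val (map_mul e ⟨a x, hm a x⟩ ⟨b x, hm b x⟩)
  · intro a x hx
    have : (⟨a x, hm a x⟩ : rootsOfUnity p ℂ) = 1 :=
      Subtype.ext (by simp [(QuotientGroup.eq_one_iff _).2 hx])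
    change ((e ⟨a x, hm a x⟩ : zpowers z) : P) = 1
    rw [this, map_one]; rfl
  · intro a ha
    refine MonoidHom.ext fun x => ?_
    obtain ⟨x, rfl⟩ := QuotientGroup.mk_surjective x
    have : e ⟨a x, hm a x⟩ = 1 := Subtype.ext (ha x)
    exact congrArg Subtype.val ((map_eq_one_iff e e.injective).1 this)

theorem W1 {P : Type u} [Group P] [Finite P] {L : Subgroup P} (h : L2 p L) {z : P}
    (hz : orderOf z = p) (hzL : z ∈ L) (hzc : z ∈ center P) (n : ℕ) :
    p ^ 2 ∣ Nat.card {H : Subgroup P // (H.index = n ∧ H ⊔ L = ⊤) ∧ z ∉ H} := by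
  have := h.normal
  obtain ⟨A, _, φ, c1, c2, c3, c4, c5⟩ := exA h hz
  have cz : ∀ a x y, y * φ a x = φ a x * y := fun a x =>
    mem_center_iff.1 (zpowers_le.2 hzc (c2 a x))
  have cL : ∀ a x, φ a x ∈ L := fun a x => zpowers_le.2 hzL (c2 a x)
  let α : A → P →* P := fun a => MonoidHom.mk' (fun x => x * φ a x) fun x y => by
    rw [map_mul, mul_assoc, mul_assoc, ← mul_assoc y, cz a x y, mul_assoc]
  have a1 : α 1 = MonoidHom.id P := MonoidHom.ext fun x => by
    have := c3 1 1 x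
    rw [one_mul, left_eq_mul] at this
    simp [α, this]
  have a2 : ∀ a b, α (a * b) = (α a).comp (α b) := fun a b => MonoidHom.ext fun x => by
    simp only [α, MonoidHom.mk'_apply, MonoidHom.comp_apply, map_mul, c4 a _ (cL b x), c3]
    rw [mul_one, mul_assoc]
  have a3 : ∀ a x, α a (α a⁻¹ x) = x := fun a x => by
    rw [← MonoidHom.comp_apply, ← a2, mul_inv_cancel, a1]; rfl
  have a4 : ∀ a, Function.Bijective (α a) := fun a =>
    Finite.surjective_iff_bijective.1 fun x => ⟨_, a3 a x⟩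
  letI : MulAction A {H : Subgroup P // (H.index = n ∧ H ⊔ L = ⊤) ∧ z ∉ H} :=
    { smul := fun a H => ⟨H.1.map (α a), ⟨by rw [index_map_of_bijective (a4 a), H.2.1.1], by
        refine eq_top_iff.2 (H.2.1.2.ge.trans (sup_le (fun x hx => ?_) le_sup_right))
        rw [show x = α a x * (φ a x)⁻¹ by simp [α]]
        exact mul_mem (mem_sup_left ⟨x, hx, rfl⟩) (mem_sup_right (inv_mem (cL a x)))⟩, by
        rintro ⟨x, hx, e⟩
        have : α a z = z := by simp [α, c4 a z hzL]
        exact H.2.2 ((a4 a).1 (e.trans this.symm) ▸ hx)⟩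
      one_smul := fun H => Subtype.ext (by change H.1.map (α 1) = _; rw [a1, map_id])
      mul_smul := fun a b H => Subtype.ext (by
        change H.1.map (α (a * b)) = (H.1.map (α b)).map (α a); rw [a2, map_map]) }
  refine dvd_of_orbits (A := A) fun H => ?_
  have : MulAction.stabilizer A H = ⊥ := by
    refine eq_bot_iff.2 fun a ha => c5 a fun x => ?_
    have h1 : H.1.map (α a) = H.1 := congrArg Subtype.val ha
    have h2 : H.1 ⊔ L ≤ (φ a).ker := by
      refine sup_le (fun y hy => ?_) (c4 a)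
      have h3 : y * φ a y ∈ H.1 := h1 ▸ ⟨y, hy, rfl⟩
      by_contra e
      have h4 : zpowers (φ a y) = zpowers z := (eq_of_le_of_card_ge (zpowers_le.2 (c2 a y)) (by
        rw [Nat.card_zpowers, Nat.card_zpowers, hz]
        exact ((Nat.dvd_prime hp.out).1 (hz ▸ orderOf_dvd_of_mem_zpowers (c2 a y))).elim
          (fun h => (e (orderOf_eq_one_iff.1 h)).elim) Eq.ge))
      exact H.2.2 (zpowers_le.2 ((H.1.mul_mem_cancel_left hy).1 h3) (h4.ge (mem_zpowers z)))
    exact h2 (H.2.1.2.ge (mem_top x))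
  rw [this, index_bot, c1]

theorem W (m : ℕ) : ∀ (P : Type u) [Group P] [Finite P] (L : Subgroup P), Nat.card P = p ^ m →
    L2 p L → ∀ n, n ≠ 1 → p ^ 2 ∣ Nat.card {H : Subgroup P // H.index = n ∧ H ⊔ L = ⊤} := by
  induction m with
  | zero =>
    intro P _ _ L hP h n _
    have := h.idx ▸ hP ▸ L.index_dvd_card
    exact (Nat.dvd_one.1 this) ▸ one_dvd _
  | succ m ih =>
    intro P _ _ L hP h n hn
    by_cases e : L = ⊥
    · have : IsEmpty {H : Subgroup P // H.index = n ∧ H ⊔ L = ⊤} := ⟨fun ⟨H, h1, h2⟩ => by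
        rw [e, sup_bot_eq] at h2
        exact hn (by rw [← h1, h2, index_top])⟩
      simp
    have := h.normal
    obtain ⟨z, z1, z2, z3⟩ := PGBasic.exists_mem_center_orderOf (IsPGroup.of_card hP) e
    rw [card_split _ fun H => z ∈ H]
    refine Nat.dvd_add ?_ (W1 h z3 z1 z2 n)
    have : (zpowers z).Normal := ⟨fun a ha g => by
      rwa [mem_center_iff.1 (zpowers_le.2 z2 ha) g, mul_inv_cancel_right]⟩
    have hs := QuotientGroup.mk'_surjective (zpowers z)
    have hk : ∀ {H : Subgroup P}, z ∈ H → (QuotientGroup.mk' (zpowers z)).ker ≤ H := fun hz => by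
      rw [QuotientGroup.ker_mk']; exact zpowers_le.2 hz
    have := ih (P ⧸ zpowers z) (L.map (QuotientGroup.mk' _)) (by
      have := card_eq_card_quotient_mul_card_subgroup (zpowers z)
      rw [hP, Nat.card_zpowers, z3, pow_succ] at this
      exact (Nat.eq_of_mul_eq_mul_right hp.out.pos this).symm)
      ⟨by
        rw [_root_.commutator_def, ← map_top_of_surjective _ hs, ← map_commutator]
        exact map_mono h.com, fun x => by
        obtain ⟨x, rfl⟩ := hs x
        exact ⟨_, h.pw x, map_pow _ _ _⟩, by rw [index_map_eq _ hs (hk z1), h.idx]⟩ n hn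
    convert this using 1
    refine Nat.card_congr ⟨fun H => ⟨H.1.map (QuotientGroup.mk' _), by
      rw [index_map_eq _ hs (hk H.2.2), H.2.1.1], by
      rw [← Subgroup.map_sup, H.2.1.2, map_top_of_surjective _ hs]⟩,
      fun K => ⟨K.1.comap (QuotientGroup.mk' _), ⟨by rw [index_comap_of_surjective _ hs, K.2.1], ?_⟩,
        ?_⟩, fun H => Subtype.ext (comap_map_eq_self (hk H.2.2)),
        fun K => Subtype.ext (map_comap_eq_self_of_surjective hs _)⟩
    · have := comap_sup_eq _ K.1 (L.map (QuotientGroup.mk' _)) hs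
      rwa [comap_map_eq_self (hk z1), K.2.2, comap_top] at this
    · exact ker_le_comap _ _ (by rw [QuotientGroup.ker_mk']; exact mem_zpowers z)

/-- the number of subgroups of order `n` -/
noncomputable abbrev sN (n : ℕ) (G : Type*) [Group G] : ℕ :=
  Nat.card {H : Subgroup G // Nat.card H = n}

omit hp in
theorem sN_sub {G : Type*} [Group G] (M : Subgroup G) (n : ℕ) :
    sN n M = Nat.card {H : Subgroup G // Nat.card H = n ∧ H ≤ M} :=
  Nat.card_congr ⟨fun H => ⟨H.1.map M.subtype,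
    (card_map_of_injective (subtype_injective _)).trans H.2, map_subtype_le _⟩,
    fun H => ⟨H.1.subgroupOf M, (Nat.card_congr (subgroupOfEquivOfLe H.2.2).toEquiv).trans H.2.1⟩,
    fun H => Subtype.ext (comap_map_eq_self_of_injective (subtype_injective _) _),
    fun H => Subtype.ext (map_subgroupOf_eq_of_le H.2.2)⟩

omit hp in
theorem card_eq_sum {X : Type*} [Fintype X] (Q : X → Prop) [DecidablePred Q] :
    Nat.card {x // Q x} = ∑ x, if Q x then 1 else 0 := by
  rw [Nat.card_eq_fintype_card, Fintype.card_subtype, Finset.card_filter]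

variable {P : Type u} [Group P] [Finite P] {L : Subgroup P}

theorem card_Gam (h : L2 p L) : Nat.card {M : Subgroup P // L ≤ M ∧ M.index = p} = p + 1 := by
  have := h.normal
  have hs := QuotientGroup.mk'_surjective L
  have h1 := PX.card_lines (G := P ⧸ L) hp.out fun x => by
    obtain ⟨x, rfl⟩ := hs x
    rw [← map_pow]; exact (QuotientGroup.eq_one_iff _).2 (h.pw x)
  have h2 : Nat.card (P ⧸ L) = p ^ 2 := h.idx
  have h3 : ∀ K : Subgroup (P ⧸ L), Nat.card K = p ↔ K.index = p := fun K => by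
    have := K.card_mul_index
    rw [h2, pow_two] at this
    exact ⟨fun e => Nat.eq_of_mul_eq_mul_left hp.out.pos (by rwa [e] at this),
      fun e => Nat.eq_of_mul_eq_mul_right hp.out.pos (by rwa [e] at this)⟩
  have hk : ∀ {H : Subgroup P}, L ≤ H → (QuotientGroup.mk' L).ker ≤ H := fun hz => by
    rwa [QuotientGroup.ker_mk']
  have h4 : Nat.card {M : Subgroup P // L ≤ M ∧ M.index = p} =
      Nat.card {K : Subgroup (P ⧸ L) // Nat.card K = p} :=
    Nat.card_congr ⟨fun H => ⟨H.1.map (QuotientGroup.mk' _), (h3 _).2 (by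
      rw [index_map_eq _ hs (hk H.2.1), H.2.2])⟩, fun K => ⟨K.1.comap (QuotientGroup.mk' _),
      (QuotientGroup.ker_mk' L).ge.trans (ker_le_comap _ _),
      by rw [index_comap_of_surjective _ hs, (h3 _).1 K.2]⟩,
      fun H => Subtype.ext (comap_map_eq_self (hk H.2.1)),
      fun K => Subtype.ext (map_comap_eq_self_of_surjective hs _)⟩
  rw [h2, ← h4] at h1
  have h5 := hp.out.one_lt
  refine Nat.eq_of_mul_eq_mul_right (m := p - 1) (by omega) (h1.trans ?_)
  rw [← Nat.sq_sub_sq, one_pow]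

theorem L2.idx_eq (h : L2 p L) {K : Subgroup P} (h1 : L ≤ K) (h2 : K ≠ L) (h3 : K ≠ ⊤) :
    K.index = p := by
  obtain ⟨i, hi, e⟩ := (Nat.dvd_prime_pow hp.out).1 (h.idx ▸ index_dvd_of_le h1)
  interval_cases i
  · exact (h3 (index_eq_one.1 e)).elim
  · simpa using e
  · refine (h2 (PGBasic.eq_of_le_of_card_le h1 (le_of_eq ?_)).symm).elim
    have := K.card_mul_index.trans L.card_mul_index.symm
    rw [e, h.idx] at this
    exact Nat.eq_of_mul_eq_mul_right (pow_pos hp.out.pos 2) this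

open Classical in
theorem formula [Fintype (Subgroup P)] {m k : ℕ} (hP : Nat.card P = p ^ m) (h : L2 p L) (hk : k < m) :
    sN (p ^ k) P + p * sN (p ^ k) L ≡
      ∑ M : {M : Subgroup P // L ≤ M ∧ M.index = p}, sN (p ^ k) M.1 [MOD p ^ 2] := by
  have h1 := W m P L hP h (p ^ (m - k)) (Nat.one_lt_pow (by omega) hp.out.one_lt).ne'
  have h2 : ∀ H : Subgroup P, H.index = p ^ (m - k) ↔ Nat.card H = p ^ k := fun H => by
    have := H.card_mul_index
    rw [hP, show m = k + (m - k) by omega, pow_add] at this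
    exact ⟨fun e => Nat.eq_of_mul_eq_mul_right (pow_pos hp.out.pos _) (by rwa [e] at this),
      fun e => Nat.eq_of_mul_eq_mul_left (pow_pos hp.out.pos _) (by rwa [e] at this)⟩
  simp only [h2] at h1
  rw [show sN (p ^ k) P + p * sN (p ^ k) L = (∑ M : {M : Subgroup P // L ≤ M ∧ M.index = p},
      sN (p ^ k) M.1) + Nat.card {H : Subgroup P // Nat.card H = p ^ k ∧ H ⊔ L = ⊤} from ?_]
  · exact Nat.ModEq.add_left _ ((Nat.modEq_zero_iff_dvd).2 h1)
  simp only [sN_sub]
  simp only [card_eq_sum]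
  rw [Finset.sum_comm, Finset.mul_sum, ← Finset.sum_add_distrib, ← Finset.sum_add_distrib]
  refine Finset.sum_congr rfl fun H _ => ?_
  by_cases e : Nat.card H = p ^ k
  swap
  · simp [e]
  simp only [e, true_and, if_true]
  by_cases e1 : H ≤ L
  · have : H ⊔ L ≠ ⊤ := fun e2 => by
      have := h.idx
      rw [← sup_of_le_right e1, e2, index_top] at this
      exact (Nat.one_lt_pow two_ne_zero hp.out.one_lt).ne this
    rw [Finset.sum_congr rfl fun M _ => if_pos (e1.trans M.2.1), if_neg this]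
    simp [e1, ← Nat.card_eq_fintype_card, card_Gam h, add_comm]
  by_cases e2 : H ⊔ L = ⊤
  · rw [Finset.sum_congr rfl fun M _ => if_neg fun e3 : H ≤ M.1 => hp.out.one_lt.ne' (by
      rw [← M.2.2, eq_top_iff.2 (e2.ge.trans (sup_le e3 M.2.1)), index_top])]
    simp [e1, e2]
  · have e3 := h.idx_eq (K := H ⊔ L) le_sup_right (fun e => e1 (e ▸ le_sup_left)) e2
    rw [Finset.sum_eq_single ⟨H ⊔ L, le_sup_right, e3⟩ (fun M _ hM => if_neg fun e4 => hM
      (Subtype.ext ((PGBasic.isCoatom_of_index_prime hp.out e3).le_iff_eq (fun e => hp.out.one_lt.ne'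
        (by rw [← M.2.2, e, index_top])) |>.1 (sup_le e4 M.2.1)))) (by simp)]
    simp [e1, e2]

omit hp in
theorem sN_self {G : Type*} [Group G] [Finite G] : sN (Nat.card G) G = 1 :=
  Nat.card_eq_one_iff_unique.2 ⟨⟨fun a b => Subtype.ext
    ((eq_top_of_card_eq _ a.2).trans (eq_top_of_card_eq _ b.2).symm)⟩, ⟨⟨⊤, card_top⟩⟩⟩

theorem sN_cyc {G : Type*} [Group G] [Finite G] (h : IsCyclic G) {k : ℕ} (hk : p ^ k ∣ Nat.card G) :
    sN (p ^ k) G = 1 := by
  obtain ⟨K, hK⟩ := Sylow.exists_subgroup_card_pow_prime p hk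
  exact Nat.card_eq_one_iff_unique.2 ⟨⟨fun a b => Subtype.ext (NPC2.eq_of_card_eq_of_isCyclic
    (P := ⊤) inferInstance le_top le_top (a.2.trans b.2.symm))⟩, ⟨⟨K, hK⟩⟩⟩

theorem card_of_idx {m i : ℕ} (hP : Nat.card P = p ^ (m + i)) {M : Subgroup P}
    (h : M.index = p ^ i) : Nat.card M = p ^ m := by
  have := M.card_mul_index
  rw [hP, h, pow_add] at this
  exact Nat.eq_of_mul_eq_mul_right (pow_pos hp.out.pos _) this

theorem exists_L2 (hP : IsPGroup p P) (hc : ¬ IsCyclic P) : ∃ L : Subgroup P, L2 p L := by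
  obtain ⟨L, -, h1, h2⟩ := PGFrattini.exists_index_sq_of_not_isCyclic hP hc
  exact ⟨L, ((PGFrattini.frattini_le_iff hP).1 h1).1, ((PGFrattini.frattini_le_iff hP).1 h1).2, h2⟩

theorem top {k : ℕ} (hP : Nat.card P = p ^ (k + 1)) (hc : ¬ IsCyclic P) :
    sN (p ^ k) P ≡ 1 + p [MOD p ^ 2] := by
  classical
  have := Fintype.ofFinite (Subgroup P)
  obtain ⟨L, h⟩ := exists_L2 (IsPGroup.of_card hP) hc
  have h1 := formula hP h (Nat.lt_succ_self k)
  have h2 : sN (p ^ k) L = 0 := by
    have : IsEmpty {H : Subgroup L // Nat.card H = p ^ k} := ⟨fun ⟨H, e⟩ => by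
      have h3 := L.card_mul_index
      have h4 := Nat.le_of_dvd Nat.card_pos (e ▸ H.card_subgroup_dvd_card)
      rw [hP, h.idx, pow_succ p k] at h3
      have := hp.out.one_lt
      have := pow_pos hp.out.pos k
      nlinarith [Nat.mul_le_mul_right (p ^ 2) h4, mul_pos this hp.out.pos]⟩
    simp [sN]
  rw [h2, Finset.sum_congr rfl (g := fun _ => 1) fun M _ => by
    rw [← card_of_idx hP (M.2.2.trans (pow_one p).symm), sN_self]] at h1
  simpa [← Nat.card_eq_fintype_card, card_Gam h, add_comm] using h1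

theorem sum_one {k j : ℕ} (hP : Nat.card P = p ^ (j + 2)) (h : L2 p L) (hk : k ≤ j) (c : ℕ)
    (K : {M : Subgroup P // L ≤ M ∧ M.index = p}) (h0 : sN (p ^ k) K.1 ≡ 1 + p [MOD p ^ 2])
    (h1 : ∀ M : {M : Subgroup P // L ≤ M ∧ M.index = p}, M ≠ K →
      sN (p ^ k) M.1 ≡ 1 + p * c [MOD p ^ 2]) : sN (p ^ k) P ≡ 1 + p [MOD p ^ 2] := by
  classical
  have := Fintype.ofFinite (Subgroup P)
  have h2 := formula hP h (k := k) (by omega)
  have h3 : p * sN (p ^ k) L ≡ p * 1 [MOD p ^ 2] := by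
    rw [pow_two]
    exact (Cfsg.Agent.S3975.result p k hp.out (by
      rw [card_of_idx hP h.idx]; exact pow_dvd_pow _ hk)).mul_left' p
  rw [← Finset.add_sum_erase _ _ (Finset.mem_univ K)] at h2
  have h4 : ∑ M ∈ Finset.univ.erase K, sN (p ^ k) M.1 ≡ ∑ M ∈ Finset.univ.erase K, (1 + p * c)
    [MOD p ^ 2] := Nat.ModEq.sum fun M hM => h1 M (Finset.ne_of_mem_erase hM)
  rw [Finset.sum_const, Finset.card_erase_of_mem (Finset.mem_univ _), Finset.card_univ,
    ← Nat.card_eq_fintype_card, card_Gam h, smul_eq_mul, Nat.add_sub_cancel] at h4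
  refine Nat.ModEq.add_right_cancel h3 (h2.trans ((h0.add h4).trans ?_))
  rw [show 1 + p + p * (1 + p * c) = 1 + p + p * 1 + p ^ 2 * c by ring]
  exact ((Nat.modEq_iff_dvd' (Nat.le_add_right _ _)).2 (by simp)).symm

theorem sum_all {k j : ℕ} (hP : Nat.card P = p ^ (j + 2)) (h : L2 p L) (hk : k ≤ j)
    (h1 : ∀ M : Subgroup P, L ≤ M → M.index = p → sN (p ^ k) M ≡ 1 + p [MOD p ^ 2]) :
    sN (p ^ k) P ≡ 1 + p [MOD p ^ 2] := by
  obtain ⟨K⟩ : Nonempty {M : Subgroup P // L ≤ M ∧ M.index = p} :=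
    (Nat.card_pos_iff.1 (by rw [card_Gam h]; omega)).1
  exact sum_one hP h hk 1 K (h1 _ K.2.1 K.2.2) fun M _ => by simpa using h1 _ M.2.1 M.2.2

end CA.H7Kul
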