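import Cfsg.Agent.Lib.Grp.H7Kul
import Cfsg.Agent.S3976

/-! Counting subgroups of prime power order modulo `p ^ 2`, part two. -/

namespace CA.H7Kul
open Subgroup
open scoped Pointwise commutatorElement

universe u
variable {p : ℕ} [hp : Fact p.Prime] {P : Type u} [Group P] [Finite P] {L : Subgroup P}

/-- a normal elementary abelian subgroup of order `p ^ 2` -/
def Good (p : ℕ) (P : Type*) [Group P] : Prop :=
  ∃ E : Subgroup P, E.Normal ∧ Cfsg.IsElementaryAbelian p E ∧ Nat.card E = p ^ 2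

theorem Good.nc (h : Good p P) : ¬ IsCyclic P := fun _ => by
  obtain ⟨E, -, h1, h2⟩ := h
  exact PGNormalCyclic.not_isCyclic_of_elementary hp.out.pos h1.2
    (by rw [h2]; nlinarith [hp.out.one_lt]) inferInstance

omit hp [Finite P] in
theorem good_sub {E M : Subgroup P} [E.Normal] (h1 : Cfsg.IsElementaryAbelian p E)
    (h2 : Nat.card E = p ^ 2) (h : E ≤ M) : Good p M :=
  ⟨E.subgroupOf M, inferInstance, ⟨PGBasic.isMulCommutative_iff.2 fun a ha b hb =>
    Subtype.ext (PGBasic.isMulCommutative_iff.1 h1.1 a ha b hb), fun a ha => Subtype.ext (h1.2 a ha)⟩,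
    (Nat.card_congr (subgroupOfEquivOfLe h).toEquiv).trans h2⟩

theorem good_ab (hP : IsPGroup p P) (h : IsMulCommutative P) (hc : ¬ IsCyclic P) : Good p P := by
  have : IsMulCommutative (⊤ : Subgroup P) :=
    PGBasic.isMulCommutative_iff.2 fun a _ b _ => h.1.1 a b
  obtain ⟨E, a, -, b⟩ := PGNormalCyclic.exists_normal_four_of_abelian hP (A := ⊤)
    fun e => hc (isCyclic_of_surjective _ topEquiv.surjective)
  exact ⟨E, a, b⟩

theorem special (hP : Nat.card P = 2 ^ 4) {E : Subgroup P} [hE : E.Normal]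
    (h1 : Cfsg.IsElementaryAbelian 2 E) (h2 : Nat.card E = 2 ^ 2) (h3 : ∀ x, x ^ 2 ∈ E) :
    sN (2 ^ 1) P ≡ 1 + 2 [MOD 2 ^ 2] := by
  classical
  have hc := PGBasic.isMulCommutative_iff.1 h1.1
  have sq : ∀ a ∈ E, a * a = 1 := fun a ha => by rw [← pow_two]; exact h1.2 a ha
  set C := centralizer (E : Set P)
  have a1 : 4 ∣ Nat.card {x : P // x * x = 1 ∧ x ∈ C} := by
    letI : MulAction E {x : P // x * x = 1 ∧ x ∈ C} :=
      { smul := fun e x => ⟨e * x, by
          rw [mul_assoc, ← mul_assoc x.1, ← x.2.2 e e.2, mul_assoc, x.2.1, mul_one, sq e e.2],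
          mul_mem (fun a ha => hc a ha e e.2) x.2.2⟩
        one_smul := fun x => Subtype.ext (one_mul _)
        mul_smul := fun a b x => Subtype.ext (mul_assoc _ _ _) }
    refine dvd_of_orbits (A := E) fun x => ?_
    have : MulAction.stabilizer E x = ⊥ := eq_bot_iff.2 fun a ha =>
      Subtype.ext (mul_eq_right.1 (congrArg Subtype.val ha))
    rw [this, index_bot, h2]; rfl
  have a2 : 4 ∣ Nat.card {x : P // x * x = 1 ∧ x ∉ C} := by
    by_cases hC : C = ⊤
    · have : IsEmpty {x : P // x * x = 1 ∧ x ∉ C} := ⟨fun x => x.2.2 (hC.ge (mem_top _))⟩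
      simp
    obtain ⟨z, z1, z2, z3⟩ := PGBasic.exists_mem_center_orderOf (IsPGroup.of_card hP) (M := E)
      (fun e => by rw [e] at h2; simp at h2)
    obtain ⟨e, e1, e2⟩ : ∃ e ∈ E, e ∉ zpowers z := by
      by_contra hn
      push Not at hn
      have := card_le_of_le hn
      rw [Nat.card_zpowers, z3, h2] at this
      omega
    have hEz : zpowers z ⊔ zpowers e = E := PGBasic.eq_of_le_of_card_le
      (sup_le (zpowers_le.2 z1) (zpowers_le.2 e1)) (by
        rw [h2, (PGNormalCyclic.four_of_commute Nat.prime_two z3 (h1.2 e e1) e2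
          (hc z z1 e e1)).2])
    have mz : ∀ y ∈ zpowers z, y = 1 ∨ y = z := fun y hy => by
      obtain ⟨i, hi, rfl⟩ := Finset.mem_image.1 (mem_zpowers_iff_mem_range_orderOf.1 hy)
      rw [z3, Finset.mem_range] at hi
      interval_cases i <;> simp
    have nC : ∀ x, x ∉ C → ∀ y ∈ E, x * y = y * x → y ∈ zpowers z := fun x hx y hy h => by
      by_contra hn
      have : zpowers z ⊔ zpowers y = E := PGBasic.eq_of_le_of_card_le
        (sup_le (zpowers_le.2 z1) (zpowers_le.2 hy)) (by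
          rw [h2, (PGNormalCyclic.four_of_commute Nat.prime_two z3 (h1.2 y hy) hn
            (hc z z1 y hy)).2])
      have h5 : E ≤ centralizer {x} := this ▸ sup_le (zpowers_le.2
        (mem_centralizer_singleton_iff.2 (mem_center_iff.1 z2 x).symm))
        (zpowers_le.2 (mem_centralizer_singleton_iff.2 h.symm))
      exact hx fun a ha => mem_centralizer_singleton_iff.1 (h5 ha)
    have xs : ∀ x, x ∉ C → x * x = 1 ∨ x * x = z := fun x hx =>
      mz _ (nC x hx _ (pow_two x ▸ h3 x) (mul_assoc _ _ _).symm)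
    have eC : e ∈ C := fun a ha => hc a ha e e1
    have z1' : z ≠ 1 := fun h => by rw [h, orderOf_one] at z3; omega
    have key : ∀ x, x ∉ C → (x * e * (x * e) = 1 ↔ ¬ x * x = 1) := fun x hx => by
      have hxe : x * e ∉ C := fun h => hx ((C.mul_mem_cancel_right eC).1 h)
      have : x * e * (x * e) ≠ x * x := fun h => e2 (nC x hx e e1 (by
        rw [mul_assoc, mul_right_inj, ← mul_assoc] at h
        nth_rw 1 [← h]
        rw [mul_assoc, sq e e1, mul_one]))
      rcases xs x hx with a | a <;> rcases xs _ hxe with b | b <;> simp_all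
    have b1 : Nat.card {x : P // x ∉ C ∧ x * x = 1} = Nat.card {x : P // x ∉ C ∧ ¬ x * x = 1} :=
      Nat.card_congr ((Equiv.mulRight e).subtypeEquiv fun x => by
        by_cases hx : x ∈ C
        · simp [hx, mul_mem hx eC]
        · have hxe : x * e ∉ C := fun h => hx ((C.mul_mem_cancel_right eC).1 h)
          simp [hx, hxe, key x hx])
    have b2 := card_split (fun x : P => x ∉ C) fun x => x * x = 1
    have b3 := card_split (fun _ : P => True) fun x => x ∈ C
    simp only [true_and] at b3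
    rw [Nat.card_congr (Equiv.subtypeUnivEquiv fun _ => trivial), hP] at b3
    have b4 : C.index = 2 := by
      rw [index_eq_two_iff]
      obtain ⟨x, hx⟩ : ∃ x, x ∉ C := by by_contra hn; push Not at hn; exact hC ((eq_top_iff' _).2 hn)
      refine ⟨x, fun y => ?_⟩
      by_cases hy : y ∈ C
      · exact Or.inr ⟨hy, fun h => hx ((C.mul_mem_cancel_left hy).1 h)⟩
      · refine Or.inl ⟨?_, hy⟩
        have cj : ∀ w, w ∉ C → w * e = e * w * z := fun w hw => by
          have h6 : e * (w * e * w⁻¹) ∈ E := mul_mem e1 (hE.conj_mem _ e1 w)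
          have h7 := nC w hw _ h6 (by
            have h8 := hc _ (h3 w) e e1
            have h9 := hc _ e1 _ (hE.conj_mem _ e1 w)
            rw [pow_two] at h8
            calc w * (e * (w * e * w⁻¹)) = w * e * w⁻¹ * (w * w * e) * w⁻¹ := by group
              _ = w * e * w⁻¹ * e * w := by rw [h8]; group
              _ = _ := by rw [← h9])
          rcases mz _ h7 with a | a
          · refine (e2 (nC w hw e e1 ?_)).elim
            have := eq_inv_of_mul_eq_one_right a
            rw [inv_eq_of_mul_eq_one_left (sq e e1)] at this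
            exact mul_inv_eq_iff_eq_mul.1 this
          · rw [mul_assoc, mem_center_iff.1 z2 w, ← a, ← mul_assoc, ← mul_assoc, sq e e1]
            group
        have : E ≤ centralizer {y * x} := hEz ▸ sup_le (zpowers_le.2
          (mem_centralizer_singleton_iff.2 (mem_center_iff.1 z2 _).symm))
          (zpowers_le.2 (mem_centralizer_singleton_iff.2 (by
            calc e * (y * x) = e * y * x * (z * z) := by rw [sq z z1]; group
              _ = e * y * z * x * z := by
                rw [mul_assoc (e * y) z x, ← mem_center_iff.1 z2 x]; simp only [mul_assoc]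
              _ = y * (e * x * z) := by rw [← cj y hy]; group
              _ = _ := by rw [← cj x hx]; group)))
        exact fun a ha => mem_centralizer_singleton_iff.1 (this ha)
    have b5 := C.card_mul_index
    rw [b4, hP] at b5
    rw [Nat.card_congr (Equiv.subtypeEquivRight fun x => and_comm)]
    have : Nat.card {x : P // x ∈ C} = Nat.card C := rfl
    omega
  have a3 := card_split (fun x : P => x * x = 1) fun x => x ∈ C
  have a4 := card_split (fun x : P => x * x = 1) fun x => x = 1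
  have a5 : Nat.card {x : P // x * x = 1 ∧ x = 1} = 1 :=
    Nat.card_eq_one_iff_unique.2 ⟨⟨fun a b => Subtype.ext (a.2.2.trans b.2.2.symm)⟩, ⟨⟨1, by simp⟩⟩⟩
  have a6 := PX.card_prime_subgroups (G := P) Nat.prime_two
  rw [Nat.card_congr (Equiv.subtypeEquivRight (q := fun x => x * x = 1 ∧ ¬ x = 1) fun x => by
    rw [orderOf_eq_prime_iff, pow_two])] at a6
  unfold Nat.ModEq sN
  simp only [pow_one]
  omega

theorem caseB (hP : IsPGroup p P) {E : Subgroup P} [hE : E.Normal]
    (h1 : Cfsg.IsElementaryAbelian p E) (h2 : Nat.card E = p ^ 2) (hc : IsCyclic (P ⧸ E)) :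
    (∀ x y : P, ⁅x, y⁆ ∈ center P ∧ ⁅x, y⁆ ^ p = 1) ∧
      ∀ M : Subgroup P, M.index = p → IsMulCommutative M := by
  obtain ⟨Z, z0, z1, z2⟩ := PGBasic.exists_normal_card hP (M := E) 1
    (h2 ▸ Nat.pow_le_pow_right hp.out.pos one_le_two)
  rw [pow_one] at z2
  have z3 := PGBasic.le_center_of_card_eq hP z2
  have z4 := PGBasic.commutator_le_of_relIndex hP z1 (by
    have := PGBasic.card_mul_relIndex z1
    rw [z2, h2, pow_two] at this
    exact Nat.eq_of_mul_eq_mul_left hp.out.pos this)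
  have z5 : ∀ x y : P, ⁅x, y⁆ ∈ Z := fun x y => by
    have hs := QuotientGroup.mk'_surjective Z
    have := commutative_of_cyclic_center_quotient (QuotientGroup.map Z E (MonoidHom.id P) z1) (by
      intro a ha
      obtain ⟨a, rfl⟩ := hs a
      refine mem_center_iff.2 fun b => ?_
      obtain ⟨b, rfl⟩ := hs b
      rw [eq_comm, ← commutatorElement_eq_one_iff_mul_comm, ← map_commutatorElement]
      exact (QuotientGroup.eq_one_iff _).2 (z4 (commutator_mem_commutator
        ((QuotientGroup.eq_one_iff a).1 ha) (mem_top b)))) (QuotientGroup.mk' Z x) (QuotientGroup.mk' Z y)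
    rw [← commutatorElement_eq_one_iff_mul_comm, ← map_commutatorElement] at this
    exact (QuotientGroup.eq_one_iff _).1 this
  have z6 : ∀ x y : P, ⁅x, y⁆ ^ p = 1 := fun x y => h1.2 _ (z1 (z5 x y))
  refine ⟨fun x y => ⟨z3 (z5 x y), z6 x y⟩, fun M hM => ?_⟩
  have := PGBasic.normal_of_index_eq hP hM
  by_cases e : E ≤ M
  · obtain ⟨a, ha⟩ := hc.exists_generator
    obtain ⟨a, rfl⟩ := QuotientGroup.mk_surjective a
    have a1 : ∀ x : P, ∃ i : ℤ, (a ^ i)⁻¹ * x ∈ E := fun x => by
      obtain ⟨i, hi⟩ := ha (x : P ⧸ E)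
      exact ⟨i, QuotientGroup.eq.1 hi⟩
    have a2 : a ∉ M := fun h => hp.out.one_lt.ne' (by
      rw [← hM, index_eq_one, eq_top_iff']
      intro x
      obtain ⟨i, hi⟩ := a1 x
      exact (M.mul_mem_cancel_left (inv_mem (zpow_mem h i))).1 (e hi))
    have a3 : a ^ p ∈ center P := mem_center_iff.2 fun y => by
      rw [eq_comm, ← commutatorElement_eq_one_iff_mul_comm, PGClassTwo.comm_pow_left
        (PGClassTwo.commute_of_mem_center (z3 (z5 _ _)) _), z6]
    have := h1.1
    have := PGBasic.isMulCommutative_sup_zpowers (A := E) (x := a ^ p)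
      (center_le_centralizer _ a3)
    refine PGBasic.isMulCommutative_of_le (B := E ⊔ zpowers (a ^ p)) fun x hx => ?_
    obtain ⟨i, hi⟩ := a1 x
    obtain ⟨j, rfl⟩ := PGBasic.dvd_of_zpow_mem hp.out a2 (hM ▸ pow_index_mem M a)
      (inv_mem_iff.1 ((M.mul_mem_cancel_right hx).1 (e hi)))
    rw [← mul_inv_cancel_left (a ^ ((p : ℤ) * j)) x]
    exact mul_mem (mem_sup_right ⟨j, by simp [zpow_mul]⟩) (mem_sup_left hi)
  · have a1 : M ⊓ E ≤ center P := by
      obtain ⟨i, hi, e1⟩ := (Nat.dvd_prime_pow hp.out).1 (h2 ▸ card_dvd_of_le (inf_le_right (a := M)))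
      interval_cases i
      · rw [pow_zero, card_eq_one] at e1
        exact e1 ▸ bot_le
      · exact PGBasic.le_center_of_card_eq hP (by simpa using e1)
      · exact (e (inf_eq_right.1 (PGBasic.eq_of_le_of_card_le inf_le_right (by rw [e1, h2])))).elim
    exact ⟨⟨commutative_of_cyclic_center_quotient ((QuotientGroup.mk' E).comp M.subtype)
      fun x hx => mem_center_iff.2 fun y => Subtype.ext
        (mem_center_iff.1 (a1 ⟨x.2, (QuotientGroup.eq_one_iff _).1 hx⟩) y)⟩⟩

theorem main (m : ℕ) : ∀ (P : Type u) [Group P] [Finite P], Nat.card P = p ^ m → Good p P →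
    (p = 2 → m = 3 → IsMulCommutative P) → ∀ k, 1 ≤ k → k < m →
    sN (p ^ k) P ≡ 1 + p [MOD p ^ 2] := by
  induction m with
  | zero => intro P _ _ _ _ _ k _ hk; omega
  | succ m ih =>
  intro P _ _ hP hG h23 k k1 k2
  by_cases e : k = m
  · subst e; exact top hP hG.nc
  obtain ⟨j, rfl⟩ : ∃ j, m = j + 2 := ⟨m - 2, by omega⟩
  have hPp := IsPGroup.of_card hP
  have cM : ∀ M : Subgroup P, M.index = p → Nat.card M = p ^ (j + 2) := fun M hM =>
    card_of_idx hP (hM.trans (pow_one p).symm)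
  obtain ⟨E, hE, h1, h2⟩ := id hG
  by_cases hc : IsCyclic (P ⧸ E)
  · obtain ⟨b1, b2⟩ := caseB hPp h1 h2 hc
    obtain ⟨L, h⟩ := exists_L2 hPp hG.nc
    have ab : ∀ M : Subgroup P, M.index = p → ¬ IsCyclic M → sN (p ^ k) M ≡ 1 + p [MOD p ^ 2] :=
      fun M hM hn => ih M (cM M hM) (good_ab (hPp.to_subgroup M) (b2 M hM) hn)
        (fun _ _ => b2 M hM) k k1 (by omega)
    have c0 : ∀ x y : P, ⁅y, x⁆ ^ (p ^ (j + 1)).choose 2 = 1 := fun x y => by
      by_cases e2 : p = 2 ∧ j = 0
      · rw [commutatorElement_eq_one_iff_mul_comm.2 ((h23 e2.1 (by omega)).1.1 _ _), one_pow]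
      obtain ⟨c, hc⟩ : p ∣ (p ^ (j + 1)).choose 2 := by
        by_cases e3 : p = 2
        · obtain ⟨j, rfl⟩ : ∃ i, j = i + 1 := ⟨j - 1, by omega⟩
          rw [e3, Nat.choose_two_right, pow_succ, mul_right_comm, Nat.mul_div_cancel _ two_pos]
          exact Dvd.dvd.mul_right (dvd_pow_self 2 (by omega)) _
        · exact (dvd_pow_self p (by omega)).trans
            (PGClassTwo.dvd_choose_two (hp.out.odd_of_ne_two e3).pow)
      rw [hc, pow_mul, (b1 y x).2, one_pow]
    let φ : P →* P := MonoidHom.mk' (fun x => x ^ p ^ (j + 1)) fun x y => by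
      rw [PGClassTwo.mul_pow_eq (PGClassTwo.commute_of_mem_center (b1 y x).1 _)
        (PGClassTwo.commute_of_mem_center (b1 y x).1 _), c0, mul_one]
    have mk : ∀ x, x ∈ φ.ker ↔ x ^ p ^ (j + 1) = 1 := fun x => Iff.rfl
    have c1 : L ≤ φ.ker := fun x hx => (mk x).2 (by
      have := pow_card_eq_one' (x := (⟨x, hx⟩ : L))
      rw [card_of_idx (m := j + 1) hP h.idx] at this
      exact congrArg Subtype.val this)
    have c2 : E ≤ φ.ker := fun x hx => (mk x).2 (by rw [pow_succ', pow_mul, h1.2 x hx, one_pow])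
    have c3 : ∀ M : Subgroup P, M.index = p → M ≤ φ.ker → ¬ IsCyclic M := fun M hM hle hn => by
      have := hn.exponent_eq_card
      rw [cM M hM] at this
      have h5 := (Nat.pow_dvd_pow_iff_le_right hp.out.one_lt).1 (this ▸
        Monoid.exponent_dvd_of_forall_pow_eq_one fun g : M => Subtype.ext ((mk _).1 (hle g.2)))
      omega
    by_cases c4 : φ.ker = ⊤
    · exact sum_all (j := j + 1) hP h (by omega) fun M _ hM => ab M hM (c3 M hM (c4 ▸ le_top))
    have c5 := h.idx_eq c1 (fun e3 => by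
      have := h.normal
      have h5 : IsCyclic (P ⧸ L) := isCyclic_of_surjective
        (QuotientGroup.map E L (MonoidHom.id P) (e3 ▸ c2)) fun x => by
          obtain ⟨x, rfl⟩ := QuotientGroup.mk_surjective x
          exact ⟨x, rfl⟩
      have h6 := h5.exponent_eq_card
      have h7 : Monoid.exponent (P ⧸ L) ∣ p := Monoid.exponent_dvd_of_forall_pow_eq_one fun x => by
        obtain ⟨x, rfl⟩ := QuotientGroup.mk_surjective x
        exact (QuotientGroup.eq_one_iff _).2 (h.pw x)
      rw [h6, show Nat.card (P ⧸ L) = p ^ 2 from h.idx] at h7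
      have := Nat.le_of_dvd hp.out.pos h7
      nlinarith [hp.out.one_lt]) c4
    refine sum_one (j := j + 1) hP h (by omega) 0 ⟨φ.ker, c1, c5⟩ (ab _ c5 (c3 _ c5 le_rfl))
      fun M hM => ?_
    obtain ⟨x, x1, x2⟩ : ∃ x ∈ M.1, x ∉ φ.ker := by
      by_contra hn
      push Not at hn
      exact hM (Subtype.ext (PGBasic.eq_of_le_of_card_le hn (by rw [cM _ c5, cM _ M.2.2])))
    have : IsCyclic M.1 := isCyclic_of_orderOf_eq_card ⟨x, x1⟩ (by
      rw [cM _ M.2.2]
      exact orderOf_eq_prime_pow (fun e => x2 (congrArg Subtype.val e))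
        (by rw [← cM _ M.2.2]; exact pow_card_eq_one'))
    rw [sN_cyc this (by rw [cM _ M.2.2]; exact pow_dvd_pow _ (by omega))]
    rfl
  obtain ⟨L, h⟩ := exists_L2 (hPp.to_quotient E) hc
  have hs := QuotientGroup.mk'_surjective E
  have hEL : E ≤ L.comap (QuotientGroup.mk' E) := (QuotientGroup.ker_mk' E).ge.trans (ker_le_comap _ _)
  have h' : L2 p (L.comap (QuotientGroup.mk' E)) := ⟨by
    rw [← map_le_iff_le_comap, _root_.commutator_def, map_commutator]
    exact (commutator_mono le_top le_top).trans h.com, fun x => by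
      rw [mem_comap, map_pow]; exact h.pw _, by rw [index_comap_of_surjective _ hs, h.idx]⟩
  by_cases e2 : p = 2 ∧ j = 1
  · obtain ⟨rfl, rfl⟩ := e2
    by_cases e3 : k = 1
    · subst e3
      have := PGBasic.eq_of_le_of_card_le hEL (by rw [h2, card_of_idx (m := 2) hP h'.idx])
      exact special hP h1 h2 (this ▸ h'.pw)
    obtain rfl : k = 2 := by omega
    exact sum_all (j := 2) hP h' le_rfl fun M hM hi =>
      top (cM M hi) (good_sub h1 h2 (hEL.trans hM)).nc
  exact sum_all (j := j + 1) hP h' (by omega) fun M hM hi => ih M (cM M hi)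
    (good_sub h1 h2 (hEL.trans hM)) (fun a b => (e2 ⟨a, by omega⟩).elim) k k1 (by omega)

theorem kul {m : ℕ} (hP : Nat.card P = p ^ m) (hnc : ¬ IsCyclic P)
    (h2 : p = 2 → Group.nilpotencyClass P ≠ m - 1) {k : ℕ} (k1 : 1 ≤ k) (k2 : k < m) :
    sN (p ^ k) P ≡ 1 + p [MOD p ^ 2] := by
  obtain ⟨n, rfl⟩ : ∃ n, m = n + 2 := ⟨m - 2, by omega⟩
  have h3 : p = 2 → (⊤ : Subgroup P).lowerCentralSeries n = ⊥ := fun e => by
    by_contra h
    exact h2 e ((H7Max.class_iff hp.out hP).2 h)
  refine main _ P hP ?_ (fun e e' => ?_) k k1 k2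
  · rcases PGNormalCyclic.trichotomy (IsPGroup.of_card hP) with h | h | ⟨rfl, r, a, y, h1, h4, h5, -⟩
    · exact (hnc h).elim
    · exact h
    exfalso
    have hr : r = n + 1 := by
      have := PGBasic.card_sup_zpowers Nat.prime_two (PGNormalCyclic.dqs_normalizer h5)
        (PGNormalCyclic.dqs_notMem h1 h5) (PGNormalCyclic.dqs_sq_mem h5)
      rw [h4, card_top, hP, Nat.card_zpowers, h1, ← pow_succ] at this
      exact (Nat.succ_injective (Nat.pow_right_injective le_rfl this)).symm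
    obtain ⟨u, u1, ⟨c, u2⟩, -⟩ := PGNormalCyclic.dqs_conj h5
    have key : ∀ i, ∃ t : ℤ, Odd t ∧ a ^ (2 ^ i * t) ∈ (⊤ : Subgroup P).lowerCentralSeries i := by
      intro i
      induction i with
      | zero => exact ⟨1, odd_one, mem_top _⟩
      | succ i ih =>
        obtain ⟨t, t1, t2⟩ := ih
        refine ⟨t * (1 - 2 * c), t1.mul ⟨-c, by ring⟩, ?_⟩
        have := commutator_mem_commutator t2 (mem_top y)
        rw [commutatorElement_def, mul_assoc, mul_assoc, ← mul_assoc y, ← zpow_neg, ← conj_zpow, u1,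
          ← zpow_mul, ← zpow_add, show u = 4 * c - 1 by omega] at this
        rwa [show (2 : ℤ) ^ (i + 1) * (t * (1 - 2 * c)) = 2 ^ i * t + (4 * c - 1) * -(2 ^ i * t) by ring]
    obtain ⟨t, t1, t2⟩ := key n
    rw [h3 rfl, mem_bot, ← orderOf_dvd_iff_zpow_eq_one, h1, hr] at t2
    push_cast at t2
    rw [pow_succ, mul_dvd_mul_iff_left (by positivity)] at t2
    exact (Int.not_even_iff_odd.2 t1) (even_iff_two_dvd.2 t2)
  · obtain rfl : n = 1 := by omega
    refine ⟨⟨fun a b => commutatorElement_eq_one_iff_mul_comm.1 (mem_bot.1 ?_)⟩⟩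
    rw [← h3 e]
    exact commutator_mem_commutator (mem_top a) (mem_top b)

variable {G : Type u} [Group G] [Finite G]

omit [Finite G] in
theorem conj_smul_eq_iff {g : G} {H : Subgroup G} :
    MulAut.conj g • H = H ↔ g ∈ normalizer (H : Set G) :=
  conjAct_pointwise_smul_iff (g := g)

omit [Finite G] in
theorem smul_normalizer {g : G} {H : Subgroup G} : MulAut.conj g • normalizer (H : Set G) =
    normalizer ((MulAut.conj g • H : Subgroup G) : Set G) :=
  map_equiv_normalizer_eq H (MulAut.conj g)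

theorem dvd_fib {a : ℕ} {N Q : Subgroup G} (hQ : IsPGroup p Q) (hN : N ≤ Q) (hi : N.relIndex Q = p)
    (ha : p ^ a ∣ Nat.card N) :
    p ∣ Nat.card {H : Subgroup G // ((Nat.card H = p ^ a ∧ H ≤ Q) ∧ ¬ H ≤ N) ∧
      Q ≤ normalizer (H : Set G)} := by
  have hn := PGBasic.le_normalizer_of_relIndex hQ hN hi
  letI : MulAction Q {H : Subgroup G // (Nat.card H = p ^ a ∧ H ≤ Q) ∧ ¬ H ≤ N} :=
    { smul := fun g H => ⟨MulAut.conj (g : G) • H.1, ⟨(Nat.card_congr
          (equivSMul (MulAut.conj (g : G)) H.1).toEquiv).symm.trans H.2.1.1, by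
          rintro _ ⟨x, hx, rfl⟩
          exact mul_mem (mul_mem g.2 (H.2.1.2 hx)) (inv_mem g.2)⟩, fun h => H.2.2 fun x hx =>
          (mem_normalizer_iff.1 (hn g.2) x).2 (h ⟨x, hx, rfl⟩)⟩
      one_smul := fun H => Subtype.ext (by
        change MulAut.conj ((1 : Q) : G) • H.1 = _; simp)
      mul_smul := fun a b H => Subtype.ext (by
        change MulAut.conj ((a * b : Q) : G) • H.1 = MulAut.conj (a : G) • MulAut.conj (b : G) • H.1
        simp [mul_smul]) }
  have h1 := hQ.card_modEq_card_fixedPoints {H : Subgroup G // (Nat.card H = p ^ a ∧ H ≤ Q) ∧ ¬ H ≤ N}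
  have h2 := card_split (fun H : Subgroup G => Nat.card H = p ^ a ∧ H ≤ Q) fun H => H ≤ N
  have h3 := Cfsg.Agent.S3975.result p a hp.out ha
  have h4 := Cfsg.Agent.S3975.result p a hp.out (ha.trans (card_dvd_of_le hN))
  have h5 := sN_sub N (p ^ a)
  have h6 := sN_sub Q (p ^ a)
  unfold sN at h5 h6
  rw [h5, Nat.card_congr (Equiv.subtypeEquivRight (q := fun H : Subgroup G =>
    (Nat.card H = p ^ a ∧ H ≤ Q) ∧ H ≤ N) fun H => ⟨fun h => ⟨⟨h.1, h.2.trans hN⟩, h.2⟩,
      fun h => ⟨h.1.1, h.2⟩⟩)] at h3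
  rw [h6, h2] at h4
  have h7 := Nat.ModEq.add_left_cancel h3 (h4.trans (by rfl : 1 ≡ 1 + 0 [MOD p]))
  refine (Nat.modEq_zero_iff_dvd.1 (h1.symm.trans h7)).trans (dvd_of_eq (Nat.card_congr
    ((Equiv.subtypeEquivRight fun H => ?_).trans
      (Equiv.subtypeSubtypeEquivSubtypeInter _ fun H : Subgroup G => Q ≤ normalizer (H : Set G)))))
  exact ⟨fun h x hx => conj_smul_eq_iff.1 (congrArg Subtype.val (h ⟨x, hx⟩)),
    fun h g => Subtype.ext (conj_smul_eq_iff.2 (h g.2))⟩

omit hp in
theorem card_fib {X B : Type*} [Finite X] [Fintype B] (f : X → B) :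
    Nat.card X = ∑ b, Nat.card {x // f x = b} := by
  rw [← Nat.card_congr (Equiv.sigmaFiberEquiv f), Nat.card_sigma]

theorem dvd_YN {a : ℕ} (S : Sylow p G) {N : Subgroup G} (hN : N ≤ S) (hi : N.relIndex S = p)
    (ha : p ^ a ∣ Nat.card N) : p ^ 2 ∣ Nat.card {H : Subgroup G // (Nat.card H = p ^ a ∧ ¬ H ≤ S) ∧
      N ≤ normalizer (H : Set G)} := by
  have ri : ∀ Q : Sylow p G, N ≤ Q → N.relIndex Q = p := fun Q h => by
    have h1 := PGBasic.card_mul_relIndex hN
    rw [hi, Nat.card_congr (Sylow.equiv S Q).toEquiv, ← PGBasic.card_mul_relIndex h] at h1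
    exact (Nat.eq_of_mul_eq_mul_left Nat.card_pos h1).symm
  have nm : ∀ Q : Sylow p G, N ≤ Q → (Q : Subgroup G) ≤ normalizer (N : Set G) := fun Q h =>
    PGBasic.le_normalizer_of_relIndex Q.isPGroup' h (ri Q h)
  have sq : ∀ (Q : Sylow p G) (H : Subgroup G), N ≤ Q → H ≤ Q → ¬ H ≤ N → H ⊔ N = Q :=
    fun Q H h1 h2 h3 => (PGBasic.eq_or_eq_of_relIndex_prime hp.out (ri Q h1) le_sup_right
      (sup_le h2 h1)).resolve_left fun e => h3 (e ▸ le_sup_left)
  have ex : ∀ H : {H : Subgroup G // (Nat.card H = p ^ a ∧ ¬ H ≤ S) ∧ N ≤ normalizer (H : Set G)},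
      ∃ Q : {Q : Sylow p G // N ≤ Q ∧ Q ≠ S}, H.1 ≤ Q.1 := fun H => by
    obtain ⟨Q, hQ⟩ := (IsPGroup.to_sup_of_normal_left' (IsPGroup.of_card H.2.1.1)
      (S.isPGroup'.to_le hN) H.2.2).exists_le_sylow
    exact ⟨⟨Q, le_sup_right.trans hQ, fun e => H.2.1.2 (le_sup_left.trans (e ▸ hQ))⟩,
      le_sup_left.trans hQ⟩
  choose f hf using ex
  have := Fintype.ofFinite {Q : Sylow p G // N ≤ Q ∧ Q ≠ S}
  rw [card_fib f, Finset.sum_congr rfl (g := fun _ => Nat.card {H : Subgroup G //
    ((Nat.card H = p ^ a ∧ H ≤ S) ∧ ¬ H ≤ N) ∧ (S : Subgroup G) ≤ normalizer (H : Set G)}),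
    Finset.sum_const, Finset.card_univ, ← Nat.card_eq_fintype_card, smul_eq_mul, pow_two]
  · refine mul_dvd_mul ?_ (dvd_fib S.isPGroup' hN hi ha)
    let X : SubMulAction (S : Subgroup G) (Sylow p G) :=
      { carrier := {Q | N ≤ Q ∧ Q ≠ S}
        smul_mem' := fun g Q hQ => ⟨fun x hx => ⟨(g : G)⁻¹ * x * (g : G)⁻¹⁻¹,
          hQ.1 ((mem_normalizer_iff.1 (nm S hN (inv_mem g.2)) x).1 hx), by simp [mul_assoc]⟩,
          fun e => hQ.2 (by
            have : g • S = S := Sylow.smul_eq_iff_mem_normalizer.2 (le_normalizer g.2)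
            exact smul_left_cancel g (e.trans this.symm))⟩ }
    by_contra e
    obtain ⟨Q, hQ⟩ := S.isPGroup'.nonempty_fixed_point_of_prime_not_dvd_card X e
    exact Q.2.2 (Sylow.ext (S.is_maximal' Q.1.isPGroup' (S.isPGroup'.sylow_mem_fixedPoints_iff.1
      fun g => congrArg Subtype.val (hQ g))))
  · intro Q _
    obtain ⟨g, hg⟩ := MulAction.exists_smul_eq (normalizer (N : Set G)) (S.subtype (nm S hN))
      (Q.1.subtype (nm Q Q.2.1))
    rw [Sylow.smul_subtype] at hg
    have hg : MulAut.conj (g : G) • (S : Subgroup G) = Q.1 :=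
      congrArg Sylow.toSubgroup (Sylow.subtype_injective hg)
    have hgN : MulAut.conj (g : G) • N = N := conj_smul_eq_iff.2 g.2
    symm
    refine Nat.card_congr (((MulAction.toPerm (MulAut.conj (g : G))).subtypeEquiv fun H => ?_).trans
      (Equiv.subtypeSubtypeEquivSubtypeExists _ _).symm)
    set K := MulAction.toPerm (MulAut.conj (g : G)) H with hK
    have hK : K = MulAut.conj (g : G) • H := hK
    have k1 : Nat.card K = Nat.card H :=
      (Nat.card_congr (equivSMul (MulAut.conj (g : G)) H).toEquiv).symm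
    have k2 : H ≤ S ↔ K ≤ Q.1 := by rw [← hg, hK, pointwise_smul_le_pointwise_smul_iff]
    have k3 : H ≤ N ↔ K ≤ N := by
      nth_rw 2 [← hgN]; rw [hK, pointwise_smul_le_pointwise_smul_iff]
    have k4 : (S : Subgroup G) ≤ normalizer (H : Set G) ↔ (Q.1 : Subgroup G) ≤ normalizer (K : Set G) := by
      rw [← hg, hK, ← smul_normalizer, pointwise_smul_le_pointwise_smul_iff]
    rw [← k1, k2, k3, k4]
    have k5 : ∀ R : Sylow p G, N ≤ R → K ≤ R → ¬ K ≤ N → K ≤ Q.1 → R = Q.1 := fun R a b c d =>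
      Sylow.ext ((sq R K a b c).symm.trans (sq Q.1 K Q.2.1 d c))
    constructor
    · rintro ⟨⟨⟨a1, a2⟩, a3⟩, a4⟩
      have h : (Nat.card K = p ^ a ∧ ¬ K ≤ S) ∧ N ≤ normalizer (K : Set G) :=
        ⟨⟨a1, fun e => Q.2.2 (k5 S hN e a3 a2).symm⟩, Q.2.1.trans a4⟩
      exact ⟨h, Subtype.ext (k5 _ (f _).2.1 (hf ⟨K, h⟩) a3 a2)⟩
    · rintro ⟨h, e⟩
      have a2 : K ≤ Q.1 := e ▸ hf ⟨K, h⟩
      have a3 : ¬ K ≤ N := fun e => h.1.2 (e.trans hN)
      exact ⟨⟨⟨h.1.1, a2⟩, a3⟩, sq _ K Q.2.1 a2 a3 ▸ sup_le le_normalizer h.2⟩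

theorem sN_syl {a : ℕ} (S : Sylow p G) (ha : p ^ (a + 1) ∣ Nat.card (S : Subgroup G)) :
    sN (p ^ a) G ≡ sN (p ^ a) (S : Subgroup G) [MOD p ^ 2] := by
  rw [sN_sub, sN, card_split (fun H : Subgroup G => Nat.card H = p ^ a) fun H => H ≤ S, card_split
    (fun H : Subgroup G => Nat.card H = p ^ a ∧ ¬ H ≤ S) fun H => (normalizer (H : Set G)).relIndex S = p]
  refine Nat.ModEq.add_left _ (Nat.modEq_zero_iff_dvd.2 (Nat.dvd_add ?_ ?_))
  · have := Fintype.ofFinite {N : Subgroup G // N ≤ S ∧ N.relIndex S = p}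
    rw [card_fib (B := {N : Subgroup G // N ≤ S ∧ N.relIndex S = p}) fun H =>
      ⟨normalizer (H.1 : Set G) ⊓ S, inf_le_right, by rw [inf_relIndex_right, H.2.2]⟩]
    refine Finset.dvd_sum fun N _ => (dvd_YN (a := a) S N.2.1 N.2.2 ?_).trans (dvd_of_eq
      (Nat.card_congr ((Equiv.subtypeEquivRight fun H => ?_).trans
        (Equiv.subtypeSubtypeEquivSubtypeExists _ _).symm)))
    · rw [← PGBasic.card_mul_relIndex N.2.1, N.2.2, pow_succ] at ha
      exact Nat.dvd_of_mul_dvd_mul_right hp.out.pos ha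
    refine ⟨fun ⟨h1, h2⟩ => ?_, fun ⟨h1, h2⟩ =>
      ⟨h1.1, (le_of_eq (congrArg Subtype.val h2).symm).trans inf_le_left⟩⟩
    have := (PGBasic.eq_or_eq_of_relIndex_prime hp.out N.2.2 (le_inf h2 N.2.1)
      inf_le_right).resolve_right fun e => h1.2 (le_sup_left.trans (S.is_maximal'
        (IsPGroup.to_sup_of_normal_left' (IsPGroup.of_card h1.1) S.isPGroup' (inf_eq_right.1 e))
        le_sup_right).le)
    exact ⟨⟨h1, by rw [← inf_relIndex_right, this, N.2.2]⟩, Subtype.ext this⟩
  · have k : ∀ (g : (S : Subgroup G)) (H : Subgroup G), (normalizer (((MulAut.conj (g : G) • H :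
        Subgroup G)) : Set G)).relIndex S = (normalizer (H : Set G)).relIndex S := fun g H => by
      have := relIndex_pointwise_smul (MulAut.conj (g : G)) (normalizer (H : Set G)) (S : Subgroup G)
      rwa [smul_normalizer, conj_smul_eq_iff.2 (le_normalizer g.2)] at this
    letI : MulAction (S : Subgroup G) {H : Subgroup G // (Nat.card H = p ^ a ∧ ¬ H ≤ S) ∧
        ¬ (normalizer (H : Set G)).relIndex S = p} :=
      { smul := fun g H => ⟨MulAut.conj (g : G) • H.1, ⟨(Nat.card_congr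
            (equivSMul (MulAut.conj (g : G)) H.1).toEquiv).symm.trans H.2.1.1, fun h => H.2.1.2
            fun x hx => (mem_normalizer_iff.1 (le_normalizer g.2) x).2 (h ⟨x, hx, rfl⟩)⟩,
            by rw [k]; exact H.2.2⟩
        one_smul := fun H => Subtype.ext (by
          change MulAut.conj ((1 : (S : Subgroup G)) : G) • H.1 = _; simp)
        mul_smul := fun a b H => Subtype.ext (by
          change MulAut.conj ((a * b : (S : Subgroup G)) : G) • H.1 =
            MulAut.conj (a : G) • MulAut.conj (b : G) • H.1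
          simp [mul_smul]) }
    refine dvd_of_orbits (A := (S : Subgroup G)) fun H => ?_
    have : MulAction.stabilizer (S : Subgroup G) H = (normalizer (H.1 : Set G)).subgroupOf S :=
      Subgroup.ext fun g => ⟨fun h => conj_smul_eq_iff.1 (congrArg Subtype.val h),
        fun h => Subtype.ext (conj_smul_eq_iff.2 h)⟩
    rw [this]
    obtain ⟨i, hi⟩ := PGBasic.exists_relIndex_eq_pow (H := normalizer (H.1 : Set G)) S.isPGroup'
    change p ^ 2 ∣ (normalizer (H.1 : Set G)).relIndex S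
    rw [hi]
    refine pow_dvd_pow _ ?_
    by_contra e
    obtain rfl | rfl : i = 0 ∨ i = 1 := by omega
    · exact H.2.1.2 (le_sup_left.trans (S.is_maximal' (IsPGroup.to_sup_of_normal_left'
        (IsPGroup.of_card H.2.1.1) S.isPGroup' (relIndex_eq_one.1 hi)) le_sup_right).le)
    · exact H.2.2 (by simpa using hi)

end CA.H7Kul
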