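import Cfsg.Agent.Lib.Grp.H7Lge
import Cfsg.Agent.Lib.Spor.Tr3Basic

/-!
Large extraspecial 2-subgroups: a pair of fused involutions.
-/

set_option autoImplicit false
set_option linter.unusedSectionVars false

namespace CA.H7Lge

open Subgroup Cfsg CA.BG CA.BG4
open scoped commutatorElement

variable {G : Type*} [Group G] [Finite G] {Q Q' K : Subgroup G} {z x y g : G}

/-- `y` is a conjugate of `z` in `Q` and `z` lies in the corresponding conjugate `Q'` of `Q`. -/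
structure Pair (Q : Subgroup G) (z : G) (Q' : Subgroup G) (y : G) : Prop where
  l : LX Q z
  r : LX Q' y
  mem : y ∈ Q
  mem' : z ∈ Q'
  ne : y ≠ z
  uniq : ∀ a, a * z * a⁻¹ = y → cj a Q = Q'

theorem LX.pair (h : LX Q z) (hy : g * z * g⁻¹ ∈ Q) (hn : g * z * g⁻¹ ≠ z) (hz : z ∈ BG.cj g Q) :
    Pair Q z (BG.cj g Q) (g * z * g⁻¹) := ⟨h, h.cj g, hy, hz, hn, fun _ e => h.cj_eq e⟩

theorem closure_pair (z y : G) : closure {z, y} = zpowers z ⊔ zpowers y := by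
  rw [zpowers_eq_closure, zpowers_eq_closure, ← Subgroup.closure_union]; rfl

theorem cent_pair (z y : G) : 𝓒(zpowers z ⊔ zpowers y) = 𝓒₁(z) ⊓ 𝓒₁(y) := by
  rw [cent_sup, cent_zpowers, cent_zpowers]

namespace Pair

variable (h : Pair Q z Q' y)
include h

theorem symm : Pair Q' y Q z :=
  ⟨h.r, h.l, h.mem', h.mem, h.ne.symm, fun a e => by
    rw [← h.uniq a⁻¹ (by rw [← e]; group), cj_cj_inv]⟩

theorem comm : z * y = y * z := mem_cent1.1 (h.r.cent h.mem')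

theorem not_mem : y ∉ zpowers z := by rw [h.l.mem_iff]; exact not_or.2 ⟨h.r.ne, h.ne⟩

theorem klein : IsKleinFour (zpowers z ⊔ zpowers y : Subgroup G) :=
  Two.isKleinFour_sup h.l.ord h.r.ord h.comm h.ne.symm

theorem mem_iff (hx : x ∈ zpowers z ⊔ zpowers y) : x = 1 ∨ x = z ∨ x = y ∨ x = z * y :=
  Two.klein_mem h.klein (mem_sup_left (mem_zpowers z)) (mem_sup_right (mem_zpowers y)) h.l.ne h.r.ne
    h.ne.symm hx

theorem exists_q : ∃ q ∈ Q, q * z * q⁻¹ = z ∧ q * y * q⁻¹ = y * z :=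
  (h.l.exists_conj h.mem h.r.sq h.not_mem).imp fun _ e =>
    ⟨e.1, mul_inv_eq_iff_eq_mul.2 (mem_cent1.1 (h.l.cent e.1)), e.2⟩

theorem pairs {u v : G} (hu : u ∈ zpowers z ⊔ zpowers y) (hv : v ∈ zpowers z ⊔ zpowers y)
    (u1 : u ≠ 1) (v1 : v ≠ 1) (huv : u ≠ v) : ∃ x ∈ Q ⊔ Q', x * z * x⁻¹ = u ∧ x * y * x⁻¹ = v := by
  obtain ⟨q, q0, q1, q2⟩ := h.exists_q
  obtain ⟨n, n0, n1, n2⟩ := h.symm.exists_q
  replace q0 : q ∈ Q ⊔ Q' := mem_sup_left q0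
  replace n0 : n ∈ Q ⊔ Q' := mem_sup_right n0
  have e : ∀ a b c : G, a * b * c * (a * b)⁻¹ = a * (b * c * b⁻¹) * a⁻¹ := fun a b c => by group
  rcases h.mem_iff hu with rfl | rfl | rfl | rfl <;> rcases h.mem_iff hv with rfl | rfl | rfl | rfl <;>
    try contradiction
  · exact ⟨1, one_mem _, by simp, by simp⟩
  · exact ⟨q, q0, q1, q2.trans h.comm.symm⟩
  · exact ⟨_, mul_mem (mul_mem q0 n0) q0, swap h.l.sq h.r.sq h.comm q1 q2 n1 n2⟩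
  · refine ⟨_, mul_mem q0 n0, ?_, by rw [e, n1, q2, h.comm]⟩
    rw [e, n2, ← conj_mul, q1, q2, ← h.comm, ← mul_assoc, h.l.sq, one_mul]
  · refine ⟨_, mul_mem n0 q0, by rw [e, q1, n2], ?_⟩
    rw [e, q2, ← conj_mul, n1, n2, h.comm, ← mul_assoc, h.r.sq, one_mul]
  · exact ⟨n, n0, n2, n1⟩

theorem normV : Q ≤ 𝓝(zpowers z ⊔ zpowers y) :=
  h.l.norm_of (mem_sup_left (mem_zpowers z)) (sup_le h.l.le (zpowers_le.2 h.mem))

theorem normV' : Q ⊔ Q' ≤ 𝓝(zpowers z ⊔ zpowers y) :=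
  sup_le h.normV (sup_comm (zpowers y) _ ▸ h.symm.normV)

theorem comm_le : ⁅Q, 𝓒₁(z) ⊓ 𝓒₁(y)⁆ ≤ Q ⊓ 𝓒₁(y) :=
  le_inf (comm_le_left (inf_le_left.trans h.l.norm))
    ((comm_le_right (cent_pair z y ▸ norm_cent h.normV)).trans inf_le_right)

theorem R_le : Q' ⊓ 𝓒₁(z) ⊔ Q ⊓ 𝓒₁(y) ≤ 𝓒₁(z) ⊓ 𝓒₁(y) :=
  sup_le (le_inf inf_le_right (inf_le_left.trans h.r.cent))
    (le_inf (inf_le_left.trans h.l.cent) inf_le_right)

theorem R_le' : Q' ⊓ 𝓒₁(z) ⊔ Q ⊓ 𝓒₁(y) ≤ Q ⊔ Q' :=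
  sup_le (inf_le_left.trans le_sup_right) (inf_le_left.trans le_sup_left)

theorem normR : Q ≤ 𝓝(Q' ⊓ 𝓒₁(z) ⊔ Q ⊓ 𝓒₁(y)) :=
  norm_of_comm_le_right (((commutator_mono le_rfl h.R_le).trans h.comm_le).trans le_sup_right)

theorem normR' : Q ⊔ Q' ≤ 𝓝(Q' ⊓ 𝓒₁(z) ⊔ Q ⊓ 𝓒₁(y)) :=
  sup_le h.normR (sup_comm (Q ⊓ 𝓒₁(y)) _ ▸ h.symm.normR)

theorem comm_X : ⁅Q ⊔ Q', 𝓒₁(z) ⊓ 𝓒₁(y)⁆ ≤ Q' ⊓ 𝓒₁(z) ⊔ Q ⊓ 𝓒₁(y) :=
  comm_sup_left_le h.normR (le_sup_right.trans h.normR') (h.comm_le.trans le_sup_right)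
    ((inf_comm 𝓒₁(y) _ ▸ h.symm.comm_le).trans le_sup_left)

theorem R_pi : IsPi {2} (Q' ⊓ 𝓒₁(z) ⊔ Q ⊓ 𝓒₁(y) : Subgroup G) :=
  (h.r.isPi.of_le inf_le_left).sup (h.l.isPi.of_le inf_le_left)
    (norm_inf (inf_le_right.trans h.l.norm) (norm_cent1 (inf_le_left.trans h.r.cent)))

theorem norm_eq : 𝓝(zpowers z ⊔ zpowers y) = (Q ⊔ Q') ⊔ (𝓒₁(z) ⊓ 𝓒₁(y)) := by
  refine le_antisymm (fun a ha => ?_) (sup_le h.normV' (cent_pair z y ▸ cent_le_norm _))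
  obtain ⟨x, x1, x2, x3⟩ := h.pairs (conj_mem_of_mem_norm ha (mem_sup_left (mem_zpowers z)))
    (conj_mem_of_mem_norm ha (mem_sup_right (mem_zpowers y))) (mt conj_eq_one_iff.1 h.l.ne)
    (mt conj_eq_one_iff.1 h.r.ne) (by simpa using h.ne.symm)
  have e : ∀ b, x * b * x⁻¹ = a * b * a⁻¹ → x⁻¹ * a ∈ 𝓒₁(b) := fun b e => by
    rw [mem_cent1, ← mul_inv_eq_iff_eq_mul,
      show x⁻¹ * a * b * (x⁻¹ * a)⁻¹ = x⁻¹ * (a * b * a⁻¹) * x by group, ← e]; group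
  rw [show a = x * (x⁻¹ * a) by group]
  exact mul_mem_sup x1 ⟨e z x2, e y x3⟩

theorem normX : 𝓝(zpowers z ⊔ zpowers y) ≤ 𝓝(Q ⊔ Q') := by
  rw [h.norm_eq]
  exact sup_le (le_norm_self _) (norm_sup (inf_le_left.trans h.l.norm) (inf_le_right.trans h.r.norm))

theorem quot {X R : Subgroup G} (hX : X = Q ⊔ Q') (hR : R = Q' ⊓ 𝓒₁(z) ⊔ Q ⊓ 𝓒₁(y))
    [hn : (R.subgroupOf X).Normal] : Nonempty (Equiv.Perm (Fin 3) ≃* X ⧸ R.subgroupOf X) := by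
  obtain ⟨q, q0, q1, q2⟩ := h.exists_q
  obtain ⟨n, n0, n1, n2⟩ := h.symm.exists_q
  have l : Q ≤ X := hX ▸ le_sup_left
  have r : Q' ≤ X := hX ▸ le_sup_right
  have l' : Q ⊓ 𝓒₁(y) ≤ R := hR ▸ le_sup_right
  have r' : Q' ⊓ 𝓒₁(z) ≤ R := hR ▸ le_sup_left
  have q3 : q ∉ 𝓒₁(y) := fun e => by
    rw [mem_cent1.1 e, mul_inv_cancel_right, left_eq_mul] at q2; exact h.l.ne q2
  have n3 : n ∉ 𝓒₁(z) := fun e => by
    rw [mem_cent1.1 e, mul_inv_cancel_right, left_eq_mul] at n2; exact h.r.ne n2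
  let π := QuotientGroup.mk' (R.subgroupOf X)
  have e1 : ∀ a : X, π a = 1 ↔ (a : G) ∈ R := fun a => QuotientGroup.eq_one_iff a
  let a : X := ⟨q, l q0⟩
  let b : X := ⟨n, r n0⟩
  have aa : π a * π a = 1 := by
    rw [← map_mul, e1]; exact l' ⟨mul_mem q0 q0, h.l.mul_cent h.mem q0 q0 q3 q3⟩
  have bb : π b * π b = 1 := by
    rw [← map_mul, e1]; exact r' ⟨mul_mem n0 n0, h.r.mul_cent h.mem' n0 n0 n3 n3⟩
  obtain ⟨w1, w2⟩ := swap h.l.sq h.r.sq h.comm q1 q2 n1 n2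
  have h1 : (q * n * q)⁻¹ * n * (q * n * q) ∈ Q := mem_cj.1 (h.uniq _ w1 ▸ n0)
  have h2 : (q * n * q)⁻¹ * n * (q * n * q) ∉ 𝓒₁(y) := fun e => by
    rw [← mem_cj, cj_cent1, w2] at e; exact n3 e
  have h3 : π (a * ((a * b * a)⁻¹ * b * (a * b * a))) = 1 :=
    (e1 _).2 (l' ⟨mul_mem q0 h1, h.l.mul_cent h.mem q0 h1 q3 h2⟩)
  have ab : π a * π b * π a = π b * π a * π b := by
    simp only [map_mul, map_inv, mul_inv_rev, inv_eq aa, inv_eq bb] at h3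
    rw [← mul_assoc (π a), ← mul_assoc (π a), ← mul_assoc (π a), aa, one_mul, mul_eq_one_iff_eq_inv, mul_inv_rev,
      mul_inv_rev, inv_eq aa, inv_eq bb, ← mul_assoc (π a)] at h3
    exact h3.symm
  obtain ⟨φ, φ1, φ2⟩ := Tr3Basic.exists_hom_S3 aa bb ab
  refine ⟨MulEquiv.ofBijective φ ⟨(injective_iff_map_eq_one _).2 fun σ hσ => ?_, ?_⟩⟩
  · by_contra h4
    have := normalClosure_le_normal (N := φ.ker) (Set.singleton_subset_iff.2 hσ) (Tr3Basic.test_S3 σ h4)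
    rw [MonoidHom.mem_ker, map_mul, φ1, φ2, ← map_mul, e1, hR] at this
    exact n3 ((mul_mem_cancel_left (h.l.cent q0)).1 (h.R_le this).1)
  · have h5 : X ≤ (φ.range.comap π).map X.subtype := by
      refine hX.le.trans (sup_le (fun u hu => ⟨⟨u, l hu⟩, ?_, rfl⟩) fun u hu => ⟨⟨u, r hu⟩, ?_, rfl⟩)
      · by_cases e : u ∈ 𝓒₁(y)
        · exact ⟨1, by rw [map_one, eq_comm, e1]; exact l' ⟨hu, e⟩⟩
        · refine ⟨(Equiv.swap 0 1)⁻¹, ?_⟩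
          rw [map_inv, φ1]; refine inv_eq_of_mul_eq_one_right ?_
          rw [← map_mul, e1]; exact l' ⟨mul_mem q0 hu, h.l.mul_cent h.mem q0 hu q3 e⟩
      · by_cases e : u ∈ 𝓒₁(z)
        · exact ⟨1, by rw [map_one, eq_comm, e1]; exact r' ⟨hu, e⟩⟩
        · refine ⟨(Equiv.swap 1 2)⁻¹, ?_⟩
          rw [map_inv, φ2]; refine inv_eq_of_mul_eq_one_right ?_
          rw [← map_mul, e1]; exact r' ⟨mul_mem n0 hu, h.r.mul_cent h.mem' n0 hu n3 e⟩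
    intro u
    obtain ⟨u, rfl⟩ := QuotientGroup.mk'_surjective _ u
    exact (mem_map_iff_mem X.subtype_injective).1 (h5 u.2)

theorem normal : ((Q' ⊓ 𝓒₁(z) ⊔ Q ⊓ 𝓒₁(y)).subgroupOf (Q ⊔ Q')).Normal :=
  normal_subgroupOf_of_le_normalizer h.normR'

theorem inf_eq : (Q ⊔ Q') ⊓ (𝓒₁(z) ⊓ 𝓒₁(y)) = Q' ⊓ 𝓒₁(z) ⊔ Q ⊓ 𝓒₁(y) := by
  refine le_antisymm (fun c hc => ?_) (le_inf h.R_le' h.R_le)
  haveI := h.normal
  obtain ⟨e⟩ := h.quot rfl rfl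
  obtain ⟨σ, hσ⟩ := e.surjective (QuotientGroup.mk ⟨c, hc.1⟩)
  have h1 : ∀ σ : Equiv.Perm (Fin 3), (∀ τ, τ * σ = σ * τ) → σ = 1 := by decide
  rw [h1 σ fun τ => e.injective ?_, map_one, eq_comm, QuotientGroup.eq_one_iff] at hσ
  · exact hσ
  · obtain ⟨t, ht⟩ := QuotientGroup.mk_surjective (e τ)
    rw [map_mul, map_mul, hσ, ← ht, ← commutatorElement_eq_one_iff_mul_comm]
    exact (QuotientGroup.eq_one_iff ⁅t, (⟨c, hc.1⟩ : (Q ⊔ Q' : Subgroup G))⁆).2 (h.comm_X (commutator_mem_commutator t.2 hc.2))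

theorem core_eq : (pCore 2 (Q ⊔ Q' : Subgroup G)).map (Q ⊔ Q').subtype = Q' ⊓ 𝓒₁(z) ⊔ Q ⊓ 𝓒₁(y) := by
  haveI := Fact.mk Nat.prime_two
  refine le_antisymm ?_ (Core.le_map_pCore h.R_le' h.normR' (h.R_pi.isPGroup Nat.prime_two))
  haveI := h.normal
  obtain ⟨e⟩ := h.quot rfl rfl
  have h1 : pCore 2 (Equiv.Perm (Fin 3)) = ⊥ := by
    by_contra h1
    obtain ⟨σ, h2, h3⟩ := exists_ne_one h1
    obtain ⟨k, hk⟩ := Core.isPGroup_pCore (p := 2) ⟨_, normalClosure_le_normal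
      (Set.singleton_subset_iff.2 h2) (Tr3Basic.test_S3 σ h3)⟩
    haveI := Fact.mk Nat.prime_three
    have h5 : orderOf (Equiv.swap 0 1 * Equiv.swap 1 2 : Equiv.Perm (Fin 3)) = 3 :=
      orderOf_eq_prime (by decide) (by decide)
    have h4 : 3 ∣ 2 ^ k := h5 ▸ orderOf_dvd_of_pow_eq_one (congrArg Subtype.val hk)
    exact absurd (Nat.prime_three.dvd_of_dvd_pow h4) (by decide)
  rintro _ ⟨a, ha, rfl⟩
  have := Core.map_pCore_le _ (QuotientGroup.mk'_surjective _) (mem_map_of_mem (QuotientGroup.mk'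
    ((Q' ⊓ 𝓒₁(z) ⊔ Q ⊓ 𝓒₁(y)).subgroupOf (Q ⊔ Q'))) ha)
  rw [Core.pCore_eq_bot_of_equiv e h1, mem_bot] at this
  exact (QuotientGroup.eq_one_iff a).1 this

theorem relIndex_eq : 𝓒(zpowers z ⊔ zpowers y).relIndex 𝓝(zpowers z ⊔ zpowers y) = 6 := by
  haveI := h.normal
  obtain ⟨e⟩ := h.quot rfl rfl
  rw [h.norm_eq, ← cent_pair, relIndex_sup_norm (norm_cent h.normV'), ← inf_relIndex_right, inf_comm,
    cent_pair, h.inf_eq, relIndex, index, ← Nat.card_congr e.toEquiv, Nat.card_perm, Nat.card_fin]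
  rfl

theorem E_sq (hx : x ∈ Q ⊓ Q') : x * x = 1 := by
  rcases h.l.mem_iff.1 (h.l.pow x hx.1) with e | e
  · exact e
  · exact absurd (e ▸ h.r.pow x hx.2) h.symm.not_mem

theorem E_le : Q ⊓ Q' ≤ 𝓒₁(z) ⊓ 𝓒₁(y) := inf_le_inf h.l.cent h.r.cent

theorem comm_E : ⁅Q ⊔ Q', Q ⊓ Q'⁆ ≤ zpowers z ⊔ zpowers y :=
  comm_sup_left_le h.normV (le_sup_right.trans h.normV')
    (((commutator_mono le_rfl inf_le_left).trans h.l.der).trans le_sup_left)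
    (((commutator_mono le_rfl inf_le_right).trans h.r.der).trans le_sup_right)

theorem V_le : zpowers z ⊔ zpowers y ≤ Q ⊓ Q' :=
  sup_le (zpowers_le.2 ⟨h.l.mem, h.mem'⟩) (zpowers_le.2 ⟨h.mem, h.r.mem⟩)

end Pair

/-- an element normalizing `Q` and centralizing a hyperplane -/
theorem EX.comm_mem (h : EX Q z) {P : Subgroup G} (hP : P ≤ Q)
    (hi : ∀ a ∈ Q, ∀ b ∈ Q, a ∉ P → b ∉ P → a * b ∈ P) (hg : g ∈ 𝓝(Q)) (hc : g ∈ 𝓒(P)) {q : G}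
    (hq : q ∈ Q) : ⁅q, g⁆ ∈ 𝓩(P) ∧ (⁅q, g⁆ * ⁅q, g⁆ = 1 → ⁅q, g⁆ ∈ zpowers z) := by
  have gz : g ∈ 𝓒₁(z) := norm_zpowers_le h.sq h.ne (h.center_eq ▸ norm_center Q hg)
  by_cases h0 : q ∈ P
  · rw [commutatorElement_eq_one_iff_mul_comm.2 (mem_cent.1 hc q h0)]
    exact ⟨one_mem _, fun _ => one_mem _⟩
  have h2 : q ∈ 𝓝(P) := mem_norm_of_cj_le fun a' ha' => by
    obtain ⟨a, ha, rfl⟩ := mem_cj'.1 ha'
    by_contra e
    have := hi _ (conj_mem_of_mem_norm (le_norm_self Q hq) (hP ha)) q hq e h0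
    rw [inv_mul_cancel_right, mul_mem_cancel_right ha] at this
    exact h0 this
  have h3 : ⁅q, g⁆ ∈ 𝓒(P) := comm_mem_of_norm (norm_cent le_rfl h2) hc
  have e0 : ⁅q, g⁆ = q * (g * q⁻¹ * g⁻¹) := by rw [commutatorElement_def]; group
  have h4 : ⁅q, g⁆ ∈ P := by
    rw [e0]
    refine hi q hq _ (conj_mem_of_mem_norm hg (inv_mem hq)) h0 fun e => h0 ?_
    have := mem_cent.1 hc _ e
    rw [inv_mul_cancel_right, mul_right_inj] at this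
    exact (Subgroup.inv_mem_iff _).1 (this ▸ e)
  refine ⟨⟨h4, h3⟩, fun h5 => h.ctr ⟨hP h4, mem_cent.2 fun a ha => ?_⟩⟩
  have h6 : q ∈ 𝓒₁(⁅q, g⁆) := by
    have h7 : q⁻¹ * ⁅q, g⁆ * (q⁻¹ * ⁅q, g⁆) = q⁻¹ * q⁻¹ := by
      rw [e0, inv_mul_cancel_left, conj_mul, h.cz gz (h.pow _ (inv_mem hq)), mul_inv_cancel_right]
    rw [mul_assoc, mul_right_inj, ← mul_assoc, ← eq_mul_inv_iff_mul_eq, inv_eq h5] at h7
    exact (Subgroup.inv_mem_iff _).1 (mem_cent1.2 h7.symm)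
  by_cases h8 : a ∈ P
  · exact mem_cent.1 h3 a h8
  · exact mem_cent1.1 ((mul_mem_cancel_right h6).1
      (mem_cent1.2 (mem_cent.1 h3 _ (hi a ha q hq h8 h0))))

namespace Pair

variable (h : Pair Q z Q' y)
include h

theorem normE : Q ⊔ Q' ≤ 𝓝(Q ⊓ Q') := norm_of_comm_le_right (h.comm_E.trans h.V_le)

theorem comm_P : ⁅Q' ⊓ 𝓒₁(z), Q ⊓ 𝓒₁(y)⁆ ≤ Q ⊓ Q' :=
  le_inf ((commutator_mono inf_le_right inf_le_left).trans (comm_le_right h.l.norm))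
    ((commutator_mono inf_le_left inf_le_right).trans (comm_le_left h.r.norm))

theorem der_R : ⁅Q' ⊓ 𝓒₁(z) ⊔ Q ⊓ 𝓒₁(y), Q' ⊓ 𝓒₁(z) ⊔ Q ⊓ 𝓒₁(y)⁆ ≤ Q ⊓ Q' := by
  have a : Q' ⊓ 𝓒₁(z) ≤ 𝓝(Q ⊓ Q') := inf_le_left.trans (le_sup_right.trans h.normE)
  have b : Q ⊓ 𝓒₁(y) ≤ 𝓝(Q ⊓ Q') := inf_le_left.trans (le_sup_left.trans h.normE)
  exact comm_sup_left_le a b
    (comm_sup_right_le a b (((commutator_mono inf_le_left inf_le_left).trans h.r.der).trans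
      (le_sup_right.trans h.V_le)) h.comm_P)
    (comm_sup_right_le a b (commutator_comm (Q' ⊓ 𝓒₁(z)) _ ▸ h.comm_P)
      (((commutator_mono inf_le_left inf_le_left).trans h.l.der).trans (le_sup_left.trans h.V_le)))

theorem sq_R (hx : x ∈ Q' ⊓ 𝓒₁(z) ⊔ Q ⊓ 𝓒₁(y)) : x * x ∈ Q ⊓ Q' := by
  obtain ⟨a, ha, b, hb, rfl⟩ := (mem_sup_norm (norm_inf (inf_le_right.trans h.l.norm)
    (norm_cent1 (inf_le_left.trans h.r.cent)))).1 hx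
  rw [show a * b * (a * b) = a * a * ⁅a⁻¹, b⁆ * (b * b) by rw [commutatorElement_def]; group]
  exact mul_mem (mul_mem (h.V_le (mem_sup_right (h.r.pow a ha.1)))
    (h.comm_P (commutator_mem_commutator (inv_mem ha) hb))) (h.V_le (mem_sup_left (h.l.pow b hb.1)))

theorem center_P (e : EX Q z) : Q ⊓ 𝓒(Q ⊓ 𝓒₁(y)) ≤ zpowers z ⊔ zpowers y := fun c hc => by
  rcases h.l.cent_cent h.mem hc.1 hc.2 with k | k
  · exact mem_sup_left (e.ctr ⟨hc.1, k⟩)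
  · exact (mul_mem_cancel_right (mem_sup_right (mem_zpowers y))).1
      (mem_sup_left (e.ctr ⟨mul_mem hc.1 h.mem, k⟩))

theorem cent_P (e : EX Q z) : 𝓒₁(z) ⊓ 𝓒(Q ⊓ 𝓒₁(y)) ≤ zpowers z ⊔ zpowers y := fun c hc =>
  h.center_P e ⟨h.l.stab c hc.1 fun q hq => by
    have := e.comm_mem inf_le_left (fun a ha b hb k1 k2 => ⟨mul_mem ha hb, h.l.mul_cent h.mem ha hb
      (fun k => k1 ⟨ha, k⟩) fun k => k2 ⟨hb, k⟩⟩) (h.l.norm hc.1) hc.2 hq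
    exact this.2 (h.E_sq (h.V_le (h.center_P e ⟨this.1.1.1, this.1.2⟩))), hc.2⟩

theorem center_R (e : EX Q z) : 𝓩(Q' ⊓ 𝓒₁(z) ⊔ Q ⊓ 𝓒₁(y)) = zpowers z ⊔ zpowers y := by
  refine le_antisymm (le_trans (inf_le_inf (h.R_le.trans inf_le_left) (cent_anti le_sup_right))
    (h.cent_P e)) (le_inf ((le_inf (h.V_le.trans inf_le_left)
      ((h.V_le.trans h.E_le).trans inf_le_right)).trans le_sup_right) ?_)
  exact cent_symm (cent_pair z y ▸ h.R_le)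

end Pair

end CA.H7Lge
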