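import Cfsg.Agent.Lib.Grp.Subn

/-! Flavell's strengthening of Wielandt's zipper lemma. -/

namespace CA.H7Zip
open Subgroup CA.Subn
open scoped Pointwise

variable {G : Type*} [Group G]

theorem smul_eq_iff {g : G} {H : Subgroup G} :
    MulAut.conj g • H = H ↔ g ∈ normalizer (H : Set G) :=
  conjAct_pointwise_smul_iff (g := g)

theorem smul_le {g : G} {H K : Subgroup G} (h : H ≤ K) (hg : g ∈ normalizer (K : Set G)) :
    MulAut.conj g • H ≤ K := map_conj_le_of_mem h hg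

theorem sn_smul {H K : Subgroup G} (g : G) :
    SN (MulAut.conj g • H) (MulAut.conj g • K) ↔ SN H K := by
  refine ⟨fun h => ?_, fun h => h.map (MulAut.conj g).toMonoidHom⟩
  have : SN (MulAut.conj g⁻¹ • MulAut.conj g • H) (MulAut.conj g⁻¹ • MulAut.conj g • K) :=
    h.map (MulAut.conj g⁻¹).toMonoidHom
  simpa using this

theorem coatom_smul {K : Subgroup G} (g : G) (h : IsCoatom K) : IsCoatom (MulAut.conj g • K) :=
  (OrderIso.isCoatom_iff (MulAut.conj g).mapSubgroup K).2 h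

variable [Finite G]

theorem conj_out {T : Set (Subgroup G)} {x : G} (hx : x ∉ normalizer ((sSup T : Subgroup G) : Set G)) :
    ∃ B ∈ T, ¬ MulAut.conj x • B ≤ sSup T := by
  by_contra h
  push Not at h
  refine hx (smul_eq_iff.1 (eq_of_le_of_card_ge ?_
    (Nat.card_congr (equivSMul (MulAut.conj x) _).toEquiv).le))
  rw [pointwise_smul_subset_iff]
  exact sSup_le fun B hB => pointwise_smul_subset_iff.1 (h B hB)

theorem sn_sSup {T : Set (Subgroup G)} {K : Subgroup G} (h : ∀ B ∈ T, SN B K) : SN (sSup T) K := by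
  rw [sSup_eq_iSup']
  exact SN.iSup fun B => h B B.2

theorem flavell {𝒜 : Set (Subgroup G)} (hc : ∀ B ∈ 𝒜, ∀ g : G, MulAut.conj g • B ∈ 𝒜)
    (hn : ∀ B ∈ 𝒜, ∀ K : Subgroup G, K ≠ ⊤ → B ≤ K → normalizer (K : Set G) ≠ ⊤)
    (hu : ∀ B ∈ 𝒜, ∀ K K' : Subgroup G, IsCoatom K → IsCoatom K' → B ≤ K → B ≤ K' → ¬ SN B K →
      ¬ SN B K' → K = K') {B₀ K₀ K₀' : Subgroup G} (h0 : B₀ ∈ 𝒜) (k0 : IsCoatom K₀)
    (k0' : IsCoatom K₀') (l0 : B₀ ≤ K₀) (l0' : B₀ ≤ K₀') : K₀ = K₀' := by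
  by_contra hne
  obtain ⟨D, hD0, ⟨K1, K2, k1, k2, k12, hD⟩, hmax⟩ := Finite.exists_le_maximal
    (p := fun D : Subgroup G => ∃ K K' : Subgroup G, IsCoatom K ∧ IsCoatom K' ∧ K ≠ K' ∧
      D = sSup {B | B ∈ 𝒜 ∧ B ≤ K ⊓ K'}) ⟨K₀, K₀', k0, k0', hne, rfl⟩
  have b0 : B₀ ≤ D := (le_sSup (a := B₀) (by exact ⟨h0, le_inf l0 l0'⟩)).trans hD0
  have d12 : D ≤ K1 ⊓ K2 := hD ▸ sSup_le fun B hB => hB.2
  have hD' : D = sSup {B | B ∈ 𝒜 ∧ B ≤ D} := le_antisymm
    (hD.le.trans (sSup_le_sSup fun B hB => ⟨hB.1, hD ▸ le_sSup hB⟩)) (sSup_le fun B hB => hB.2)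
  have mx : ∀ K K' : Subgroup G, IsCoatom K → IsCoatom K' → D ≤ K → D ≤ K' → ∀ B ∈ 𝒜, B ≤ K →
      B ≤ K' → ¬ B ≤ D → K = K' := fun K K' a a' b b' B c1 c2 c3 c4 => by
    by_contra e
    exact c4 ((le_sSup (a := B) (by exact ⟨c1, le_inf c2 c3⟩)).trans (hmax ⟨K, K', a, a', e, rfl⟩
      (hD'.le.trans (sSup_le_sSup fun B hB => ⟨hB.1, hB.2.trans (le_inf b b')⟩))))
  have self : ∀ K : Subgroup G, IsCoatom K → D ≤ K → normalizer (K : Set G) ≤ K := fun K a b =>
    ((a.le_iff_eq (hn _ h0 K a.1 (b0.trans b))).1 le_normalizer).le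
  let U : Subgroup G → Prop := fun K => ∀ K', IsCoatom K' → normalizer (D : Set G) ≤ K' → K' = K
  have Z : ∀ K X : Subgroup G, IsCoatom K → X ≤ K → SN D X →
      (X = K ∨ ∃ B ∈ 𝒜, B ≤ X ∧ ¬ B ≤ D) → U K := by
    intro K X a b c d K' a' b'
    by_cases e : X ≤ normalizer (D : Set G)
    · rcases d with rfl | ⟨B, d1, d2, d3⟩
      · exact (a.le_iff_eq a'.1).1 (e.trans b')
      · exact mx K' K a' a (le_normalizer.trans b') (c.le.trans b) B d1 (d2.trans (e.trans b'))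
          (d2.trans b) d3
    obtain ⟨x, x1, x2, x3⟩ := c.exists_conj e
    obtain ⟨B, ⟨d1, d2⟩, d3⟩ := conj_out (hD' ▸ x2)
    exact mx K' K a' a (le_normalizer.trans b') (c.le.trans b) _ (hc B d1 x)
      (((map_mono d2).trans x3).trans b') (smul_le (d2.trans (c.le.trans b)) (le_normalizer (b x1)))
      (hD' ▸ d3)
  let E : Subgroup G → Subgroup G := fun K => sSup {B | B ∈ 𝒜 ∧ B ≤ D ∧ SN B K}
  have ED : ∀ K, E K ≤ D := fun K => sSup_le fun B hB => hB.2.1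
  have snK : ∀ {B K : Subgroup G} {g : G}, g ∈ K → SN B K → SN (MulAut.conj g • B) K :=
    fun {B K g} hg h => by
      have := (sn_smul g).2 h
      rwa [smul_eq_iff.2 (le_normalizer hg)] at this
  have DN : ∀ K, D ≤ K → D ≤ normalizer (E K : Set G) ⊓ K := fun K a =>
    le_inf (fun x hx => by
      by_contra e
      obtain ⟨B, ⟨d1, d2, d3⟩, d4⟩ := conj_out e
      exact d4 (le_sSup ⟨hc B d1 x, smul_le d2 (le_normalizer hx), snK (a hx) d3⟩)) a
  let S : Subgroup G → Prop := fun K => ∃ A ∈ 𝒜, A ≤ D ∧ ¬ SN A (normalizer (E K : Set G) ⊓ K)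
  have US : ∀ K, IsCoatom K → D ≤ K → U K ∨ S K := fun K a b => by
    refine or_iff_not_imp_right.2 fun h => Z K (normalizer (E K : Set G) ⊓ K) a inf_le_right
      (hD' ▸ sn_sSup fun B hB => by_contra fun e => h ⟨B, hB.1, hB.2, e⟩) ?_
    by_cases e : K ≤ normalizer (E K : Set G)
    · exact Or.inl (inf_eq_right.2 e)
    obtain ⟨x, x1, x2, x3⟩ := (sn_sSup (K := K) fun B hB => hB.2.2 : SN (E K) K).exists_conj e
    obtain ⟨B, ⟨d1, d2, d3⟩, d4⟩ := conj_out x2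
    exact Or.inr ⟨_, hc B d1 x, le_inf ((map_mono (le_sSup (by exact ⟨d1, d2, d3⟩))).trans x3) (snK x1 d3).le,
      fun e => d4 (le_sSup ⟨hc B d1 x, e, snK x1 d3⟩)⟩
  let ar : Subgroup G → Subgroup G → Prop := fun X Y =>
    Y ∈ 𝒜 ∧ Y ≤ D ∧ ∃ c, IsCoatom c ∧ Y ≤ c ∧ ¬ SN Y c ∧ ¬ X ≤ c
  have lt : ∀ K K' A B : Subgroup G, IsCoatom K → IsCoatom K' → D ≤ K → D ≤ K' → K ≠ K' → A ∈ 𝒜 →
      A ≤ D → ¬ SN A (normalizer (E K : Set G) ⊓ K) → B ∈ 𝒜 → B ≤ D → ¬ SN B K' →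
      {Y | Relation.ReflTransGen ar B Y}.ncard < {Y | Relation.ReflTransGen ar A Y}.ncard := by
    intro K K' A B a a' b b' e a1 a2 a3 b1 b2 b3
    have a4 : ¬ SN A K := fun h => a3 (h.mono (a2.trans (DN K b)) inf_le_right)
    have a5 : SN A K' := by_contra fun h => e (hu A a1 K K' a a' (a2.trans b) (a2.trans b') a4 h)
    have b4 : SN B K := by_contra fun h => e (hu B b1 K K' a a' (b2.trans b) (b2.trans b') h b3)
    set N := normalizer (E K : Set G) ⊓ K
    obtain ⟨g, g1, g2⟩ : ∃ g ∈ N, ¬ A ≤ MulAut.conj g • K' := by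
      by_contra h
      push Not at h
      have h1 : A ≤ ((K'.subgroupOf N).normalCore).map N.subtype := fun x hx =>
        ⟨⟨x, DN K b (a2 hx)⟩, fun y => by
          simpa [mem_subgroupOf] using mem_pointwise_smul_iff_inv_smul_mem.1 (h _ (inv_mem y.2) hx),
          rfl⟩
      exact a3 ((a5.mono h1 ((map_mono (normalCore_le _)).trans (by simp))).trans
        (SN.map_subtype (Normal.isSubnormal inferInstance)))
    have inE : ∀ X Y, X ≤ D → ar X Y → SN Y K := fun X Y h ⟨y1, y2, c, c1, c2, c3, c4⟩ =>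
      by_contra fun e => c4 (hu Y y1 K c a c1 (y2.trans b) c2 e c3 ▸ h.trans b)
    have rE : ∀ X Y, X ∈ 𝒜 → X ≤ D → SN X K → Relation.ReflTransGen ar X Y →
        Y ∈ 𝒜 ∧ Y ≤ D ∧ SN Y K := fun X Y h1 h2 h3 h => by
      induction h with
      | refl => exact ⟨h1, h2, h3⟩
      | tail _ h ih => exact ⟨h.1, h.2.1, inE _ _ ih.2.1 h⟩
    have gD : ∀ Y, Y ∈ 𝒜 ∧ Y ≤ D ∧ SN Y K → MulAut.conj g • Y ≤ D := fun Y h =>
      (smul_le (le_sSup h) g1.1).trans (ED K)
    have s1 : {Y | Relation.ReflTransGen ar B Y}.ncard ≤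
        {Y | Relation.ReflTransGen ar (MulAut.conj g • B) Y}.ncard := by
      refine Set.ncard_le_ncard_of_injOn (MulAut.conj g • ·) (fun Y h => ?_)
        (MulAction.injective _).injOn
      induction h with
      | refl => exact .refl
      | tail h0 h ih =>
        obtain ⟨y1, y2, c, c1, c2, c3, c4⟩ := id h
        exact ih.tail ⟨hc _ y1 g, gD _ (rE _ _ b1 b2 b4 (h0.tail h)), _, coatom_smul g c1,
          pointwise_smul_le_pointwise_smul_iff.2 c2, fun e => c3 ((sn_smul g).1 e),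
          fun e => c4 (pointwise_smul_le_pointwise_smul_iff.1 e)⟩
    have s2 : ar A (MulAut.conj g • B) := ⟨hc _ b1 g, gD _ ⟨b1, b2, b4⟩, _, coatom_smul g a',
      pointwise_smul_le_pointwise_smul_iff.2 (b2.trans b'), fun e => b3 ((sn_smul g).1 e), g2⟩
    exact s1.trans_lt (Set.ncard_lt_ncard ⟨fun Y h => .head s2 h, fun h =>
      a4 (rE _ _ s2.1 s2.2.1 (inE _ _ a2 s2) (h .refl)).2.2⟩)
  have SS : ∀ K K' : Subgroup G, IsCoatom K → IsCoatom K' → D ≤ K → D ≤ K' → S K → S K' → K = K' := by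
    rintro K K' a a' b b' ⟨A, a1, a2, a3⟩ ⟨B, b1, b2, b3⟩
    by_contra e
    exact (lt K K' A B a a' b b' e a1 a2 a3 b1 b2
      fun h => b3 (h.mono (b2.trans (DN K' b')) inf_le_right)).asymm
      (lt K' K B A a' a b' b (Ne.symm e) b1 b2 b3 a1 a2
        fun h => a3 (h.mono (a2.trans (DN K b)) inf_le_right))
  obtain ⟨K3, k3, l3⟩ := (eq_top_or_exists_le_coatom _).resolve_left
    (hn _ h0 D (fun e => k1.1 (eq_top_iff.2 (e.ge.trans (d12.trans inf_le_left)))) b0)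
  have fin : ∀ K K' : Subgroup G, IsCoatom K → IsCoatom K' → D ≤ K → D ≤ K' → U K → K = K' := by
    intro K K' a a' b b' u
    rcases US K' a' b' with u' | s'
    · exact (u K3 k3 l3).symm.trans (u' K3 k3 l3)
    by_contra e
    refine e (u K' a' fun n hn => self K' a' b' (smul_eq_iff.1 ?_)).symm
    have c1 : D ≤ MulAut.conj n • K' :=
      smul_eq_iff.2 hn ▸ pointwise_smul_le_pointwise_smul_iff.2 b'
    rcases US _ (coatom_smul n a') c1 with u' | s
    · have h1 := (u K3 k3 l3).symm.trans (u' K3 k3 l3)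
      have h2 := smul_eq_iff.2 (le_normalizer (u K3 k3 l3 ▸ l3 hn : n ∈ K))
      exact (e (MulAction.injective _ (h2.trans h1))).elim
    · exact SS _ _ (coatom_smul n a') a' c1 b' s s'
  have d1 := d12.trans inf_le_left
  have d2 := d12.trans inf_le_right
  rcases US K1 k1 d1 with u | s
  · exact k12 (fin _ _ k1 k2 d1 d2 u)
  rcases US K2 k2 d2 with u | s'
  · exact k12 (fin _ _ k2 k1 d2 d1 u).symm
  exact k12 (SS _ _ k1 k2 d1 d2 s s')

/-- Flavell's theorem. -/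
theorem flavell' {A M K : Subgroup G} (hA : normalClosure (A : Set G) = ⊤)
    (h : ∀ K, IsCoatom K → A ≤ K → K ≠ M → SN A K) (hM : IsCoatom M) (hK : IsCoatom K)
    (lM : A ≤ M) (lK : A ≤ K) : K = M := by
  refine flavell (𝒜 := {B | ∃ g : G, B = MulAut.conj g • A}) ?_ ?_ ?_ ⟨1, by simp⟩ hK hM lK lM
  · rintro _ ⟨x, rfl⟩ g
    exact ⟨g * x, by simp [mul_smul]⟩
  · rintro _ ⟨x, rfl⟩ K h1 h2 e
    have := normalizer_eq_top_iff.1 e
    refine h1 (eq_top_iff.2 (hA ▸ normalClosure_le_normal ?_))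
    exact (pointwise_smul_subset_iff.1 h2).trans (by
      rw [← map_inv]; exact smul_le le_rfl (e ▸ mem_top _))
  · rintro _ ⟨x, rfl⟩ K K' a a' b b' c c'
    have k : ∀ K, IsCoatom K → MulAut.conj x • A ≤ K → ¬ SN (MulAut.conj x • A) K →
        MulAut.conj x⁻¹ • K = M := fun K a b c => by_contra fun e => c (by
      simpa using (sn_smul x).2 (h _ (coatom_smul x⁻¹ a)
        (by rw [map_inv]; exact pointwise_smul_subset_iff.1 b) e))
    exact MulAction.injective _ ((k K a b c).trans (k K' a' b' c').symm)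

/-- `H` is the normal closure of `A` in `H` -/
abbrev NC (A H : Subgroup G) : Prop := normalClosure ((A.subgroupOf H : Subgroup H) : Set H) = ⊤

omit [Finite G] in
theorem nc_iff {A H : Subgroup G} (h : A ≤ H) :
    NC A H ↔ ∀ N : Subgroup G, A ≤ N → H ≤ normalizer (N : Set G) → H ≤ N := by
  constructor
  · intro e N h1 h2
    have : (N.subgroupOf H).Normal := normal_subgroupOf_of_le_normalizer h2
    exact subgroupOf_eq_top.1 (eq_top_iff.2 (e ▸ normalClosure_le_normal (comap_mono h1)))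
  · intro e
    have := e ((normalClosure ((A.subgroupOf H : Subgroup H) : Set H)).map H.subtype)
      (fun x hx => ⟨⟨x, h hx⟩, subset_normalClosure hx, rfl⟩)
      (fun x hx => le_normalizer_map H.subtype ⟨⟨x, hx⟩, by simp [normalizer_eq_top], rfl⟩)
    exact eq_top_iff.2 fun x _ => by
      obtain ⟨y, hy, e⟩ := this x.2
      exact Subtype.ext e ▸ hy

theorem exists_nc {A K : Subgroup G} (h : A ≤ K) : ∃ F, A ≤ F ∧ SN F K ∧ NC A F := by
  obtain ⟨F, -, ⟨h1, h2⟩, h3⟩ := Finite.exists_le_minimal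
    (p := fun F : Subgroup G => A ≤ F ∧ SN F K) ⟨h, SN.refl K⟩
  refine ⟨F, h1, h2, (nc_iff h1).2 fun N a b => (h3 (y := N ⊓ F) ⟨le_inf a h1,
    (SN.of_le_normalizer inf_le_right ?_).trans h2⟩ inf_le_right).trans inf_le_left⟩
  exact (le_inf b le_normalizer).trans inf_normalizer_le_normalizer_inf

theorem gzip (A : Subgroup G) (hA : normalClosure (A : Set G) = ⊤) {M : Subgroup G} (hM : IsCoatom M)
    (lM : A ≤ M) (hY : ∀ H, A ≤ H → H ≠ ⊤ → NC A H → H ≤ M) {K : Subgroup G} (hK : IsCoatom K)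
    (lK : A ≤ K) : K = M := by
  induction A using WellFoundedGT.induction generalizing K with
  | ind A ih =>
    refine flavell' hA (fun K a b e => ?_) hM hK lM lK
    obtain ⟨F, f1, f2, f3⟩ := exists_nc b
    rcases f1.eq_or_lt with rfl | f4
    · exact f2
    have f5 : F ≠ ⊤ := fun e => a.1 (eq_top_iff.2 (e.ge.trans f2.le))
    refine (e (ih F f4 (eq_top_iff.2 (hA ▸ normalClosure_mono f1)) (hY F f1 f5 f3)
      (fun H h1 h2 h3 => hY H (f1.trans h1) h2 ((nc_iff (f1.trans h1)).2 fun N n1 n2 =>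
        (nc_iff h1).1 h3 N ((nc_iff f1).1 f3 N n1 (h1.trans n2)) n2)) a f2.le)).elim

end CA.H7Zip
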