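import Cfsg.Agent.S2530
import Mathlib.GroupTheory.SpecificGroups.Alternating

/-!
A presentation of the alternating groups, from the Coxeter presentation of the symmetric groups.
-/

set_option autoImplicit false

namespace CA.H8Alt

open Subgroup

theorem swap_pow {G : Type*} [Group G] {a b : G} {k : ℕ} (h : (a * b) ^ k = 1) : (b * a) ^ k = 1 := by
  rw [show b * a = b * (a * b) * b⁻¹ by group, conj_pow, h, mul_one, mul_inv_cancel]

/-- the relations -/
def Rel {G : Type*} [Group G] {m : ℕ} (x : Fin m → G) : Prop :=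
  (∀ i : Fin m, i.val = 0 → x i ^ 3 = 1) ∧ (∀ i : Fin m, 1 ≤ i.val → x i ^ 2 = 1) ∧
    (∀ i j : Fin m, j.val = i.val + 1 → (x i * x j) ^ 3 = 1) ∧ ∀ i j : Fin m, i.val + 1 < j.val → (x i * x j) ^ 2 = 1

/-- the relators -/
def rels (m : ℕ) : Set (FreeGroup (Fin m)) :=
  {g : FreeGroup (Fin m) | ∃ i : Fin m, i.val = 0 ∧ g = FreeGroup.of i ^ 3} ∪
    {g | ∃ i : Fin m, 1 ≤ i.val ∧ g = FreeGroup.of i ^ 2} ∪
    {g | ∃ i j : Fin m, j.val = i.val + 1 ∧ g = (FreeGroup.of i * FreeGroup.of j) ^ 3} ∪
    {g | ∃ i j : Fin m, i.val + 1 < j.val ∧ g = (FreeGroup.of i * FreeGroup.of j) ^ 2}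

theorem Rel.lift {G : Type*} [Group G] {m : ℕ} {x : Fin m → G} (h : Rel x) : ∀ r ∈ rels m, FreeGroup.lift x r = 1 := by
  rintro r (((⟨i, a, rfl⟩ | ⟨i, a, rfl⟩) | ⟨i, j, a, rfl⟩) | ⟨i, j, a, rfl⟩) <;>
    simp only [map_pow, map_mul, FreeGroup.lift_apply_of]
  exacts [h.1 i a, h.2.1 i a, h.2.2.1 i j a, h.2.2.2 i j a]

theorem rel_of (m : ℕ) : Rel (fun i : Fin m => (PresentedGroup.of i : PresentedGroup (rels m))) :=
  ⟨fun i a => PresentedGroup.one_of_mem (Or.inl (Or.inl (Or.inl ⟨i, a, rfl⟩))),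
    fun i a => PresentedGroup.one_of_mem (Or.inl (Or.inl (Or.inr ⟨i, a, rfl⟩))),
    fun i j a => PresentedGroup.one_of_mem (Or.inl (Or.inr ⟨i, j, a, rfl⟩)),
    fun i j a => PresentedGroup.one_of_mem (Or.inr ⟨i, j, a, rfl⟩)⟩

theorem Rel.inv {G : Type*} [Group G] {m : ℕ} {x : Fin m → G} (h : Rel x) : Rel fun i => (x i)⁻¹ :=
  ⟨fun i a => by rw [inv_pow, h.1 i a, inv_one], fun i a => by rw [inv_pow, h.2.1 i a, inv_one],
    fun i j a => by rw [← mul_inv_rev, inv_pow, swap_pow (h.2.2.1 i j a), inv_one],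
    fun i j a => by rw [← mul_inv_rev, inv_pow, swap_pow (h.2.2.2 i j a), inv_one]⟩

theorem main (m : ℕ) : Nonempty (PresentedGroup (rels (m + 1)) ≃* alternatingGroup (Fin (m + 3))) := by
  obtain ⟨cs, hcs⟩ := Cfsg.Agent.S2530.result (m + 2)
  have M : ∀ i j : Fin (m + 2), CoxeterMatrix.A (m + 2) i j =
      if i = j then 1 else if (j : ℕ) + 1 = i ∨ (i : ℕ) + 1 = j then 3 else 2 := fun _ _ => rfl
  have c3 : ∀ i j : Fin (m + 2), j.val = i.val + 1 → (cs.simple i * cs.simple j) ^ 3 = 1 := fun i j a => by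
    have := cs.simple_mul_simple_pow i j
    rwa [M, if_neg (by rintro rfl; omega), if_pos (by omega)] at this
  have c2 : ∀ i j : Fin (m + 2), i.val + 1 < j.val → (cs.simple i * cs.simple j) ^ 2 = 1 := fun i j a => by
    have := cs.simple_mul_simple_pow i j
    rwa [M, if_neg (by rintro rfl; omega), if_neg (by omega)] at this
  have cj : ∀ i j : Fin (m + 1), 1 ≤ j.val → cs.simple 0 * cs.simple i.succ * (cs.simple 0 * cs.simple j.succ) =
      cs.simple 0 * (cs.simple i.succ * cs.simple j.succ) * (cs.simple 0)⁻¹ := fun i j a => by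
    have := c2 0 j.succ (by rw [Fin.val_zero, Fin.val_succ]; omega)
    rw [pow_two, mul_eq_one_iff_eq_inv, mul_inv_rev, cs.inv_simple, cs.inv_simple] at this
    rw [this, cs.inv_simple]; group
  have r : Rel fun i : Fin (m + 1) => cs.simple 0 * cs.simple i.succ :=
    ⟨fun i a => c3 _ _ (by simp [a]), fun i a => c2 _ _ (by rw [Fin.val_zero, Fin.val_succ]; omega),
      fun i j a => by rw [cj i j (by omega), conj_pow, c3 _ _ (by simp [a])]; simp,
      fun i j a => by rw [cj i j (by omega), conj_pow, c2 _ _ (by simp [a])]; simp⟩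
  let f := PresentedGroup.toGroup r.lift
  have fo : ∀ i, f (PresentedGroup.of i) = cs.simple 0 * cs.simple i.succ := fun i => PresentedGroup.toGroup.of _
  have x := rel_of (m + 1)
  let σ := PresentedGroup.toGroup x.inv.lift
  have so : ∀ i, σ (PresentedGroup.of i) = (PresentedGroup.of i)⁻¹ := fun i => PresentedGroup.toGroup.of _
  have ss : ∀ g, σ (σ g) = g := fun g => DFunLike.congr_fun (show σ.comp σ = MonoidHom.id _ from
    PresentedGroup.ext fun i => by simp [so]) g
  let t : Equiv.Perm (PresentedGroup (rels (m + 1))) := ⟨σ, σ, ss, ss⟩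
  let L := MulAction.toPermHom (PresentedGroup (rels (m + 1))) (PresentedGroup (rels (m + 1)))
  have tt : t * t = 1 := Equiv.ext ss
  have tL : ∀ g, t * L g * t = L (σ g) := fun g => Equiv.ext fun y => by
    show σ (g * σ y) = σ g * y
    rw [map_mul, ss]
  let τ : Fin (m + 2) → Equiv.Perm (PresentedGroup (rels (m + 1))) := fun i =>
    t * L (Fin.cases 1 (fun j => PresentedGroup.of j) i)
  have xi : ∀ j : Fin (m + 1), 1 ≤ j.val → (PresentedGroup.of j : PresentedGroup (rels (m + 1)))⁻¹ = .of j :=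
    fun j a => inv_eq_of_mul_eq_one_right (by rw [← pow_two]; exact x.2.1 j a)
  have key : ∀ i j : Fin (m + 2), i < j → (τ i * τ j) ^ CoxeterMatrix.A (m + 2) i j = 1 := fun i j a => by
    simp only [τ]
    rw [← mul_assoc, tL, ← map_mul, ← map_pow, M, if_neg a.ne]
    refine (congrArg L ?_).trans (map_one L)
    obtain ⟨j, rfl⟩ := j.exists_succ_eq.2 a.ne_zero
    rcases i.eq_zero_or_eq_succ with rfl | ⟨i, rfl⟩
    · simp only [Fin.cases_zero, Fin.cases_succ, map_one, one_mul]
      split_ifs with b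
      · exact x.1 j (by simpa using b)
      · exact x.2.1 j (by rw [Fin.val_zero, Fin.val_succ] at b; omega)
    · have a' : i.val < j.val := by simpa using a
      simp only [Fin.cases_succ, so]
      rw [← xi j (by omega), ← mul_inv_rev, inv_pow, inv_eq_one]
      split_ifs with b
      · exact swap_pow (x.2.2.1 i j (by simp at b; omega))
      · exact swap_pow (x.2.2.2 i j (by simp at b; omega))
  have hl : (CoxeterMatrix.A (m + 2)).IsLiftable τ := fun i j => by
    rcases lt_trichotomy i j with a | rfl | a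
    · exact key i j a
    · simp only [τ]
      rw [← mul_assoc, tL, ← map_mul, M, if_pos rfl, pow_one]
      refine (congrArg L ?_).trans (map_one L)
      rcases i.eq_zero_or_eq_succ with rfl | ⟨i, rfl⟩ <;> simp [so]
    · rw [(CoxeterMatrix.A (m + 2)).symmetric]; exact swap_pow (key j i a)
  have e : (cs.lift ⟨τ, hl⟩).comp f = L := PresentedGroup.ext fun i => by
    rw [MonoidHom.comp_apply, fo, map_mul, cs.lift_apply_simple, cs.lift_apply_simple]
    simp only [τ, Fin.cases_zero, Fin.cases_succ, map_one, mul_one]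
    rw [← mul_assoc, tt, one_mul]
  have inj : Function.Injective f := Function.Injective.of_comp (f := cs.lift ⟨τ, hl⟩) (by
    rw [← MonoidHom.coe_comp, e]; exact MulAction.toPerm_injective)
  have sg : ∀ i, Equiv.Perm.sign (cs.simple i) = -1 := fun i => by
    rw [hcs]; exact Equiv.Perm.sign_swap (Fin.castSucc_lt_succ (i := i)).ne
  have le : f.range ≤ alternatingGroup _ := by
    rintro _ ⟨g, rfl⟩
    exact DFunLike.congr_fun (show Equiv.Perm.sign.comp f = 1 from PresentedGroup.ext fun i => by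
      simp [fo, sg]) g
  have mem : ∀ i, cs.simple 0 * cs.simple i ∈ f.range := fun i => by
    rcases i.eq_zero_or_eq_succ with rfl | ⟨i, rfl⟩
    · rw [cs.simple_mul_simple_self]; exact one_mem _
    · exact ⟨_, fo i⟩
  have ge : ∀ w, w ∈ f.range ∨ cs.simple 0 * w ∈ f.range := fun w => by
    refine cs.simple_induction_left (p := fun w => w ∈ f.range ∨ cs.simple 0 * w ∈ f.range) w
      (Or.inl (one_mem _)) ?_
    rintro w i (a | a)
    · exact Or.inr (mul_assoc _ _ w ▸ mul_mem (mem i) a)
    · left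
      have := mul_mem (inv_mem (mem i)) a
      rwa [mul_inv_rev, cs.inv_simple, mul_assoc, inv_mul_cancel_left] at this
  have : f.range = alternatingGroup _ := le_antisymm le fun w hw => (ge w).resolve_right fun a => by
    have := le a
    rw [Equiv.Perm.mem_alternatingGroup] at this hw
    rw [map_mul, hw, sg] at this
    exact absurd this (by decide)
  exact ⟨(MonoidHom.ofInjective inj).trans (MulEquiv.subgroupCongr this)⟩

end CA.H8Alt
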