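import Cfsg.Agent.Lib.Grp.KK1
import Cfsg.Agent.Lib.Grp.H7HP

/-! The Lie ring method for automorphisms of prime order. -/

set_option autoImplicit false

namespace CA.KK
open Finset
universe u

/-- graded rings with trivial zero component have class at most `c` -/
def KB (p c : ℕ) : Prop := ∀ (M : Type u) [AddCommGroup M] (b : M →+ M →+ M) (V : ZMod p → AddSubgroup M)
  (I : AddSubgroup M), Gr b V I → ∀ j, V j ≤ Zs b V I c

section
variable {L : Type u} [AddCommGroup L] {p : ℕ} [Fact p.Prime] (b : L →+ L →+ L)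

def Lc : ℕ → AddSubgroup L
  | 0 => ⊤
  | m + 1 => AddSubgroup.closure {z | ∃ x ∈ Lc m, ∃ y, b x y = z}

def cv (p : ℕ) [Fact p.Prime] : (ZMod p → L) →+ (ZMod p → L) →+ (ZMod p → L) :=
  AddMonoidHom.mk' (fun f => AddMonoidHom.mk' (fun g k => ∑ i, b (f i) (g (k - i)))
    fun g g' => funext fun k => by simp [sum_add_distrib]) fun f f' => by ext g k; simp [sum_add_distrib]

theorem cv_apply (f g : ZMod p → L) (k : ZMod p) : cv b p f g k = ∑ i, b (f i) (g (k - i)) := rfl

def psi (p : ℕ) : L →+ (ZMod p → L) :=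
  AddMonoidHom.mk' (fun x k => (if k = 0 then p • x else 0) - x) fun x y => funext fun k => by
    by_cases e : k = 0 <;> simp [e] <;> abel

theorem psi_apply (x : L) (k : ZMod p) : psi p x k = (if k = 0 then p • x else 0) - x := rfl

theorem cv_psi (x y : L) : cv b p (psi p x) (psi p y) = p • psi p (b x y) := funext fun k => by
  have e1 : ∀ i : ZMod p, b (psi p x i) (psi p y (k - i)) = (if i = 0 then p • psi p (b x y) k else 0) -
      ((if i = k then p • b x y else 0) - b x y) := fun i => by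
    simp only [psi_apply, sub_eq_zero, eq_comm (a := k) (b := i)]
    by_cases h1 : i = 0 <;> by_cases h2 : i = k
    · simp [h1, ← h2, smul_sub]
    · simp [h1, Ne.symm (h1 ▸ h2), h1 ▸ h2]
    · simp [h2, h2 ▸ h1]
    · simp [h1, h2]
  rw [cv_apply, sum_congr rfl fun i _ => e1 i]
  simp

variable {b}

theorem IsLie.cv (hb : IsLie b) : IsLie (cv b p) := by
  refine ⟨fun f g => funext fun k => ?_, fun f g h => funext fun k => ?_⟩
  · rw [Pi.neg_apply, cv_apply, cv_apply, ← sum_neg_distrib, ← Equiv.sum_comp (Equiv.subLeft k)]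
    exact sum_congr rfl fun i _ => by rw [hb.anti]; simp
  · simp only [Pi.sub_apply, cv_apply, map_sum, AddMonoidHom.finsetSum_apply, hb.jac, sum_sub_distrib]
    congr 1 <;> rw [sum_comm (f := fun x y => b (b (f y) _) _)] <;> refine sum_congr rfl fun i _ => ?_
    · rw [← Equiv.sum_comp (Equiv.subRight i)]
      exact sum_congr rfl fun j _ => by simp
    · rw [← Equiv.sum_comp (Equiv.subLeft k)]
      exact sum_congr rfl fun j _ => by simp [sub_right_comm k i]

theorem lie_bound (hb : IsLie b) (Φ : AddMonoid.End L) (hΦ : Φ ^ p = 1) (hm : ∀ x y, Φ (b x y) = b (Φ x) (Φ y))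
    {N c : ℕ} (hN : ∀ x, Φ x = x → N • x = 0) (hc : KB.{u} p c) : ∀ x ∈ Lc b c, (N * p ^ c) • x = 0 := by
  let V : ZMod p → AddSubgroup (ZMod p → L) := fun j =>
    { carrier := {f | ∀ k, Φ (f k) = f (k + j)}
      add_mem' := fun h1 h2 k => by simp [h1 k, h2 k]
      zero_mem' := fun k => by simp
      neg_mem' := fun h1 k => by simp [h1 k] }
  have g : Gr (cv b p) V (nsmulAddMonoidHom N).ker := by
    refine ⟨hb.cv, fun {i j f g} h1 h2 k => ?_, fun f h1 => funext fun k => hN _ (by simpa using h1 k), fun g h1 => ?_⟩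
    · rw [cv_apply, cv_apply, map_sum, ← Equiv.sum_comp (Equiv.addRight i) fun m => b (f m) _]
      exact sum_congr rfl fun m _ => by rw [hm, h1, h2]; congr 2; simp; ring
    · rw [AddMonoidHom.mem_ker, nsmulAddMonoidHom_apply] at h1 ⊢
      rw [← AddMonoidHom.nsmul_apply, ← map_nsmul, h1, map_zero, AddMonoidHom.zero_apply]
  have e1 : ∀ (s : ZMod p) (x : L), Φ ((Φ ^ s.val) x) = (Φ ^ (s + 1).val) x := fun s x => by
    rw [ZMod.val_add, ZMod.val_one, ← pow_eq_pow_mod _ hΦ, pow_succ']; rfl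
  have e2 : ∀ x : L, psi p x ∈ ⨆ j, V j := fun x => by
    have : psi p x = ∑ j ∈ univ.erase (0 : ZMod p), (fun k : ZMod p => (Φ ^ (k * j⁻¹).val) x) -
        fun k => if k = 0 then 0 else ∑ s : ZMod p, (Φ ^ s.val) x := funext fun k => by
      rw [sum_erase_eq_sub (mem_univ _), psi_apply]
      by_cases e : k = 0
      · simp [e]
      · simp only [e, if_false, Pi.sub_apply, Finset.sum_apply]
        rw [← Equiv.sum_comp ((Equiv.inv _).trans (Equiv.mulLeft₀ k e)) fun s : ZMod p => (Φ ^ s.val) x]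
        simp
    rw [this]
    refine sub_mem (sum_mem fun j hj => AddSubgroup.mem_iSup_of_mem j fun k => ?_)
      (AddSubgroup.mem_iSup_of_mem 0 fun k => ?_)
    · rw [e1, add_mul, mul_inv_cancel₀ (ne_of_mem_erase hj)]
    · rw [add_zero]
      split_ifs
      · exact map_zero _
      · rw [map_sum, ← Equiv.sum_comp (Equiv.addRight 1) fun s : ZMod p => (Φ ^ s.val) x]
        exact sum_congr rfl fun s _ => e1 s x
  have key : ∀ m r, m + r = c → ∀ x ∈ Lc b m, p ^ m • psi p x ∈ Zs (cv b p) V (nsmulAddMonoidHom N).ker r := by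
    intro m
    induction m with
    | zero => exact fun r e x _ => nsmul_mem (iSup_le (hc _ _ _ _ g) (e2 x) : _ ∈ Zs _ _ _ c) _ |> (zero_add r ▸ e ▸ ·)
    | succ m ih =>
      intro r e x hx
      induction hx using AddSubgroup.closure_induction with
      | mem _ h1 =>
        obtain ⟨x, hx, y, rfl⟩ := h1
        rw [pow_succ, mul_nsmul', ← cv_psi, ← AddMonoidHom.nsmul_apply, ← map_nsmul]
        exact (iSup_le fun j w hw => mem_Zs.1 (ih (r + 1) (by omega) x hx) j w hw :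
          ⨆ j, V j ≤ (Zs _ _ _ r).comap (cv b p _)) (e2 y)
      | zero => simp
      | add x y _ _ h1 h2 => rw [map_add, nsmul_add]; exact add_mem h1 h2
      | neg x _ h1 => rw [map_neg, neg_nsmul]; exact neg_mem h1
  intro x hx
  simpa [psi_apply, mul_nsmul'] using congrFun (key c 0 rfl x hx) 1

end

section
open Subgroup
open scoped commutatorElement DirectSum
variable (G : Type u) [Group G]

abbrev gm (i : ℕ) : Subgroup G := (⊤ : Subgroup G).lowerCentralSeries i

theorem gm_comm {G : Type u} [Group G] {i j : ℕ} {g h : G} (hg : g ∈ gm G i) (hh : h ∈ gm G j) :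
    ⁅g, h⁆ ∈ gm G (i + j + 1) := CA.H7HP.lcs_comm ⊤ j i (commutator_mem_commutator hg hh)

def Q (i : ℕ) : Type u := gm G i ⧸ (gm G (i + 1)).subgroupOf (gm G i)

instance (i : ℕ) : CommGroup (Q G i) :=
  { QuotientGroup.Quotient.group _ with
    mul_comm := fun a b => QuotientGroup.induction_on a fun a => QuotientGroup.induction_on b fun b =>
      QuotientGroup.eq.2 (by
        have : ⁅(b : G)⁻¹, (a : G)⁻¹⁆ ∈ gm G (i + 1) := commutator_mem_commutator (inv_mem b.2) (mem_top _)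
        simpa [mem_subgroupOf, commutatorElement_def, mul_assoc] using this) }

/-- the associated Lie ring -/
abbrev LL : Type u := ⨁ i, Additive (Q G i)

variable {G}

open Classical in
noncomputable def ee (i : ℕ) (g : G) : LL G :=
  if h : g ∈ gm G i then DirectSum.of (fun i => Additive (Q G i)) i (Additive.ofMul (QuotientGroup.mk ⟨g, h⟩)) else 0

variable {i j : ℕ} {g h : G}

theorem ee_mul (hg : g ∈ gm G i) (hh : h ∈ gm G i) : ee i (g * h) = ee i g + ee i h := by
  rw [ee, ee, ee, dif_pos hg, dif_pos hh, dif_pos (mul_mem hg hh), ← map_add]; rfl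

theorem ee_zero (hg : g ∈ gm G i) : ee i g = 0 ↔ g ∈ gm G (i + 1) := by
  rw [ee, dif_pos hg, map_eq_zero_iff _ (DirectSum.of_injective i)]
  exact (QuotientGroup.eq_one_iff _).trans mem_subgroupOf

theorem ee_zero' (hg : g ∈ gm G (i + 1)) : ee i g = 0 :=
  (ee_zero (Subgroup.lowerCentralSeries_antitone _ i.le_succ hg)).2 hg

theorem ee_inv (hg : g ∈ gm G i) : ee i g⁻¹ = - ee i g :=
  eq_neg_of_add_eq_zero_left (by rw [← ee_mul (inv_mem hg) hg, inv_mul_cancel, ee_zero' (one_mem _)])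

theorem ee_pow (hg : g ∈ gm G i) : ∀ n : ℕ, ee i (g ^ n) = n • ee i g
  | 0 => by rw [pow_zero, ee_zero' (one_mem _), zero_nsmul]
  | n + 1 => by rw [pow_succ, ee_mul (pow_mem hg n) hg, ee_pow hg n, succ_nsmul]

theorem ee_conj (hg : g ∈ gm G i) (h : G) : ee i (h * g * h⁻¹) = ee i g := by
  have h1 : ⁅g, h⁆ ∈ gm G (i + 1) := commutator_mem_commutator hg (mem_top _)
  rw [show h * g * h⁻¹ = ⁅g, h⁆⁻¹ * g by group, ee_mul (Subgroup.lowerCentralSeries_antitone _ i.le_succ (inv_mem h1)) hg,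
    ee_zero' (inv_mem h1), zero_add]

theorem ee_of (a : Additive (Q G i)) : ∃ g ∈ gm G i, DirectSum.of (fun i => Additive (Q G i)) i a = ee i g := by
  obtain ⟨a, rfl⟩ := QuotientGroup.mk_surjective (s := (gm G (i + 1)).subgroupOf (gm G i)) a
  exact ⟨a, a.2, by rw [ee, dif_pos a.2]; rfl⟩

theorem ee_ind {P : LL G → Prop} (h0 : P 0) (h1 : ∀ i, ∀ g ∈ gm G i, P (ee i g))
    (h2 : ∀ x y, P x → P y → P (x + y)) (x : LL G) : P x :=
  DirectSum.induction_on x h0 (fun i a => let ⟨g, hg, e⟩ := ee_of a; e ▸ h1 i g hg) h2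

theorem ee_lift {X : Type*} [AddCommGroup X] (φ : ℕ → G → X)
    (h1 : ∀ i, ∀ g ∈ gm G i, ∀ h ∈ gm G i, φ i (g * h) = φ i g + φ i h) (h2 : ∀ i, ∀ g ∈ gm G (i + 1), φ i g = 0) :
    ∃ F : LL G →+ X, ∀ i, ∀ g ∈ gm G i, F (ee i g) = φ i g := by
  refine ⟨DirectSum.toAddMonoid fun i => MonoidHom.toAdditiveLeft (QuotientGroup.lift _
    (MonoidHom.mk' (fun g : gm G i => Multiplicative.ofAdd (φ i g)) fun g h => congrArg _ (h1 i g g.2 h h.2))
    fun g hg => congrArg Multiplicative.ofAdd (h2 i g hg)), fun i g hg => ?_⟩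
  rw [ee, dif_pos hg, DirectSum.toAddMonoid_of]; rfl

theorem ee_ext {X : Type*} [AddCommGroup X] {F F' : LL G →+ X} (h : ∀ i, ∀ g ∈ gm G i, F (ee i g) = F' (ee i g)) :
    F = F' := AddMonoidHom.ext (ee_ind (by simp) h fun x y h1 h2 => by rw [map_add, map_add, h1, h2])

theorem exists_br : ∃ b : LL G →+ LL G →+ LL G, IsLie b ∧
    ∀ i j, ∀ g ∈ gm G i, ∀ h ∈ gm G j, b (ee i g) (ee j h) = ee (i + j + 1) ⁅g, h⁆ := by
  classical
  have a1 : ∀ (i : ℕ) (g : G), ∃ F : LL G →+ LL G, ∀ j, ∀ h ∈ gm G j,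
      F (ee j h) = if g ∈ gm G i then ee (i + j + 1) ⁅g, h⁆ else 0 := fun i g => ee_lift _ (fun j h h1 k h2 => by
    split_ifs with hg
    · rw [show ⁅g, h * k⁆ = ⁅g, h⁆ * (h * ⁅g, k⁆ * h⁻¹) by group,
        ee_mul (gm_comm hg h1) (Normal.conj_mem inferInstance _ (gm_comm hg h2) _), ee_conj (gm_comm hg h2)]
    · simp) fun j h h1 => by
    split_ifs with hg
    exacts [ee_zero' (gm_comm (j := j + 1) hg h1), rfl]
  choose ad had using a1
  obtain ⟨b, hb⟩ := ee_lift ad (fun i g h1 k h2 => ee_ext fun j h h3 => by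
    rw [AddMonoidHom.add_apply, had _ _ _ _ h3, had _ _ _ _ h3, had _ _ _ _ h3, if_pos h1, if_pos h2, if_pos (mul_mem h1 h2),
      show ⁅g * k, h⁆ = (g * ⁅k, h⁆ * g⁻¹) * ⁅g, h⁆ by group,
      ee_mul (Normal.conj_mem inferInstance _ (gm_comm h2 h3) _) (gm_comm h1 h3), ee_conj (gm_comm h2 h3), add_comm])
    fun i g h1 => ee_ext fun j h h3 => by
      rw [had _ _ _ _ h3, if_pos (Subgroup.lowerCentralSeries_antitone _ i.le_succ h1)]
      exact ee_zero' (by simpa only [add_right_comm i 1 j] using gm_comm h1 h3)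
  have e : ∀ i j, ∀ g ∈ gm G i, ∀ h ∈ gm G j, b (ee i g) (ee j h) = ee (i + j + 1) ⁅g, h⁆ := fun i j g h1 h h2 => by
    rw [hb i g h1, had _ _ _ _ h2, if_pos h1]
  have anti : ∀ x y, b x y = - b y x := ee_ind (by simp) (fun i g h1 => ee_ind (by simp) (fun j h h2 => by
      rw [e _ _ _ h1 _ h2, e _ _ _ h2 _ h1, ← ee_inv (gm_comm h2 h1), commutatorElement_inv, add_comm j])
      fun x y h2 h3 => by simp only [map_add, AddMonoidHom.add_apply, h2, h3, neg_add])
    fun x y h2 h3 z => by simp only [map_add, AddMonoidHom.add_apply, h2, h3, neg_add]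
  refine ⟨b, ⟨anti, ee_ind (by simp) (fun i g h1 => ee_ind (by simp) (fun j h h2 => ee_ind (by simp) (fun k f h3 => ?_)
    fun x y h4 h5 => ?_) fun x y h4 h5 z => ?_) fun x y h4 h5 z w => ?_⟩, e⟩
  · have c : ∀ {i} {g : G} (h : G), g ∈ gm G i → h * g * h⁻¹ ∈ gm G i := fun h h1 => Normal.conj_mem inferInstance _ h1 h
    have m1 := gm_comm (gm_comm h1 h2) (c h h3)
    have m2 := gm_comm (gm_comm h2 h3) (c f h1)
    have m3 := gm_comm (gm_comm h3 h1) (c g h2)
    have e2 : j + k + 1 + i + 1 = i + j + 1 + k + 1 := by omega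
    have e3 : k + i + 1 + j + 1 = i + j + 1 + k + 1 := by omega
    have := ee_zero' (i := i + j + 1 + k + 1) (one_mem (gm G _))
    rw [← commutatorElement_commutatorElement_conj_mul g h f, ee_mul (mul_mem m1 (e2 ▸ m2)) (e3 ▸ m3),
      ee_mul m1 (e2 ▸ m2), ← e _ _ _ (gm_comm h1 h2) _ (c h h3)] at this
    nth_rw 1 [← e2] at this
    rw [← e3, ← e _ _ _ (gm_comm h2 h3) _ (c f h1), ← e _ _ _ (gm_comm h3 h1) _ (c g h2), ee_conj h1, ee_conj h2,
      ee_conj h3, ← e _ _ _ h1 _ h2, ← e _ _ _ h2 _ h3, ← e _ _ _ h3 _ h1, anti (ee k f) (ee i g), anti (b _ _) (ee i g),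
      map_neg, AddMonoidHom.neg_apply] at this
    rw [← sub_eq_zero, ← neg_eq_zero, ← this]; abel
  all_goals simp only [map_add, AddMonoidHom.add_apply, h4, h5]; abel

/-- the main estimate -/
theorem grp_bound {p : ℕ} (hp : p.Prime) (α : MulAut G) (hα : α ^ p = 1) {N c : ℕ}
    (hN : ∀ i, ∀ g ∈ gm G i, g⁻¹ * α g ∈ gm G (i + 1) → g ^ N ∈ gm G (i + 1)) (hc : KB.{u} p c) :
    ∀ g ∈ gm G c, g ^ (N * p ^ c) ∈ gm G (c + 1) := by
  haveI := Fact.mk hp
  have a1 : ∀ {i} {g : G}, g ∈ gm G i → α g ∈ gm G i := fun h1 =>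
    (characteristic_iff_le_comap.1 inferInstance α h1 :)
  obtain ⟨b, hb, e⟩ := exists_br (G := G)
  obtain ⟨Φ, hΦ⟩ := ee_lift (fun i g => ee i (α g)) (fun i g h1 h h2 => by rw [map_mul, ee_mul (a1 h1) (a1 h2)])
    fun i g h1 => ee_zero' (a1 h1)
  have e1 : ∀ n i, ∀ g ∈ gm G i, ((show AddMonoid.End (LL G) from Φ) ^ n) (ee i g) = ee i ((α ^ n) g) := fun n => by
    induction n with
    | zero => exact fun _ _ _ => rfl
    | succ n ih => exact fun i g h1 => by rw [pow_succ, pow_succ, MulAut.mul_apply, ← ih i _ (a1 h1), ← hΦ i g h1]; rfl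
  have e2 : ∀ m, ∀ g ∈ gm G m, ee m g ∈ Lc b m := fun m => by
    induction m with
    | zero => exact fun _ _ => trivial
    | succ m ih =>
      intro g hg
      induction hg using Subgroup.closure_induction with
      | mem _ h1 =>
        obtain ⟨x, hx, y, hy, rfl⟩ := h1
        exact AddSubgroup.subset_closure ⟨_, ih x hx, _, e m 0 x hx y hy⟩
      | one => rw [ee_zero' (one_mem _)]; exact zero_mem _
      | mul x y h1 h2 h3 h4 => rw [ee_mul (i := m + 1) h1 h2]; exact add_mem h3 h4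
      | inv x h1 h2 => rw [ee_inv (i := m + 1) h1]; exact neg_mem h2
  let π : ℕ → LL G →+ LL G := fun i => (DirectSum.of (fun i => Additive (Q G i)) i).comp (DFinsupp.evalAddMonoidHom i)
  have p1 : ∀ i j, ∀ g ∈ gm G j, π i (ee j g) = if j = i then ee j g else 0 := fun i j g h1 => by
    rw [ee, dif_pos h1]
    split_ifs with h2
    · subst h2; exact congrArg (DirectSum.of (fun i => Additive (Q G i)) j)
        (DirectSum.of_eq_same (β := fun i => Additive (Q G i)) _ _)
    · exact (congrArg (DirectSum.of (fun i => Additive (Q G i)) i)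
        (DirectSum.of_eq_of_ne (β := fun i => Additive (Q G i)) _ _ _ (Ne.symm h2))).trans (map_zero _)
  have p2 : ∀ i, Φ.comp (π i) = (π i).comp Φ := fun i => ee_ext fun j g h1 => by
    change Φ (π i _) = π i (Φ _)
    rw [hΦ j g h1, p1 i j _ h1, p1 i j _ (a1 h1)]
    split_ifs
    exacts [hΦ j g h1, map_zero _]
  intro g hg
  rw [← ee_zero (pow_mem hg _), ee_pow hg]
  refine lie_bound hb Φ (ee_ext fun i g h1 => (e1 p i g h1).trans (by rw [hα]; rfl)) ?_ (fun x hx => ?_) hc _ (e2 c g hg)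
  · change ∀ x y, Φ (b x y) = b (Φ x) (Φ y)
    refine ee_ind (by simp) (fun i g h1 => ee_ind (by simp) (fun j h h2 => ?_) fun x y h4 h5 => ?_) fun x y h4 h5 z => ?_
    · rw [e _ _ _ h1 _ h2, hΦ _ _ h1, hΦ _ _ h2, hΦ _ _ (gm_comm h1 h2), e _ _ _ (a1 h1) _ (a1 h2), map_commutatorElement]
    all_goals simp only [map_add, AddMonoidHom.add_apply, h4, h5]
  · refine DFinsupp.ext fun i => DirectSum.of_injective (β := fun i => Additive (Q G i)) i
      ((map_nsmul (π i) N x).trans ?_)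
    obtain ⟨g, h1, h2⟩ : ∃ g ∈ gm G i, π i x = ee i g := ee_of _
    have h3 : Φ (π i x) = π i x := (DFunLike.congr_fun (p2 i) x).trans (congrArg (π i) hx)
    rw [h2, hΦ i g h1, ← sub_eq_zero, sub_eq_neg_add, ← ee_inv h1, ← ee_mul (inv_mem h1) (a1 h1),
      ee_zero (mul_mem (inv_mem h1) (a1 h1))] at h3
    rw [h2, ← ee_pow h1, ee_zero' (hN i g h1 h3)]
    exact (map_zero _).symm

theorem kb_hkk {p : ℕ} (hp : p.Prime) : KB.{u} p (∑ i ∈ range (2 ^ (p - 1) - 1), (p - 1) ^ i) :=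
  fun _ _ _ _ _ h => h.hkk hp

theorem kb_three : KB.{u} 3 2 := fun _ _ _ _ _ h => h.three

theorem eq_bot_of_le_comm [Group.IsNilpotent G] {X : Subgroup G} (h : X ≤ ⁅X, ⊤⁆) : X = ⊥ := by
  obtain ⟨n, hn⟩ := Subgroup.nilpotent_iff_lowerCentralSeries.1 ‹Group.IsNilpotent G›
  have : ∀ k, X ≤ gm G k := fun k => by
    induction k with
    | zero => exact le_top
    | succ k ih => exact h.trans (commutator_mono ih le_rfl)
  exact eq_bot_iff.2 (hn ▸ this n)

end
end CA.KK
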