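import Cfsg.Agent.Lib.Comp.H27Words
import Cfsg.Agent.Lib.Grp.PGDihedral
import Cfsg.Agent.Lib.Lin.SmallF
import Cfsg.Agent.Lib.Lin.SLnCard
import Cfsg.Agent.S3779

/-!
Groups of order 64 admitting `S₃` with a fixed-point-free element of order three.
-/

set_option autoImplicit false

namespace CA.H8L34

open Subgroup CA.H27Words CA.SmallF
open Matrix (ProjectiveSpecialLinearGroup det_fin_three)
open scoped commutatorElement MatrixGroups

/-- rewriting rules -/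
def RR : List Rule := [([0, 0], []), ([1, 1], []), ([2, 2], []), ([3, 3], []), ([4, 4], []), ([5, 5], []),
  ([1, 0], [0, 1]), ([3, 2], [2, 3]), ([2, 0], [0, 2, 4]), ([2, 1], [1, 2, 4, 5]), ([3, 0], [0, 3, 4, 5]),
  ([3, 1], [1, 3, 5]), ([4, 0], [0, 4]), ([4, 1], [1, 4]), ([4, 2], [2, 4]), ([4, 3], [3, 4]), ([5, 0], [0, 5]),
  ([5, 1], [1, 5]), ([5, 2], [2, 5]), ([5, 3], [3, 5]), ([5, 4], [4, 5])]

/-- unitriangular matrices -/
def ut (a b c : F4) : SL(3, F4) := ⟨!![1, a, c; 0, 1, b; 0, 0, 1], by simp [det_fin_three]⟩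

/-- the generators -/
def ss (i : ℕ) : SL(3, F4) := [ut 1 0 0, ut om 0 0, ut 0 1 0, ut 0 om 0, ut 0 0 1, ut 0 0 (om + 1)].getD i 1

/-- a permutation matrix -/
def cy : SL(3, F4) := ⟨!![0, 1, 0; 0, 0, 1; 1, 0, 0], by simp [det_fin_three]⟩

theorem card_L34 : Nat.card (ProjectiveSpecialLinearGroup (Fin 3) F4) = 20160 := by
  have a := CA.SLnCard.card_SL (F := F4) 3 (by decide)
  have b := CA.SLnCard.card_PSL (F := F4) 3 (by decide)
  rw [Nat.card_eq_fintype_card (α := F4), card_F4] at a b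
  rw [Fin.prod_univ_three] at a
  change 3 * _ = 63 * 60 * 48 at a
  change 3 * _ = _ at b
  omega

theorem iso {G : Type*} [Group G] [Finite G] (hG : Nat.card G = 64) (g : ℕ → G) (h : Holds g RR)
    (hgen : closure (g '' {i | i < 6}) = ⊤) : ∃ S : Sylow 2 (ProjectiveSpecialLinearGroup (Fin 3) F4),
      Nonempty (G ≃* (S : Subgroup (ProjectiveSpecialLinearGroup (Fin 3) F4))) := by
  have hp : Holds ss RR := by unfold Holds; decide +kernel
  have hW : closedB RR 200 6 (List.range 6).sublists = true := by decide +kernel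
  obtain ⟨φ, hφ⟩ := exists_hom g ss h hp hW hgen (hG ▸ by decide +kernel)
  have e : ∀ w : List ℕ, (∀ i ∈ w, i < 6) → φ (ev g w) = ev ss w := fun w hw => by
    induction w with
    | nil => simp
    | cons k w ih =>
      rw [ev_cons, ev_cons, map_mul, hφ k (hw k List.mem_cons_self), ih fun i hi => hw i (List.mem_cons_of_mem _ hi)]
  let ψ : G →* ProjectiveSpecialLinearGroup (Fin 3) F4 := (QuotientGroup.mk' _).comp φ
  have i : Function.Injective ψ := (injective_iff_map_eq_one ψ).2 fun x hx => by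
    obtain ⟨w, hw, rfl⟩ := exists_word g 6 x (hgen ▸ mem_top x)
    obtain ⟨v, hv, e1, e2⟩ := exists_nf g ss h hp hW w hw
    have : ∀ v ∈ (List.range 6).sublists, cy * ev ss v = ev ss v * cy → v = [] := by decide +kernel
    rw [← e1, this v hv (by rw [e2, ← e w hw]; exact mem_center_iff.1 ((QuotientGroup.eq_one_iff _).1 hx) cy), ev_nil]
  have : Finite (ProjectiveSpecialLinearGroup (Fin 3) F4) := Nat.finite_of_card_ne_zero (card_L34 ▸ by decide)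
  exact ⟨Sylow.ofCard ψ.range (by
    rw [← Nat.card_congr (MonoidHom.ofInjective i).toEquiv, hG, card_L34]; decide +kernel), ⟨MonoidHom.ofInjective i⟩⟩

section
variable {T : Type*} [Group T] (h6 : ∀ x y : T, ⁅x, y⁆ ∈ center T)
include h6

theorem cl (a b c : T) : ⁅a * b, c⁆ = ⁅a, c⁆ * ⁅b, c⁆ := by
  rw [commutatorElement_mul_left_eq_conj_mul, mem_center_iff.1 (h6 b c) a, mul_inv_cancel_right,
    mem_center_iff.1 (h6 a c)]

theorem cr (a b c : T) : ⁅c, a * b⁆ = ⁅c, a⁆ * ⁅c, b⁆ := by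
  rw [← commutatorElement_inv, cl h6, mul_inv_rev, commutatorElement_inv, commutatorElement_inv,
    mem_center_iff.1 (h6 c a)]

theorem sq (p q : T) : p * q * (p * q) = p * p * (q * q) * ⁅q, p⁆ := by
  calc _ = p * ⁅q, p⁆ * (p * (q * q)) := by rw [commutatorElement_def]; group
    _ = _ := by rw [mul_assoc, ← mem_center_iff.1 (h6 q p)]; group

/-- commutation with a fixed element -/
def κ (y : T) : T →* T := MonoidHom.mk' (fun t => ⁅t, y⁆) fun a b => cl h6 a b y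

end

/-- the hypotheses -/
structure HH {T : Type*} [Group T] (ρ : MulAut T) : Prop where
  h1 : ∀ x, x * ρ x * ρ (ρ x) = 1
  fp : ∀ x, ρ x = x → x = 1
  h6 : ∀ x y : T, ⁅x, y⁆ ∈ center T
  card : Nat.card T = 64

namespace HH
variable {T : Type*} [Group T] {ρ : MulAut T} (H : HH ρ) {u v : T}
include H

theorem r3 (x : T) : ρ (ρ (ρ x)) = x := by
  have a := H.h1 (ρ x)
  have b := H.h1 x
  rw [mul_assoc] at b
  exact (eq_inv_of_mul_eq_one_right a).trans (eq_inv_of_mul_eq_one_left b).symm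

theorem cm (x : T) : ⁅x, ρ x⁆ = 1 := by
  have a := H.h1 x⁻¹
  have b := H.h1 x
  rw [map_inv, map_inv, ← mul_inv_rev, ← mul_inv_rev, inv_eq_one] at a
  exact commutatorElement_eq_one_iff_mul_comm.2
    ((eq_inv_of_mul_eq_one_left b).trans (eq_inv_of_mul_eq_one_right a).symm)

theorem cm2 (x : T) : ⁅ρ (ρ x), x⁆ = 1 := by simpa [H.r3] using H.cm (ρ (ρ x))

theorem b1 (u v : T) : ⁅u, ρ v⁆ = ⁅ρ u, v⁆ := by
  have := H.cm (u * v)
  rw [map_mul, cl H.h6, cr H.h6, cr H.h6, H.cm, H.cm, one_mul, mul_one] at this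
  rw [eq_inv_of_mul_eq_one_left this, commutatorElement_inv]

theorem b2 (u v : T) : ⁅ρ u, v⁆ = ρ (ρ ⁅u, v⁆) := by
  have a : ⁅ρ u, v * ρ v * ρ (ρ v)⁆ = 1 := by rw [H.h1, commutatorElement_one_right]
  rw [cr H.h6, cr H.h6, ← map_commutatorElement, ← map_commutatorElement, H.b1, mul_assoc,
    mem_center_iff.1 (MulEquivClass.apply_mem_center ρ (H.h6 (ρ u) v)), ← mul_assoc, ← H.h1 ⁅ρ u, v⁆, mul_right_inj,
    EmbeddingLike.apply_eq_iff_eq] at a
  rw [a, H.r3]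

theorem hit {K : Subgroup T} (h0 : v ∈ K) (h1 : ρ v ∈ K) {s : T}
    (hs : s = 1 ∨ s = ⁅u, v⁆ ∨ s = ρ ⁅u, v⁆ ∨ s = ρ (ρ ⁅u, v⁆)) : ∃ k ∈ K, ⁅k, u⁆ = s⁻¹ ∧ ⁅k, v⁆ = 1 := by
  rcases hs with rfl | rfl | rfl | rfl
  · exact ⟨1, one_mem K, by simp, by simp⟩
  · exact ⟨v, h0, by simp, by simp⟩
  · refine ⟨ρ (ρ v), ?_, by rw [H.b2, H.b2, H.r3, ← map_inv, commutatorElement_inv], H.cm2 v⟩
    rw [eq_inv_of_mul_eq_one_right (H.h1 v)]
    exact inv_mem (mul_mem h0 h1)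
  · exact ⟨ρ v, h1, by rw [H.b2, ← map_inv, ← map_inv, commutatorElement_inv], by rw [← H.b1, H.cm]⟩

theorem inj {z : T} (h : z ≠ 1) : Function.Injective ![1, z, ρ z, ρ (ρ z)] := by
  have a : ρ z ≠ z := fun e => h (H.fp z e)
  have b : ρ (ρ z) ≠ z := fun e => a (by have := H.r3 z; rwa [e] at this)
  have c := ρ.injective.ne a
  intro i j
  fin_cases i <;> fin_cases j <;> simp [h, h.symm, a, a.symm, b, b.symm, eq_comm (a := (1 : T))]

theorem cle [Finite T] (h : ⁅u, v⁆ ≠ 1) : Nat.card ((κ H.h6 u).prod (κ H.h6 v)).ker ≤ 4 := by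
  have a := ((κ H.h6 u).prod (κ H.h6 v)).ker.card_mul_index
  have h' : ⁅v, u⁆ ≠ 1 := by rwa [← commutatorElement_inv, ne_eq, inv_eq_one]
  have k : ∀ {z : T} (i : Fin 4), ∀ s, s = ![1, z, ρ z, ρ (ρ z)] i → s = 1 ∨ s = z ∨ s = ρ z ∨ s = ρ (ρ z) := by
    rintro z i _ rfl; fin_cases i <;> simp
  have b := Nat.card_le_card_of_injective (fun i : Fin 4 × Fin 4 => (⟨((![1, ⁅u, v⁆, ρ ⁅u, v⁆, ρ (ρ ⁅u, v⁆)] i.1)⁻¹,
    (![1, ⁅v, u⁆, ρ ⁅v, u⁆, ρ (ρ ⁅v, u⁆)] i.2)⁻¹), by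
      obtain ⟨x, -, x1, x2⟩ := H.hit (mem_top v) (mem_top _) (k i.1 _ rfl)
      obtain ⟨y, -, y1, y2⟩ := H.hit (mem_top u) (mem_top _) (k i.2 _ rfl)
      exact ⟨x * y, Prod.ext ((cl H.h6 x y u).trans (by rw [x1, y2, mul_one]))
        ((cl H.h6 x y v).trans (by rw [x2, y1, one_mul]))⟩⟩ : ((κ H.h6 u).prod (κ H.h6 v)).range)) fun i j e => by
    simp only [Subtype.mk.injEq, Prod.mk.injEq, inv_inj] at e
    exact Prod.ext (H.inj h e.1) (H.inj h' e.2)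
  rw [index_ker, H.card] at a
  simp only [Nat.card_eq_fintype_card, Fintype.card_prod, Fintype.card_fin] at b
  nlinarith

theorem st [Finite T] (h : ⁅u, v⁆ ≠ 1) {s : T} (h1 : ⁅s, u⁆ = 1) (h2 : ⁅s, v⁆ = 1) :
    s = 1 ∨ s = ⁅u, v⁆ ∨ s = ρ ⁅u, v⁆ ∨ s = ρ (ρ ⁅u, v⁆) := by
  have m : ∀ z ∈ center T, z ∈ ((κ H.h6 u).prod (κ H.h6 v)).ker := fun z a => Prod.ext
    (commutatorElement_eq_one_iff_mul_comm.2 (mem_center_iff.1 a u).symm)
    (commutatorElement_eq_one_iff_mul_comm.2 (mem_center_iff.1 a v).symm)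
  have c := MulEquivClass.apply_mem_center ρ (H.h6 u v)
  obtain ⟨i, hi⟩ := (Function.Injective.bijective_of_nat_card_le (f := fun i : Fin 4 =>
    (⟨![1, ⁅u, v⁆, ρ ⁅u, v⁆, ρ (ρ ⁅u, v⁆)] i, by
      fin_cases i
      exacts [one_mem _, m _ (H.h6 u v), m _ c, m _ (MulEquivClass.apply_mem_center ρ c)]⟩ :
        ((κ H.h6 u).prod (κ H.h6 v)).ker)) (fun i j e => H.inj h (Subtype.ext_iff.1 e))
      (by simpa using H.cle h)).2 ⟨s, Prod.ext h1 h2⟩
  obtain rfl := Subtype.ext_iff.1 hi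
  fin_cases i <;> simp

theorem stz [Finite T] (h : ⁅u, v⁆ ≠ 1) {s : T} (h1 : s ∈ center T) :
    s = 1 ∨ s = ⁅u, v⁆ ∨ s = ρ ⁅u, v⁆ ∨ s = ρ (ρ ⁅u, v⁆) :=
  H.st h (commutatorElement_eq_one_iff_mul_comm.2 (mem_center_iff.1 h1 u).symm)
    (commutatorElement_eq_one_iff_mul_comm.2 (mem_center_iff.1 h1 v).symm)

theorem c2 [Finite T] (u v : T) : ⁅u, v⁆ * ⁅u, v⁆ = 1 := by
  by_cases h : ⁅u, v⁆ = 1
  · rw [h, one_mul]
  have a := H.h1 ⁅u, v⁆
  have b := H.h1 (ρ (ρ ⁅u, v⁆))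
  rcases H.stz h (inv_mem (H.h6 u v)) with e | e | e | e
  · exact absurd (inv_eq_one.1 e) h
  · exact inv_eq_iff_mul_eq_one.1 e
  · rw [← e, mul_inv_cancel, one_mul, e, EmbeddingLike.map_eq_one_iff, EmbeddingLike.map_eq_one_iff] at a
    exact absurd a h
  · rw [H.r3, ← e, inv_mul_cancel, one_mul, EmbeddingLike.map_eq_one_iff] at b
    exact absurd b h

theorem z2 [Finite T] (h : ⁅u, v⁆ ≠ 1) {s : T} (h1 : s ∈ center T) : s * s = 1 := by
  rcases H.stz h h1 with rfl | rfl | rfl | rfl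
  · exact one_mul 1
  · exact H.c2 u v
  · rw [← map_mul, H.c2, map_one]
  · rw [← map_mul, ← map_mul, H.c2, map_one, map_one]

theorem sw [Finite T] (u v : T) : ⁅v, u⁆ = ⁅u, v⁆ := by
  rw [← commutatorElement_inv]; exact inv_eq_of_mul_eq_one_left (H.c2 u v)

theorem zc [Finite T] (h : ⁅u, v⁆ ≠ 1) {s : T} (h1 : ⁅s, u⁆ = 1) (h2 : ⁅s, v⁆ = 1) : s ∈ center T := by
  have c := MulEquivClass.apply_mem_center ρ (H.h6 u v)
  rcases H.st h h1 h2 with rfl | rfl | rfl | rfl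
  exacts [one_mem _, H.h6 u v, c, MulEquivClass.apply_mem_center ρ c]

theorem sqz [Finite T] (h : ⁅u, v⁆ ≠ 1) (s : T) : s * s ∈ center T :=
  H.zc h (by rw [cl H.h6, H.c2]) (by rw [cl H.h6, H.c2])

theorem gen [Finite T] (h : ⁅u, v⁆ ≠ 1) {K : Subgroup T} (u0 : u ∈ K) (u1 : ρ u ∈ K) (v0 : v ∈ K) (v1 : ρ v ∈ K) :
    K = ⊤ := by
  have c : ∀ x ∈ K, ∀ y ∈ K, ⁅x, y⁆ ∈ K := fun x a y b => mul_mem (mul_mem (mul_mem a b) (inv_mem a)) (inv_mem b)
  refine (eq_top_iff' K).2 fun t => ?_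
  obtain ⟨x, x0, x1, x2⟩ := H.hit v0 v1 (H.stz h (H.h6 t u))
  obtain ⟨y, y0, y1, y2⟩ := H.hit u0 u1 (H.stz (H.sw u v ▸ h) (H.h6 t v))
  refine (mul_mem_cancel_left (mul_mem x0 y0)).1 ?_
  rcases H.st h (s := x * y * t) (by rw [cl H.h6, cl H.h6, x1, y2]; group) (by rw [cl H.h6, cl H.h6, x2, y1]; group)
    with e | e | e | e <;> rw [e]
  exacts [one_mem K, c _ u0 _ v0, map_commutatorElement ρ u v ▸ c _ u1 _ v1, H.b2 u v ▸ c _ u1 _ v0]

theorem syl [Finite T] (h : ⁅u, v⁆ ≠ 1) (hu : u * u = 1) (hv : v * v = 1) :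
    ∃ S : Sylow 2 (ProjectiveSpecialLinearGroup (Fin 3) F4),
      Nonempty (T ≃* (S : Subgroup (ProjectiveSpecialLinearGroup (Fin 3) F4))) := by
  let g : ℕ → T := fun i => [u, ρ u, v, ρ v, ⁅u, v⁆, ρ ⁅u, v⁆].getD i 1
  have m : ∀ i < 6, g i ∈ closure (g '' {i | i < 6}) := fun i a => subset_closure ⟨i, a, rfl⟩
  refine iso H.card g ?_ (H.gen h (m 0 (by decide)) (m 1 (by decide)) (m 2 (by decide)) (m 3 (by decide)))
  have c := MulEquivClass.apply_mem_center ρ (H.h6 u v)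
  have e : ∀ x y z : T, ⁅x, y⁆ = z → y * x = x * (y * z) := fun x y z a => by
    rw [← a, ← H.sw, ← mul_assoc, mem_center_iff.1 (H.h6 y x), commutatorElement_def]; group
  have e1 : ∀ x y : T, ⁅x, y⁆ = 1 → y * x = x * y := fun x y a => by rw [e x y 1 a, mul_one]
  have f : ρ (ρ ⁅u, v⁆) = ⁅u, v⁆ * ρ ⁅u, v⁆ := by
    rw [eq_inv_of_mul_eq_one_right (H.h1 _)]
    exact inv_eq_of_mul_eq_one_left (H.z2 h (mul_mem (H.h6 u v) c))
  intro r hr
  simp only [RR, List.mem_cons, List.not_mem_nil, or_false] at hr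
  rcases hr with rfl | rfl | rfl | rfl | rfl | rfl | rfl | rfl | rfl | rfl | rfl | rfl | rfl | rfl | rfl | rfl | rfl |
    rfl | rfl | rfl | rfl <;> simp only [ev_cons, ev_nil, mul_one]
  exacts [hu, (map_mul ρ u u).symm.trans (hu ▸ map_one ρ), hv, (map_mul ρ v v).symm.trans (hv ▸ map_one ρ), H.c2 u v,
    H.z2 h c, e1 _ _ (H.cm u), e1 _ _ (H.cm v), e _ _ _ rfl, e _ _ _ ((H.b2 u v).trans f),
    e _ _ _ ((H.b1 u v).trans ((H.b2 u v).trans f)), e _ _ _ (map_commutatorElement ρ u v).symm,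
    (mem_center_iff.1 (H.h6 u v) _).symm, (mem_center_iff.1 (H.h6 u v) _).symm, (mem_center_iff.1 (H.h6 u v) _).symm,
    (mem_center_iff.1 (H.h6 u v) _).symm, (mem_center_iff.1 c _).symm, (mem_center_iff.1 c _).symm,
    (mem_center_iff.1 c _).symm, (mem_center_iff.1 c _).symm, (mem_center_iff.1 c _).symm]

section
variable [Finite T] {σ : MulAut T} (h4 : ∀ x, σ (ρ x) = ρ (ρ (σ x))) (hs : ∀ x, σ (σ x) = x) (h : ⁅u, v⁆ ≠ 1)
include h4 h

theorem top {K : Subgroup T} (hZ : center T ≤ K) (hK : ∀ t, t * σ t ∈ K ∧ ρ (t * σ t) ∈ K ∧ ρ (ρ (t * σ t)) ∈ K)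
    (x : T) : x ∈ K := by
  have hB := (hK (ρ (ρ x))).2.1
  have hC := (hK (ρ x)).2.2
  rw [h4, h4, H.r3, map_mul, H.r3] at hB
  rw [h4, map_mul, map_mul, H.r3, H.r3] at hC
  have hz : (x * σ x * (x * ρ (σ x)) * (x * ρ (ρ (σ x))))⁻¹ * x ^ 3 ∈ center T := by
    let _ : CommGroup (T ⧸ center T) := { (inferInstance : Group (T ⧸ center T)) with
      mul_comm := fun a b => by
        obtain ⟨a, rfl⟩ := QuotientGroup.mk_surjective a
        obtain ⟨b, rfl⟩ := QuotientGroup.mk_surjective b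
        rw [← QuotientGroup.mk_mul, ← QuotientGroup.mk_mul, QuotientGroup.eq]
        simpa [commutatorElement_def, mul_assoc] using H.h6 b⁻¹ a⁻¹ }
    have := congrArg (QuotientGroup.mk : T → T ⧸ center T) (H.h1 (σ x))
    rw [← QuotientGroup.eq]
    simp only [QuotientGroup.mk_mul, QuotientGroup.mk_pow, QuotientGroup.mk_one] at this ⊢
    rw [← mul_one (_ ^ 3), ← this, pow_three]
    ac_rfl
  have := (mul_mem_cancel_left (inv_mem (mul_mem (mul_mem (hK x).1 hC) hB))).1 (hZ hz)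
  rwa [pow_three', mul_mem_cancel_left (hZ (H.sqz h x))] at this

include hs

theorem lift (t : T) : ∃ c, σ c = c ∧ ∃ z ∈ center T, t * σ t = c * z := by
  have a : σ (t * σ t) = t * σ t * ⁅(σ t)⁻¹, t⁻¹⁆ := by rw [map_mul, hs, commutatorElement_def]; group
  have m := H.h6 (σ t)⁻¹ t⁻¹
  generalize ⁅(σ t)⁻¹, t⁻¹⁆ = z at a m
  generalize t * σ t = c at a
  have b : σ z = z := by
    have := hs c
    rw [a, map_mul, a, mul_assoc, mul_eq_left] at this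
    rw [← mul_right_inj z, this, H.z2 h m]
  have r := MulEquivClass.apply_mem_center ρ m
  refine ⟨c * ρ z, ?_, ρ z, r, by rw [mul_assoc, H.z2 h r, mul_one]⟩
  rw [map_mul, a, h4, b, mul_assoc, mul_right_inj, ← mul_right_inj (ρ z), H.z2 h r, ← mul_assoc,
    ← mem_center_iff.1 r z, H.h1]

theorem pair : ∃ a b, σ a = a ∧ σ b = b ∧ ⁅a, b⁆ ≠ 1 ∧ a * a ≠ 1 := by
  have zl : ∀ c z x : T, z ∈ center T → ⁅c * z, x⁆ = ⁅c, x⁆ := fun c z x a => by
    rw [cl H.h6, commutatorElement_eq_one_iff_mul_comm.2 (mem_center_iff.1 a x).symm, mul_one]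
  have k : ∀ a, (∀ t, ⁅t * σ t, a⁆ = 1) → a ∈ center T := fun a e => mem_center_iff.2 fun x =>
    commutatorElement_eq_one_iff_mul_comm.1 (H.top h4 h (K := (κ H.h6 a).ker)
      (fun z b => commutatorElement_eq_one_iff_mul_comm.2 (mem_center_iff.1 b a).symm) (fun t => ⟨e t,
        (H.b2 _ a).trans (by rw [e, map_one, map_one]), (H.b2 _ a).trans (by rw [H.b2, e]; simp)⟩) x)
  obtain ⟨t, ht⟩ : ∃ t, t * σ t ∉ center T := by
    by_contra! c
    exact h (commutatorElement_eq_one_iff_mul_comm.2 (mem_center_iff.1 (k v fun t =>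
      commutatorElement_eq_one_iff_mul_comm.2 (mem_center_iff.1 (c t) v).symm) u))
  obtain ⟨s, e⟩ := not_forall.1 (mt (k _) ht)
  obtain ⟨a, a1, y, y1, y2⟩ := H.lift h4 hs h s
  obtain ⟨b, b1, z, z1, z2⟩ := H.lift h4 hs h t
  rw [y2, z2, zl _ _ _ y1, H.sw, zl _ _ _ z1] at e
  by_cases c : b * b = 1
  swap
  · exact ⟨b, a, b1, a1, e, c⟩
  by_cases d : a * a = 1
  swap
  · exact ⟨a, b, a1, b1, H.sw a b ▸ e, d⟩
  exact ⟨a * b, a, by rw [map_mul, a1, b1], a1, by rwa [cl H.h6, commutatorElement_self, one_mul],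
    by rwa [sq H.h6, c, d, one_mul, one_mul]⟩

omit hs in
theorem fixz (hu : σ u = u) (hv : σ v = v) {s : T} (h1 : s ∈ center T) (h2 : σ s = s) : s = 1 ∨ s = ⁅u, v⁆ := by
  have a : σ ⁅u, v⁆ = ⁅u, v⁆ := by rw [map_commutatorElement, hu, hv]
  rcases H.stz h h1 with e | e | rfl | rfl
  · exact .inl e
  · exact .inr e
  · rw [h4, a] at h2
    exact absurd (H.fp _ (ρ.injective h2)) h
  · rw [h4, h4, a, H.r3] at h2
    exact absurd (H.fp _ (ρ.injective h2).symm) h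

omit hs in
theorem fix_eq (hu : σ u = u) (hv : σ v = v) {C : Subgroup T} (hC : ∀ y : T, y ∈ C ↔ σ y = y) :
    C = zpowers u ⊔ zpowers v := by
  refine le_antisymm (fun t ht => ?_) (sup_le (zpowers_le.2 ((hC u).2 hu)) (zpowers_le.2 ((hC v).2 hv)))
  have u0 : u ∈ zpowers u ⊔ zpowers v := mem_sup_left (mem_zpowers u)
  have v0 : v ∈ zpowers u ⊔ zpowers v := mem_sup_right (mem_zpowers v)
  have f : ∀ y, σ y = y → ⁅t, y⁆ = 1 ∨ ⁅t, y⁆ = ⁅u, v⁆ := fun y a =>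
    H.fixz h4 h hu hv (H.h6 t y) (by rw [map_commutatorElement, a, (hC t).1 ht])
  obtain ⟨x, x0, x3, x1, x2⟩ : ∃ x ∈ zpowers u ⊔ zpowers v, σ x = x ∧ ⁅x, u⁆ = ⁅t, u⁆ ∧ ⁅x, v⁆ = ⁅t, v⁆ := by
    rcases f u hu with a | a <;> rcases f v hv with b | b <;> rw [a, b]
    · exact ⟨1, one_mem _, by simp⟩
    · exact ⟨u, u0, hu, by simp⟩
    · exact ⟨v, v0, hv, H.sw u v, by simp⟩
    · exact ⟨u * v, mul_mem u0 v0, by rw [map_mul, hu, hv], by simp [cl H.h6, H.sw u v], by simp [cl H.h6]⟩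
  refine (mul_mem_cancel_left x0).1 ?_
  rcases H.fixz h4 h hu hv (s := x * t) (H.zc h (by rw [cl H.h6, x1, H.c2]) (by rw [cl H.h6, x2, H.c2]))
    (by rw [map_mul, x3, (hC t).1 ht]) with e | e <;> rw [e]
  exacts [one_mem _, mul_mem (mul_mem (mul_mem u0 v0) (inv_mem u0)) (inv_mem v0)]

theorem main {C : Subgroup T} (hC : ∀ y : T, y ∈ C ↔ σ y = y) :
    (∃ S : Sylow 2 (ProjectiveSpecialLinearGroup (Fin 3) F4),
      Nonempty (T ≃* (S : Subgroup (ProjectiveSpecialLinearGroup (Fin 3) F4)))) ∧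
      (Nonempty (C ≃* DihedralGroup 4) ∨ Nonempty (C ≃* QuaternionGroup 2)) := by
  obtain ⟨a, b, a1, b1, c, d⟩ := H.pair h4 hs h
  have a2 := (H.fixz h4 c a1 b1 (H.sqz c a) (by rw [map_mul, a1])).resolve_left d
  have o : orderOf a = 2 ^ (1 + 1) := orderOf_eq_prime_pow (by rwa [pow_one, pow_two]) (by
    rw [pow_succ, pow_mul, pow_one, pow_two, pow_two, a2, H.c2])
  have n : b ∉ zpowers a := by
    rintro ⟨k, rfl⟩
    exact c (commutatorElement_eq_one_iff_commute.2 ((Commute.refl a).zpow_right k))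
  have i : b * a * b⁻¹ = a⁻¹ := by
    refine eq_inv_of_mul_eq_one_left ?_
    calc _ = ⁅b, a⁆ * (a * a) := by rw [commutatorElement_def]; group
      _ = 1 := by rw [a2, H.sw, H.c2]
  rw [H.fix_eq h4 c a1 b1 hC]
  have r := MulEquivClass.apply_mem_center ρ (H.h6 a b)
  rcases H.fixz h4 c a1 b1 (H.sqz c b) (by rw [map_mul, b1]) with e | e
  · refine ⟨H.syl (u := b) (v := a * b) ?_ e ?_,
      .inl (CA.PGDihedral.nonempty_subgroup_mulEquiv_dihedral o n ((pow_two b).trans e) i)⟩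
    · rwa [cr H.h6, commutatorElement_self, mul_one, H.sw]
    · rw [sq H.h6, a2, e, mul_one, H.sw a b, H.c2]
  · refine ⟨H.syl (u := a * ρ b) (v := a * ρ (ρ b)) ?_ ?_ ?_, .inr (CA.PGDihedral.nonempty_subgroup_mulEquiv_quaternion
      (n := 2) o n (by rw [pow_two, pow_two, a2, e]) i)⟩
    · rw [cl H.h6, cr H.h6, cr H.h6, commutatorElement_self, H.cm, one_mul, mul_one, H.sw, H.b2, H.b2, H.r3,
        H.sw a b]
      intro k
      have := H.h1 ⁅a, b⁆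
      rw [mul_assoc, k, mul_one] at this
      exact c this
    · rw [sq H.h6, a2, ← map_mul, e, H.b2, H.sw a b, H.h1]
    · rw [sq H.h6, a2, ← map_mul, ← map_mul, e, H.b2, H.b2, H.r3, H.sw a b, mul_assoc, mem_center_iff.1 r,
        ← mul_assoc, H.h1]

end

end HH

end CA.H8L34
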