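import Cfsg.Agent.Lib.Odd.BG4x2
import Cfsg.Agent.Lib.Odd.BGMisc
import Cfsg.Agent.Lib.Loc.Amb

/-!
Soft subgroups of `p`-groups.
-/

set_option autoImplicit false

namespace CA.H8Soft

open Subgroup Cfsg CA.BG CA.OQuo CA.PGBasic
open scoped commutatorElement

universe u

section
variable {G : Type u} [Group G] [Finite G] {p : ℕ} (hp : p.Prime) (hG : IsPi {p} (⊤ : Subgroup G))
include hp hG

omit hp in
theorem lt_norm {J K : Subgroup G} (h : J < K) : J < K ⊓ 𝓝(J) := lt_norm_of_pi (hG.of_le le_top) h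

theorem norm_le {J K : Subgroup G} (hJ : J.relIndex 𝓝(J) = p) (h : J < K) : 𝓝(J) ≤ K :=
  ((eq_or_eq_of_relIndex_prime hp hJ (lt_norm hG h).le inf_le_right).resolve_left (lt_norm hG h).ne').ge.trans
    inf_le_left

theorem chain {K L : Subgroup G} (h : K ⊓ L < K → (K ⊓ L).relIndex 𝓝(K ⊓ L) = p) : K ≤ L ∨ L ≤ K := by
  by_contra! k
  have a : K ⊓ L < K := inf_lt_left.2 k.1
  have b : K ⊓ L < L := inf_lt_right.2 k.2
  exact (lt_norm hG a).not_ge (inf_le_right.trans (le_inf (norm_le hp hG (h a) a) (norm_le hp hG (h a) b)))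

theorem sup_cj {E K : Subgroup G} (hE : E ≤ K) (h : ∀ J, E ≤ J → J < K → J.relIndex 𝓝(J) = p) {g : G}
    (g1 : g ∈ 𝓝(K)) (g2 : g ∉ K) : E ⊔ cj g E = K := by
  have l : E ⊔ cj g E ≤ K := sup_le hE (cj_of_mem_norm g1 ▸ cj_mono g hE)
  by_contra k
  have a : E ≤ cj g⁻¹ (E ⊔ cj g E) := cj_le_iff.1 le_sup_right
  have := chain hp hG (K := E ⊔ cj g E) (L := cj g⁻¹ (E ⊔ cj g E)) fun c =>
    h _ (le_inf le_sup_left a) (c.trans_le l)
  refine g2 (norm_le hp hG (h _ le_sup_left (lt_of_le_of_ne l k)) (lt_of_le_of_ne l k) ?_)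
  rcases this with c | c
  · exact mem_norm_of_cj_le (cj_le_iff.2 c)
  · simpa using inv_mem (mem_norm_of_cj_le c)

end

theorem class_congr {G : Type*} {H : Type*} [Group G] [Group H] [Group.IsNilpotent G] (e : G ≃* H) :
    Group.nilpotencyClass G = Group.nilpotencyClass H := by
  have := Group.nilpotent_of_mulEquiv e
  exact le_antisymm (Group.nilpotencyClass_le_of_surjective e.symm.toMonoidHom e.symm.surjective)
    (Group.nilpotencyClass_le_of_surjective e.toMonoidHom e.surjective)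

theorem main {p : ℕ} (hp : p.Prime) (i : ℕ) : ∀ {G : Type u} [Group G] [Finite G], IsPi {p} (⊤ : Subgroup G) →
    ∀ {E K : Subgroup G}, IsMulCommutative E → 𝓒(E) ≤ E → E.relIndex 𝓝(E) = p → E ≤ K → K ≠ ⊤ →
      E.relIndex K = p ^ i → K.relIndex 𝓝(K) = p ∧ Group.nilpotencyClass K = i + 1 := by
  induction i using Nat.strong_induction_on with
  | _ i ih =>
  intro G _ _ hG E K e1 e2 e3 k1 k2 k3
  have nK : Group.IsNilpotent K := (hG.of_le le_top).isNilpotent hp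
  have K0 : K ≠ ⊥ := fun e => k2 (top_le_iff.1 (by
    rw [le_bot_iff.1 (e ▸ k1 : E ≤ ⊥), cent_bot] at e2; exact e2.trans bot_le))
  have : Nontrivial K := (nontrivial_iff_ne_bot K).2 K0
  rcases i with _ | i
  · obtain rfl : E = K := le_antisymm k1 (relIndex_eq_one.1 k3)
    exact ⟨e3, le_antisymm (Group.IsNilpotent.nilpotencyClass_le_one_iff.2 e1) (Nat.pos_of_ne_zero fun k =>
      not_subsingleton _ (Group.nilpotencyClass_zero_iff_subsingleton.1 k))⟩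
  have EK : E < K := lt_of_le_of_ne k1 (by
    rintro rfl
    rw [relIndex_self] at k3
    exact absurd k3.symm (Nat.one_lt_pow (by omega) hp.one_lt).ne')
  have low : ∀ J, E ≤ J → J < K → J.relIndex 𝓝(J) = p := fun J a b => by
    have c := relIndex_mul' a b.le
    obtain ⟨j, j1, j2⟩ := (Nat.dvd_prime_pow hp).1 (k3 ▸ Dvd.intro _ c)
    refine (ih j (lt_of_le_of_ne j1 ?_) hG e1 e2 e3 a (ne_top_of_lt b) j2).1
    rintro rfl
    rw [j2, k3, mul_eq_left₀ (pow_ne_zero _ hp.ne_zero)] at c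
    exact b.not_ge (relIndex_eq_one.1 c)
  obtain ⟨g, ⟨-, g1⟩, g2⟩ := SetLike.exists_of_lt (lt_norm hG (lt_top_iff_ne_top.2 k2))
  have s := sup_cj hp hG k1 low g1 g2
  have R1 := norm_le hp hG e3 EK
  have c1 := comm_iff_le_cent.1 e1
  have ZE : 𝓩(K) ≤ E := inf_le_right.trans ((cent_anti k1).trans e2)
  have EZ : E ⊓ cj g E ≤ 𝓩(K) := le_inf (inf_le_left.trans k1) (s ▸ le_cent_sup (inf_le_left.trans c1)
    (inf_le_right.trans (cent_cj g c1)))
  have nZ : 𝓝(K) ≤ 𝓝(𝓩(K)) := norm_center K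
  have nK' : K ≤ 𝓝(𝓩(K)) := (le_norm_self K).trans nZ
  have Z2E : ¬ Z2 K ≤ E := fun k => by
    have a : Z2 K ≤ 𝓩(K) := (le_inf k (cj_of_mem_norm (norm_Z2 K g1) ▸ cj_mono g k)).trans EZ
    have b : K ≤ 𝓩(K) := (quo_eq_bot_iff nK').1 (by_contra fun c => ((hG.of_le le_top).mim _).center_ne_bot c (by
      rw [← Z2_quo]; exact quo_eq_bot_of_le a))
    exact EK.not_ge (b.trans ZE)
  have cE : ∀ A, E ≤ A → ∀ C, ⁅C, A⁆ ≤ 𝓩(K) → C ≤ 𝓝(E) := fun A a C c =>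
    norm_of_comm_le_right ((comm_mono le_rfl a).trans (c.trans ZE))
  have R2 : 𝓝(E) = E ⊔ Z2 K := ((eq_or_eq_of_relIndex_prime hp e3 le_sup_left (sup_le (le_norm_self E)
    (cE K k1 _ (comm_Z2_le K)))).resolve_left fun c => Z2E (le_sup_right.trans c.le)).symm
  have nR : 𝓝(E) ≤ 𝓝(𝓩(K)) := R1.trans nK'
  have q1 : 𝓝(E) /ᵍ 𝓩(K) ≤ 𝓒(𝓝(E) /ᵍ 𝓩(K)) := by
    have a : Z2 K /ᵍ 𝓩(K) ≤ 𝓒(K /ᵍ 𝓩(K)) := (Z2_quo K).le.trans inf_le_right
    rw [R2, quo_sup (k1.trans nK') ((Z2_le K).trans nK')]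
    exact sup_le (le_cent_sup (cent_quo _ c1) (cent_symm (a.trans (cent_anti (quo_mono _ k1)))))
      (a.trans (cent_anti (sup_le (quo_mono _ k1) (quo_mono _ (Z2_le K)))))
  have q2 : 𝓒(𝓝(E) /ᵍ 𝓩(K)) ≤ 𝓝(E) /ᵍ 𝓩(K) := by
    rw [← quo_mpre 𝓒(𝓝(E) /ᵍ 𝓩(K))]
    exact quo_mono _ (cE _ (le_norm_self E) _ ((quo_le_centralizer_iff (mpre_le _ _) nR).1 (quo_mpre _).le))
  have hQ : IsPi {p} (⊤ : Subgroup (QT 𝓩(K))) := quo_normalizer 𝓩(K) ▸ (hG.of_le le_top).mim _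
  have nq : ∀ J, 𝓩(K) ≤ J → J ≤ K → 𝓝(J) ≤ 𝓝(𝓩(K)) → (J /ᵍ 𝓩(K)).relIndex 𝓝(J /ᵍ 𝓩(K)) = J.relIndex 𝓝(J) :=
    fun J a b c => by
      have := quo_inf_normalizer 𝓝(𝓩(K)) (b.trans nK') a
      rw [quo_normalizer, top_inf_eq, inf_of_le_right c] at this
      rw [← this, relIndex_quo (b.trans nK') c a]
  have ZR := ZE.trans (le_norm_self E)
  have kt : K /ᵍ 𝓩(K) ≠ ⊤ := fun c => g2 ((qel_mem_quo_iff (nZ g1) nK' inf_le_left).1 (c ▸ mem_top _))
  have q3 : (𝓝(E) /ᵍ 𝓩(K)).relIndex 𝓝(𝓝(E) /ᵍ 𝓩(K)) = p := by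
    rcases R1.lt_or_eq with c | c
    · have := low _ (le_norm_self E) c
      rw [nq _ ZR R1 ((norm_le hp hG this c).trans nK'), this]
    have a := CA.BG4.relIndex_cent_dvd hp (hQ.of_le le_top) (le_refl 𝓝(𝓝(E) /ᵍ 𝓩(K))) (by
      rw [card_quo nR]
      refine (relIndex_anti EZ _).trans ?_
      rw [← relIndex_mul' inf_le_left (le_norm_self E), e3, pow_two, inf_relIndex_left]
      refine mul_dvd_mul_right ((relIndex_dvd_of_norm (K := cj g 𝓝(E)) (cj_norm g E).le ?_).trans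
        (by rw [relIndex_cj, e3])) p
      rw [c, cj_of_mem_norm g1]; exact k1)
    rw [le_antisymm q2 q1] at a
    refine (hp.eq_one_or_self_of_dvd _ a).resolve_left fun b => ?_
    exact (lt_norm hQ (lt_top_iff_ne_top.2 (c ▸ kt))).not_ge (inf_le_right.trans (relIndex_eq_one.1 b))
  obtain ⟨a, b⟩ := ih i (by omega) hQ (comm_iff_le_cent.2 q1) q2 q3 (quo_mono _ R1) kt (by
    have := relIndex_mul' (le_norm_self E) R1
    rw [e3, k3, pow_succ'] at this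
    rw [relIndex_quo nR nK' ZR, Nat.eq_of_mul_eq_mul_left hp.pos this])
  refine ⟨nq K inf_le_left le_rfl nZ ▸ a, ?_⟩
  rw [Group.nilpotencyClass_eq_quotient_center_plus_one, class_congr (quotientEquivQuoMap (center K)),
    CA.Amb.map_subtype_center, b]

end CA.H8Soft
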