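import Cfsg.Agent.Lib.Grp.Quasi
import Cfsg.Prelude.Def_Local

/-!
A standard subgroup of the alternating group.
-/

set_option autoImplicit false

namespace CA.H8Std

open Subgroup Equiv Cfsg
open scoped Pointwise

variable {α : Type*} [Fintype α] [DecidableEq α] {s t : Finset α}

/-- even permutations supported in `s` -/
abbrev RR (s : Finset α) : Subgroup (alternatingGroup α) := (alternatingGroup.ofSubtype s).range

theorem mem_RR {k : alternatingGroup α} : k ∈ RR s ↔ ∀ x, x ∉ s → k.1 x = x := by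
  rw [alternatingGroup.mem_range_ofSubtype_iff]
  exact ⟨fun h x a => by_contra fun b => a (h (Perm.mem_support.2 b)),
    fun h x a => by_contra fun b => Perm.mem_support.1 a (h x b)⟩

theorem ex3 (h : 3 ≤ s.card) {x : α} (hx : x ∈ s) : ∃ c ∈ RR s, c.1 x ≠ x := by
  obtain ⟨y, hy, z, hz, e⟩ := Finset.one_lt_card.1 (show 1 < (s.erase x).card by
    rw [Finset.card_erase_of_mem hx]; omega)
  rw [Finset.mem_erase] at hy hz
  refine ⟨⟨swap x y * swap x z, by simp [hy.1.symm, hz.1.symm]⟩, mem_RR.2 fun w a => ?_, ?_⟩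
  · have b : ∀ u ∈ s, w ≠ u := fun u hu e => a (e ▸ hu)
    simp [swap_apply_of_ne_of_ne (b x hx) (b y hy.2), swap_apply_of_ne_of_ne (b x hx) (b z hz.2)]
  · simp [swap_apply_of_ne_of_ne hz.1 e.symm, hz.1]

theorem RR_le (h : 3 ≤ s.card) : RR s ≤ RR t ↔ s ⊆ t :=
  ⟨fun a x hx => by_contra fun b => (ex3 h hx).elim fun _ c => c.2 (mem_RR.1 (a c.1) x b),
    fun a _ b => mem_RR.2 fun x c => mem_RR.1 b x (mt (@a x) c)⟩

theorem cent (h : 4 ≤ s.card) : centralizer (RR s : Set (alternatingGroup α)) = RR sᶜ := by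
  refine le_antisymm (fun g hg => mem_RR.2 fun x hx => by_contra fun e => ?_) fun g hg c hc => Subtype.ext ?_
  · rw [Finset.mem_compl, not_not] at hx
    have k : ∀ c ∈ RR s, c.1 (g.1 x) = g.1 (c.1 x) := fun c a => congrArg (fun u : alternatingGroup α => u.1 x) (hg c a)
    by_cases w : g.1 x ∈ s
    · obtain ⟨c, c1, c2⟩ := ex3 (s := s.erase x) (by rw [Finset.card_erase_of_mem hx]; omega) (Finset.mem_erase.2 ⟨e, w⟩)
      refine c2 ?_
      rw [k c (mem_RR.2 fun y a => mem_RR.1 c1 y fun b => a (Finset.mem_of_mem_erase b)),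
        mem_RR.1 c1 x (s.notMem_erase x)]
    · obtain ⟨c, c1, c2⟩ := ex3 (by omega) hx
      exact c2 (g.1.injective ((k c c1).symm.trans (mem_RR.1 c1 _ w)))
  · refine (Perm.Disjoint.commute fun x => ?_).eq
    by_cases a : x ∈ s
    · exact .inr (mem_RR.1 hg x (by simpa using a))
    · exact .inl (mem_RR.1 hc x a)

theorem map_RR (g : alternatingGroup α) : (RR s).map (MulAut.conj g).toMonoidHom = RR (g • s) :=
  alternatingGroup.conj_smul_range_ofSubtype s g

theorem norm (h : 3 ≤ s.card) {g : alternatingGroup α} : g ∈ normalizer (RR s : Set (alternatingGroup α)) ↔ g • s = s := by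
  rw [mem_normalizer_iff_map_conj_eq]
  refine (map_RR g).congr_left.trans ⟨fun a => ?_, fun a => by rw [a]⟩
  exact (Finset.eq_of_subset_of_card_le ((RR_le h).1 a.ge) (Finset.card_smul_finset g s).le).symm

theorem smul_compl (g : alternatingGroup α) : g • sᶜ = (g • s)ᶜ := by
  ext x; simp only [Finset.mem_compl, ← Finset.inv_smul_mem_iff]

theorem card_RR : Nat.card (RR s) = Nat.card (alternatingGroup s) :=
  (Nat.card_congr (MonoidHom.ofInjective alternatingGroup.ofSubtype_injective).toEquiv).symm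

theorem odd_RR {K : Subgroup (alternatingGroup α)} (hK : K ≤ RR s) (h : s.card ≤ 3) : Odd (Nat.card K) := by
  rw [← Nat.not_even_iff_odd, even_iff_two_dvd]
  intro c
  obtain ⟨⟨w, hw⟩, o⟩ := exists_prime_orderOf_dvd_card' 2 c
  rw [← orderOf_coe, ← orderOf_coe] at o
  change orderOf w.1 = 2 at o
  obtain ⟨n, hn⟩ := Perm.cycleType_prime_order (o ▸ Nat.prime_two)
  have a := w.1.sum_cycleType
  have b : Perm.sign w.1 = 1 := w.2
  have d := Finset.card_le_card ((alternatingGroup.mem_range_ofSubtype_iff s w).1 (hK hw))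
  rw [Perm.sign_of_cycleType] at b
  rw [hn, o, Multiset.sum_replicate, smul_eq_mul] at a b
  obtain rfl : n = 0 := by omega
  exact absurd b (by decide)

theorem main (h : s.card = 4) (h9 : 9 ≤ Fintype.card α) : IsStandardSubgroup (RR sᶜ) := by
  have c : 5 ≤ sᶜ.card := by rw [Finset.card_compl]; omega
  have k : centralizer (RR sᶜ : Set (alternatingGroup α)) = RR s := by rw [cent (by omega), compl_compl]
  have := alternatingGroup.isSimpleGroup (α := (sᶜ : Finset α)) (by rwa [Nat.card_eq_fintype_card, Fintype.card_coe])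
  refine ⟨(CA.Quasi.qs_congr (MonoidHom.ofInjective alternatingGroup.ofSubtype_injective)).1
    (CA.Quasi.qs_of_simple fun e => ?_), ⟨?_, fun g hg => ?_⟩, fun g _ e => ?_, ?_⟩
  · have a : RR sᶜ ≤ RR s := k ▸ by
      rintro _ ⟨x, rfl⟩ _ ⟨y, rfl⟩
      rw [← map_mul, ← map_mul, e.is_comm.comm]
    have := Finset.card_le_card ((RR_le (by omega)).1 a)
    omega
  · have : Nontrivial s := Fintype.one_lt_card_iff_nontrivial.1 (by simp [h])
    rw [k, card_RR, nat_card_alternatingGroup, Nat.card_eq_fintype_card, Fintype.card_coe, h]; decide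
  · rw [k] at hg ⊢
    rw [map_RR]
    refine odd_RR (s := s ∩ g • s) (fun w a => mem_RR.2 fun x b => ?_) ?_
    · rw [Finset.mem_inter, not_and_or] at b
      exact b.elim (mem_RR.1 a.1 x) (mem_RR.1 a.2 x)
    · have := Finset.card_lt_card (s := s ∩ g • s) (t := s) (Finset.ssubset_iff_subset_ne.2
        ⟨Finset.inter_subset_left, fun e => hg ((norm (by omega)).2 (Finset.eq_of_subset_of_card_le
          (Finset.inter_eq_left.1 e) (Finset.card_smul_finset g s).le).symm)⟩)
      omega
  · rw [commutator_comm, commutator_eq_bot_iff_le_centralizer, k, map_RR] at e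
    have a := Finset.card_smul_finset g sᶜ
    have := Finset.card_le_card ((RR_le (by omega)).1 e)
    omega
  · ext g
    rw [k, norm (by omega), norm (by omega), smul_compl, compl_inj_iff]

end CA.H8Std
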