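import Cfsg.Agent.Lib.Comp.H27Words
import Cfsg.Agent.Lib.Grp.Fitting
import Cfsg.Agent.Lib.Grp.PGBasic

/-!
Recognition of `C₃ ≀ S₃`.
-/

set_option autoImplicit false

namespace CA.H8Wr

open Subgroup CA.H27Words Equiv
open scoped commutatorElement

section
variable {A : Type*} [AddCommGroup A] (σ τ : A →+ A) (h3 : ∀ x : A, x + x + x = 0) (s3 : ∀ x, σ (σ (σ x)) = x)
include h3

include s3 in
theorem fix_all (t2 : ∀ x, τ (τ x) = x) (hτ : ∀ x, σ x = x → τ x = x) (c : ∀ x, τ (σ x) = σ (τ x)) (v : A) :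
    τ v = v := by
  have k : ∀ u, τ (τ u - u) = τ u - u → τ u = u := fun u a => by
    rw [map_sub, t2] at a
    linear_combination (norm := abel) h3 (τ u - u) + a
  have s1 : ∀ u, σ (σ u - u) = σ u - u → τ u = u := fun u a => k u (hτ _ (by
    have := hτ _ a
    rw [map_sub, c] at this
    rw [map_sub]
    linear_combination (norm := abel) this))
  refine k v (s1 _ ?_)
  have := hτ (v + σ v + σ (σ v)) (by rw [map_add, map_add, s3]; abel)
  simp only [map_add, map_sub, c] at this ⊢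
  linear_combination (norm := abel) this - h3 (σ (τ v)) + h3 (σ v)

theorem ex_v [Finite A] (hA : Nat.card A = 27) (hZ : Nat.card (σ - AddMonoidHom.id A).ker ≤ 3) :
    ∃ v, v + σ v + σ (σ v) ≠ 0 := by
  by_contra! k
  have a : (σ - AddMonoidHom.id A).range ≤ (σ - AddMonoidHom.id A).ker := by
    rintro _ ⟨v, rfl⟩
    simp only [AddMonoidHom.mem_ker, AddMonoidHom.sub_apply, AddMonoidHom.id_apply, map_sub]
    linear_combination (norm := abel) k v - h3 (σ v)
  have b := AddSubgroup.card_le_of_le a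
  have c := (σ - AddMonoidHom.id A).ker.card_mul_index
  rw [AddSubgroup.index_ker, hA] at c
  have := Nat.mul_le_mul hZ (b.trans hZ)
  omega

include s3 in
theorem ex_a (t2 : ∀ x, τ (τ x) = x) (hτ : ∀ x, σ x = x → τ x = x) (c : ∀ x, τ (σ x) = σ (σ (τ x))) {v : A}
    (hv : v + σ v + σ (σ v) ≠ 0) : ∃ a, τ a = a ∧ a + σ a + σ (σ a) ≠ 0 := by
  refine ⟨v + τ v, by rw [map_add, t2, add_comm], fun k => hv ?_⟩
  have := hτ (v + σ v + σ (σ v)) (by rw [map_add, map_add, s3]; abel)
  simp only [map_add, c, s3] at this k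
  linear_combination (norm := abel) h3 (v + σ v + σ (σ v)) - k + this

include s3 in
theorem gen {a : A} (hz : ∀ x, σ x = x → ∃ i : ℤ, x = i • (a + σ a + σ (σ a))) {K : AddSubgroup A} (h0 : a ∈ K)
    (h1 : σ a ∈ K) (h2 : σ (σ a) ∈ K) (u : A) : u ∈ K := by
  obtain ⟨i, hi⟩ := hz (u + σ u + σ (σ u)) (by rw [map_add, map_add, s3]; abel)
  obtain ⟨j, hj⟩ := hz (σ (u - i • a) - (u - i • a)) (by
    simp only [map_sub, map_zsmul, smul_add] at hi ⊢
    linear_combination (norm := abel) hi - h3 (σ u) + h3 (i • σ a))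
  obtain ⟨k, hk⟩ := hz (u - i • a - j • (σ a - a)) (by
    simp only [map_sub, map_zsmul, smul_add, smul_sub] at hj ⊢
    linear_combination (norm := abel) hj + h3 (j • σ a))
  have : u = k • (a + σ a + σ (σ a)) + i • a + j • (σ a - a) := by rw [← hk]; abel
  exact this ▸ add_mem (add_mem (zsmul_mem (add_mem (add_mem h0 h1) h2) k) (zsmul_mem h0 i)) (zsmul_mem (sub_mem h1 h0) j)

end

/-- rewriting rules -/
def RR : List Rule := [([0, 0, 0], []), ([1, 1, 1], []), ([2, 2, 2], []), ([3, 3, 3], []), ([4, 4], []),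
  ([1, 0], [0, 1]), ([2, 0], [0, 2]), ([2, 1], [1, 2]), ([3, 0], [1, 3]), ([3, 1], [2, 3]), ([3, 2], [0, 3]),
  ([4, 0], [0, 4]), ([4, 1], [2, 4]), ([4, 2], [1, 4]), ([4, 3], [3, 3, 4])]

/-- normal forms -/
def WW : List (List ℕ) := (List.range 3).flatMap fun i => (List.range 3).flatMap fun j => (List.range 3).flatMap fun k =>
  (List.range 3).flatMap fun l => (List.range 2).map fun m =>
    List.replicate i 0 ++ List.replicate j 1 ++ List.replicate k 2 ++ List.replicate l 3 ++ List.replicate m 4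

/-- the permutations -/
def pp (i : ℕ) : Perm (Fin 9) := [swap 0 1 * swap 1 2, swap 3 4 * swap 4 5, swap 6 7 * swap 7 8,
  swap 0 3 * swap 3 6 * (swap 1 4 * swap 4 7) * (swap 2 5 * swap 5 8), swap 3 6 * swap 4 7 * swap 5 8].getD i 1

/-- the central element -/
abbrev cc : Perm (Fin 9) := swap (0 : Fin 9) 1 * swap 1 2 * swap 3 4 * swap 4 5 * swap 6 7 * swap 7 8

theorem card_cc : Nat.card (centralizer ({cc} : Set (Perm (Fin 9)))) = 162 := by
  have : Fact (Nat.Prime 3) := ⟨Nat.prime_three⟩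
  have o : orderOf cc = 3 := orderOf_eq_prime (by decide +kernel) (by decide +kernel)
  obtain ⟨n, hn⟩ := Perm.cycleType_prime_order (o ▸ Nat.prime_three)
  have s := cc.sum_cycleType
  rw [hn, o, Multiset.sum_replicate, show cc.support.card = 9 by decide +kernel, smul_eq_mul] at s
  rw [Perm.nat_card_centralizer, hn, o, show n = 2 by omega]
  decide

theorem iso {G : Type*} [Group G] [Finite G] (hG : Nat.card G = 162) (g : ℕ → G) (h : Holds g RR)
    (hgen : closure (g '' {i | i < 5}) = ⊤) : Nonempty (G ≃* centralizer ({cc} : Set (Perm (Fin 9)))) := by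
  have hp : Holds pp RR := by unfold Holds; decide +kernel
  have hW : closedB RR 200 5 WW = true := by decide +kernel
  obtain ⟨φ, hφ⟩ := exists_hom g pp h hp hW hgen (hG ▸ by decide +kernel)
  have e : ∀ w : List ℕ, (∀ i ∈ w, i < 5) → φ (ev g w) = ev pp w := fun w hw => by
    induction w with
    | nil => simp
    | cons k w ih =>
      rw [ev_cons, ev_cons, map_mul, hφ k (hw k List.mem_cons_self), ih fun i hi => hw i (List.mem_cons_of_mem _ hi)]
  have i : Function.Injective φ := (injective_iff_map_eq_one φ).2 fun x hx => by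
    obtain ⟨w, hw, rfl⟩ := exists_word g 5 x (hgen ▸ mem_top x)
    obtain ⟨v, hv, e1, e2⟩ := exists_nf g pp h hp hW w hw
    have : ∀ v ∈ WW, ev pp v = 1 → v = [] := by decide +kernel
    rw [← e1, this v hv (by rw [e2, ← e w hw, hx]), ev_nil]
  have r : φ.range ≤ centralizer {cc} := by
    rw [MonoidHom.range_eq_map, ← hgen, MonoidHom.map_closure, closure_le]
    rintro _ ⟨_, ⟨i, hi, rfl⟩, rfl⟩
    have : ∀ i < 5, pp i * cc = cc * pp i := by decide +kernel
    rw [hφ i hi]
    exact mem_centralizer_singleton_iff.2 (this i hi)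
  exact ⟨(MonoidHom.ofInjective i).trans (MulEquiv.subgroupCongr (eq_of_le_of_card_ge r (by
    rw [card_cc, ← hG, Nat.card_congr (MonoidHom.ofInjective i).toEquiv])))⟩

theorem card_syl {G : Type*} [Group G] [Finite G] {p k m : ℕ} [hp : Fact p.Prime] (S : Sylow p G)
    (h : Nat.card G = p ^ k * m) (hm : ¬ p ∣ m) : Nat.card S = p ^ k := by
  rw [S.card_eq_multiplicity, h, Nat.factorization_mul (pow_ne_zero _ hp.out.ne_zero) (by rintro rfl; exact hm (dvd_zero p))]
  simp [hp.out.factorization, Nat.factorization_eq_zero_of_not_dvd hm]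

theorem main {G : Type*} [Group G] [Finite G] (hG : Nat.card G = 162)
    (S : Sylow 3 G) (T : Sylow 2 G) (J : Subgroup G) [hJn : J.Normal] (hJcomm : IsMulCommutative J)
    (hJexp : ∀ a ∈ J, a ^ 3 = 1) (hJcard : Nat.card J = 27)
    (Z : Subgroup G) (hZ : Z = (S : Subgroup G) ⊓ centralizer ((S : Subgroup G) : Set G)) (hZcard : Nat.card Z = 3)
    (hZT : Z ≤ centralizer ((T : Subgroup G) : Set G))
    (hST : (S : Subgroup G) ⊓ centralizer ((T : Subgroup G) : Set G) ≠ S) :
    Nonempty (G ≃* centralizer ({cc} : Set (Perm (Fin 9)))) := by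
  have : Fact (Nat.Prime 3) := ⟨Nat.prime_three⟩
  have cS : Nat.card S = 81 := card_syl S (k := 4) (m := 2) hG (by decide)
  have cT : Nat.card T = 2 := card_syl T (k := 1) (m := 81) hG (by decide)
  have iS : (S : Subgroup G).index = 2 := by have := (S : Subgroup G).card_mul_index; rw [cS, hG] at this; omega
  have := normal_of_index_eq_two iS
  have JS : J ≤ S := CA.Fitting.le_of_isPGroup_of_not_dvd_index (IsPGroup.of_card (p := 3) (n := 3) hJcard)
    (by rw [iS]; decide)
  have iJ : J.relIndex S = 3 := by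
    have a := J.card_mul_index
    have b := relIndex_mul_index JS
    rw [hJcard, hG] at a
    rw [iS] at b
    omega
  have cm : ∀ x ∈ J, ∀ y ∈ J, x * y = y * x := fun x a y b => congrArg Subtype.val (hJcomm.is_comm.comm ⟨x, a⟩ ⟨y, b⟩)
  have gS : ∀ s ∈ S, s ∉ J → J ⊔ zpowers s = S := fun s a b =>
    (CA.PGBasic.eq_or_eq_of_relIndex_prime Nat.prime_three iJ le_sup_left (sup_le JS (zpowers_le.2 a))).resolve_left
      fun e => b (e.le (mem_sup_right (mem_zpowers s)))
  have fx : ∀ s ∈ S, s ∉ J → ∀ x ∈ J, s * x * s⁻¹ = x → x ∈ Z := fun s a b x c d => by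
    rw [hZ]
    refine ⟨JS c, mem_centralizer_iff.2 fun y hy => mem_centralizer_singleton_iff.1 (?_ : y ∈ centralizer {x})⟩
    exact (gS s a b).ge.trans (sup_le (fun y hy => mem_centralizer_singleton_iff.2 (cm y hy x c))
      (zpowers_le.2 (mem_centralizer_singleton_iff.2 (mul_inv_eq_iff_eq_mul.1 d)))) hy
  obtain ⟨⟨t, ht⟩, ot⟩ := exists_prime_orderOf_dvd_card' (G := T) 2 cT.symm.dvd
  rw [← orderOf_coe] at ot
  change orderOf t = 2 at ot
  have gT : zpowers t = T := eq_of_le_of_card_ge (zpowers_le.2 ht) (by rw [Nat.card_zpowers, ot, cT])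
  have t2 : t * t = 1 := by rw [← pow_two, ← ot, pow_orderOf_eq_one]
  have ti : t⁻¹ = t := inv_eq_of_mul_eq_one_left t2
  have zt : ∀ z ∈ Z, t * z * t⁻¹ = z := fun z a => mul_inv_eq_iff_eq_mul.2 (hZT a t ht)
  have iv : ∀ s : G, t * ⁅s, t⁆ * t⁻¹ = ⁅s, t⁆⁻¹ := fun s => by
    rw [commutatorElement_inv, commutatorElement_def, commutatorElement_def, ti, mul_assoc, mul_assoc _ t t, t2]; group
  have one : ∀ x ∈ J, t * x * t⁻¹ = x → t * x * t⁻¹ = x⁻¹ → x = 1 := fun x a b c => by
    have := hJexp x a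
    rwa [pow_three', (eq_inv_iff_mul_eq_one.1 (b.symm.trans c)), one_mul] at this
  let _ : CommGroup J := { (inferInstance : Group J) with mul_comm := hJcomm.is_comm.comm }
  let c : G → Additive J →+ Additive J := fun g => MonoidHom.toAdditive (MulAut.conjNormal g).toMonoidHom
  let ι : Additive J → G := fun x => (x.toMul : J)
  have ιi : Function.Injective ι := Subtype.val_injective
  have ιc : ∀ g x, ι (c g x) = g * ι x * g⁻¹ := fun _ _ => rfl
  have ιJ : ∀ x, ι x ∈ J := fun x => x.toMul.2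
  have h3 : ∀ x : Additive J, x + x + x = 0 := fun x => ιi ((pow_three' _).symm.trans (hJexp _ (ιJ x)))
  have s3 : ∀ s ∈ S, ∀ x, c s (c s (c s x)) = x := fun s a x => ιi (by
    have := cm _ (iJ ▸ J.pow_relIndex_mem a) _ (ιJ x)
    calc _ = s ^ 3 * ι x * (s ^ 3)⁻¹ := by rw [ιc, ιc, ιc, pow_three]; group
      _ = _ := by rw [this]; group)
  have tt : ∀ x, c t (c t x) = x := fun x => ιi (by
    calc _ = t * t * ι x * (t * t)⁻¹ := by rw [ιc, ιc]; group
      _ = _ := by rw [t2]; group)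
  have hτ : ∀ s ∈ S, s ∉ J → ∀ x, c s x = x → c t x = x := fun s a b x d =>
    ιi (zt _ (fx s a b _ (ιJ x) (congrArg ι d)))
  obtain ⟨s0, h1, h2⟩ : ∃ s ∈ S, ⁅s, t⁆ ∉ J := by
    by_contra! k
    obtain ⟨s, a, b⟩ : ∃ s ∈ S, s ∉ J := by
      by_contra! k
      have := card_le_of_le (show (S : Subgroup G) ≤ J from k)
      omega
    have := fix_all (c s) (c t) h3 (s3 s a) tt (hτ s a b) fun x => ιi (by
      have := cm _ (k s a) _ (ιJ (c t (c s x)))
      rw [← mul_inv_eq_iff_eq_mul] at this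
      rw [← this, ιc, ιc, ιc, ιc, commutatorElement_def]; group)
    refine hST (inf_eq_left.2 fun s a => ?_)
    rw [← gT, CA.Fitting.centralizer_zpowers, mem_centralizer_singleton_iff]
    exact (commutatorElement_eq_one_iff_mul_comm.1 (one _ (k s a) (congrArg ι (this (.ofMul ⟨_, k s a⟩))) (iv s)))
  obtain ⟨s, sS, sJ, st⟩ : ∃ s ∈ S, s ∉ J ∧ t * s * t⁻¹ = s⁻¹ := ⟨_, by
    rw [commutatorElement_def, mul_assoc, mul_assoc, ← mul_assoc t]
    exact mul_mem h1 (this.conj_mem _ (inv_mem h1) t), h2, iv s0⟩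
  have s1 : s ^ 3 = 1 := one _ (iJ ▸ J.pow_relIndex_mem sS) (zt _ (fx s sS sJ _ (iJ ▸ J.pow_relIndex_mem sS)
    (by group))) (by rw [← conj_pow, st, inv_pow])
  have si : s⁻¹ = s * s := inv_eq_of_mul_eq_one_left (by rw [← s1, pow_three'])
  have ts : ∀ x, c t (c s x) = c s (c s (c t x)) := fun x => ιi (by
    calc _ = (t * s * t⁻¹) * (t * ι x * t⁻¹) * (t * s * t⁻¹)⁻¹ := by rw [ιc, ιc]; group
      _ = s * s * (t * ι x * t⁻¹) * (s * s)⁻¹ := by rw [st, ← si]
      _ = _ := by rw [ιc, ιc, ιc]; group)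
  obtain ⟨v, hv⟩ := ex_v (c s) h3 hJcard (hZcard ▸ Nat.card_le_card_of_injective
    (fun x => (⟨ι x.1, fx s sS sJ _ (ιJ _) (congrArg ι (sub_eq_zero.1 x.2))⟩ : Z))
    fun x y e => Subtype.ext (ιi (Subtype.ext_iff.1 e :)))
  obtain ⟨a, a1, a2⟩ := ex_a (c s) (c t) h3 (s3 s sS) tt (hτ s sS sJ) ts hv
  have gZ : zpowers (ι (a + c s a + c s (c s a))) = Z := eq_of_le_of_card_ge (zpowers_le.2 (fx s sS sJ _ (ιJ _)
    (congrArg ι (show c s _ = _ by rw [map_add, map_add, s3 s sS]; abel)))) (by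
      rw [Nat.card_zpowers, orderOf_eq_prime (hJexp _ (ιJ _)) fun e => a2 (ιi e), hZcard])
  let g : ℕ → G := fun i => [ι a, ι (c s a), ι (c s (c s a)), s, t].getD i 1
  refine iso hG g ?_ ?_
  · have e : ∀ u x y, c u x = y → u * ι x = ι y * u := fun u x y h => by rw [← h, ιc]; group
    intro r hr
    simp only [RR, List.mem_cons, List.not_mem_nil, or_false] at hr
    rcases hr with rfl | rfl | rfl | rfl | rfl | rfl | rfl | rfl | rfl | rfl | rfl | rfl | rfl | rfl | rfl <;>
      simp only [ev_cons, ev_nil, mul_one]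
    · exact (pow_three _).symm.trans (hJexp _ (ιJ _))
    · exact (pow_three _).symm.trans (hJexp _ (ιJ _))
    · exact (pow_three _).symm.trans (hJexp _ (ιJ _))
    · exact (pow_three _).symm.trans s1
    · exact t2
    · exact cm _ (ιJ _) _ (ιJ _)
    · exact cm _ (ιJ _) _ (ιJ _)
    · exact cm _ (ιJ _) _ (ιJ _)
    · exact e s _ _ rfl
    · exact e s _ _ rfl
    · exact e s _ _ (s3 s sS a)
    · exact e t _ _ a1
    · exact e t _ _ (by rw [ts, a1])
    · exact e t _ _ (by rw [ts, ts, a1, s3 s sS])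
    · change t * s = s * (s * t)
      rw [← mul_assoc, ← si, ← st]; group
  have m : ∀ i < 5, g i ∈ closure (g '' {i | i < 5}) := fun i a => subset_closure ⟨i, a, rfl⟩
  have JK : J ≤ closure (g '' {i | i < 5}) := fun x hx => gen (c s) h3 (s3 s sS) (a := a) (fun x e => by
      obtain ⟨i, hi⟩ := gZ.ge (fx s sS sJ _ (ιJ x) (congrArg ι e))
      exact ⟨i, ιi hi.symm⟩) (K := Subgroup.toAddSubgroup ((closure (g '' {i | i < 5})).comap J.subtype))
    (m 0 (by decide)) (m 1 (by decide)) (m 2 (by decide)) (.ofMul ⟨x, hx⟩)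
  have SK : (S : Subgroup G) ≤ closure (g '' {i | i < 5}) :=
    (gS s sS sJ).ge.trans (sup_le JK (zpowers_le.2 (m 3 (by decide))))
  refine (CA.PGBasic.eq_or_eq_of_relIndex_prime Nat.prime_two ((relIndex_top_right _).trans iS) SK le_top).resolve_left
    fun e => ?_
  have := orderOf_dvd_natCard (⟨t, e.le (m 4 (by decide))⟩ : (S : Subgroup G))
  rw [← orderOf_coe, cS] at this
  change orderOf t ∣ _ at this
  rw [ot] at this
  omega

end CA.H8Wr
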