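import Cfsg.Agent.Lib.Fi.Look

/-! Lifting of paths from an orbital graph to the cosets of a subgroup that looks locally like the
point stabiliser; the end of a lift does not change under moves across triangles. -/

set_option autoImplicit false
set_option linter.unusedVariables false

namespace CA.Homot
open CA.CNet CA.CWord CA.CLevel CA.H27Pres CA.Fi

variable {P Ω : Type*} [Group P] [MulAction P Ω]

/-- the ball of radius one -/
def S (H : Subgroup P) (t x : P) : Prop := x ∈ H ∨ ∃ a ∈ H, ∃ b ∈ H, x = a * t * b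

/-- the closed neighbourhood of the base point -/
def N (H : Subgroup P) (t : P) (ω q : Ω) : Prop := ∃ s, S H t s ∧ s • ω = q

structure Loc (H : Subgroup P) (t : P) (ω : Ω) : Prop where
  fix : ∀ h ∈ H, h • ω = ω
  tt : t * t = 1
  ne : t • ω ≠ ω
  stab : ∀ h ∈ H, h • t • ω = t • ω → t * h * t ∈ H
  tri : ∀ h ∈ H, N H t ω (t • h • t • ω) → S H t (t * h * t)
  big : ∀ x : P, x • ω = ω → ∃ h ∈ H, ∀ q : Ω, x • q = h • q

variable {H : Subgroup P} {t : P} {ω : Ω}

theorem S.left {h x : P} (hh : h ∈ H) (hx : S H t x) : S H t (h * x) := by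
  rcases hx with hx | ⟨a, ha, b, hb, rfl⟩
  · exact Or.inl (H.mul_mem hh hx)
  · exact Or.inr ⟨h * a, H.mul_mem hh ha, b, hb, by group⟩

theorem S.right {h x : P} (hx : S H t x) (hh : h ∈ H) : S H t (x * h) := by
  rcases hx with hx | ⟨a, ha, b, hb, rfl⟩
  · exact Or.inl (H.mul_mem hx hh)
  · exact Or.inr ⟨a, ha, b * h, H.mul_mem hb hh, by group⟩

theorem N.left {h : P} {q : Ω} (hh : h ∈ H) (hq : N H t ω q) : N H t ω (h • q) := by
  obtain ⟨s, hs, rfl⟩ := hq
  exact ⟨h * s, hs.left hh, mul_smul _ _ _⟩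

def Adj (H : Subgroup P) (t : P) (ω p q : Ω) : Prop := ∃ u : P, u • ω = p ∧ N H t ω (u⁻¹ • q)

def Lift (H : Subgroup P) (t : P) (ω : Ω) : P → List Ω → P → Prop
  | x, [], y => x⁻¹ * y ∈ H
  | x, q :: ps, y => ∃ z, S H t (x⁻¹ * z) ∧ z • ω = q ∧ Lift H t ω z ps y

def Imp (H : Subgroup P) (t : P) (ω p : Ω) (ps qs : List Ω) : Prop :=
  ∀ x y : P, x • ω = p → Lift H t ω x ps y → Lift H t ω x qs y

theorem Imp.cons {p q : Ω} {ps qs : List Ω} (h : Imp H t ω q ps qs) : Imp H t ω p (q :: ps) (q :: qs) :=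
  fun _ y _ ⟨z, h1, h2, h3⟩ => ⟨z, h1, h2, h z y h2 h3⟩

theorem Imp.trans {p : Ω} {ps qs rs : List Ω} (h : Imp H t ω p ps qs) (h' : Imp H t ω p qs rs) :
    Imp H t ω p ps rs := fun x y e l => h' x y e (h x y e l)

namespace Loc
variable (L : Loc H t ω)
include L

theorem tinv : t⁻¹ = t := inv_eq_of_mul_eq_one_right L.tt

theorem inv {x : P} (hx : S H t x) : S H t x⁻¹ := by
  rcases hx with hx | ⟨a, ha, b, hb, rfl⟩
  · exact Or.inl (H.inv_mem hx)
  · exact Or.inr ⟨b⁻¹, H.inv_mem hb, a⁻¹, H.inv_mem ha, by rw [mul_inv_rev, mul_inv_rev, L.tinv, mul_assoc]⟩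

theorem uniq {x y : P} (hx : S H t x) (hy : S H t y) (e : x • ω = y • ω) : x⁻¹ * y ∈ H := by
  have k : ∀ z ∈ H, ∀ a ∈ H, ∀ b ∈ H, z • ω ≠ (a * t * b) • ω := fun z hz a ha b hb e => by
    rw [L.fix z hz, mul_smul, L.fix b hb, mul_smul, ← inv_smul_eq_iff, L.fix _ (H.inv_mem ha)] at e
    exact L.ne e.symm
  rcases hx with hx | ⟨a, ha, b, hb, rfl⟩ <;> rcases hy with hy | ⟨c, hc, d, hd, rfl⟩
  · exact H.mul_mem (H.inv_mem hx) hy
  · exact absurd e (k _ hx c hc d hd)
  · exact absurd e.symm (k _ hy a ha b hb)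
  · rw [mul_smul, L.fix b hb, mul_smul, mul_smul, L.fix d hd, mul_smul] at e
    have := L.stab (a⁻¹ * c) (H.mul_mem (H.inv_mem ha) hc) (by rw [mul_smul, ← e, inv_smul_smul])
    have e2 : (a * t * b)⁻¹ * (c * t * d) = b⁻¹ * (t⁻¹ * (a⁻¹ * c) * t) * d := by group
    rw [e2, L.tinv]
    exact H.mul_mem (H.mul_mem (H.inv_mem hb) this) hd

theorem mul {x y : P} (hx : S H t x) (hy : S H t y) (e : N H t ω ((x * y) • ω)) : S H t (x * y) := by
  rcases hx with hx | ⟨a, ha, b, hb, rfl⟩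
  · exact hy.left hx
  rcases hy with hy | ⟨c, hc, d, hd, rfl⟩
  · exact S.right (Or.inr ⟨a, ha, b, hb, rfl⟩) hy
  have e2 : a * t * b * (c * t * d) = a * (t * (b * c) * t * d) := by group
  rw [e2] at e ⊢
  have := e.left (H.inv_mem ha)
  rw [mul_smul a, inv_smul_smul, mul_smul, L.fix d hd, mul_smul, mul_smul] at this
  exact ((L.tri _ (H.mul_mem hb hc) this).right hd).left ha

theorem adj {p q : Ω} (h : Adj H t ω p q) {x : P} (e : x • ω = p) : N H t ω (x⁻¹ • q) := by
  obtain ⟨u, hu, hn⟩ := h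
  obtain ⟨k, hk, e2⟩ := L.big (x⁻¹ * u) (by rw [mul_smul, hu, ← e, inv_smul_smul])
  have := hn.left hk
  rwa [← e2, mul_smul, smul_inv_smul] at this

theorem symm {p q : Ω} (h : Adj H t ω p q) : Adj H t ω q p := by
  obtain ⟨u, rfl, s, hs, e⟩ := h
  refine ⟨u * s, by rw [mul_smul, e, smul_inv_smul], s⁻¹, L.inv hs, ?_⟩
  rw [mul_inv_rev, mul_smul, inv_smul_smul]

theorem step {x y z : P} (h1 : S H t (x⁻¹ * y)) (h2 : S H t (y⁻¹ * z)) (h : Adj H t ω (x • ω) (z • ω)) :
    S H t (x⁻¹ * z) := by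
  have e : x⁻¹ * z = x⁻¹ * y * (y⁻¹ * z) := by group
  rw [e]
  refine L.mul h1 h2 ?_
  rw [← e, mul_smul]
  exact L.adj h rfl

theorem del {p q r : Ω} {ps : List Ω} (h : Adj H t ω p r) : Imp H t ω p (q :: r :: ps) (r :: ps) := by
  rintro x y rfl ⟨z, h1, -, w, h2, rfl, h3⟩
  exact ⟨w, L.step h1 h2 h, rfl, h3⟩

theorem ins {p q r : Ω} {ps : List Ω} (h : Adj H t ω q p) (h' : Adj H t ω q r) :
    Imp H t ω p (r :: ps) (q :: r :: ps) := by
  rintro x y rfl ⟨z, h1, rfl, h2⟩
  obtain ⟨s, hs, e⟩ := L.adj (L.symm h) rfl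
  have e2 : (x * s) • ω = q := by rw [mul_smul, e, smul_inv_smul]
  refine ⟨x * s, by simpa using hs, e2, z, L.step (y := x) ?_ h1 (e2 ▸ h'), rfl, h2⟩
  simpa using L.inv hs

theorem dels {c r : Ω} {ps : List Ω} (qs : List Ω) (h : ∀ q ∈ qs, Adj H t ω c q) (hr : Adj H t ω c r) :
    Imp H t ω c (qs ++ r :: ps) (r :: ps) := by
  induction qs with
  | nil => exact fun _ _ _ h => h
  | cons q qs ih =>
    refine Imp.trans ?_ (ih fun a ha => h a (List.mem_cons_of_mem _ ha))
    cases qs with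
    | nil => exact L.del hr
    | cons a qs => exact L.del (h a (by simp))

theorem cone {c p r : Ω} {ps : List Ω} (qs : List Ω) (hp : Adj H t ω c p) (h : ∀ q ∈ qs, Adj H t ω c q)
    (hr : Adj H t ω c r) : Imp H t ω p (qs ++ r :: ps) (c :: r :: ps) := by
  refine Imp.trans ?_ (L.dels qs h hr).cons
  cases qs with
  | nil => exact L.ins hp hr
  | cons a qs => exact L.ins hp (h a (by simp))

theorem lift_uniq (ps : List Ω) {x x' y y' : P} (e : x⁻¹ * x' ∈ H) (h : Lift H t ω x ps y)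
    (h' : Lift H t ω x' ps y') : y⁻¹ * y' ∈ H := by
  induction ps generalizing x x' with
  | nil =>
    have : y⁻¹ * y' = (x⁻¹ * y)⁻¹ * (x⁻¹ * x') * (x'⁻¹ * y') := by group
    rw [this]
    exact H.mul_mem (H.mul_mem (H.inv_mem h) e) h'
  | cons q ps ih =>
    obtain ⟨z, h1, h2, h3⟩ := h
    obtain ⟨z', h1', h2', h3'⟩ := h'
    refine ih ?_ h3 h3'
    have := L.uniq h1 (h1'.left e) (by simp only [mul_smul, h2, h2', smul_inv_smul])
    have e2 : (x⁻¹ * z)⁻¹ * (x⁻¹ * x' * (x'⁻¹ * z')) = z⁻¹ * z' := by group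
    rwa [e2] at this

end Loc

/-! ### the check -/

/-- a move: position, number of points removed, centre of the cone and a word for it -/
structure Mv where
  i : ℕ
  k : ℕ
  c : ℕ
  w : Word

noncomputable def isCons (l : List ℕ) : Bool := List.rec (motive := fun _ => Bool) false (fun _ _ _ => true) l

noncomputable def ok (f : ℕ → ℕ → ℕ) (n b : ℕ) (m : Mv) (p : ℕ) (ps : List ℕ) : Bool :=
  band (band (Nat.blt m.c n) (Nat.beq (ip f m.w m.c) 0)) (band (isCons (ldrop ps m.k))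
    (lall (p :: nth (ldrop ps m.k) 0 0 :: ltake ps m.k) fun q => Nat.ble (ip f m.w q) b))

/-- the path after the move, `[]` if the check fails -/
noncomputable def mv (f : ℕ → ℕ → ℕ) (n b : ℕ) (m : Mv) (i : ℕ) : ℕ → List ℕ → Option (List ℕ) :=
  Nat.rec (motive := fun _ => ℕ → List ℕ → Option (List ℕ))
    (fun p ps => Bool.rec none (some (Bool.rec (m.c :: ldrop ps m.k) (ldrop ps m.k) (Nat.beq m.c p))) (ok f n b m p ps))
    (fun _ ih _ ps => List.rec (motive := fun _ => Option (List ℕ)) none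
      (fun q qs _ => Option.rec (motive := fun _ => Option (List ℕ)) none (fun r => some (q :: r)) (ih q qs)) ps) i

noncomputable def run (f : ℕ → ℕ → ℕ) (n b : ℕ) (qs : List ℕ) (ms : List Mv) : List ℕ → Bool :=
  List.rec (motive := fun _ => List ℕ → Bool) (fun ps => decide (ps = qs))
    (fun m _ ih ps => Option.rec (motive := fun _ => Bool) false ih (mv f n b m m.i 0 ps)) ms

/-- points of the prefixes of a product of blocks `a t b` -/
noncomputable def pts (f : ℕ → ℕ → ℕ) (tw : Word) (bs : List (Word × Word)) : Word → List ℕ :=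
  List.rec (motive := fun _ => Word → List ℕ) (fun _ => [])
    (fun x _ ih u => im f (lapp u (lapp x.1 tw)) 0 :: ih (lapp u (lapp x.1 (lapp tw x.2)))) bs

noncomputable def flat (tw : Word) (bs : List (Word × Word)) : Word :=
  List.rec (motive := fun _ => Word) [] (fun x _ ih => lapp (lapp x.1 (lapp tw x.2)) ih) bs

section
variable {n : ℕ} [MulAction P (Fin n)] {o : Fin n} (L : Loc H t o) (ho : (o : ℕ) = 0)
  {γ : ℕ → Equiv.Perm (Fin n)} {f : ℕ → ℕ → ℕ} (hf : GoodG γ f) {g : ℕ → P}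
  (hg : ∀ w i, ev g w • i = ev γ w i) {b : ℕ} (hb : ∀ q : Fin n, (q : ℕ) ≤ b → N H t o q)
include L ho hf hg hb

theorem mv_spec (m : Mv) (i : ℕ) (p : Fin n) (ps : List (Fin n)) {r : List ℕ}
    (h : mv f n b m i p (ps.map Fin.val) = some r) : ∃ rs : List (Fin n), r = rs.map Fin.val ∧ Imp H t o p ps rs := by
  induction i generalizing p ps r with
  | succ i ih =>
    cases ps with
    | nil => exact absurd h (by simp [mv])
    | cons q qs =>
      have e : mv f n b m (i + 1) p ((q :: qs).map Fin.val) = Option.rec (motive := fun _ => Option (List ℕ)) none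
        (fun r => some ((q : ℕ) :: r)) (mv f n b m i q (qs.map Fin.val)) := rfl
      rw [e] at h
      cases e2 : mv f n b m i q (qs.map Fin.val) with
      | none => rw [e2] at h; exact absurd h (by simp)
      | some r' =>
        rw [e2] at h
        obtain ⟨rs, rfl, h2⟩ := ih q qs e2
        exact ⟨q :: rs, (Option.some.inj h).symm, h2.cons⟩
  | zero =>
    have e : mv f n b m 0 p (ps.map Fin.val) = Bool.rec none (some (Bool.rec (m.c :: ldrop (ps.map Fin.val) m.k)
      (ldrop (ps.map Fin.val) m.k) (Nat.beq m.c p))) (ok f n b m p (ps.map Fin.val)) := rfl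
    rw [e] at h
    cases e2 : ok f n b m p (ps.map Fin.val) with
    | false => rw [e2] at h; exact absurd h (by simp)
    | true =>
      rw [e2] at h
      have h0 := (Option.some.inj h).symm
      obtain ⟨h1, h2⟩ := band_iff.1 e2
      obtain ⟨h3, h4⟩ := band_iff.1 h1
      obtain ⟨h5, h6⟩ := band_iff.1 h2
      let c : Fin n := ⟨m.c, by simpa [Nat.blt_eq] using h3⟩
      have hc : ev g m.w • o = c := by
        have := Nat.eq_of_beq_eq_true h4
        rw [show m.c = (c : ℕ) from rfl, hf.ip_eq, ← ho] at this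
        rw [hg, ← Fin.ext this]; simp
      have ad : ∀ q : Fin n, Nat.ble (ip f m.w q) b = true → Adj H t o c q := fun q hq =>
        ⟨_, hc, by
          rw [← ev_winv, hg, ev_winv]
          exact hb _ (hf.ip_eq _ _ ▸ Nat.le_of_ble_eq_true hq)⟩
      obtain ⟨as, bs, rfl, e3, e4⟩ := List.map_eq_append_iff.1 (ltake_append_ldrop (ps.map Fin.val) m.k).symm
      rw [← e3, ← e4] at h6
      rw [← e4] at h5 h0
      cases bs with
      | nil => exact absurd h5 (by simp [isCons])
      | cons r bs =>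
        have h7 := lall_iff.1 h6
        have a1 := ad p (h7 _ (by simp))
        have a2 := ad r (h7 _ (by simp [nth_zero]))
        have a3 : ∀ q ∈ as, Adj H t o c q := fun q hq => ad q (h7 _ (by simp [List.mem_map_of_mem hq]))
        cases e5 : Nat.beq m.c p with
        | false => rw [e5] at h0; exact ⟨c :: r :: bs, h0, L.cone as a1 a3 a2⟩
        | true =>
          rw [e5] at h0
          have : c = p := Fin.ext (Nat.eq_of_beq_eq_true e5)
          exact ⟨r :: bs, h0, this ▸ L.dels as a3 a2⟩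

theorem run_spec (ms : List Mv) (ps qs : List (Fin n)) (h : run f n b (qs.map Fin.val) ms (ps.map Fin.val) = true) :
    Imp H t o o ps qs := by
  induction ms generalizing ps with
  | nil =>
    have : ps.map Fin.val = qs.map Fin.val := of_decide_eq_true h
    rw [List.map_injective_iff.2 Fin.val_injective this]
    exact fun _ _ _ h => h
  | cons m ms ih =>
    have e : run f n b (qs.map Fin.val) (m :: ms) (ps.map Fin.val) = Option.rec (motive := fun _ => Bool) false
      (run f n b (qs.map Fin.val) ms) (mv f n b m m.i 0 (ps.map Fin.val)) := rfl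
    rw [e] at h
    cases e2 : mv f n b m m.i 0 (ps.map Fin.val) with
    | none => rw [e2] at h; exact absurd h (by simp)
    | some r =>
      rw [e2] at h
      obtain ⟨rs, rfl, h2⟩ := mv_spec L ho hf hg hb m m.i o ps (ho ▸ e2)
      exact h2.trans (ih rs h)

omit hb in
theorem lift_pts {tw : Word} (ht : ev g tw = t) (bs : List (Word × Word))
    (h : ∀ x ∈ bs, ev g x.1 ∈ H ∧ ev g x.2 ∈ H) (u : Word) :
    ∃ ps : List (Fin n), pts f tw bs u = ps.map Fin.val ∧ Lift H t o (ev g u) ps (ev g u * ev g (flat tw bs)) := by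
  induction bs generalizing u with
  | nil => exact ⟨[], rfl, by simp [Lift, flat]⟩
  | cons x bs ih =>
    obtain ⟨h1, h2⟩ := h x (by simp)
    obtain ⟨ps, e, l⟩ := ih (fun y hy => h y (List.mem_cons_of_mem _ hy)) (lapp u (lapp x.1 (lapp tw x.2)))
    refine ⟨ev g (lapp u (lapp x.1 tw)) • o :: ps, ?_, ev g (lapp u (lapp x.1 (lapp tw x.2))),
      Or.inr ⟨_, h1, _, h2, ?_⟩, ?_, ?_⟩
    · rw [List.map_cons, ← e, hg, ← hf.im_eq, ho]; rfl
    rotate_right
    · have e2 : flat tw (x :: bs) = lapp (lapp x.1 (lapp tw x.2)) (flat tw bs) := rfl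
      rw [e2, ev_lapp _ _ (flat tw bs), ← mul_assoc, ← ev_lapp]; exact l
    · simp only [ev_lapp, ht]; group
    · simp only [ev_lapp, mul_smul, L.fix _ h2]

/-- the certificate -/
theorem mem_of_run {tw : Word} (ht : ev g tw = t) {as bs : List (Word × Word)}
    (ha : ∀ x ∈ as, ev g x.1 ∈ H ∧ ev g x.2 ∈ H) (hb' : ∀ x ∈ bs, ev g x.1 ∈ H ∧ ev g x.2 ∈ H)
    {ms : List Mv} {ps qs : List ℕ} (hp : pts f tw as [] = ps) (hq : pts f tw bs [] = qs)
    (h : run f n b qs ms ps = true) (h1 : ev g (flat tw as) ∈ H) : ev g (flat tw bs) ∈ H := by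
  obtain ⟨p, e1, l1⟩ := lift_pts L ho hf hg ht as ha []
  obtain ⟨q, e2, l2⟩ := lift_pts L ho hf hg ht bs hb' []
  rw [← hp, ← hq, e1, e2] at h
  have := L.lift_uniq q (by simp) (run_spec L ho hf hg hb ms p q h _ _ (by simp) l1) l2
  simpa using H.mul_mem h1 this

end

end CA.Homot
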