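import Cfsg.Agent.Lib.Grp.Iso2
import Cfsg.Agent.S0215

/-! An isolated involution lies in `Z*(G)` (Glauberman's theorem, restated). -/

set_option autoImplicit false

namespace CA.Iso3

open Subgroup Cfsg CA.H13Inv CA.H13ZRed CA.Iso2

variable {G : Type*} [Group G] [Finite G]

theorem inZStar_of_oddIso {z : G} (hz : z * z = 1) (h : OddIso z) : InZStar 2 z := by
  by_cases h1 : z = 1
  · exact inZStar_of_central fun g => by simp [h1]
  obtain ⟨S, hzS, hS⟩ := exists_sylow_le_centralizer h hz
  exact inZStar_iff.2 (Cfsg.Agent.S0215.result S z (orderOf_eq_two_iff.2 ⟨hz, h1⟩) hzS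
    fun g hg => h.isolated hz g (mem_centralizer_singleton_iff.1 (hS hg)).symm)

theorem inZStar {z : G} (hz : IsIsolatedInvolution z) : InZStar 2 z :=
  inZStar_of_oddIso (mul_self hz.1) (oddIso hz)

end CA.Iso3
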