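import Mathlib

/-! The theorems of Kreknin and Kostrikin for `ZMod p`-graded rings with a Lie bracket. -/

set_option autoImplicit false

namespace CA.KK
open scoped Pointwise

variable {M : Type*} [AddCommGroup M] {p : ℕ} (b : M →+ M →+ M)

structure IsLie : Prop where
  anti : ∀ x y, b x y = - b y x
  jac : ∀ x y z, b x (b y z) = b (b x y) z - b (b x z) y

/-- upper central series above `I`, relative to the homogeneous elements of `V` -/
def Zs (V : ZMod p → AddSubgroup M) (I : AddSubgroup M) : ℕ → AddSubgroup M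
  | 0 => I
  | n + 1 => ⨅ j, ⨅ w ∈ V j, (Zs V I n).comap (b.flip w)

def sq (V : ZMod p → AddSubgroup M) : ZMod p → AddSubgroup M := fun k =>
  AddSubgroup.closure {z | ∃ i j, ∃ x ∈ V i, ∃ y ∈ V j, i + j = k ∧ b x y = z}

structure Gr (V : ZMod p → AddSubgroup M) (I : AddSubgroup M) : Prop where
  lie : IsLie b
  mul : ∀ {i j x y}, x ∈ V i → y ∈ V j → b x y ∈ V (i + j)
  zero : V 0 ≤ I
  idl : ∀ {x} (y), x ∈ I → b x y ∈ I

inductive Gen (V : ZMod p → AddSubgroup M) (I : AddSubgroup M) (k : ℕ) : ZMod p → M → Prop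
  | base (j x) : k ≤ j.val → x ∈ V j → Gen V I k j x
  | idl (j x) : x ∈ V j → x ∈ I → Gen V I k j x
  | sub (j x y) : Gen V I k j x → Gen V I k j y → Gen V I k j (x - y)
  | lie (i j l x y) : i + j = l → Gen V I k i x → Gen V I k j y → Gen V I k l (b x y)

def itH : List (ZMod p × M) → M →+ M
  | [] => AddMonoidHom.id M
  | e :: l => (itH l).comp (b.flip e.2)

def ss : List (ZMod p × M) → Finset (ZMod p)
  | [] => {0}
  | e :: l => ss l + {0, e.1}

def Hom (V : ZMod p → AddSubgroup M) (l : List (ZMod p × M)) : Prop := ∀ e ∈ l, e.2 ∈ V e.1 ∧ e.1 ≠ 0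

def dd : ℕ → ℕ
  | 0 => 0
  | k + 1 => dd k + (dd k + 1)

theorem dd_eq : ∀ k, dd k = 2 ^ k - 1
  | 0 => rfl
  | k + 1 => by have := Nat.one_le_two_pow (n := k); rw [dd, dd_eq k, pow_succ]; omega

variable {b} {V : ZMod p → AddSubgroup M} {I : AddSubgroup M}

theorem mem_Zs {n : ℕ} {v : M} : v ∈ Zs b V I (n + 1) ↔ ∀ j, ∀ w ∈ V j, b v w ∈ Zs b V I n := by
  simp [Zs, AddSubgroup.mem_iInf]

theorem mem_sq {i j k : ZMod p} {x y : M} (hx : x ∈ V i) (hy : y ∈ V j) (e : i + j = k) : b x y ∈ sq b V k :=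
  AddSubgroup.subset_closure ⟨i, j, x, hx, y, hy, e, rfl⟩

namespace Gr
variable (h : Gr b V I)
include h

theorem idl' (x : M) {y : M} (hy : y ∈ I) : b x y ∈ I := h.lie.anti x y ▸ neg_mem (h.idl x hy)

theorem sq_le (k : ZMod p) : sq b V k ≤ V k :=
  (AddSubgroup.closure_le _).2 fun _ ⟨_, _, _, hx, _, hy, e1, e2⟩ => e1 ▸ e2 ▸ h.mul hx hy

theorem sq : Gr b (sq b V) I :=
  ⟨h.lie, fun hx hy => mem_sq (h.sq_le _ hx) (h.sq_le _ hy) rfl, (h.sq_le 0).trans h.zero, h.idl⟩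

theorem iter : ∀ n, Gr b ((KK.sq b)^[n] V) I ∧ ∀ k, (KK.sq b)^[n] V k ≤ V k
  | 0 => ⟨h, fun _ => le_rfl⟩
  | n + 1 => by
    rw [Function.iterate_succ_apply']
    exact ⟨(iter n).1.sq, fun k => ((iter n).1.sq_le k).trans ((iter n).2 k)⟩

theorem gen_mem {k : ℕ} {j : ZMod p} {x : M} (hx : Gen b V I k j x) : x ∈ V j := by
  induction hx with
  | base _ _ _ h1 => exact h1
  | idl _ _ h1 => exact h1
  | sub _ _ _ _ _ h1 h2 => exact sub_mem h1 h2
  | lie _ _ _ _ _ e _ _ h1 h2 => exact e ▸ h.mul h1 h2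

theorem gen_lie [NeZero p] {k : ℕ} {l v : ZMod p} (hl : l.val = k) {y : M} (hy : Gen b V I k v y) :
    ∀ u, ∀ x ∈ V u, u + v = l → Gen b V I (k + 1) l (b x y) := by
  induction hy with
  | base j y h1 h2 =>
    intro u x hx e
    rcases h1.eq_or_lt with h3 | h3
    · obtain rfl : j = l := ZMod.val_injective p (h3.symm.trans hl.symm)
      obtain rfl : u = 0 := by simpa using e
      exact .idl _ _ (e ▸ h.mul hx h2) (h.idl _ (h.zero hx))
    · refine .lie _ _ _ _ _ e (.base _ _ ?_ hx) (.base _ _ h3 h2)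
      have h4 := ZMod.val_add u j
      have h5 := ZMod.val_lt u
      have h6 := ZMod.val_lt j
      rw [e, hl] at h4
      by_cases h7 : u.val + j.val < p
      · rw [Nat.mod_eq_of_lt h7] at h4; omega
      · rw [Nat.mod_eq_sub_mod (by omega), Nat.mod_eq_of_lt (by omega)] at h4; omega
  | idl j y h1 h2 => exact fun u x hx e => .idl _ _ (e ▸ h.mul hx h1) (h.idl' _ h2)
  | sub j y z _ _ h1 h2 => exact fun u x hx e => map_sub (b x) y z ▸ .sub _ _ _ (h1 u x hx e) (h2 u x hx e)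
  | lie i j _ y z e' hy hz h1 h2 =>
    intro u x hx e
    rw [h.lie.jac]
    exact .sub _ _ _ (h2 _ _ (h.mul hx (h.gen_mem hy)) (by rw [← e, ← e', add_assoc]))
      (h1 _ _ (h.mul hx (h.gen_mem hz)) (by rw [← e, ← e']; ring))

omit h in
theorem kre [NeZero p] (k : ℕ) : ∀ {V : ZMod p → AddSubgroup M}, Gr b V I →
    ∀ j, ∀ x ∈ (KK.sq b)^[dd k] V j, Gen b V I (k + 1) j x := by
  induction k with
  | zero =>
    intro V h j x hx
    by_cases e : j = 0
    · exact .idl _ _ hx (h.zero (e ▸ hx))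
    · exact .base _ _ (Nat.pos_of_ne_zero ((ZMod.val_eq_zero j).not.2 e)) hx
  | succ k ih =>
    intro V h j x hx
    rw [dd, Function.iterate_add_apply] at hx
    obtain ⟨h1, h2⟩ := h.iter (dd k + 1)
    have h3 := ih h1 j x hx
    clear hx
    induction h3 with
    | base j x h4 h5 =>
      rcases h4.eq_or_lt with h6 | h6
      · rw [Function.iterate_succ_apply'] at h5
        have z : Gen b V I (k + 1 + 1) j 0 := .idl _ _ (zero_mem _) (zero_mem _)
        induction h5 using AddSubgroup.closure_induction with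
        | mem _ h7 =>
          obtain ⟨u, v, x, hx, y, hy, e, rfl⟩ := h7
          exact h.gen_lie h6.symm (ih h v y hy) u x ((h.iter _).2 u hx) e
        | zero => exact z
        | add x y _ _ h7 h8 => simpa using Gen.sub _ _ _ h7 (.sub _ _ _ z h8)
        | neg x _ h7 => simpa using Gen.sub _ _ _ z h7
      · exact .base _ _ h6 (h2 j h5)
    | idl j x h4 h5 => exact .idl _ _ (h2 j h4) h5
    | sub j x y _ _ h4 h5 => exact .sub _ _ _ h4 h5
    | lie i j l x y e _ _ h4 h5 => exact .lie _ _ _ _ _ e h4 h5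

/-- Kreknin's theorem -/
theorem kreknin [NeZero p] (j : ZMod p) : (KK.sq b)^[2 ^ (p - 1) - 1] V j ≤ I := fun x hx => by
  have h1 := kre (p - 1) h j x (dd_eq _ ▸ hx)
  clear hx
  induction h1 with
  | base j x h2 => have := ZMod.val_lt j; omega
  | idl _ _ _ h2 => exact h2
  | sub _ _ _ _ _ h2 h3 => exact sub_mem h2 h3
  | lie _ _ _ _ _ _ _ _ h2 => exact h.idl _ h2

theorem le_Zs (W : ZMod p → AddSubgroup M) : ∀ n, I ≤ Zs b W I n
  | 0 => le_rfl
  | n + 1 => fun _ hx => mem_Zs.2 fun _ w _ => le_Zs W n (h.idl w hx)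

theorem Z_lie {j : ZMod p} {y : M} (hy : y ∈ V j) : ∀ {n v}, v ∈ Zs b (KK.sq b V) I n → b v y ∈ Zs b (KK.sq b V) I n
  | 0, _, hv => h.idl y hv
  | n + 1, v, hv => mem_Zs.2 fun i w hw => by
    rw [← sub_add_cancel (b (b v y) w) (b (b v w) y), ← h.lie.jac]
    exact add_mem (mem_Zs.1 hv _ _ (mem_sq hy (h.sq_le i hw) rfl)) (Z_lie hy (mem_Zs.1 hv i w hw))

theorem Z_it {n : ℕ} : ∀ {l v}, Hom V l → v ∈ Zs b (KK.sq b V) I n → itH b l v ∈ Zs b (KK.sq b V) I n
  | [], _, _, hv => hv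
  | e :: l, _, hl, hv => Z_it (l := l) (fun f hf => hl f (.tail _ hf)) (h.Z_lie (hl e (.head _)).1 hv)

theorem V_it : ∀ {l a v}, Hom V l → v ∈ V a → ∃ c, itH b l v ∈ V c
  | [], a, _, _, hv => ⟨a, hv⟩
  | e :: l, _, _, hl, hv => V_it (l := l) (fun f hf => hl f (.tail _ hf)) (h.mul hv (hl e (.head _)).1)

theorem swap {n : ℕ} {j : ZMod p} {y : M} (hy : y ∈ V j) : ∀ {l v}, Hom V l → v ∈ Zs b (KK.sq b V) I (n + 1) →
    itH b l (b v y) - b (itH b l v) y ∈ Zs b (KK.sq b V) I n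
  | [], _, _, _ => by simp [itH]
  | e :: l, v, hl, hv => by
    have h1 : Hom V l := fun f hf => hl f (.tail _ hf)
    have h2 := (hl e (.head _)).1
    change itH b l (b (b v y) e.2) - b (itH b l (b v e.2)) y ∈ _
    rw [← sub_add_cancel (b (b v y) e.2) (b (b v e.2) y), ← h.lie.jac, map_add, add_sub_assoc]
    exact add_mem (h.Z_it h1 (mem_Zs.1 hv _ _ (mem_sq hy h2 rfl))) (swap hy h1 (h.Z_lie h2 hv))

theorem drop {n : ℕ} : ∀ {l a v}, Hom V l → v ∈ V a → v ∈ Zs b (KK.sq b V) I (n + 1) → -a ∈ ss l →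
    itH b l v ∈ Zs b (KK.sq b V) I n
  | [], a, v, _, h1, _, h3 => by
    obtain rfl : a = 0 := by simpa [ss] using h3
    exact h.le_Zs _ n (h.zero h1)
  | e :: l, a, v, hl, h1, h2, h3 => by
    have h4 : Hom V l := fun f hf => hl f (.tail _ hf)
    have h5 := (hl e (.head _)).1
    obtain ⟨s, s1, t, t1, h6⟩ := Finset.mem_add.1 h3
    change itH b l (b v e.2) ∈ _
    rcases Finset.mem_insert.1 t1 with rfl | t1
    · rw [← sub_add_cancel (itH b l (b v e.2)) (b (itH b l v) e.2)]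
      exact add_mem (h.swap h5 h4 h2) (h.Z_lie h5 (drop h4 h1 h2 (by rwa [← h6, add_zero])))
    · refine drop h4 (h.mul h1 h5) (h.Z_lie h5 h2) ?_
      rwa [neg_add, ← h6, Finset.mem_singleton.1 t1, add_neg_cancel_right]

omit h in
theorem ss_card (hp : p.Prime) : ∀ {l : List (ZMod p × M)}, Hom V l → min p (l.length + 1) ≤ (ss l).card
  | [], _ => by simp [ss]
  | e :: l, hl => by
    have h1 := ss_card hp fun f hf => hl f (.tail _ hf)
    have h2 := ZMod.cauchy_davenport hp (s := ss l) (t := {0, e.1})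
      (Finset.card_pos.1 (by have := hp.pos; omega)) (by simp)
    rw [Finset.card_pair (hl e (.head _)).2.symm] at h2
    rw [ss, List.length_cons]
    omega

theorem of_it {n : ℕ} : ∀ {m v}, (∀ l, Hom V l → l.length = m → itH b l v ∈ Zs b V I n) → v ∈ Zs b V I (n + m)
  | 0, _, h1 => h1 [] (by simp [Hom]) rfl
  | m + 1, v, h1 => mem_Zs.2 fun j w hw => by
    by_cases e : j = 0
    · exact h.le_Zs _ _ (h.idl' v (h.zero (e ▸ hw)))
    · refine of_it fun l h2 h3 => h1 ((j, w) :: l) (fun f hf => ?_) (by rw [List.length_cons, h3])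
      rcases List.mem_cons.1 hf with rfl | hf
      exacts [⟨hw, e⟩, h2 f hf]

theorem Z_Z (hp : p.Prime) : ∀ {n a v}, v ∈ V a → v ∈ Zs b (KK.sq b V) I n → v ∈ Zs b V I ((p - 1) * n)
  | 0, _, _, _, h2 => h2
  | n + 1, a, v, h1, h2 => h.of_it fun l h3 h4 => by
    haveI : NeZero p := ⟨hp.ne_zero⟩
    obtain ⟨c, h5⟩ := h.V_it h3 h1
    have h6 := ss_card hp h3
    refine Z_Z hp h5 (h.drop h3 h1 h2 ?_)
    rw [Finset.eq_univ_of_card (ss l) (le_antisymm (Finset.card_le_univ _) (by have := hp.pos; rw [ZMod.card]; omega))]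
    exact Finset.mem_univ _

omit h in
/-- Kostrikin's theorem -/
theorem kostrikin (hp : p.Prime) (s : ℕ) : ∀ {V : ZMod p → AddSubgroup M}, Gr b V I →
    (∀ j, (KK.sq b)^[s] V j ≤ I) → ∀ j, V j ≤ Zs b V I (∑ i ∈ Finset.range s, (p - 1) ^ i) := by
  induction s with
  | zero => exact fun _ h1 => h1
  | succ s ih =>
    intro V h h1 j x hx
    rw [geom_sum_succ]
    exact mem_Zs.2 fun i w hw => h.Z_Z hp (h.mul hx hw) (ih h.sq h1 _ (mem_sq hx hw rfl))

theorem hkk (hp : p.Prime) (j : ZMod p) : V j ≤ Zs b V I (∑ i ∈ Finset.range (2 ^ (p - 1) - 1), (p - 1) ^ i) :=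
  haveI : NeZero p := ⟨hp.ne_zero⟩
  kostrikin hp _ h h.kreknin j

end Gr

theorem Gr.three {V : ZMod 3 → AddSubgroup M} (h : Gr b V I) (i : ZMod 3) : V i ≤ Zs b V I 2 := fun x hx =>
  mem_Zs.2 fun j y hy => mem_Zs.2 fun k z hz => by
    have key : ∀ i j k : ZMod 3, i = 0 ∨ j = 0 ∨ k = 0 ∨ i + j = 0 ∨ i + j + k = 0 ∨ (i + k = 0 ∧ j + k = 0) := by decide
    change _ ∈ I
    rcases key i j k with rfl | rfl | rfl | e | e | ⟨e, e'⟩
    · exact h.idl _ (h.idl _ (h.zero hx))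
    · exact h.idl _ (h.idl' _ (h.zero hy))
    · exact h.idl' _ (h.zero hz)
    · exact h.idl _ (h.zero (e ▸ h.mul hx hy))
    · exact h.zero (e ▸ h.mul (h.mul hx hy) hz)
    · rw [← sub_add_cancel (b (b x y) z) (b (b x z) y), ← h.lie.jac]
      exact add_mem (h.idl' _ (h.zero (e' ▸ h.mul hy hz))) (h.idl _ (h.zero (e ▸ h.mul hx hz)))

end CA.KK
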