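import Cfsg.Agent.Lib.Loc.H6J
import Cfsg.Agent.Lib.Grp.CoprimeAct
import Cfsg.Agent.Lib.Grp.NPC2
import Cfsg.Agent.Lib.Grp.H13Inv

/-! Invariant subgroups under an operator group; a self-normalizing-type criterion for a Sylow
2-subgroup of class at most two. -/

set_option autoImplicit false

namespace CA.L0Inv
open Subgroup Cfsg CA.SylIn CA.H6J
open scoped Pointwise commutatorElement

section
variable {A G : Type*} [Group A] [Group G] [MulDistribMulAction A G]

/-- `H` is invariant under the operator group `A`. -/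
def Inv (A : Type*) {G : Type*} [Group A] [Group G] [MulDistribMulAction A G] (H : Subgroup G) :
    Prop := ∀ a : A, ∀ x ∈ H, a • x ∈ H

theorem mem_smul {a : A} {H : Subgroup G} {x : G} : x ∈ a • H ↔ a⁻¹ • x ∈ H :=
  mem_pointwise_smul_iff_inv_smul_mem

theorem smul_eq_map (a : A) (H : Subgroup G) :
    a • H = H.map (MulDistribMulAction.toMulEquiv G a).toMonoidHom := rfl

theorem Inv.smul_eq {H : Subgroup G} (h : Inv A H) (a : A) : a • H = H := by
  ext x; rw [mem_smul]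
  exact ⟨fun hx => by simpa using h a _ hx, fun hx => h _ _ hx⟩

theorem inv_of_smul_eq {H : Subgroup G} (h : ∀ a : A, a • H = H) : Inv A H := fun a x hx => by
  rw [← h a, mem_smul]; simpa using hx

theorem smul_centralizer (a : A) (H : Subgroup G) :
    a • centralizer (H : Set G) = centralizer ((a • H : Subgroup G) : Set G) :=
  CA.H6Basic.map_centralizer_equiv (MulDistribMulAction.toMulEquiv G a) H

theorem smul_normalizer (a : A) (H : Subgroup G) :
    a • normalizer (H : Set G) = normalizer ((a • H : Subgroup G) : Set G) :=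
  map_equiv_normalizer_eq H (MulDistribMulAction.toMulEquiv G a)

theorem smul_Z (a : A) (H : Subgroup G) : a • Z H = Z (a • H) :=
  (Z_map (MulDistribMulAction.toMulEquiv G a).injective H).symm

theorem smul_J (a : A) (n : ℕ) (H : Subgroup G) : a • J n H = J n (a • H) :=
  (J_map (MulDistribMulAction.toMulEquiv G a).injective n H).symm

theorem smul_omegaOne (a : A) (n : ℕ) (H : Subgroup G) : a • omegaOne n H = omegaOne n (a • H) :=
  (omegaOne_map (MulDistribMulAction.toMulEquiv G a).injective n H).symm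

theorem Inv.centralizer {H : Subgroup G} (h : Inv A H) : Inv A (centralizer (H : Set G)) :=
  inv_of_smul_eq fun a => by rw [smul_centralizer, h.smul_eq]

theorem Inv.normalizer {H : Subgroup G} (h : Inv A H) : Inv A (normalizer (H : Set G)) :=
  inv_of_smul_eq fun a => by rw [smul_normalizer, h.smul_eq]

theorem Inv.Z {H : Subgroup G} (h : Inv A H) : Inv A (Z H) :=
  inv_of_smul_eq fun a => by rw [smul_Z, h.smul_eq]

theorem Inv.J {H : Subgroup G} (h : Inv A H) (n : ℕ) : Inv A (J n H) :=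
  inv_of_smul_eq fun a => by rw [smul_J, h.smul_eq]

theorem Inv.omegaOne {H : Subgroup G} (h : Inv A H) (n : ℕ) : Inv A (omegaOne n H) :=
  inv_of_smul_eq fun a => by rw [smul_omegaOne, h.smul_eq]

theorem Inv.inf {H K : Subgroup G} (h : Inv A H) (h' : Inv A K) : Inv A (H ⊓ K) :=
  fun a x hx => ⟨h a x hx.1, h' a x hx.2⟩

theorem Inv.sup {H K : Subgroup G} (h : Inv A H) (h' : Inv A K) : Inv A (H ⊔ K) :=
  inv_of_smul_eq fun a => by rw [smul_sup, h.smul_eq, h'.smul_eq]

theorem inv_of_characteristic (H : Subgroup G) [H.Characteristic] : Inv A H :=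
  CA.Act.smul_mem_of_characteristic H

theorem Inv.map_subtype {H : Subgroup G} (h : Inv A H) (K : Subgroup H) [K.Characteristic] :
    Inv A (K.map H.subtype) := by
  rintro a _ ⟨x, hx, rfl⟩
  letI := CA.Act.subAct H h
  exact ⟨a • x, CA.Act.smul_mem_of_characteristic K a x hx, rfl⟩

theorem inv_bot : Inv A (⊥ : Subgroup G) := inv_of_characteristic _
theorem inv_top : Inv A (⊤ : Subgroup G) := inv_of_characteristic _

theorem inv_comap_mk {N : Subgroup G} [N.Normal] (hN : Inv A N) {H : Subgroup (G ⧸ N)}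
    (h : letI := CA.Act.quotAct N hN; Inv A H) : Inv A (H.comap (QuotientGroup.mk' N)) :=
  fun a x hx => h a (x : G ⧸ N) hx

theorem inv_map_mk {N : Subgroup G} [N.Normal] (hN : Inv A N) {H : Subgroup G} (h : Inv A H) :
    letI := CA.Act.quotAct N hN; Inv A (H.map (QuotientGroup.mk' N)) := by
  rintro a _ ⟨x, hx, rfl⟩
  exact ⟨a • x, h a x hx, rfl⟩

end

section
variable {G : Type*} [Group G]

/-- `Ω₁(Z(D))` for `p = 2`. -/
def V (D : Subgroup G) : Subgroup G := omegaOne 2 (Z D)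

theorem mem_V {D : Subgroup G} {x : G} : x ∈ V D ↔ x ∈ D ∧ (∀ d ∈ D, d * x = x * d) ∧ x * x = 1 := by
  unfold V
  rw [mem_omegaOne_iff (isMulCommutative_Z D), pow_two, mem_inf, mem_centralizer_iff, and_assoc]
  rfl

theorem normalizer_le_V (D : Subgroup G) : normalizer (D : Set G) ≤ normalizer (V D : Set G) :=
  (normalizer_le_normalizer_Z D).trans (normalizer_le_normalizer_omegaOne 2 _)

theorem smul_V {A : Type*} [Group A] [MulDistribMulAction A G] (a : A) (D : Subgroup G) :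
    a • V D = V (a • D) := by
  unfold V; rw [smul_omegaOne, smul_Z]

theorem eq_of_ti [Finite G] {P : Subgroup G} (h2 : ∀ x ∈ P, x * x = 1) (hP : P ≠ ⊤)
    (hti : ∀ h, h ∉ P → ∀ x ∈ P, h * x * h⁻¹ ∈ P → x = 1) {a b : G} (ha : a ∈ P) (hb : b ∈ P)
    (ha1 : a ≠ 1) (hb1 : b ≠ 1) : a = b := by
  obtain ⟨h, hh⟩ : ∃ h, h ∉ P := by
    by_contra h; push Not at h; exact hP (eq_top_iff.2 fun x _ => h x)
  have hs : h * a * h⁻¹ * (h * a * h⁻¹) = 1 := by
    calc _ = h * (a * a) * h⁻¹ := by group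
      _ = 1 := by rw [h2 a ha]; group
  have hconj : IsConj b (h * a * h⁻¹) := by
    by_contra hc
    have he := CA.H13Inv.even_of_not_isConj (h2 b hb) hs hc
    have o := CA.H13Inv.orderOf_pow_half he
    have c1 := CA.H13Inv.commute_pow_half_left (h2 b hb) hs he
    have c2 := CA.H13Inv.commute_pow_half_right (h2 b hb) hs he
    set z := (b * (h * a * h⁻¹)) ^ (orderOf (b * (h * a * h⁻¹)) / 2)
    have hz : z ∈ P := by
      by_contra hz
      exact hb1 (hti z hz b hb (by rw [c1.eq]; simpa using hb))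
    have hz' : h⁻¹ * z * h ∈ P := by
      by_contra hz'
      refine ha1 (hti _ hz' a ha ?_)
      have : h⁻¹ * z * h * a * (h⁻¹ * z * h)⁻¹ = h⁻¹ * (z * (h * a * h⁻¹)) * z⁻¹ * h := by group
      rw [this, c2.eq]; simpa [mul_assoc] using ha
    have := hti h hh _ hz' (by simpa [mul_assoc] using hz)
    apply CA.H13Inv.ne_one o
    calc z = h * (h⁻¹ * z * h) * h⁻¹ := by group
      _ = 1 := by rw [this]; group
  obtain ⟨g, hg⟩ := isConj_iff.1 hconj
  have e : h⁻¹ * g * b * (h⁻¹ * g)⁻¹ = a := by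
    calc _ = h⁻¹ * (g * b * g⁻¹) * h := by group
      _ = a := by rw [hg]; group
  have hgP : h⁻¹ * g ∈ P := by
    by_contra h'
    exact hb1 (hti _ h' b hb (e ▸ ha))
  have hc : h⁻¹ * g * b = b * (h⁻¹ * g) := by
    set y := h⁻¹ * g
    have e1 := h2 _ (mul_mem hgP hb)
    have i1 : y⁻¹ = y := inv_eq_of_mul_eq_one_right (h2 y hgP)
    have i2 : b⁻¹ = b := inv_eq_of_mul_eq_one_right (h2 b hb)
    rw [← inv_eq_of_mul_eq_one_right e1, mul_inv_rev, i1, i2]
  rw [← e, hc]; group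

/-- The setting: `P` of class at most two, `D` a maximal member among subgroups between `Z(P)` and
`P` whose normalizer is not inside `P`. -/
structure Good (P D : Subgroup G) : Prop where
  le : D ≤ P
  Z_le : Z P ≤ D
  not_le : ¬ normalizer (D : Set G) ≤ P
  max : ∀ E : Subgroup G, D ≤ E → E ≤ P → ¬ normalizer (E : Set G) ≤ P → E = D

variable [Finite G] {P D : Subgroup G}
  (hc : ∀ x ∈ P, ∀ y ∈ P, ⁅x, y⁆ ∈ Z P) (hNP : normalizer (P : Set G) ≤ P)
  (hNV : normalizer (V P : Set G) ≤ P)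

omit [Finite G] in
theorem mem_Z {x : G} : x ∈ Z P ↔ x ∈ P ∧ ∀ d ∈ P, d * x = x * d := by
  rw [mem_inf, mem_centralizer_iff]; rfl

include hc in
theorem le_normalizer_of_Z_le (h1 : D ≤ P) (h2 : Z P ≤ D) : P ≤ normalizer (D : Set G) :=
  fun y hy => mem_normalizer_of_forall fun d hd => by
    have : y * d * y⁻¹ = ⁅y, d⁆ * d := by rw [commutatorElement_def]; group
    rw [this]; exact mul_mem (h2 (hc y hy d (h1 hd))) hd

include hc in
omit [Finite G] in
theorem conj_hc (h : G) : ∀ x ∈ h •ᶜ P, ∀ y ∈ h •ᶜ P, ⁅x, y⁆ ∈ Z (h •ᶜ P) := by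
  intro x hx y hy
  rw [Z_cj, CA.H6Basic.mem_cj]
  have := hc _ (mem_conj.1 hx) _ (mem_conj.1 hy)
  convert this using 1
  simp only [commutatorElement_def]; group

omit [Finite G] in
theorem Good.Z_conj_le (hD : Good P D) {h : G} (hh : h ∈ normalizer (D : Set G)) :
    Z (h •ᶜ P) ≤ D := by
  rw [Z_cj, ← conj_eq_of_mem_normalizer hh]; exact conj_mono h hD.Z_le

omit [Finite G] in
theorem Good.le_conj (hD : Good P D) {h : G} (hh : h ∈ normalizer (D : Set G)) :
    D ≤ h •ᶜ P := by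
  rw [← conj_eq_of_mem_normalizer hh]; exact conj_mono h hD.le

include hc hNP in
theorem Good.ti (hD : Good P D) {h : G} (hh : h ∈ normalizer (D : Set G)) (hhP : h ∉ P) {x : G}
    (h1 : x ∈ P) (h2 : x ∈ h •ᶜ P) : x ∈ D := by
  have hle : D ≤ P ⊓ h •ᶜ P := le_inf hD.le (hD.le_conj hh)
  rw [← hD.max (P ⊓ h •ᶜ P) hle inf_le_left ?_]
  · exact ⟨h1, h2⟩
  intro hn
  have := (le_normalizer_of_Z_le (conj_hc hc h) (D := P ⊓ h •ᶜ P) inf_le_right
    ((hD.Z_conj_le hh).trans hle)).trans hn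
  exact hhP (hNP (mem_normalizer_of_conj_le this))

omit [Finite G] in
theorem Good.exists_not_mem (hD : Good P D) : ∃ h ∈ normalizer (D : Set G), h ∉ P := by
  have := hD.not_le
  by_contra h; push Not at h; exact this h

include hc hNP hNV in
theorem Good.cent_V (hD : Good P D) {g : G} (hg : ∀ v ∈ V D, v * g = g * v) : g ∈ D := by
  have key : ∀ g : G, (∀ v ∈ V D, v * g = g * v) → g ∈ P := fun g hg =>
    hNV (centralizer_le_normalizer _ (mem_centralizer_iff.2 fun v hv => hg v (by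
      obtain ⟨h1, h2, h3⟩ := mem_V.1 hv
      exact mem_V.2 ⟨hD.Z_le (mem_Z.2 ⟨h1, h2⟩), fun d hd => h2 d (hD.le hd), h3⟩)))
  obtain ⟨h, hh, hhP⟩ := hD.exists_not_mem
  refine hD.ti hc hNP hh hhP (key g hg) (mem_conj.2 (key _ fun v hv => ?_))
  have := hg _ (conj_mem_of_mem_normalizer (normalizer_le_V D hh) hv)
  calc v * (h⁻¹ * g * h) = h⁻¹ * (h * v * h⁻¹ * g) * h := by group
    _ = _ := by rw [this]; group

omit [Finite G] in
theorem comm_sq {x y : G} (h1 : x * ⁅x, y⁆ = ⁅x, y⁆ * x) (h2 : y * ⁅x, y⁆ = ⁅x, y⁆ * y) :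
    ⁅x * x, y⁆ = ⁅x, y * y⁆ := by
  have e1 : ⁅x * x, y⁆ = x * ⁅x, y⁆ * x⁻¹ * ⁅x, y⁆ := by simp only [commutatorElement_def]; group
  have e2 : ⁅x, y * y⁆ = ⁅x, y⁆ * (y * ⁅x, y⁆ * y⁻¹) := by simp only [commutatorElement_def]; group
  rw [e1, e2, h1, h2]; group

include hc hNP hNV in
theorem Good.sq_mem (hD : Good P D) {t : G} (ht : t ∈ P) : t * t ∈ D := by
  refine hD.cent_V hc hNP hNV fun v hv => ?_
  obtain ⟨h1, -, h3⟩ := mem_V.1 hv
  have hz := (mem_Z.1 (hc t ht v (hD.le h1))).2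
  have := comm_sq (hz t ht) (hz v (hD.le h1))
  rw [h3, commutatorElement_one_right, commutatorElement_eq_one_iff_mul_comm] at this
  exact this.symm

include hc hNP hNV in
theorem Good.mul_mem (hD : Good P D) {a b : G} (ha : a ∈ P) (hb : b ∈ P) (ha' : a ∉ D)
    (hb' : b ∉ D) : a⁻¹ * b ∈ D := by
  set H := normalizer (D : Set G) with hH
  have hPH : P ≤ H := le_normalizer_of_Z_le hc hD.le hD.Z_le
  have hn : (D.subgroupOf H).Normal := normal_in_normalizer
  let f := QuotientGroup.mk' (D.subgroupOf H)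
  have hf : ∀ x : H, f x = 1 ↔ (x : G) ∈ D := fun x => QuotientGroup.eq_one_iff x
  have hmem : ∀ x : H, f x ∈ (P.subgroupOf H).map f ↔ (x : G) ∈ P := fun x => by
    refine ⟨?_, fun hx => ⟨x, hx, rfl⟩⟩
    rintro ⟨y, hy, e⟩
    have := hD.le ((hf (y⁻¹ * x)).1 (by rw [map_mul, map_inv, e, inv_mul_cancel]))
    simpa using P.mul_mem hy this
  have := eq_of_ti (P := (P.subgroupOf H).map f) ?_ ?_ ?_ (a := f ⟨a, hPH ha⟩) (b := f ⟨b, hPH hb⟩)
    ((hmem _).2 ha) ((hmem _).2 hb) (fun h => ha' ((hf _).1 h)) (fun h => hb' ((hf _).1 h))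
  · exact (hf ((⟨a, hPH ha⟩ : H)⁻¹ * ⟨b, hPH hb⟩)).1 (by rw [map_mul, map_inv, this, inv_mul_cancel])
  · rintro _ ⟨x, hx, rfl⟩
    rw [← map_mul, hf]; exact hD.sq_mem hc hNP hNV hx
  · obtain ⟨h, hh, hhP⟩ := hD.exists_not_mem
    intro e
    exact hhP ((hmem ⟨h, hh⟩).1 (e ▸ mem_top _))
  · intro h hh _ ⟨x, hx, e⟩ h2
    subst e
    obtain ⟨h, rfl⟩ := QuotientGroup.mk'_surjective _ h
    change f h ∉ _ at hh
    change f h * f x * (f h)⁻¹ ∈ _ at h2
    rw [← map_inv, ← map_mul, ← map_mul, hmem] at h2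
    rw [hmem] at hh
    rw [hf]
    exact hD.ti hc hNP (inv_mem h.2) (fun h' => hh (by simpa using inv_mem h')) hx (mem_conj_inv.2 h2)

include hc hNP hNV in
theorem Good.not_central (hD : Good P D) {z t : G} (ht : t ∈ P) (ht' : t ∉ D) (hz : z * z = 1)
    (h1 : ∀ v ∈ V D, ∀ y ∈ P, ⁅y, v⁆ = 1 ∨ ⁅y, v⁆ = z)
    (h2 : ∀ h ∈ normalizer (D : Set G), ∀ y ∈ h •ᶜ P, y * z = z * y) : False := by
  have hPH := le_normalizer_of_Z_le hc hD.le hD.Z_le
  have step : ∀ h ∈ normalizer (D : Set G), h ∉ P → h * t * h⁻¹ ∈ normalizer (D : Set G) ∧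
      h * t * h⁻¹ ∉ P := fun h hh hhP =>
    ⟨Subgroup.mul_mem _ (Subgroup.mul_mem _ hh (hPH ht)) (inv_mem hh), fun h' => ht' (by
      have := inv_conj_mem_of_mem_normalizer hh (hD.ti hc hNP hh hhP h' (conj_mem_conj.2 ht))
      simpa [mul_assoc] using this)⟩
  obtain ⟨h0, hh0, hh0P⟩ := hD.exists_not_mem
  obtain ⟨hh, hhP⟩ := step h0 hh0 hh0P
  have hhz := h2 h0 hh0 _ (conj_mem_conj.2 ht)
  set h := h0 * t * h0⁻¹
  obtain ⟨hs, hsP⟩ := step h hh hhP
  have hsz := h2 h hh _ (conj_mem_conj.2 ht)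
  have htz := h2 1 (one_mem _) t (by rwa [one_conj])
  have hs2 : h * t * h⁻¹ * (h * t * h⁻¹) ∈ D := by
    have := conj_mem_of_mem_normalizer hh (hD.sq_mem hc hNP hNV ht)
    convert this using 1; group
  have hsv : ∀ v ∈ V D, ⁅h * t * h⁻¹, v⁆ = 1 ∨ ⁅h * t * h⁻¹, v⁆ = z := by
    intro v hv
    have e : ⁅h * t * h⁻¹, v⁆ = h * ⁅t, h⁻¹ * v * h⁆ * h⁻¹ := by
      simp only [commutatorElement_def]; group
    rcases h1 _ (inv_conj_mem_of_mem_normalizer (normalizer_le_V D hh) hv) t ht with h' | h'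
    · left; rw [e, h']; group
    · right; rw [e, h', hhz]; group
  set s := h * t * h⁻¹
  have hx : s * t * (s * t) ∈ D := by
    refine hD.cent_V hc hNP hNV fun v hv => ?_
    have e0 : ⁅s * t, v⁆ = 1 ∨ ⁅s * t, v⁆ = z := by
      have e : ⁅s * t, v⁆ = s * ⁅t, v⁆ * s⁻¹ * ⁅s, v⁆ := by simp only [commutatorElement_def]; group
      rcases h1 v hv t ht with a | a <;> rcases hsv v hv with b | b <;> rw [e, a, b]
      · left; group
      · right; group
      · right; rw [hsz]; group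
      · left; rw [hsz, mul_inv_cancel_right, hz]
    have e : ⁅s * t * (s * t), v⁆ = s * t * ⁅s * t, v⁆ * (s * t)⁻¹ * ⁅s * t, v⁆ := by
      simp only [commutatorElement_def]; group
    symm
    rw [← commutatorElement_eq_one_iff_mul_comm, e]
    rcases e0 with a | a <;> rw [a]
    · group
    · rw [mul_assoc s t z, htz, ← mul_assoc s z t, hsz]
      calc z * s * t * (s * t)⁻¹ * z = z * z := by group
        _ = 1 := hz
  have h3 : s * t * s⁻¹ ∈ P := by
    have : s * t * s⁻¹ = s * t * (s * t) * t⁻¹ * (s * s)⁻¹ := by group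
    rw [this]
    exact Subgroup.mul_mem _ (Subgroup.mul_mem _ (hD.le hx) (inv_mem ht)) (inv_mem (hD.le hs2))
  exact (step s hs hsP).2 h3

include hc hNP hNV in
theorem Good.symm {D' : Subgroup G} (hD : Good P D) (h : ¬ V D' ≤ D) : ¬ V D ≤ D' := fun h' =>
  h fun b hb => hD.cent_V hc hNP hNV fun v hv => (mem_V.1 hb).2.1 v (h' hv)

include hc hNP hNV in
theorem Good.comm_cases (hD : Good P D) {a b y : G} (ha : a ∈ P) (ha' : a ∉ D) (hb : b ∈ V D)
    (hy : y ∈ P) : (y ∈ D ∧ ⁅y, b⁆ = 1) ∨ (y ∉ D ∧ ⁅y, b⁆ = ⁅a, b⁆) := by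
  by_cases h : y ∈ D
  · exact Or.inl ⟨h, commutatorElement_eq_one_iff_mul_comm.2 ((mem_V.1 hb).2.1 y h)⟩
  · refine Or.inr ⟨h, ?_⟩
    have := (mem_V.1 hb).2.1 _ (hD.mul_mem hc hNP hNV ha hy ha' h)
    calc ⁅y, b⁆ = a * (a⁻¹ * y * b) * y⁻¹ * b⁻¹ := by simp only [commutatorElement_def]; group
      _ = _ := by rw [this]; simp only [commutatorElement_def]; group

include hc hNP hNV in
theorem Good.mem_of_comm {D' : Subgroup G} (hD : Good P D) (hD' : Good P D') {b y : G}
    (hb : b ∈ V D') (hb' : b ∉ D) (hy : y ∈ P) (h : y * b = b * y) : y ∈ D' := by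
  by_contra hy'
  refine hb' (hD.Z_le (mem_Z.2 ⟨hD'.le (mem_V.1 hb).1, fun d hd => ?_⟩))
  rw [← commutatorElement_eq_one_iff_mul_comm]
  rcases hD'.comm_cases hc hNP hNV hy hy' hb hd with h' | h'
  · exact h'.2
  · rw [h'.2, commutatorElement_eq_one_iff_mul_comm, h]

include hc hNP hNV in
theorem Good.unique {D' D'' : Subgroup G} (hD : Good P D) (hD' : Good P D') (hD'' : Good P D'')
    (h' : ¬ V D' ≤ D) (h'' : ¬ V D'' ≤ D) : D' = D'' := by
  obtain ⟨b, hb, hbD⟩ := SetLike.not_le_iff_exists.1 h'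
  obtain ⟨c, hcV, hcD⟩ := SetLike.not_le_iff_exists.1 h''
  obtain ⟨a, ha, haD⟩ := SetLike.not_le_iff_exists.1 (hD.symm hc hNP hNV h')
  have haP := hD.le (mem_V.1 ha).1
  have hbP := hD'.le (mem_V.1 hb).1
  have hcP := hD''.le (mem_V.1 hcV).1
  have hd := hD.mul_mem hc hNP hNV hbP hcP hbD hcD
  obtain ⟨d, rfl⟩ : ∃ d, c = b * d := ⟨b⁻¹ * c, by group⟩
  rw [inv_mul_cancel_left] at hd
  set z := ⁅a, b⁆ with hzdef
  have hzZ := mem_Z.1 (hc a haP b hbP)
  have hz1 : z ≠ 1 := fun h => haD (hD.mem_of_comm hc hNP hNV hD' hb hbD haP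
    (commutatorElement_eq_one_iff_mul_comm.1 h))
  have hz2 : z * z = 1 := by
    have e1 : ⁅a * a, b⁆ = a * z * a⁻¹ * z := by simp only [hzdef, commutatorElement_def]; group
    rw [(mem_V.1 ha).2.2, commutatorElement_one_left, hzZ.2 a haP] at e1
    simpa using e1.symm
  have hac : ⁅a, b * d⁆ = z := by
    have := (mem_V.1 ha).2.1 d hd
    calc ⁅a, b * d⁆ = a * b * (d * a⁻¹ * d⁻¹) * b⁻¹ := by simp only [commutatorElement_def]; group
      _ = a * b * (d * a * d⁻¹)⁻¹ * b⁻¹ := by group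
      _ = z := by rw [this, hzdef]; simp only [commutatorElement_def]; group
  have haD'' : a ∉ D'' := fun h => hz1 (by
    rw [← hac, commutatorElement_eq_one_iff_mul_comm]; exact (mem_V.1 hcV).2.1 a h)
  have cb : ∀ y ∈ P, ⁅y, b⁆ = 1 ∨ ⁅y, b⁆ = z := fun y hy =>
    (hD'.comm_cases hc hNP hNV haP haD hb hy).imp And.right And.right
  have cc : ∀ y ∈ P, ⁅y, b * d⁆ = 1 ∨ ⁅y, b * d⁆ = z := fun y hy =>
    (hD''.comm_cases hc hNP hNV haP haD'' hcV hy).imp And.right fun h => h.2.trans hac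
  have hzi : z⁻¹ = z := inv_eq_of_mul_eq_one_right hz2
  have nc : ¬ ∀ h ∈ normalizer (D : Set G), ∀ y ∈ h •ᶜ P, y * z = z * y := by
    refine hD.not_central hc hNP hNV hbP hbD hz2 fun v hv y hy => ?_
    rcases hD.comm_cases hc hNP hNV hbP hbD hv hy with h | h
    · exact Or.inl h.2
    · rw [h.2, ← commutatorElement_inv]
      rcases cb v (hD.le (mem_V.1 hv).1) with h | h <;> rw [h]
      · simp
      · exact Or.inr hzi
  have hdZ : ∀ e ∈ D, e * d = d * e := by
    intro e he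
    rw [← commutatorElement_eq_one_iff_mul_comm]
    have h3 : ⁅e, d⁆ ≠ z := fun h => nc fun h0 hh0 y hy => by
      rw [← h]
      exact (mem_Z.1 (conj_hc hc h0 e (hD.le_conj hh0 he) d (hD.le_conj hh0 hd))).2 y hy
    have e1 : ⁅e, d⁆ = b⁻¹ * (⁅e, b⁆⁻¹ * ⁅e, b * d⁆) * b := by
      simp only [commutatorElement_def]; group
    have e2 : b⁻¹ * z * b = z := by rw [mul_assoc, ← hzZ.2 b hbP, inv_mul_cancel_left]
    rcases cb e (hD.le he) with h | h <;> rcases cc e (hD.le he) with h' | h' <;>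
      rw [h, h'] at e1
    · simpa using e1
    · exact absurd (by simpa [e2] using e1) h3
    · exact absurd (by simpa [hzi, e2] using e1) h3
    · simpa using e1
  have hb2 := (mem_V.1 hb).2.2
  have hbi : b⁻¹ = b := inv_eq_of_mul_eq_one_right hb2
  have hbd : b * d = d * b := by
    have e1 : ⁅b, b * d⁆ = d * d := by
      have hc2 := (mem_V.1 hcV).2.2
      have hci : (b * d)⁻¹ = b * d := inv_eq_of_mul_eq_one_right hc2
      rw [commutatorElement_def, hci, hbi, ← mul_assoc b b d, hb2, one_mul, mul_assoc,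
        ← mul_assoc b b d, hb2, one_mul]
    rcases cc b hbP with h | h
    · rw [commutatorElement_eq_one_iff_mul_comm, mul_assoc] at h
      exact mul_left_cancel h
    · refine absurd (fun h0 hh0 y hy => ?_) nc
      have hz := (mem_Z.1 (conj_hc hc h0 y hy d (hD.le_conj hh0 hd))).2
      have h4 := comm_sq (hz y hy) (hz d (hD.le_conj hh0 hd))
      have h5 : y * y ∈ D := by
        have := conj_mem_of_mem_normalizer hh0 (hD.sq_mem hc hNP hNV (mem_conj.1 hy))
        rwa [show h0 * (h0⁻¹ * y * h0 * (h0⁻¹ * y * h0)) * h0⁻¹ = y * y by group] at this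
      rw [commutatorElement_eq_one_iff_mul_comm.2 (hdZ _ h5), ← e1, h] at h4
      exact commutatorElement_eq_one_iff_mul_comm.1 h4.symm
  have hdP : ∀ y ∈ P, y * d = d * y := by
    intro y hy
    by_cases h : y ∈ D
    · exact hdZ y h
    · have := hdZ _ (hD.mul_mem hc hNP hNV hbP hy hbD h)
      calc y * d = b * (b⁻¹ * y * d) := by group
        _ = (b * d) * (b⁻¹ * y) := by rw [this]; group
        _ = d * y := by rw [hbd]; group
  refine le_antisymm (fun y hy => ?_) (fun y hy => ?_)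
  · refine hD.mem_of_comm hc hNP hNV hD'' hcV hcD (hD'.le hy) ?_
    rw [← mul_assoc, (mem_V.1 hb).2.1 y hy, mul_assoc, hdP y (hD'.le hy), mul_assoc]
  · refine hD.mem_of_comm hc hNP hNV hD' hb hbD (hD''.le hy) ?_
    have := (mem_V.1 hcV).2.1 y hy
    rw [mul_assoc b d y, ← hdP y (hD''.le hy), ← mul_assoc, ← mul_assoc] at this
    exact mul_right_cancel this

omit [Finite G] in
theorem Good.smul {A : Type*} [Group A] [MulDistribMulAction A G] (hP : Inv A P) (hD : Good P D)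
    (a : A) : Good P (a • D) := by
  refine ⟨?_, ?_, ?_, fun E h1 h2 h3 => ?_⟩
  · rw [← hP.smul_eq a]; exact pointwise_smul_le_pointwise_smul_iff.2 hD.le
  · rw [← hP.Z.smul_eq a]; exact pointwise_smul_le_pointwise_smul_iff.2 hD.Z_le
  · rw [← smul_normalizer, ← hP.smul_eq a, pointwise_smul_le_pointwise_smul_iff]; exact hD.not_le
  · rw [← hD.max (a⁻¹ • E) ?_ ?_ ?_, smul_inv_smul]
    · rw [← inv_smul_smul a D]; exact pointwise_smul_le_pointwise_smul_iff.2 h1
    · rw [← hP.smul_eq a⁻¹]; exact pointwise_smul_le_pointwise_smul_iff.2 h2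
    · rw [← smul_normalizer, ← hP.smul_eq a⁻¹, pointwise_smul_le_pointwise_smul_iff]; exact h3

end

/-- If a Sylow 2-subgroup `P` of class at most two, invariant under an operator group of odd order,
contains the normalizer of each of its nontrivial invariant normal subgroups, then there is a normal
2-complement. -/
theorem hasNPC_two {A G : Type*} [Group A] [Group G] [Finite G] [MulDistribMulAction A G]
    (hodd : ∀ a : A, Odd (orderOf a)) (P : Sylow 2 G) (hP1 : (P : Subgroup G) ≠ ⊥)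
    (hP : Inv A (P : Subgroup G))
    (hc : ∀ x ∈ (P : Subgroup G), ∀ y ∈ (P : Subgroup G), ⁅x, y⁆ ∈ Z (P : Subgroup G))
    (hN : ∀ X : Subgroup G, X ≤ P → X ≠ ⊥ → (P : Subgroup G) ≤ normalizer (X : Set G) → Inv A X →
      normalizer (X : Set G) ≤ P) : HasNormalPComplement 2 G := by
  have : Fact (Nat.Prime 2) := ⟨Nat.prime_two⟩
  have hNP := hN P le_rfl hP1 le_normalizer hP
  have hV1 : V (P : Subgroup G) ≠ ⊥ :=
    omegaOne_ne_bot (P.isPGroup'.to_le inf_le_left) (Z_ne_bot P.isPGroup' hP1)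
  have hNV := hN (V P) (fun x hx => (mem_V.1 hx).1) hV1 (le_normalizer.trans (normalizer_le_V _))
    (hP.Z.omegaOne 2)
  by_contra hn
  obtain ⟨D, hD⟩ : ∃ D, Good (P : Subgroup G) D := by
    have hne : {D : Subgroup G | D ≤ P ∧ Z (P : Subgroup G) ≤ D ∧
        ¬ normalizer (D : Set G) ≤ P}.Nonempty := by
      by_contra h
      refine hn (CA.Hyperfocal.hasNPC_of_radical P fun D h1 _ h3 _ n hn' ho => ?_)
      have h4 : normalizer (D : Set G) ≤ P := by
        by_contra h4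
        exact h ⟨D, h1, (inf_le_inf_left _ (centralizer_le h1)).trans h3, h4⟩
      rw [CA.PRes.eq_one_of_coprime_of_mem P.isPGroup' (h4 hn') ho]; exact one_mem _
    obtain ⟨D, hD⟩ := (Set.toFinite _).exists_maximal hne
    exact ⟨D, hD.1.1, hD.1.2.1, hD.1.2.2, fun E h1 h2 h3 =>
      le_antisymm (hD.2 ⟨h2, hD.1.2.1.trans h1, h3⟩ h1) h1⟩
  have key : ∀ a : A, V (a • D) ≤ D := by
    intro a
    by_contra h
    have h1 : ¬ V (a • a • D) ≤ a • D := by
      rwa [← smul_V, pointwise_smul_le_pointwise_smul_iff]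
    have h2 := (hD.smul hP a).unique hc hNP hNV ((hD.smul hP a).smul hP a) hD h1
      (hD.symm hc hNP hNV h)
    have h3 : a * a ∈ MulAction.stabilizer A D := by rw [MulAction.mem_stabilizer_iff, mul_smul, h2]
    obtain ⟨k, hk⟩ := hodd a
    have h4 : a⁻¹ = (a * a) ^ k := by
      rw [← pow_two, ← pow_mul, inv_eq_iff_mul_eq_one, ← pow_succ', ← hk, pow_orderOf_eq_one]
    have h5 : a ∈ MulAction.stabilizer A D := by
      rw [← inv_mem_iff, h4]; exact pow_mem h3 k
    rw [MulAction.mem_stabilizer_iff.1 h5] at h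
    exact h fun x hx => (mem_V.1 hx).1
  set E : Subgroup G := ⨅ a : A, a • D with hE
  have hED : E ≤ D := (iInf_le _ 1).trans (one_smul A D).le
  have hEi : Inv A E := fun a x hx => mem_iInf.2 fun b => by
    have := mem_iInf.1 hx (a⁻¹ * b)
    rw [mem_smul] at this ⊢
    rwa [mul_inv_rev, inv_inv, mul_smul] at this
  have hVE : V D ≤ V E := fun v hv => mem_V.2 ⟨mem_iInf.2 fun a => by
      have := key a⁻¹
      rw [← smul_V] at this
      exact mem_smul.2 (this (smul_mem_pointwise_smul _ _ _ hv)),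
    fun d hd => (mem_V.1 hv).2.1 d (hED hd), (mem_V.1 hv).2.2⟩
  have hZE : Z (P : Subgroup G) ≤ E := le_iInf fun a => (hD.smul hP a).Z_le
  have hVPD : V (P : Subgroup G) ≤ V D := fun v hv => by
    obtain ⟨h1, h2, h3⟩ := mem_V.1 hv
    exact mem_V.2 ⟨hD.Z_le (mem_Z.2 ⟨h1, h2⟩), fun d hd => h2 d (hD.le hd), h3⟩
  have hW := hN (V E) (fun x hx => hD.le (hED (mem_V.1 hx).1))
    (fun h => hV1 (eq_bot_iff.2 (h ▸ hVPD.trans hVE)))
    ((le_normalizer_of_Z_le hc (hED.trans hD.le) hZE).trans (normalizer_le_V _)) (hEi.Z.omegaOne 2)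
  obtain ⟨h, hh, hhP⟩ := hD.exists_not_mem
  refine hhP (hNP (mem_normalizer_of_conj_le (le_trans (fun y hy => ?_) hW)))
  refine mem_normalizer_of_forall fun w hw => ?_
  have hwD := hED (mem_V.1 hw).1
  have hu := conj_hc hc h y hy w (hD.le_conj hh hwD)
  have e : y * w * y⁻¹ = ⁅y, w⁆ * w := by rw [commutatorElement_def]; group
  rw [e]
  refine mul_mem (hVE (mem_V.2 ⟨hD.Z_conj_le hh hu,
    fun d hd => (mem_Z.1 hu).2 d (hD.le_conj hh hd), ?_⟩)) hw
  have e2 : ⁅y, w * w⁆ = ⁅y, w⁆ * (w * ⁅y, w⁆ * w⁻¹) := by simp only [commutatorElement_def]; group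
  rw [(mem_V.1 hw).2.2, commutatorElement_one_right, (mem_Z.1 hu).2 w (hD.le_conj hh hwD)] at e2
  simpa using e2.symm

end CA.L0Inv
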