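import Cfsg.Agent.Lib.Grp.L0Inv
import Cfsg.Agent.Lib.Grp.L0FT
import Cfsg.Agent.Lib.Grp.H1Nil
import Cfsg.Agent.S0108

/-! Nilpotent maximal invariant subgroups under a coprime operator group. -/

set_option autoImplicit false

namespace CA.L0Inv
open Subgroup Cfsg CA.SylIn CA.H6J CA.PRes CA.H1Nil
open scoped Pointwise commutatorElement

universe u

theorem hasNPC_odd {G : Type*} [Group G] [Finite G] {p : ℕ} [Fact p.Prime] (hp : p ≠ 2)
    (P : Sylow p G) (h1 : Group.IsNilpotent (normalizer (J p (P : Subgroup G) : Set G)))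
    (h2 : Group.IsNilpotent (normalizer (Z (P : Subgroup G) : Set G))) :
    HasNormalPComplement p G :=
  (Cfsg.Agent.S0108.result hp P).2 ⟨by
    rw [thompsonSubgroupOf_eq]; exact CA.NPC2.hasNPC_of_isNilpotent h1,
    hasNPC_of_le (CA.NPC2.hasNPC_of_isNilpotent h2) (centralizer_le_normalizer _)⟩

/-- `P ⋊ A` acts on `G` for an invariant subgroup `P`. -/
@[reducible] def sdAct {A G : Type*} [Group A] [Group G] [MulDistribMulAction A G] (P : Subgroup G)
    (hP : Inv A P) : letI := CA.Act.subAct P hP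
    MulDistribMulAction (CA.CoprimeAct.SD A P) G :=
  letI := CA.Act.subAct P hP
  { smul := fun s g => (s.left : G) * s.right • g * (s.left : G)⁻¹
    one_smul := fun g => by
      change ((1 : P) : G) * (1 : A) • g * ((1 : P) : G)⁻¹ = g
      simp
    mul_smul := fun s t g => by
      change ((s.left : G) * s.right • (t.left : G)) * (s.right * t.right) • g *
        ((s.left : G) * s.right • (t.left : G))⁻¹ = (s.left : G) * s.right • ((t.left : G) *
          t.right • g * (t.left : G)⁻¹) * (s.left : G)⁻¹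
      simp only [smul_mul', smul_inv', mul_smul]; group
    smul_one := fun s => by
      change (s.left : G) * s.right • (1 : G) * (s.left : G)⁻¹ = 1
      simp
    smul_mul := fun s g h => by
      change (s.left : G) * s.right • (g * h) * (s.left : G)⁻¹ = (s.left : G) * s.right • g *
        (s.left : G)⁻¹ * ((s.left : G) * s.right • h * (s.left : G)⁻¹)
      simp only [smul_mul']; group }

theorem solv_of_normal {G : Type*} [Group G] (N : Subgroup G) [N.Normal] (h1 : Group.IsSolvable N)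
    (h2 : Group.IsSolvable (G ⧸ N)) : Group.IsSolvable G :=
  solvable_of_ker_le_range N.subtype (QuotientGroup.mk' N) (by simp)

theorem solv_of_nil {G : Type*} [Group G] (h : Group.IsNilpotent G) : Group.IsSolvable G :=
  inferInstance

theorem pg {G : Type*} [Group G] [Finite G] {p : ℕ} [Fact p.Prime] (h : IsPGroup p G) :
    Group.IsSolvable G := solv_of_nil h.isNilpotent

theorem card_quot_lt {G : Type*} [Group G] [Finite G] {N : Subgroup G} (h : N ≠ ⊥) :
    Nat.card (G ⧸ N) < Nat.card G := by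
  rw [card_eq_card_quotient_mul_card_subgroup N]
  exact lt_mul_of_one_lt_right Nat.card_pos (one_lt_card_iff_ne_bot N |>.2 h)

theorem card_sub_lt {G : Type*} [Group G] [Finite G] {N : Subgroup G} (h : N ≠ ⊤) :
    Nat.card N < Nat.card G := by
  have := card_lt_of_lt (lt_top_iff_ne_top.2 h)
  rwa [card_top] at this

theorem solv_aux (n : ℕ) : ∀ {A G : Type u} [Group A] [Group G] [Finite A] [Finite G]
    [MulDistribMulAction A G], Nat.card G = n → (Nat.card A).Coprime (Nat.card G) →
    ∀ M : Subgroup G, M ≠ ⊤ → Inv A M → (∀ H, M ≤ H → H ≠ ⊤ → Inv A H → H = M) →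
    Group.IsNilpotent M → (∀ x ∈ M, ∀ y ∈ M, ∀ z ∈ M, Odd (orderOf ⁅⁅x, y⁆, z⁆)) →
    Group.IsSolvable G := by
  induction n using Nat.strong_induction_on with
  | _ n ih =>
  intro A G _ _ _ _ _ hn hcop M hM hi hmax hnil hc
  by_cases h1 : ∃ N : Subgroup G, N.Normal ∧ N ≠ ⊥ ∧ N ≤ M ∧ Inv A N
  · obtain ⟨N, hNn, hN1, hNM, hNi⟩ := h1
    letI := CA.Act.quotAct N hNi
    have hcm : (M.map (QuotientGroup.mk' N)).comap (QuotientGroup.mk' N) = M :=
      comap_map_eq_self (by simpa using hNM)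
    refine solv_of_normal N (solv_of_nil (nilp_of_le hNM)) ?_
    refine ih _ (hn ▸ card_quot_lt hN1) (A := A) rfl
      (hcop.coprime_dvd_right (card_quotient_dvd_card N)) (M.map (QuotientGroup.mk' N))
      (fun h => hM (by rw [← hcm, h, comap_top])) (inv_map_mk hNi hi) (fun H h2 h3 h4 => ?_)
      (nilp_map _ M) ?_
    · rw [← hmax (H.comap (QuotientGroup.mk' N)) (map_le_iff_le_comap.1 h2) (fun h => h3 ?_)
        (inv_comap_mk hNi h4), map_comap_eq_self_of_surjective (QuotientGroup.mk'_surjective N)]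
      rw [← map_comap_eq_self_of_surjective (QuotientGroup.mk'_surjective N) H, h,
        map_top_of_surjective _ (QuotientGroup.mk'_surjective N)]
    · rintro _ ⟨x, hx, rfl⟩ _ ⟨y, hy, rfl⟩ _ ⟨z, hz, rfl⟩
      rw [← map_commutatorElement, ← map_commutatorElement]
      exact (hc x hx y hy z hz).of_dvd_nat (orderOf_map_dvd _ _)
  have hN : ∀ X : Subgroup G, X ≤ M → X ≠ ⊥ → M ≤ normalizer (X : Set G) → Inv A X →
      normalizer (X : Set G) = M := fun X h2 h3 h4 h5 =>
    hmax _ h4 (fun h => h1 ⟨X, normalizer_eq_top_iff.1 h, h3, h2, h5⟩) h5.normalizer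
  by_cases hM1 : M = ⊥
  · subst hM1
    have hG : Nat.card G ≠ 1 := fun h => hM (by
      have := (Nat.card_eq_one_iff_unique.1 h).1; exact Subsingleton.elim _ _)
    obtain ⟨p, hp, hpG⟩ := Nat.exists_prime_and_dvd hG
    have : Fact p.Prime := ⟨hp⟩
    obtain ⟨P, hP⟩ := CA.CoprimeAct.exists_sylow hcop (CA.L0FT.solv_or hcop) p
    by_cases h : (P : Subgroup G) = ⊤
    · exact pg ((h ▸ P.isPGroup').of_equiv topEquiv)
    · exact absurd (hmax P bot_le h hP) (P.ne_bot_of_dvd_card hpG)
  have syl : ∀ (p : ℕ) [Fact p.Prime], p ∣ Nat.card M → ∃ P : Sylow p G, (P : Subgroup G) ≤ M ∧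
      (P : Subgroup G) ≠ ⊥ ∧ Inv A (P : Subgroup G) ∧ normalizer (P : Set G) = M := by
    intro p _ hp
    obtain ⟨S⟩ : Nonempty (Sylow p M) := inferInstance
    have := S.characteristic_of_normal inferInstance
    have hS := isSylowIn_map S
    have h2 : (S : Subgroup M).map M.subtype ≠ ⊥ := fun h =>
      S.ne_bot_of_dvd_card hp ((map_eq_bot_iff_of_injective _ M.subtype_injective).1 h)
    have h3 := hi.map_subtype (S : Subgroup M)
    have h4 := hN _ hS.le h2 (by
      intro m hm
      refine mem_normalizer_of_forall ?_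
      rintro _ ⟨x, hx, rfl⟩
      exact ⟨_, (inferInstance : (S : Subgroup M).Normal).conj_mem x hx ⟨m, hm⟩, rfl⟩) h3
    obtain ⟨Q, hQ⟩ := hS.exists_sylow_inf_eq
    have h5 : (Q : Subgroup G) = (S : Subgroup M).map M.subtype := by
      by_contra h
      have := lt_inf_normalizer Q.isPGroup' (lt_of_le_of_ne (hQ ▸ inf_le_left) (Ne.symm h))
      rw [h4, hQ] at this
      exact lt_irrefl _ this
    refine ⟨Q, h5 ▸ hS.le, h5 ▸ h2, h5 ▸ h3, ?_⟩
    change normalizer ((Q : Subgroup G) : Set G) = M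
    rw [h5, h4]
  by_cases ho : ∃ p : ℕ, p.Prime ∧ p ≠ 2 ∧ p ∣ Nat.card M
  · obtain ⟨p, hp, hp2, hpM⟩ := ho
    have : Fact p.Prime := ⟨hp⟩
    obtain ⟨P, hPM, hP1, hPi, hPN⟩ := syl p hpM
    have hnpc : HasNormalPComplement p G := by
      refine hasNPC_odd hp2 P ?_ ?_
      · rw [hN _ ((J_le _ _).trans hPM) (J_ne_bot dvd_rfl (dvd_card_of_ne_bot P.isPGroup' hP1))
          (hPN ▸ normalizer_le_normalizer_J p (P : Subgroup G)) (hPi.J p)]
        exact hnil
      · rw [hN _ (inf_le_left.trans hPM) (Z_ne_bot P.isPGroup' hP1)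
          (hPN ▸ normalizer_le_normalizer_Z (P : Subgroup G)) hPi.Z]
        exact hnil
    have hKP := (hasNPC_iff_inf_eq_bot P).1 hnpc
    have hK := hasNPC_iff_not_dvd.1 hnpc
    have hsup := pResidual_sup_sylow P
    have hdec := exists_mul_eq_pResidual_sylow P
    set K := pResidual p G
    refine solv_of_normal K ?_ (pg isPGroup_quotient_pResidual)
    letI := CA.Act.subAct (P : Subgroup G) hPi
    letI := sdAct (P : Subgroup G) hPi
    letI := CA.Act.subAct (A := CA.CoprimeAct.SD A (P : Subgroup G)) K (inv_of_characteristic K)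
    have hsm : ∀ (s : CA.CoprimeAct.SD A (P : Subgroup G)) (x : K),
        ((s • x : K) : G) = (s.left : G) * s.right • (x : G) * (s.left : G)⁻¹ := fun _ _ => rfl
    have hKt : K ≠ ⊤ := fun h => hK (by rw [h, card_top]; exact hpM.trans (card_subgroup_dvd_card M))
    refine ih _ (hn ▸ card_sub_lt hKt) (A := CA.CoprimeAct.SD A (P : Subgroup G))
      rfl ?_ (M.subgroupOf K) (fun h => hM ?_) (fun s x hx => ?_) (fun H h2 h3 h4 => ?_)
      (nilp_subgroupOf M K) (fun x hx y hy z hz => ?_)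
    · rw [SemidirectProduct.card]
      refine Nat.Coprime.mul_left ?_ (hcop.coprime_dvd_right (card_subgroup_dvd_card K))
      obtain ⟨k, hk⟩ := P.isPGroup'.exists_card_eq
      rw [hk]; exact Nat.Coprime.pow_left _ (hp.coprime_iff_not_dvd.2 hK)
    · rw [eq_top_iff, ← hsup]; exact sup_le (subgroupOf_eq_top.1 h) hPM
    · rw [mem_subgroupOf, hsm]
      exact mul_mem (mul_mem (hPM s.left.2) (hi _ _ hx)) (inv_mem (hPM s.left.2))
    · have hH : Inv A (H.map K.subtype) := by
        rintro a _ ⟨x, hx, rfl⟩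
        exact ⟨_, h4 (SemidirectProduct.inr a) x hx, by rw [coe_subtype, hsm]; simp⟩
      have hPH : (P : Subgroup G) ≤ normalizer (H.map K.subtype : Set G) := fun y hy =>
        mem_normalizer_of_forall (H := H.map K.subtype) (by
          rintro _ ⟨x, hx, rfl⟩
          exact ⟨_, h4 (SemidirectProduct.inl ⟨y, hy⟩) x hx, by rw [coe_subtype, hsm]; simp⟩)
      have hL := hmax (H.map K.subtype ⊔ P) (fun m hm => ?_) (fun h => h3 ?_) (hH.sup hPi)
      · refine le_antisymm (fun x hx => ?_) h2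
        rw [mem_subgroupOf, ← hL]
        exact mem_sup_left ⟨x, hx, rfl⟩
      · obtain ⟨k, hk, x, hx, rfl⟩ := hdec m
        refine mul_mem_sup ⟨⟨k, hk⟩, h2 ?_, rfl⟩ hx
        rw [mem_subgroupOf]
        simpa using mul_mem hm (inv_mem (hPM hx))
      · refine eq_top_iff.2 fun k _ => ?_
        have h5 : (k : G) ∈ ((H.map K.subtype ⊔ P : Subgroup G) : Set G) := by rw [h]; trivial
        rw [coe_mul_of_right_le_normalizer_left _ _ hPH] at h5
        obtain ⟨_, ⟨y, hy, rfl⟩, x, hx, e⟩ := h5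
        have h6 : x ∈ K ⊓ (P : Subgroup G) := ⟨by
          have : x = (y : G)⁻¹ * k := by rw [← e]; simp
          rw [this]; exact K.mul_mem (K.inv_mem y.2) k.2, hx⟩
        rw [hKP, mem_bot] at h6
        have : y = k := Subtype.ext (by simpa [h6] using e)
        exact this ▸ hy
    · rw [← orderOf_injective K.subtype K.subtype_injective, map_commutatorElement,
        map_commutatorElement]
      exact hc _ hx _ hy _ hz
  · have : Fact (Nat.Prime 2) := ⟨Nat.prime_two⟩
    obtain ⟨j, hj⟩ := dvd_pow_of_prime_factors (n := Nat.card M) (p := 2) Nat.card_pos.ne'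
      fun q hq hqM => by by_contra h; exact ho ⟨q, hq, h, hqM⟩
    have hM2 : IsPGroup 2 M := IsPGroup.of_card hj
    obtain ⟨P, hPM, hP1, hPi, hPN⟩ := syl 2 (dvd_card_of_ne_bot hM2 hM1)
    have hPM' : M = P := P.is_maximal' hM2 hPM
    subst hPM'
    have hnpc : HasNormalPComplement 2 G := by
      refine hasNPC_two (A := A) (fun a => ?_) P hP1 hPi (fun x hx y hy => ?_)
        fun X h2 h3 h4 h5 => (hN X h2 h3 h4 h5).le
      · refine Nat.coprime_two_right.1 ?_
        exact (hcop.coprime_dvd_left (orderOf_dvd_natCard a)).coprime_dvd_right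
          ((dvd_card_of_ne_bot hM2 hM1).trans (card_subgroup_dvd_card _))
      · have hm : ∀ x ∈ (P : Subgroup G), ∀ y ∈ (P : Subgroup G), ⁅x, y⁆ ∈ (P : Subgroup G) :=
          fun x hx y hy => mul_mem (mul_mem (mul_mem hx hy) (inv_mem hx)) (inv_mem hy)
        refine mem_Z.2 ⟨hm x hx y hy, fun z hz => ?_⟩
        exact (commutatorElement_eq_one_iff_mul_comm.1 (eq_one_of_coprime_of_mem hM2
          (hm _ (hm x hx y hy) z hz) (Nat.coprime_two_right.2 (hc x hx y hy z hz)))).symm
    refine solv_of_normal (pResidual 2 G) (Cfsg.Agent.S0205.result ?_)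
      (pg isPGroup_quotient_pResidual)
    exact Nat.not_even_iff_odd.1 fun h => hasNPC_iff_not_dvd.1 hnpc h.two_dvd

theorem solv_aux2 (n : ℕ) : ∀ {A : Type*} {G : Type u} [Group A] [Group G] [Finite A] [Finite G]
    [MulDistribMulAction A G], Nat.card G = n → (Nat.card A).Coprime (Nat.card G) →
    (∀ H : Subgroup G, H ≠ ⊤ → Inv A H → Group.IsNilpotent H) → Group.IsSolvable G := by
  induction n using Nat.strong_induction_on with
  | _ n ih =>
  intro A G _ _ _ _ _ hn hcop h
  by_cases h1 : ∃ N : Subgroup G, N.Normal ∧ N ≠ ⊥ ∧ N ≠ ⊤ ∧ Inv A N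
  · obtain ⟨N, hNn, hN1, hNM, hNi⟩ := h1
    letI := CA.Act.quotAct N hNi
    refine solv_of_normal N (solv_of_nil (h N hNM hNi)) ?_
    refine ih _ (hn ▸ card_quot_lt hN1) (A := A) rfl
      (hcop.coprime_dvd_right (card_quotient_dvd_card N)) fun H h3 h4 => ?_
    rw [← map_comap_eq_self_of_surjective (QuotientGroup.mk'_surjective N) H]
    have := h _ (fun h => h3 (by
      rw [← map_comap_eq_self_of_surjective (QuotientGroup.mk'_surjective N) H, h,
        map_top_of_surjective _ (QuotientGroup.mk'_surjective N)])) (inv_comap_mk hNi h4)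
    exact nilp_map _ _
  by_cases ho : ∃ p : ℕ, p.Prime ∧ p ≠ 2 ∧ p ∣ Nat.card G
  · obtain ⟨p, hp, hp2, hpG⟩ := ho
    have : Fact p.Prime := ⟨hp⟩
    obtain ⟨P, hP⟩ := CA.CoprimeAct.exists_sylow hcop (CA.L0FT.solv_or hcop) p
    have hP : Inv A (P : Subgroup G) := hP
    have hP1 := P.ne_bot_of_dvd_card hpG
    by_cases hPt : (P : Subgroup G) = ⊤
    · exact pg ((hPt ▸ P.isPGroup').of_equiv topEquiv)
    have hN : ∀ X : Subgroup G, X ≤ P → X ≠ ⊥ → Inv A X →
        Group.IsNilpotent (normalizer (X : Set G)) := fun X h2 h3 h4 =>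
      h _ (fun h5 => h1 ⟨X, normalizer_eq_top_iff.1 h5, h3, fun h6 => hPt (top_le_iff.1 (h6 ▸ h2)),
        h4⟩) h4.normalizer
    have hnpc := hasNPC_odd hp2 P (hN _ (J_le _ _)
      (J_ne_bot dvd_rfl (dvd_card_of_ne_bot P.isPGroup' hP1)) (hP.J p))
      (hN _ inf_le_left (Z_ne_bot P.isPGroup' hP1) hP.Z)
    refine pg (p := p) (pResidual_eq_bot_iff.1 ?_)
    by_contra h2
    exact h1 ⟨_, inferInstance, h2, fun h3 => hasNPC_iff_not_dvd.1 hnpc (by rwa [h3, card_top]),
      inv_of_characteristic _⟩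
  · have : Fact (Nat.Prime 2) := ⟨Nat.prime_two⟩
    obtain ⟨j, hj⟩ := dvd_pow_of_prime_factors (n := Nat.card G) (p := 2) Nat.card_pos.ne'
      fun q hq hqM => by by_contra h; exact ho ⟨q, hq, h, hqM⟩
    exact pg (IsPGroup.of_card hj)

end CA.L0Inv
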