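import Cfsg.Agent.Lib.Odd.BG4x3

/-! Huppert's criterion: an odd `p`-group all of whose sections of exponent `p` have order at most
`p ^ 2` is metacyclic. -/

set_option autoImplicit false
set_option linter.unusedSectionVars false

namespace CA.Rk2a

open Subgroup Cfsg CA.OQuo CA.BG CA.BG4
open scoped commutatorElement

universe u

variable {G : Type u} [Group G] [Finite G] {p : ℕ} {R T : Subgroup G}

/-- the `p`-th powers of every subgroup generate a subgroup of index at most `p ^ 2` -/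
def SQ (p : ℕ) (R : Subgroup G) : Prop :=
  ∀ T U : Subgroup G, T ≤ U → U ≤ R → (∀ x ∈ U, x ^ p ∈ T) → ♯U ≤ ♯T * p ^ 2

theorem SQ.quo (h : SQ p R) (hT : T ≤ R) (hn : R ≤ 𝓝(T)) : SQ p (R /ᵍ T) := fun A U h1 h2 h4 => by
  have := h (mpre (qh T) A) (mpre (qh T) U) (mpre_mono _ h1) (qpre_le hn hT h2) fun x hx => by
    rw [mem_mpre] at hx ⊢
    exact ⟨pow_mem hx.1 p, by rw [mel_pow _ hx.1]; exact h4 _ hx.2⟩
  rw [card_qpre, card_qpre, mul_right_comm] at this
  exact Nat.le_of_mul_le_mul_right this (card_pos' _)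

theorem SQ.card_omega (h : SQ p R) (hp : p.Prime) (h2 : p ≠ 2) (hR : IsPi {p} R)
    (hd : ♯⁅R, R⁆ ∣ p) : ♯(Ω₁(p, R)) ≤ p ^ 2 := by
  have := h ⊥ _ bot_le (omega_le p R) (expDvd_omega_two (hp.odd_of_ne_two h2)
    (cent_symm (cent_of_card' hp hR (le_norm_comm_left R R) hd)))
  simpa using this

theorem huppert_sq (hp : p.Prime) (h3 : p ≠ 2) (m : ℕ) :
    ∀ {G : Type u} [Group G] [Finite G] {R : Subgroup G}, ♯R < m → IsPi {p} R → SQ p R →
      IsMetacyclic R := by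
  induction m with
  | zero => intros; omega
  | succ m ih =>
    intro G _ _ R hm hR h
    refine by_contra fun hmeta => hmeta ((fun hd => metacyclic_of_der_dvd hp h3 hR hd
      (h.card_omega hp h3 hR hd)) ?_)
    rcases eq_or_ne ⁅R, R⁆ ⊥ with h0 | h0
    · rw [h0]; simp
    let M : Subgroup G := closure {z | ∃ x ∈ ⁅R, R⁆, x ^ p = z}
    have hM : M ≤ ⁅R, R⁆ := (closure_le _).2 (by rintro _ ⟨x, hx, rfl⟩; exact pow_mem hx p)
    obtain ⟨T, h1, h2, h4, h5⟩ : ∃ T, T ≤ ⁅R, R⁆ ∧ R ≤ 𝓒(T) ∧ ♯T = p ∧ (ExpDvd ⁅R, R⁆ p ∨ T ≤ M) := by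
      rcases eq_or_ne M ⊥ with h6 | h6
      · obtain ⟨T, h1, h2, h4⟩ := exists_normal_prime hp hR (hR.of_le (der_le R))
          (le_norm_comm_left R R) h0
        exact ⟨T, h1, h2, h4, Or.inl fun x hx => mem_bot.1 (h6 ▸ subset_closure ⟨x, hx, rfl⟩)⟩
      · obtain ⟨T, h1, h2, h4⟩ := exists_normal_prime hp hR (hR.of_le (hM.trans (der_le R)))
          (norm_closure (by
            rintro g hg _ ⟨x, hx, rfl⟩
            exact ⟨_, conj_mem_of_norm (le_norm_comm_left R R) hg hx, conj_pow⟩)) h6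
        exact ⟨T, h1.trans hM, h2, h4, Or.inr h1⟩
    have hT := h1.trans (der_le R)
    have hn := norm_of_cent h2
    obtain ⟨S, h6, h7, h8, h9⟩ := metacyclic_iff.1 (ih (R := R /ᵍ T)
      (by have := card_quo_lt_of_le hn hT (ne_bot_of_prime (h4 ▸ hp)); omega) (hR.mim _)
      (h.quo hT hn))
    obtain ⟨s, rfl⟩ := exists_zpowers_of_cyc h8
    obtain ⟨a, ha, rfl⟩ := (mem_mim_of_le hn).1 (h6 (mem_zpowers s))
    obtain ⟨t, ht, h9⟩ := h9
    obtain ⟨b, hb, rfl⟩ := (mem_mim_of_le hn).1 ht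
    have ha' := zpowers_le.2 ha
    have hb' := zpowers_le.2 hb
    rw [← mim_zpowers _ (hn ha)] at h7 h9
    rw [← mim_zpowers _ (hn hb), ← quo_sup (hb'.trans hn) (ha'.trans hn),
      quo_le_quo_iff' hn (sup_le (hb'.trans hn) (ha'.trans hn))] at h9
    have hN := le_normalizer_sup_of_quo hn (ha'.trans hn) h7
    have h10 : zpowers b ⊔ zpowers a = R := Phi_nongen (sup_le hb' ha')
      (h9.trans (sup_le_sup_left (h1.trans (der_le_Phi hp hR)) _))
    have h11 : ¬ T ≤ zpowers a := fun hle =>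
      hmeta (metacyclic_of_sup ha hb (by rwa [sup_eq_left.2 hle] at hN) h10.ge)
    have hTp : ExpDvd T p := fun x hx => pow_eq_one_of_card h4 hx
    have key : ∀ c ∈ R, ∀ z ∈ zpowers c ⊔ T, z ^ p ∈ zpowers (c ^ p) := fun c hc z hz => by
      obtain ⟨_, ⟨i, rfl⟩, t, ht, rfl⟩ := (mem_sup_norm ((zpowers_le.2 hc).trans hn)).1 hz
      rw [(commute_of_cent (h2 (zpow_mem hc i)) ht).mul_pow, hTp t ht, mul_one]
      exact ⟨i, by simp only [← zpow_natCast, ← zpow_mul, mul_comm]⟩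
    have h12 : R ≤ 𝓝(zpowers (a ^ p)) := by
      rw [zpowers_eq_closure]
      intro g hg
      refine mem_norm_of_cj_le ?_
      rw [← zpowers_eq_closure, cj_zpowers, zpowers_le, ← conj_pow]
      exact key a ha _ (conj_mem_of_norm hN hg (mem_sup_left (mem_zpowers a)))
    have hN1 : R ≤ 𝓝(zpowers (a ^ p) ⊔ T) := norm_sup h12 hn
    have hle : zpowers (a ^ p) ⊔ T ≤ zpowers a ⊔ T :=
      sup_le_sup_right (zpowers_le.2 (pow_mem (mem_zpowers a) p)) T
    have h13 : ⁅zpowers a ⊔ T, R⁆ ≤ zpowers (a ^ p) ⊔ T := by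
      refine comm_le_of_card hp hR le_rfl (sup_le ha' hT) hN hN1 hle ?_
      have e : zpowers a ⊔ T = zpowers a ⊔ (zpowers (a ^ p) ⊔ T) := by
        rw [← sup_assoc, sup_eq_left.2 (zpowers_le.2 (pow_mem (mem_zpowers a) p))]
      rw [← card_mul_relIndex hle, e, relIndex_sup_norm (ha'.trans hN1)]
      exact Nat.mul_dvd_mul_left _ ((relIndex_dvd_of_le_left _ le_sup_left).trans
        (relIndex_zpowers_pow_dvd a p))
    have h14 : ⁅R, R⁆ ≤ zpowers (a ^ p) ⊔ T := by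
      nth_rw 1 2 [← h10]
      refine der_sup_le_of_norm (hb'.trans hN1) (ha'.trans hN1) (by rw [der_zpowers]; exact bot_le)
        (by rw [der_zpowers]; exact bot_le) ?_
      rw [comm_symm]; exact (commutator_mono le_sup_left hb').trans h13
    have h15 : ExpDvd ⁅R, R⁆ p := h5.resolve_right fun hTM => h11 (hTM.trans ((closure_le _).2 (by
      rintro _ ⟨x, hx, rfl⟩
      exact zpowers_le.2 (pow_mem (pow_mem (mem_zpowers a) p) p) (key _ (pow_mem ha p) x (h14 hx)))))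
    have hc := commutator_mem_commutator ha hb
    have h16 : zpowers (a ^ p) ⊔ T ≤ 𝓒₁(a) :=
      sup_le (zpowers_le.2 (pow_mem (mem_cent1_self a) p)) (le_cent1_iff.2 (h2 ha))
    have h17 : a ^ p ∈ 𝓒₁(b) := by
      rw [mem_cent1, ← commutatorElement_eq_one_iff_mul_comm,
        CA.PGClassTwo.comm_pow_left (mem_cent1.1 (h16 (h14 hc))).symm, h15 _ hc]
    have h18 : zpowers (a ^ p) ⊔ T ≤ 𝓒(R) := by
      rw [← h10, cent_sup, cent_zpowers, cent_zpowers]
      exact le_inf (sup_le (zpowers_le.2 h17) (le_cent1_iff.2 (h2 hb))) h16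
    refine (card_dvd (der_le_zpowers ha hb (by rw [sup_comm, h10]) (h18 (h14 hc)))).trans ?_
    rw [Nat.card_zpowers]; exact orderOf_dvd_of_pow_eq_one (h15 _ hc)

end CA.Rk2a
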