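import Cfsg.Agent.Lib.Grp.Rk2a
import Cfsg.Agent.S0112

/-! Odd `p`-groups of rank two: the frame `E = ⟨z, y⟩`, `C = C(E)`. -/

set_option autoImplicit false
set_option linter.unusedSectionVars false

namespace CA.Rk2b

open Subgroup Cfsg CA.BG CA.Rk2a
open scoped commutatorElement

universe u

theorem semi_aux {p : ℕ} (hp : p.Prime) (h2 : p ≠ 2) (n : ℕ) : ∀ (H : Type u) [Group H] [Finite H],
    Nat.card H < n → IsPGroup p H → (∀ t : H, t ^ p = 1 → t ∈ center H) →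
    ∀ a b : H, a ^ p = b ^ p → (a * b⁻¹) ^ p = 1 := by
  induction n with
  | zero => intros; omega
  | succ n ih =>
  intro H _ _ hn hH h a b hab
  have := Fact.mk hp
  have := hH.isNilpotent
  have hc : ⁅b⁻¹, a⁆ ^ p = 1 := by
    rcases eq_top_or_exists_le_coatom (zpowers a) with e | ⟨M, hM, hle⟩
    · obtain ⟨i, rfl⟩ : b ∈ zpowers a := e ▸ mem_top b
      rw [commutatorElement_eq_one_iff_commute.2 (Commute.zpow_self a i).inv_left, one_pow]
    have hN := NormalizerCondition.normal_of_coatom M Group.normalizerCondition_of_isNilpotent hM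
    have ha : a ∈ M := hle (mem_zpowers a)
    have := ih M (by
        have := (card_le_card_group M).lt_of_ne fun e => hM.1 ((card_eq_iff_eq_top M).1 e)
        omega) (hH.to_subgroup M)
      (fun t ht => mem_center_iff.2 fun g => Subtype.ext
        (mem_center_iff.1 (h t (by simpa using congrArg Subtype.val ht)) g))
      ⟨_, hN.conj_mem a ha b⁻¹⟩ ⟨a, ha⟩ (Subtype.ext (by
        show (b⁻¹ * a * b⁻¹⁻¹) ^ p = a ^ p
        rw [conj_pow, hab]; group))
    exact congrArg Subtype.val this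
  have hz := mem_center_iff.1 (h _ hc)
  rw [CA.PGClassTwo.mul_pow_odd (hz a) (hz b⁻¹) (hp.odd_of_ne_two h2) hc, hab, inv_pow,
    mul_inv_cancel]

variable {G : Type u} [Group G]

theorem conj_pow_eq {x d e : G} (h : x⁻¹ * d * x = e * d) (hc : Commute e d) (k : ℕ) :
    d ^ k * x = x * (e ^ k * d ^ k) := by
  rw [← hc.mul_pow, ← h, show x⁻¹ * d * x = x⁻¹ * d * x⁻¹⁻¹ by rw [inv_inv], conj_pow]; group

theorem mul_pow3 {x d e f : G} (h1 : x⁻¹ * d * x = e * d) (h2 : x⁻¹ * e * x = f * e)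
    (c1 : Commute e d) (hf : f ∈ center G) (n : ℕ) :
    (x * d) ^ n = x ^ n * d ^ n * e ^ n.choose 2 * f ^ n.choose 3 := by
  have cf : ∀ (k : ℕ) g, g * f ^ k = f ^ k * g := fun k => mem_center_iff.1 (pow_mem hf k)
  induction n with
  | zero => simp
  | succ n ih =>
    have e1 := conj_pow_eq h1 c1 n
    have e2 := conj_pow_eq h2 (mem_center_iff.1 hf e).symm (n.choose 2)
    rw [pow_succ, ih, Nat.choose_succ_succ' n 1, Nat.choose_succ_succ' n 2, Nat.choose_one_right,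
      pow_add, pow_add, pow_succ x, pow_succ d]
    generalize n.choose 2 = a at *
    generalize n.choose 3 = b at *
    have c2 : ∀ i j : ℕ, e ^ i * d ^ j = d ^ j * e ^ i := fun i j => (c1.pow_pow i j).eq
    have c3 : ∀ i : ℕ, e ^ i * d = d * e ^ i := fun i => (c1.pow_left i).eq
    calc x ^ n * d ^ n * e ^ a * f ^ b * (x * d) = x ^ n * d ^ n * (e ^ a * x) * d * f ^ b := by
          rw [mul_assoc _ (f ^ b), ← cf b]; group
      _ = x ^ n * (d ^ n * x) * (e ^ a * d) * (f ^ a * f ^ b) := by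
          rw [e2, ← cf a (e ^ a)]
          simp only [mul_assoc]
          rw [← mul_assoc (f ^ a) d, ← cf a d, mul_assoc]
      _ = x ^ n * x * (d ^ n * (e ^ n * d) * e ^ a) * (f ^ a * f ^ b) := by
          rw [e1, c2, c3 a]; group
      _ = _ := by rw [c3 n]; group

theorem conj_by_pow {x d e f : G} (h1 : x⁻¹ * d * x = e * d) (h2 : x⁻¹ * e * x = f * e)
    (hf : f ∈ center G) (n : ℕ) :
    (x ^ n)⁻¹ * d * x ^ n = f ^ n.choose 2 * e ^ n * d := by
  have cf : ∀ (k : ℕ) g, g * f ^ k = f ^ k * g := fun k => mem_center_iff.1 (pow_mem hf k)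
  induction n with
  | zero => simp
  | succ n ih =>
    have e2 := conj_pow_eq h2 (mem_center_iff.1 hf e).symm n
    calc (x ^ (n + 1))⁻¹ * d * x ^ (n + 1) = x⁻¹ * ((x ^ n)⁻¹ * d * x ^ n) * x := by group
      _ = f ^ n.choose 2 * (x⁻¹ * (e ^ n * x)) * (x⁻¹ * d * x) := by
          rw [ih, mul_assoc (f ^ _), ← mul_assoc x⁻¹, cf]; group
      _ = _ := by
          rw [e2, h1, Nat.choose_succ_succ' n 1, Nat.choose_one_right, add_comm n]; group

theorem exists_desc {K : Subgroup G} {p : ℕ} (m : ℕ) : ∀ g, g ∉ K → g ^ p ^ m = 1 →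
    ∃ h ∈ zpowers g, h ∉ K ∧ h ^ p ∈ K := by
  induction m with
  | zero => intro g h1 h2; exact absurd (show g = 1 by simpa using h2) fun e => h1 (e ▸ K.one_mem)
  | succ m ih =>
    intro g h1 h2
    by_cases h : g ^ p ∈ K
    · exact ⟨g, mem_zpowers g, h1, h⟩
    obtain ⟨k, h3, h4⟩ := ih _ h (by rw [← pow_mul, ← pow_succ', h2])
    exact ⟨k, zpowers_le.2 (pow_mem (mem_zpowers g) p) h3, h4⟩

/-- the frame -/
structure Fr (p : ℕ) (E : Subgroup G) (z y : G) : Prop where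
  hp : p.Prime
  h2 : p ≠ 2
  hG : IsPGroup p G
  rk : PRankLE p 2 G
  el : IsElementaryAbelian p E
  card : Nat.card E = p ^ 2
  zE : z ∈ E
  zc : z ∈ center G
  oz : orderOf z = p
  yE : y ∈ E
  yz : y ∉ zpowers z
  comm : ∀ g, ∀ e ∈ E, g⁻¹ * e * g * e⁻¹ ∈ zpowers z

variable [Finite G] {p : ℕ} {E : Subgroup G} {z y : G}

theorem exists_fr (hp : p.Prime) (h2 : p ≠ 2) (hG : IsPGroup p G) (rk : PRankLE p 2 G)
    (hc : ¬ IsCyclic G) : ∃ (E : Subgroup G) (z y : G), Fr p E z y := by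
  have := Fact.mk hp
  rcases CA.PGNormalCyclic.trichotomy hG with h | ⟨E, h1, h3, h4⟩ | h
  · exact absurd h hc
  swap
  · exact absurd h.1 h2
  obtain ⟨z, hz1, hz2, hz3⟩ := CA.PGBasic.exists_mem_center_orderOf hG (M := E) (by
    rintro rfl
    exact (Nat.one_lt_pow two_ne_zero hp.one_lt).ne (by simpa using h4))
  obtain ⟨y, hy1, hy2⟩ : ∃ y ∈ E, y ∉ zpowers z := by
    by_contra h
    push Not at h
    have := card_le_of_le h
    rw [h4, Nat.card_zpowers, hz3] at this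
    nlinarith [hp.two_le]
  have hn : (zpowers z).Normal := ⟨by
    rintro _ ⟨i, rfl⟩ g
    rw [mem_center_iff.1 (zpow_mem hz2 i) g, mul_inv_cancel_right]; exact ⟨i, rfl⟩⟩
  refine ⟨E, z, y, hp, h2, hG, rk, h3, h4, hz1, hz2, hz3, hy1, hy2, fun g e he => ?_⟩
  have := CA.BG4.comm_le_of_card hp (isPi_of_isPGroup hp (hG.to_subgroup ⊤)) le_rfl le_top
    (normalizer_eq_top_iff.2 h1).ge (normalizer_eq_top_iff.2 hn).ge (zpowers_le.2 hz1)
    (by rw [h4, Nat.card_zpowers, hz3, sq])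
  simpa [commutatorElement_def, mul_assoc] using
    inv_mem (this (commutator_mem_commutator he (mem_top g⁻¹)))

namespace Fr

variable (F : Fr p E z y)
include F

theorem zle : zpowers z ≤ E := zpowers_le.2 F.zE

theorem zcen {f : G} (h : f ∈ zpowers z) : f ∈ center G := zpowers_le.2 F.zc h

theorem cz : Nat.card (zpowers z) = p := by rw [Nat.card_zpowers, F.oz]

theorem gen {f : G} (h : f ∈ zpowers z) (h1 : f ≠ 1) : zpowers f = zpowers z := by
  refine eq_of_le_of_card_ge (zpowers_le.2 h) ?_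
  rcases (Nat.dvd_prime F.hp).1 (F.cz ▸ card_dvd_of_le (zpowers_le.2 h)) with e | e
  · exact absurd (by simpa using e) h1
  · rw [e, F.cz]

theorem between {K : Subgroup G} (h1 : zpowers z ≤ K) (h2 : K ≤ E) {k : G} (hk : k ∈ K)
    (hk' : k ∉ zpowers z) : K = E := by
  refine eq_of_le_of_card_ge h2 ?_
  obtain ⟨i, hi, e⟩ := (Nat.dvd_prime_pow F.hp).1 (F.card ▸ card_dvd_of_le h2)
  have h3 : Nat.card (zpowers z) < Nat.card K :=
    (card_le_of_le h1).lt_of_ne fun e => hk' (eq_of_le_of_card_ge h1 e.ge ▸ hk)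
  rw [F.cz, e] at h3
  have : 1 < i := (Nat.pow_lt_pow_iff_right F.hp.one_lt).1 (by rwa [pow_one])
  rw [F.card, e, show i = 2 by omega]

theorem E_le : E ≤ centralizer (E : Set G) := fun a ha => mem_centralizer_iff.2 fun b hb =>
  congrArg Subtype.val (F.el.1.1.1 ⟨b, hb⟩ ⟨a, ha⟩)

theorem mem_C {g e : G} (he : e ∈ E) (he' : e ∉ zpowers z) (h : g * e = e * g) :
    g ∈ centralizer (E : Set G) := by
  have := F.between (K := E ⊓ centralizer {g}) (le_inf F.zle fun a ha =>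
    mem_centralizer_singleton_iff.2 (mem_center_iff.1 (F.zcen ha) g).symm) inf_le_left
    ⟨he, mem_centralizer_singleton_iff.2 h.symm⟩ he'
  exact mem_centralizer_iff.2 fun a ha => mem_centralizer_singleton_iff.1 (this.ge ha).2

theorem mem_z {x e : G} (hx : x ∉ centralizer (E : Set G)) (he : e ∈ E) (h : x * e = e * x) :
    e ∈ zpowers z := by_contra fun h' => hx (F.mem_C he h' h)

/-- the commutator with `y` -/
def chi : G →* G := MonoidHom.mk' (fun g => g⁻¹ * y * g * y⁻¹) fun a b => by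
  have h := mem_center_iff.1 (F.zcen (F.comm a y F.yE))
  calc (a * b)⁻¹ * y * (a * b) * y⁻¹ = b⁻¹ * (a⁻¹ * y * a * y⁻¹) * (y * b * y⁻¹) := by group
    _ = _ := by rw [h]; group

theorem ker_chi : F.chi.ker = centralizer (E : Set G) := by
  ext g
  refine ⟨fun h => F.mem_C F.yE F.yz ?_, fun h => ?_⟩
  · have : g⁻¹ * y * g * y⁻¹ = 1 := h
    calc g * y = g * (g⁻¹ * y * g * y⁻¹ * y) := by rw [this, one_mul]
      _ = _ := by group
  · show g⁻¹ * y * g * y⁻¹ = 1
    rw [mul_assoc g⁻¹, mem_centralizer_iff.1 h y F.yE]; group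

theorem normal_C : (centralizer (E : Set G)).Normal := F.ker_chi ▸ inferInstance

theorem dec {x : G} (hx : x ∉ centralizer (E : Set G)) (g : G) :
    ∃ c ∈ centralizer (E : Set G), ∃ i : ℤ, g = c * x ^ i := by
  obtain ⟨i, hi⟩ : F.chi g ∈ zpowers (F.chi x) :=
    F.gen (F.comm x y F.yE) (fun e => hx (F.ker_chi ▸ e)) ▸ F.comm g y F.yE
  refine ⟨g * (x ^ i)⁻¹, F.ker_chi ▸ ?_, i, by group⟩
  rw [MonoidHom.mem_ker, map_mul, map_inv, map_zpow, ← hi, mul_inv_cancel]

theorem index_C {x : G} (hx : x ∉ centralizer (E : Set G)) :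
    (centralizer (E : Set G)).index = p := by
  rw [← F.ker_chi, index_ker, show F.chi.range = zpowers z from ?_, F.cz]
  refine le_antisymm (by rintro _ ⟨g, rfl⟩; exact F.comm g y F.yE) ?_
  rw [← F.gen (F.comm x y F.yE) (fun e => hx (F.ker_chi ▸ e)), zpowers_le]
  exact ⟨x, rfl⟩

theorem om {t : G} (ht : t ∈ centralizer (E : Set G)) (h : t ^ p = 1) : t ∈ E := by
  have hn : zpowers t ≤ normalizer (E : Set G) := zpowers_le.2 (centralizer_le_normalizer _ ht)
  have h1 : ∀ a ∈ E ⊔ zpowers t, ∃ e ∈ E, ∃ i : ℤ, a = e * t ^ i := fun a ha => by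
    obtain ⟨e, he, _, ⟨i, rfl⟩, rfl⟩ := (CA.Rad.mem_sup_iff_of_le_normalizer' hn).1 ha
    exact ⟨e, he, i, rfl⟩
  have hc : ∀ e ∈ E, ∀ i : ℤ, Commute e (t ^ i) := fun e he i =>
    Commute.zpow_right (mem_centralizer_iff.1 ht e he) i
  have := F.rk (E ⊔ zpowers t) ⟨⟨fun a b => Subtype.ext (by
      obtain ⟨e, he, i, h2⟩ := h1 a a.2
      obtain ⟨e', he', j, h3⟩ := h1 b b.2
      show (a : G) * b = b * a
      rw [h2, h3]
      exact (Commute.mul_left (Commute.mul_right (mem_centralizer_iff.1 (F.E_le he') e he)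
        (hc e he j)) (Commute.mul_right (hc e' he' i).symm (Commute.zpow_zpow_self t i j))).eq)⟩⟩
    fun a ha => by
      obtain ⟨e, he, i, rfl⟩ := h1 a ha
      rw [(hc e he i).mul_pow, F.el.2 e he, ← zpow_natCast, ← zpow_mul, mul_comm i, zpow_mul,
        zpow_natCast, h, one_zpow, one_mul]
  rw [eq_of_le_of_card_ge (le_sup_left : E ≤ E ⊔ zpowers t) (F.card ▸ this)]
  exact mem_sup_right (mem_zpowers t)

theorem semi {a b : G} (ha : a ∈ centralizer (E : Set G)) (hb : b ∈ centralizer (E : Set G))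
    (h : a ^ p = b ^ p) : a * b⁻¹ ∈ E := by
  refine F.om (mul_mem ha (inv_mem hb)) (congrArg Subtype.val (semi_aux F.hp F.h2 _
    (centralizer (E : Set G)) (Nat.lt_succ_self _) (F.hG.to_subgroup _) (fun t ht => ?_)
    ⟨a, ha⟩ ⟨b, hb⟩ (Subtype.ext h)))
  exact mem_center_iff.2 fun g => Subtype.ext (mem_centralizer_iff.1 g.2 t
    (F.om t.2 (congrArg Subtype.val ht))).symm

theorem count {H : Subgroup G} (hH : H ≤ centralizer (E : Set G)) {S : Set G}
    (hS : ∀ a ∈ H, a ^ p ∈ S) : Nat.card H ≤ S.ncard * p ^ 2 := by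
  classical
  let s : G → G := fun t => if h : ∃ a ∈ H, a ^ p = t then h.choose else 1
  have hs : ∀ a ∈ H, s (a ^ p) ∈ H ∧ s (a ^ p) ^ p = a ^ p := fun a ha => by
    have h : ∃ b ∈ H, b ^ p = a ^ p := ⟨a, ha, rfl⟩
    simp only [s, dif_pos h]; exact h.choose_spec
  rw [← F.card, ← Nat.card_coe_set_eq, ← Nat.card_prod]
  refine Nat.card_le_card_of_injective (fun a : H => ((⟨_, hS a a.2⟩ : S),
    (⟨_, F.semi (hH a.2) (hH (hs a a.2).1) (hs a a.2).2.symm⟩ : E))) fun a b h => ?_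
  have h1 : (a : G) ^ p = b ^ p := congrArg (fun t => (t.1 : G)) h
  have h2 : (a : G) * (s (a ^ p))⁻¹ = b * (s (b ^ p))⁻¹ := congrArg (fun t => (t.2 : G)) h
  rw [h1] at h2
  exact Subtype.ext (mul_right_cancel h2)

theorem maxcls {n : ℕ} (hn : Nat.card G = p ^ n) {x : G} (hx : x ∉ centralizer (E : Set G))
    (h1 : x ^ p ∈ zpowers z)
    (h : ∀ g ∈ centralizer (E : Set G), g * x = x * g → g ∈ zpowers z) :
    2 ≤ n ∧ (⊤ : Subgroup G).lowerCentralSeries (n - 2) ≠ ⊥ := by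
  have := Fact.mk F.hp
  have := F.hG.isNilpotent
  have hc : Nat.card (zpowers z ⊔ zpowers x : Subgroup G) = p ^ 2 := by
    rw [CA.BG4.card_sup_zpowers F.hp (centralizer_le_normalizer _ (mem_centralizer_iff.2 fun a ha =>
      (mem_center_iff.1 (F.zcen ha) x).symm)) (fun e => hx (F.E_le (F.zle e))) h1, F.cz, sq]
  have h2 : 2 ≤ n := (Nat.pow_dvd_pow_iff_le_right F.hp.one_lt).1
    (hc ▸ hn ▸ card_subgroup_dvd_card _)
  have := Cfsg.Agent.S0112.result n hn _ hc (le_antisymm (fun g hg => ?_) (by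
    have : ∀ g, g * x = x * g → g ∈ centralizer ((zpowers z ⊔ zpowers x : Subgroup G) : Set G) :=
      fun g hg => le_centralizer_iff.1 (sup_le (fun a ha => center_le_centralizer _ (F.zcen ha))
        (zpowers_le.2 (mem_centralizer_iff.2 (by
          rintro _ ⟨i, rfl⟩; exact ((show Commute g x from hg).zpow_left i).eq)))) (mem_zpowers g)
    exact sup_le (fun a ha => center_le_centralizer _ (F.zcen ha)) (zpowers_le.2 (this x rfl))))
  · refine ⟨h2, fun e => ?_⟩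
    rw [Subgroup.lowerCentralSeries_eq_bot_iff_nilpotencyClass_le] at e
    omega
  · obtain ⟨c, h3, i, rfl⟩ := F.dec hx g
    have h4 := mem_centralizer_iff.1 hg x (mem_sup_right (mem_zpowers x))
    refine mul_mem (mem_sup_left (h c h3 ?_)) (mem_sup_right ⟨i, rfl⟩)
    calc c * x = c * x ^ i * x * (x ^ i)⁻¹ := by group
      _ = _ := by rw [← h4]; group

/-- a `p`-th root of an element of `⟨z⟩` centralizing `x` -/
theorem root {x g f : G} (hx : x ∉ centralizer (E : Set G)) (hg : g ∈ centralizer (E : Set G))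
    (h1 : g * x = x * g) (h2 : g ∉ zpowers z) (hf : f ∈ zpowers z) :
    ∃ k ∈ centralizer (E : Set G), k * x = x * k ∧ k ^ p = f := by
  obtain ⟨m, hm⟩ := F.hG g
  obtain ⟨_, ⟨i, rfl⟩, h3, h4⟩ := exists_desc m g h2 hm
  have c1 : Commute (g ^ i) x := (show Commute g x from h1).zpow_left i
  have h5 : (g ^ i) ^ p ≠ 1 := fun e => h3 (F.mem_z hx (F.om (zpow_mem hg i) e) c1.symm)
  obtain ⟨j, hj⟩ : f ∈ zpowers ((g ^ i) ^ p) := F.gen h4 h5 ▸ hf
  exact ⟨(g ^ i) ^ j, zpow_mem (zpow_mem hg i) j, c1.zpow_left j,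
    by rw [← hj, ← zpow_natCast, ← zpow_natCast, ← zpow_mul, mul_comm, zpow_mul]⟩

theorem pow_eq {x d : G} (hd : d ∈ centralizer (E : Set G)) (h : x⁻¹ * d * x * d⁻¹ ∈ E) :
    (x * d) ^ p = x ^ p * d ^ p *
      (x⁻¹ * (x⁻¹ * d * x * d⁻¹) * x * (x⁻¹ * d * x * d⁻¹)⁻¹) ^ p.choose 3 := by
  obtain ⟨k, hk⟩ := CA.PGClassTwo.dvd_choose_two (F.hp.odd_of_ne_two F.h2)
  rw [mul_pow3 (e := x⁻¹ * d * x * d⁻¹) (by group) (inv_mul_cancel_right _ _).symm
    (mem_centralizer_iff.1 hd _ h) (F.zcen (F.comm x _ h)), hk, pow_mul, F.el.2 _ h, one_pow, mul_one]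

theorem caseB {n : ℕ} (hn : Nat.card G = p ^ n) (h : ∀ t : G, t ^ p = 1 → t ∈ centralizer (E : Set G)) :
    (2 ≤ n ∧ (⊤ : Subgroup G).lowerCentralSeries (n - 2) ≠ ⊥) ∨ SQ p (⊤ : Subgroup G) := by
  refine or_iff_not_imp_left.2 fun h0 T U h1 _ h3 => ?_
  by_cases hU : U ≤ centralizer (E : Set G)
  · exact F.count hU h3
  obtain ⟨x, hxU, hx⟩ := SetLike.not_le_iff_exists.1 hU
  have := Fact.mk F.hp
  have h4 : ∀ a ∈ U ⊓ centralizer (E : Set G), a ^ p ≠ x ^ p := fun a ha e => by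
    have hn' := F.normal_C
    have h5 : x⁻¹ * a⁻¹ * x * a⁻¹⁻¹ ∈ E := F.semi (by simpa using hn'.conj_mem _ (inv_mem ha.2) x⁻¹)
      (inv_mem ha.2) (by
        rw [show x⁻¹ * a⁻¹ * x = x⁻¹ * a⁻¹ * x⁻¹⁻¹ by rw [inv_inv], conj_pow, inv_pow, e]; group)
    have h6 : (x * a⁻¹) ^ p ∈ zpowers z := by
      rw [F.pow_eq (inv_mem ha.2) h5, inv_pow, e, mul_inv_cancel, one_mul]
      exact pow_mem (F.comm x _ h5) _
    have h7 : x * a⁻¹ ∉ centralizer (E : Set G) := fun e =>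
      hx ((Subgroup.mul_mem_cancel_right _ (inv_mem ha.2)).1 e)
    refine h0 (F.maxcls hn h7 h6 fun g hg hc => by_contra fun hz => ?_)
    obtain ⟨k, k1, k2, k3⟩ := F.root h7 hg hc hz (inv_mem h6)
    refine h7 ((Subgroup.mul_mem_cancel_left _ k1).1 (h _ ?_))
    rw [(show Commute k _ from k2).mul_pow, k3, inv_mul_cancel]
  have h5 := F.count (H := U ⊓ centralizer (E : Set G)) inf_le_right (S := (T : Set G) \ {x ^ p})
    fun a ha => ⟨h3 a ha.1, h4 a ha⟩
  rw [Set.ncard_sdiff_singleton_of_mem (h3 x hxU), ← Nat.card_coe_set_eq] at h5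
  have hn' := F.normal_C
  have h6 := CA.Rad.card_inf_mul_relIndex (centralizer (E : Set G)) U
  have h7 := Nat.le_of_dvd F.hp.pos (F.index_C hx ▸ relIndex_dvd_index_of_normal _ U)
  rw [inf_comm] at h6
  obtain ⟨i, hi⟩ := IsPGroup.iff_card.1 (F.hG.to_subgroup (U ⊓ centralizer (E : Set G)))
  obtain ⟨j, hj⟩ := IsPGroup.iff_card.1 (F.hG.to_subgroup T)
  have h8 : p ^ i < p ^ (j + 2) := by
    rw [← hi, pow_add, ← hj]
    refine h5.trans_lt (Nat.mul_lt_mul_of_pos_right (Nat.sub_one_lt Nat.card_pos.ne')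
      (pow_pos F.hp.pos 2))
  rw [← h6, hi, hj, ← pow_add]
  refine (Nat.mul_le_mul_left _ h7).trans ?_
  rw [← pow_succ]
  exact Nat.pow_le_pow_right F.hp.pos ((Nat.pow_lt_pow_iff_right F.hp.one_lt).1 h8)

end Fr

end CA.Rk2b
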