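import Cfsg.Agent.Lib.Grp.Rk2b

/-! Odd `p`-groups of rank two with an element of order `p` outside `C(E)`. -/

set_option autoImplicit false
set_option linter.unusedSectionVars false

namespace CA.Rk2c

open Subgroup Cfsg CA.BG CA.Rk2b

universe u

variable {G : Type u} [Group G] [Finite G] {p : ℕ} {E : Subgroup G} {z y x : G}

/-- an element of order `p` outside `C(E)`, not of the exceptional kind -/
structure Xa (p : ℕ) (E : Subgroup G) (z x : G) : Prop where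
  hx : x ∉ centralizer (E : Set G)
  xp : x ^ p = 1
  big : p = 3 → ∃ g ∈ centralizer (E : Set G), g * x = x * g ∧ g ∉ zpowers z

variable (F : Fr p E z y) (X : Xa p E z x)
include F X

theorem nu_z {d k : G} (hd : d ∈ centralizer (E : Set G)) (hk : k ∈ centralizer (E : Set G))
    (h1 : k * x = x * k) (h2 : d ^ p = k ^ p) : x⁻¹ * d * x * d⁻¹ ∈ zpowers z := by
  convert F.comm x _ (F.semi hd hk h2) using 1
  calc x⁻¹ * d * x * d⁻¹ = x⁻¹ * d * k⁻¹ * (k * x) * d⁻¹ := by group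
    _ = _ := by rw [h1]; group

theorem key {d : G} (hd : d ∈ centralizer (E : Set G)) (h : x⁻¹ * d * x * d⁻¹ ∈ E)
    (h1 : (x * d) ^ p = 1) : d ∈ E := by
  rw [F.pow_eq hd h, X.xp, one_mul] at h1
  have hf := F.comm x _ h
  refine F.om hd ?_
  by_cases h3 : p = 3
  · obtain ⟨g, g1, g2, g3⟩ := X.big h3
    obtain ⟨k, k1, k2, k3⟩ := F.root X.hx g1 g2 g3 (inv_mem (pow_mem hf (p.choose 3)))
    have h4 := mem_center_iff.1 (F.zcen (nu_z F X hd k1 k2
      (by rw [k3]; exact eq_inv_of_mul_eq_one_left h1))) x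
    rwa [mul_assoc x⁻¹ _ x, ← h4, inv_mul_cancel_left, mul_inv_cancel, one_pow, mul_one] at h1
  · obtain ⟨k, hk⟩ := F.hp.dvd_choose_self (k := 3) (by decide) (by
      have := F.hp.two_le
      have := F.h2
      omega)
    rwa [hk, pow_mul, F.el.2 _ (F.zle hf), one_pow, mul_one] at h1

theorem allE {c : G} (hc : c ∈ centralizer (E : Set G)) : x⁻¹ * c * x * c⁻¹ ∈ E := by
  have := Fact.mk F.hp
  obtain ⟨n, hn⟩ := F.hG.isNilpotent.nilpotent'
  have hn' := F.normal_C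
  have : ∀ n, ∀ c ∈ Subgroup.upperCentralSeries G n, c ∈ centralizer (E : Set G) →
      x⁻¹ * c * x * c⁻¹ ∈ E := by
    intro n
    induction n with
    | zero => intro c h _; rw [show c = 1 by simpa using h]; simp
    | succ n ih =>
      intro c h hc
      have h1 : x * c * x⁻¹ * c⁻¹ ∈ centralizer (E : Set G) :=
        mul_mem (hn'.conj_mem c hc x) (inv_mem hc)
      have h2 : x⁻¹ * c * x * c⁻¹ ∈ centralizer (E : Set G) :=
        mul_mem (by simpa using hn'.conj_mem c hc x⁻¹) (inv_mem hc)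
      refine key F X h2 (ih _ ?_ h2) ?_
      · simpa [mul_assoc, commutatorElement_def] using
          inv_mem (Subgroup.mem_upperCentralSeries_succ_iff.1 h x⁻¹)
      · rw [show x * (x⁻¹ * c * x * c⁻¹) = c * x * c⁻¹ by group, conj_pow, X.xp]; group
  exact this n c (hn ▸ mem_top c) hc

/-- the commutator map on `C(E)` -/
def nu : centralizer (E : Set G) →* G := MonoidHom.mk' (fun c => x⁻¹ * c * x * (c : G)⁻¹)
  fun a b => by
    have h := mem_centralizer_iff.1 (inv_mem a.2) _ (allE F X b.2)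
    simp only [coe_mul]
    calc x⁻¹ * (a * b) * x * ((a : G) * b)⁻¹ = x⁻¹ * a * x * (x⁻¹ * b * x * (b : G)⁻¹ * (a : G)⁻¹) := by
          group
      _ = _ := by rw [h]; group

theorem nu_apply (c : centralizer (E : Set G)) : nu F X c = x⁻¹ * c * x * (c : G)⁻¹ := rfl

theorem mem_ker {c : centralizer (E : Set G)} : c ∈ (nu F X).ker ↔ (c : G) * x = x * c := by
  rw [MonoidHom.mem_ker, nu_apply, mul_inv_eq_one, mul_assoc, inv_mul_eq_iff_eq_mul]

theorem exists_gen : ∃ g ∈ centralizer (E : Set G), g * x = x * g ∧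
    (∀ c ∈ centralizer (E : Set G), c * x = x * c → c ∈ zpowers g) ∧
    orderOf g * Nat.card (nu F X).range * p = Nat.card G := by
  obtain ⟨g, hg⟩ := exists_zpowers_of_cyc ((odd_pgroup_rank1_cyclic F.hp F.h2
    (R := (nu F X).ker.map (centralizer (E : Set G)).subtype)
    (isPi_of_isPGroup F.hp (F.hG.to_subgroup _))).2 fun ⟨A, h1, h2⟩ => by
      have := card_le_of_le (show A ≤ zpowers z from fun a ha => by
        obtain ⟨c, hc, rfl⟩ := h1 ha
        exact F.mem_z X.hx (F.om c.2 (h2.1.2 _ ha)) ((mem_ker F X).1 hc).symm)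
      rw [h2.2, F.cz] at this
      nlinarith [F.hp.two_le])
  obtain ⟨c, hc, e⟩ : g ∈ (nu F X).ker.map (centralizer (E : Set G)).subtype :=
    hg ▸ mem_zpowers g
  refine ⟨g, e ▸ c.2, e ▸ (mem_ker F X).1 hc,
    fun c h1 h2 => hg ▸ ⟨⟨c, h1⟩, (mem_ker F X).2 h2, rfl⟩, ?_⟩
  rw [← Nat.card_zpowers, hg, CA.Rad.card_map_subtype, ← index_ker, card_mul_index,
    ← (centralizer (E : Set G)).card_mul_index, F.index_C X.hx]

theorem top_of {H : Subgroup G} (hx : x ∈ H)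
    (h1 : ∀ c ∈ centralizer (E : Set G), c * x = x * c → c ∈ H)
    (h2 : (nu F X).range ≤ (H.subgroupOf _).map (nu F X)) : H = ⊤ := by
  refine eq_top_iff.2 fun g _ => ?_
  obtain ⟨c, hc, i, rfl⟩ := F.dec X.hx g
  obtain ⟨a, ha, e⟩ := h2 ⟨⟨c, hc⟩, rfl⟩
  have := h1 _ (a⁻¹ * ⟨c, hc⟩).2 ((mem_ker F X).1 (by rw [MonoidHom.mem_ker, map_mul, map_inv, e,
    inv_mul_cancel]))
  exact mul_mem ((Subgroup.mul_mem_cancel_left _ (inv_mem ha)).1 this) (zpow_mem hx i)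

omit F X in
theorem last_pow {u : G} {m : ℕ} (hp : p.Prime) (h : orderOf u = p ^ (m + 1)) :
    u ^ p ^ m ≠ 1 ∧ (u ^ p ^ m) ^ p = 1 :=
  ⟨pow_ne_one_of_lt_orderOf (pow_pos hp.pos m).ne' (h ▸ Nat.pow_lt_pow_right hp.one_lt m.lt_succ_self),
    by rw [← pow_mul, ← pow_succ, ← h, pow_orderOf_eq_one]⟩

theorem order_gen {g : G} (h : ∀ c ∈ centralizer (E : Set G), c * x = x * c → c ∈ zpowers g) :
    ∃ m, orderOf g = p ^ (m + 1) := by
  have := Fact.mk F.hp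
  obtain ⟨k, hk⟩ := (IsPGroup.iff_orderOf.1 F.hG) g
  rcases k with _ | m
  · have h1 := h z (F.E_le F.zE) (mem_center_iff.1 F.zc x).symm
    rw [show g = 1 by simpa using hk, zpowers_one_eq_bot, mem_bot] at h1
    exact absurd (by simpa [h1] using F.oz) F.hp.one_lt.ne
  · exact ⟨m, hk⟩

theorem fam1 {n : ℕ} (hn : Nat.card G = p ^ n)
    (h : ∀ c ∈ centralizer (E : Set G), x⁻¹ * c * x * c⁻¹ ∈ zpowers z) :
    3 ≤ n ∧ ∃ x y z : G, Subgroup.closure ({x, y, z} : Set G) = ⊤ ∧ x ^ p = 1 ∧ y ^ p = 1 ∧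
      z ^ p ^ (n - 2) = 1 ∧ x * z = z * x ∧ y * z = z * y ∧
      x⁻¹ * y * x = y * z ^ p ^ (n - 3) := by
  obtain ⟨g, g1, g2, g3, g4⟩ := exists_gen F X
  obtain ⟨m, hm⟩ := order_gen F X g3
  have hy := F.gen (F.comm x y F.yE) fun e => X.hx (F.ker_chi ▸ e)
  have hr : (nu F X).range = zpowers z := le_antisymm (by rintro _ ⟨c, rfl⟩; exact h c c.2)
    (hy ▸ zpowers_le.2 ⟨⟨y, F.E_le F.yE⟩, rfl⟩)
  rw [hr, F.cz, hm, hn, ← pow_succ, ← pow_succ, Nat.pow_right_inj F.hp.one_lt] at g4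
  subst g4
  obtain ⟨w1, w2⟩ := last_pow F.hp hm
  have w3 : g ^ p ^ m ∈ zpowers z := F.mem_z X.hx (F.om (pow_mem g1 _) w2)
    ((show Commute g x from g2).pow_left _).eq.symm
  obtain ⟨j, hj⟩ : g ^ p ^ m ∈ zpowers (nu F X ⟨y, F.E_le F.yE⟩) := hy ▸ w3
  simp only [← map_zpow] at hj
  have hyj := zpow_mem F.yE j
  refine ⟨by omega, x, y ^ j, g, top_of F X (subset_closure (by simp))
    (fun c h1 h2 => zpowers_le.2 (subset_closure (by simp)) (g3 c h1 h2)) ?_, X.xp, F.el.2 _ hyj,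
    hm ▸ pow_orderOf_eq_one g, g2.symm, mem_centralizer_iff.1 g1 _ hyj, ?_⟩
  · rw [hr, ← F.gen w3 w1, zpowers_le]
    exact ⟨_, subset_closure (by simp), hj⟩
  · rw [show m + 1 + 1 + 1 - 3 = m from rfl, mem_centralizer_iff.1 (pow_mem g1 _) _ hyj, ← hj,
      nu_apply]
    simp

theorem fam2 {n : ℕ} (hn : Nat.card G = p ^ n) {u : G} (hu : u ∈ centralizer (E : Set G))
    (h : x⁻¹ * u * x * u⁻¹ ∉ zpowers z) :
    4 ≤ n ∧ Subgroup.closure ({x, x⁻¹ * u * x * u⁻¹, u} : Set G) = ⊤ ∧ u ^ p ^ (n - 2) = 1 ∧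
      zpowers (u ^ p ^ (n - 3)) = zpowers z := by
  obtain ⟨g, g1, g2, g3, g4⟩ := exists_gen F X
  obtain ⟨m, hm⟩ := order_gen F X g3
  have he := allE F X hu
  have hf := F.gen (F.comm x _ he) fun e => h (F.mem_z X.hx he (by
    rw [mul_inv_eq_one, mul_assoc, inv_mul_eq_iff_eq_mul] at e; exact e.symm))
  have hK : ∀ H : Subgroup G, u ∈ H → x⁻¹ * u * x * u⁻¹ ∈ H →
      (H.subgroupOf _).map (nu F X) = E := fun H h1 h2 =>
    F.between (hf ▸ zpowers_le.2 ⟨⟨_, F.E_le he⟩, h2, rfl⟩)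
      (by rintro _ ⟨c, -, rfl⟩; exact allE F X c.2) ⟨⟨u, hu⟩, h1, rfl⟩ h
  have hr : (nu F X).range = E := by
    simpa only [top_subgroupOf, ← MonoidHom.range_eq_map] using hK ⊤ trivial trivial
  rw [hr, F.card, hm, hn, ← pow_add, ← pow_succ, Nat.pow_right_inj F.hp.one_lt] at g4
  subst g4
  have hup : u ^ p * x = x * u ^ p := (mem_ker F X (c := ⟨u, hu⟩ ^ p)).1 (by
    rw [MonoidHom.mem_ker, map_pow]; exact F.el.2 _ he)
  obtain ⟨j, hj⟩ := g3 _ (pow_mem hu p) hup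
  simp only [] at hj
  have h5 : g ∈ zpowers (u ^ p) := by
    rw [← hj, mem_zpowers_zpow_iff, hm, Nat.cast_pow, ← Int.isCoprime_iff_gcd_eq_one]
    refine ((Nat.prime_iff_prime_int.1 F.hp).coprime_iff_not_dvd.2 fun ⟨i, hi⟩ => h ?_).symm.pow_right
    exact nu_z F X hu (zpow_mem g1 i) ((show Commute g x from g2).zpow_left i)
      (by rw [← hj, hi, mul_comm, zpow_mul, zpow_natCast])
  have h6 : orderOf (u ^ p) = p ^ (m + 1) := by
    rw [← Nat.card_zpowers, le_antisymm (zpowers_le.2 (hj ▸ zpow_mem_zpowers g j)) (zpowers_le.2 h5), Nat.card_zpowers, hm]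
  obtain ⟨w1, w2⟩ := last_pow F.hp h6
  have hcl : ∀ a ∈ ({x, x⁻¹ * u * x * u⁻¹, u} : Set G), a ∈ closure {x, x⁻¹ * u * x * u⁻¹, u} :=
    fun a ha => subset_closure ha
  refine ⟨by omega, top_of F X (hcl _ (by simp)) (fun c h1 h2 => zpowers_le.2
    (zpowers_le.2 (pow_mem (hcl u (by simp)) p) h5) (g3 c h1 h2))
    (by rw [hr, hK _ (hcl _ (by simp)) (hcl _ (by simp))]), ?_, ?_⟩
  · rw [show m + 1 + 2 + 1 - 2 = m + 1 + 1 from rfl, pow_succ', pow_mul, ← h6, pow_orderOf_eq_one]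
  · rw [show m + 1 + 2 + 1 - 3 = m + 1 from rfl, pow_succ', pow_mul]
    exact F.gen (F.mem_z X.hx (F.om (pow_mem (pow_mem hu p) _) w2)
      ((show Commute _ x from hup).pow_left _).eq.symm) w1

theorem fam2' {n : ℕ} (hn : Nat.card G = p ^ n) {u : G} (hu : u ∈ centralizer (E : Set G))
    (h : x⁻¹ * u * x * u⁻¹ ∉ zpowers z) :
    4 ≤ n ∧ ∃ (s : ℕ) (x y z : G), (s = 1 ∨ ¬ IsSquare (s : ZMod p)) ∧
      Subgroup.closure ({x, y, z} : Set G) = ⊤ ∧ x ^ p = 1 ∧ y ^ p = 1 ∧ z ^ p ^ (n - 2) = 1 ∧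
      y * z = z * y ∧ x⁻¹ * y * x = y * z ^ (s * p ^ (n - 3)) ∧ x⁻¹ * z * x = y * z := by
  have := Fact.mk F.hp
  obtain ⟨h1, h2, h3, h4⟩ := fam2 F X hn hu h
  have he := allE F X hu
  have hf := F.comm x _ he
  obtain ⟨s, hs⟩ := (Submonoid.mem_powers_iff _ _).1 (mem_powers_iff_mem_zpowers.2 (h4 ▸ hf))
  have hw : u ^ p ^ (n - 3) ∈ zpowers z := h4 ▸ mem_zpowers _
  have cw := mem_center_iff.1 (F.zcen hf)
  refine ⟨h1, ?_⟩
  by_cases hq : IsSquare (s : ZMod p)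
  swap
  · refine ⟨s, x, _, u, Or.inr hq, h2, X.xp, F.el.2 _ he, h3, mem_centralizer_iff.1 hu _ he, ?_,
      by group⟩
    rw [mul_comm s, pow_mul, hs, cw]; group
  obtain ⟨r, hr⟩ := hq
  have hwp := F.el.2 _ (F.zle hw)
  have hr0 : r ≠ 0 := by
    rintro rfl
    obtain ⟨k, rfl⟩ := (ZMod.natCast_eq_zero_iff s p).1 (by simpa using hr)
    rw [pow_mul, hwp, one_pow, eq_comm, mul_inv_eq_one, mul_assoc, inv_mul_eq_iff_eq_mul] at hs
    exact h (F.mem_z X.hx he hs.symm)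
  obtain ⟨t, ht⟩ := ZMod.natCast_zmod_surjective r⁻¹
  have hct : t.Coprime p := ((Nat.Prime.coprime_iff_not_dvd F.hp).2 fun e =>
    inv_ne_zero hr0 (ht ▸ (ZMod.natCast_eq_zero_iff t p).2 e)).symm
  have back : ∀ {K : Subgroup G} {a : G}, a ^ p = 1 → a ^ t ∈ K → a ∈ K := fun {K a} h1 h2 =>
    zpowers_le.2 h2 (mem_zpowers_pow_iff.2 (hct.coprime_dvd_right (orderOf_dvd_of_pow_eq_one h1)))
  have X' : Xa p E z (x ^ t) := ⟨fun e => X.hx (back X.xp e), by rw [← pow_mul, mul_comm, pow_mul,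
    X.xp, one_pow], fun e => let ⟨g, a, b, c⟩ := X.big e
      ⟨g, a, ((show Commute g x from b).pow_right t).eq, c⟩⟩
  generalize hE : x⁻¹ * u * x * u⁻¹ = e at *
  generalize hF : x⁻¹ * e * x * e⁻¹ = f at *
  have e1 : (x ^ t)⁻¹ * u * x ^ t * u⁻¹ = f ^ t.choose 2 * e ^ t := by
    rw [conj_by_pow (e := e) (f := f) (by rw [← hE]; group) (by rw [← hF]; group) (F.zcen hf),
      mul_inv_cancel_right]
  have e2 : (x ^ t)⁻¹ * e * x ^ t = f ^ t * e := by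
    simpa using conj_by_pow (d := e) (e := f) (f := 1) (by rw [← hF]; group)
      (by rw [mul_assoc, ← cw]; group) (one_mem _) t
  obtain ⟨-, k2, -⟩ := fam2 F X' hn hu (e1 ▸ fun e => h (back (F.el.2 _ he)
    ((Subgroup.mul_mem_cancel_left _ (pow_mem hf _)).1 e)))
  have he' := allE F X' hu
  refine ⟨1, x ^ t, _, u, Or.inl rfl, k2, X'.xp, F.el.2 _ he', h3, mem_centralizer_iff.1 hu _ he', ?_,
    by group⟩
  have e3 : (f ^ t) ^ t = u ^ p ^ (n - 3) := by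
    rw [← hs, ← pow_mul, ← pow_mul]
    conv_rhs => rw [← pow_one (u ^ p ^ (n - 3))]
    refine pow_eq_pow_of_modEq ((ZMod.natCast_eq_natCast_iff _ _ _).1 ?_) hwp
    push_cast
    rw [hr, ht]; field_simp
  have cf : ∀ (k : ℕ) g, g * f ^ k = f ^ k * g := fun k => mem_center_iff.1 (pow_mem (F.zcen hf) k)
  calc (x ^ t)⁻¹ * ((x ^ t)⁻¹ * u * x ^ t * u⁻¹) * x ^ t
      = f ^ t.choose 2 * ((x ^ t)⁻¹ * e * (x ^ t)⁻¹⁻¹) ^ t := by
        rw [e1, conj_pow, ← mul_assoc, cf]; group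
    _ = _ := by
        rw [inv_inv, e2, (show Commute (f ^ t) e from (cf t e).symm).mul_pow, e3, e1, one_mul,
          mul_assoc, mem_center_iff.1 (F.zcen hw)]

end CA.Rk2c
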