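import Cfsg.Agent.Lib.Fus.FusGl
import Cfsg.Agent.Lib.Fus.FusSec
import Cfsg.Agent.Lib.Loc.H6W
import Cfsg.Agent.Lib.Grp.Coprime2

/-!
`S₄`-free groups: generation by `S`, `N(J(S))`, `C(Ω₁Z(S))`, and Sylow 2-subgroups of class two.
-/

set_option autoImplicit false

namespace CA.S4F

open Subgroup Cfsg CA.Amb CA.AmbSyl CA.AmbCore CA.AmbRes CA.AmbChar CA.H6W
open CA.H6J hiding Z
open scoped commutatorElement

universe u

/-- the symmetric group of degree four -/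
abbrev S4 : Type := Equiv.Perm (Fin 4)

/-- the symmetric group of degree three -/
abbrev S3 : Type := Equiv.Perm (Fin 3)

theorem tf0 {n : ℕ} {G : Type u} [Group G] [Finite G] (h4 : ¬ Involves S4 G) {L S T M : Subgroup G}
    (hS : SylIn 2 S L) (hT : T ≤ pCoreOf 2 L) (hTS : S ≤ 𝐂 T) (hn : ∀ t ∈ T, t ^ n = 1) (hSM : S ≤ M)
    (hJ : L ⊓ 𝐍 (J n S) ≤ M) (hc : L ⊓ 𝐂 T ≤ M) : L ≤ M := by
  induction hm : Nat.card L using Nat.strong_induction_on generalizing G with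
  | _ m ih =>
  by_contra hx
  have hTL : T ≤ L := hT.trans (pCoreOf_le 2 L)
  have h4' : ¬ Involves S4 L := fun b => h4 (Fus.involves_of_inj L.subtype L.subtype_injective b)
  have hT' : T.subgroupOf L ≤ pCoreOf 2 (⊤ : Subgroup L) := by
    rw [pCoreOf_top, ← subgroupOf_pCoreOf]; exact comap_mono hT
  have hTS' : S.subgroupOf L ≤ 𝐂 (T.subgroupOf L) := by
    rw [centralizer_subgroupOf hTL]; exact comap_mono hTS
  have hn' : ∀ t ∈ T.subgroupOf L, t ^ n = 1 := fun t ht => Subtype.ext (hn _ ht)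
  have hc' : 𝐂 (T.subgroupOf L) ≤ M.subgroupOf L := by
    rw [centralizer_subgroupOf hTL]; exact fun g hg => hc ⟨g.2, hg⟩
  obtain ⟨A, r⟩ := FusGl.exists_R1 (p := 2) (n := n) (T := T.subgroupOf L) (M := M.subgroupOf L)
    (H6NPC.sylIn_subgroupOf_top hS) (comap_mono hSM)
    (fun e => hx fun g hg => (e.ge (mem_top (⟨g, hg⟩ : L)) :))
    (by
      rw [J_subgroupOf hS.le, normalizer_subgroupOf ((J_le n S).trans hS.le)]
      exact fun g hg => hJ ⟨g.2, hg⟩) hT' hTS' hn' hc'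
    fun H R h2 h3 h4 h5 h6 => ih _ (hm ▸ H6NPC.card_lt_of_ne_top h2) h4' h5
      (hT'.trans (pCoreOf_le_pCoreOf_of_le le_top h3)) (h4.trans hTS') hn' (h4.trans (comap_mono hSM)) h6
      (inf_le_right.trans hc') rfl
  exact h4' r.involves

variable {G : Type u} [Group G] [Finite G]

/-- odd order elements centralizing the involutions of an abelian 2-group centralize it -/
theorem res_le_cent_of_OZ {p : ℕ} [Fact p.Prime] {Q L : Subgroup G} (hQ : IsPGroup p Q) (hn : L ≤ 𝐍 Q)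
    (h : pResidualOf p L ≤ 𝐂 (OZ p Q)) : pResidualOf p L ≤ 𝐂 (H6J.Z Q) := by
  rw [res_le_iff] at h ⊢
  intro g hg hc
  haveI := isMulCommutative_Z Q
  have hZ : IsPGroup p (H6J.Z Q) := hQ.to_le inf_le_left
  have := Coprime2.le_centralizer_of_prime_order (A := zpowers g) (V := H6J.Z Q)
    (zpowers_le.2 (normalizer_le_normalizer_Z Q (hn hg)))
    (by rw [Nat.card_zpowers]; exact coprime_card_of_isPGroup hZ hc) fun v hv hp a ha => by
      obtain ⟨k, hk⟩ := orderOf_eq_pow_of_mem hZ hv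
      have h1 : orderOf v = p := by
        rw [hk] at hp
        rw [hk, hp.eq_one_of_pow, pow_one]
      have h2 : v ∈ OZ p Q := le_OZ (Y := zpowers v) (zpowers_le.2 hv.1) (zpowers_le.2 hv.2)
        (fun y ⟨k, hk⟩ => by
          rw [← hk, ← zpow_natCast, ← zpow_mul, mul_comm, zpow_mul, zpow_natCast, ← h1, pow_orderOf_eq_one,
            one_zpow]) (mem_zpowers v)
      exact ((zpowers_le.2 (h g hg hc) : zpowers g ≤ 𝐂 (OZ p Q)) ha v h2).symm
  exact this (mem_zpowers g)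

theorem J_normal_of_class_two (h4 : ¬ Involves S4 G) {L S : Subgroup G} (hc : CharP 2 L) (hS : SylIn 2 S L)
    (hcl : ⁅⁅S, S⁆, S⁆ = ⊥) : L ≤ 𝐍 (J 2 S) := by
  induction hm : Nat.card L using Nat.strong_induction_on generalizing L with
  | _ m ih =>
  by_contra hx
  have h1 : ∀ H, S ≤ H → H ≤ L → ¬ L ≤ H → H ≤ 𝐍 (J 2 S) := fun H a b c =>
    ih _ (hm ▸ card_lt_of_lt (lt_of_le_not_ge b c)) (hc.of_syl_le hS a b) (hS.mono a b) rfl
  obtain ⟨Q, hQ⟩ : ∃ Q, Q = pCoreOf 2 L := ⟨_, rfl⟩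
  have hQS : Q ≤ S := hQ ▸ pCoreOf_le_syl hS
  have hQn : L ≤ 𝐍 Q := hQ ▸ norm_pCoreOf 2 L
  have hQp : IsPGroup 2 Q := hS.pg.to_le hQS
  have hZ : ∀ X, X ≤ S → X ≤ 𝐂 S → X ≤ Q := fun X a b =>
    hQ ▸ hc.le_of_cent (a.trans hS.le) (b.trans (centralizer_anti (hQ ▸ hQS)))
  have hT : OZ 2 S ≤ Q := hZ _ (OZ_le 2 S) (OZ_le_cent 2 S)
  have hSJ := le_normalizer_J 2 S
  have hTL : L ≤ 𝐂 (OZ 2 S) := by
    by_contra h
    refine hx (tf0 (n := 2) h4 hS (hQ ▸ hT) (cent_symm (OZ_le_cent 2 S)) (isAb_OZ 2 S).2 hSJ inf_le_right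
      (h1 _ (le_inf hS.le (cent_symm (OZ_le_cent 2 S))) inf_le_left fun h' => h (h'.trans inf_le_right)))
  have hL : L ≤ ncl S L := by
    by_contra h
    have h2 := h1 _ (le_ncl S L) (ncl_le_of_le hS.le) h
    have h3 : SylIn 2 S (ncl S L) := hS.mono (le_ncl S L) (ncl_le_of_le hS.le)
    refine hx ((h3.frattini_sup (ncl_le_of_le hS.le) (norm_ncl S L)).ge.trans (sup_le h2 ?_))
    exact inf_le_right.trans (normalizer_le_normalizer_J 2 S)
  have hSS : ⁅S, S⁆ ≤ 𝐂 S := commutator_eq_bot_iff_le_centralizer.1 hcl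
  have hSS' : ⁅S, S⁆ ≤ S := comm_le_of_le le_rfl le_rfl
  have hZn : L ≤ 𝐍 (H6J.Z Q) := hQn.trans (normalizer_le_normalizer_Z Q)
  have hOn : L ≤ 𝐍 (OZ 2 Q) := hQn.trans (norm_OZ 2 Q)
  have h2 : ⁅L, Q⁆ ≤ H6J.Z Q := by
    refine (commutator_mono hL le_rfl).trans (comm_ncl_le hQn hZn (hS.le.trans hZn) ?_)
    refine (commutator_mono le_rfl hQS).trans (le_inf (hZ _ hSS' hSS) (hSS.trans (centralizer_anti hQS)))
  have h3 : ⁅L, OZ 2 Q⁆ ≤ OZ 2 S := by
    have hn : L ≤ 𝐍 (OZ 2 S) := norm_of_centralizer hTL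
    refine (commutator_mono hL le_rfl).trans (comm_ncl_le hOn hn (hS.le.trans hn) ?_)
    have h5 : ⁅S, OZ 2 Q⁆ ≤ ⁅S, S⁆ := commutator_mono le_rfl ((OZ_le 2 Q).trans hQS)
    exact le_OZ (h5.trans hSS') (h5.trans hSS) fun y hy =>
      (isAb_OZ 2 Q).2 y (commutator_le_right_of_norm (hS.le.trans hOn) hy)
  have h5 : pResidualOf 2 L ≤ 𝐂 (OZ 2 Q) := by
    refine res_le_cent_of_comm_le (isAb_OZ 2 Q).isPGroup hOn ?_
    rw [commutator_comm]
    exact ((commutator_mono (res_le 2 L) le_rfl).trans h3).trans (cent_symm ((res_le 2 L).trans hTL))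
  have h6 := res_le_cent_of_OZ hQp hQn h5
  have h7 : pResidualOf 2 L ≤ 𝐂 Q := by
    refine res_le_cent_of_comm_le hQp hQn ?_
    rw [commutator_comm]
    exact ((commutator_mono (res_le 2 L) le_rfl).trans h2).trans (cent_symm h6)
  have h8 := hc.res_eq_bot (res_le 2 L) (hQ ▸ h7)
  exact hx ((hS.eq_of_isPGroup (res_eq_bot_iff.1 h8)).ge.trans hSJ)

theorem class_two_fact (hcon : IsPConstrained 2 G) (h4 : ¬ Involves S4 G) (S : Sylow 2 G)
    (hcl : Subgroup.lowerCentralSeries (S : Subgroup G) 2 = ⊥) :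
    𝐍 (thompsonSubgroupOf 2 (S : Subgroup G)) ⊔ pPrimeCore 2 G = ⊤ := by
  have hS := H6NPC.sylIn_map_top (sylIn_top S) (H6PSolv.π_surj (p := 2) (G := G))
  have h1 := J_normal_of_class_two (fun b => h4 (Fus.involves_of_surj _ H6PSolv.π_surj b))
    (H6PSolv.isPConstrained_iff.1 hcon) hS (by
      rw [← map_commutator, ← map_commutator]
      exact (congrArg (map _) hcl).trans (map_bot _))
  rw [H6PSolv.J_map' (H6PSolv.inf_π_ker S.2)] at h1
  have h2 := H6PSolv.ker_sup_normalizer H6PSolv.π_surj H6PSolv.π_cop (S.2.to_le (J_le 2 _))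
    (normal_iff_top_le.2 h1)
  rw [thompsonSubgroupOf_eq, sup_comm, ← H6PSolv.π_ker, h2]

end CA.S4F
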