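import Cfsg.Agent.Lib.Grp.S4F1
import Cfsg.Agent.Lib.Grp.Fus3
import Cfsg.Agent.Lib.Grp.Hyp
import Cfsg.Agent.Lib.Loc.H6Dih
import Cfsg.Agent.Lib.Loc.AmbRed

/-!
`S₃`-free groups: inverted elements of odd prime power order ("steps") for elementary abelian 2-subgroups.
-/

set_option autoImplicit false

namespace CA.S4F

open Subgroup Cfsg CA.Amb CA.AmbSyl CA.AmbCore CA.AmbRes CA.AmbChar
open CA.H6J hiding Z
open CA.H6Basic (commInto mem_commInto le_commInto_iff)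
open scoped commutatorElement

universe u

variable {G : Type*} [Group G] {G' : Type*} [Group G']

theorem cop_of_pow {x : G} {r k n : ℕ} (h : x ^ r ^ k = 1) (hr : r.Coprime n) : (orderOf x).Coprime n :=
  Nat.Coprime.coprime_dvd_left (orderOf_dvd_of_pow_eq_one h) (Nat.Coprime.pow_left k hr)

theorem conj_pow_inv {a y : G} (h : a * y * a⁻¹ = y⁻¹) (n : ℕ) : a * y ^ n * a⁻¹ = (y ^ n)⁻¹ := by
  rw [← conj_pow, h, inv_pow]

theorem conj_inv_of_mem {a y z : G} (h : a * y * a⁻¹ = y⁻¹) (hz : z ∈ zpowers y) : a * z * a⁻¹ = z⁻¹ := by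
  obtain ⟨n, rfl⟩ := hz
  show a * y ^ n * a⁻¹ = (y ^ n)⁻¹
  rw [← conj_zpow, h, inv_zpow]

theorem odd_pow_conj {a y : G} (h : a * y * a⁻¹ = y⁻¹) {m : ℕ} (hm : Odd m) :
    a ^ m * y * (a ^ m)⁻¹ = y⁻¹ := by
  obtain ⟨i, rfl⟩ := hm
  induction i with
  | zero => simpa using h
  | succ i ih =>
    have h2 : a * y⁻¹ * a⁻¹ = y := by rw [← conj_inv, h, inv_inv]
    calc _ = a * (a * (a ^ (2 * i + 1) * y * (a ^ (2 * i + 1))⁻¹) * a⁻¹) * a⁻¹ := by
          rw [show 2 * (i + 1) + 1 = 2 * i + 1 + 1 + 1 by ring, pow_succ', pow_succ']; group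
      _ = _ := by rw [ih, h2, h]

/-- in an `S₃`-free group no nontrivial 3-element is inverted -/
theorem ns3 [Finite G] (h3 : ¬ Involves S3 G) {a y : G} {k : ℕ} (hy : y ^ 3 ^ k = 1)
    (h : a * y * a⁻¹ = y⁻¹) : y = 1 := by
  by_contra hy1
  haveI : Fact (Nat.Prime 3) := ⟨by norm_num⟩
  obtain ⟨z, hz, hz3⟩ := exists_orderOf_eq_of_ne_bot (isPGroup_zpowers hy) (zpowers_ne_bot.2 hy1)
  obtain ⟨b, c, hb, hc, e, ⟨j, hj⟩, hc2⟩ := exists_p_part (p := 2) (mem_top a)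
  have hbc : Commute b c := by
    obtain ⟨i, rfl⟩ := hb
    obtain ⟨l, rfl⟩ := hc
    exact Commute.zpow_zpow (Commute.refl a) _ _
  have h1 := odd_pow_conj (conj_inv_of_mem h hz) (Nat.coprime_two_right.1 hc2)
  have h2 : (a ^ orderOf c) ^ 2 ^ j = 1 := by
    rw [e, hbc.mul_pow, pow_orderOf_eq_one, mul_one]; exact H6Dih.pow_pow_eq_one hj _
  obtain ⟨φ⟩ := H6Dih.nonempty_S3
  exact h3 (H6Stab.involves_iff.2 ((H6Dih.sec_dihedral (by norm_num) h2 hz3 h1).of_surjective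
    φ.symm.toMonoidHom φ.symm.surjective))

theorem not_S3_of_ns3 [Finite G] (h : ∀ (a y : G) (k : ℕ), y ^ 3 ^ k = 1 → a * y * a⁻¹ = y⁻¹ → y = 1) :
    ¬ Involves S3 G := by
  intro h3
  haveI : Fact (Nat.Prime 3) := ⟨by norm_num⟩
  obtain ⟨φ⟩ := H6Dih.nonempty_S3
  obtain ⟨x, P, -, -, ⟨k, h1⟩, h2, h3, u, hu, h4⟩ := H6Dih.exists_of_sec_dihedral (p := 3) (by norm_num)
    ((H6Stab.involves_iff.1 h3).of_surjective φ.toMonoidHom φ.surjective)
  obtain ⟨j, y, -, h5, h6⟩ := H6Dih.exists_inv_prime h2 h1 h3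
    fun hc => h4 (by rw [mem_centralizer_sub.1 hc u hu, mem_bot]; group)
  have := h _ y 1 (by rw [pow_one, ← h5, pow_orderOf_eq_one]) h6
  rw [this, orderOf_one] at h5
  norm_num at h5

/-- an `S₄`-free group of characteristic 2 is `S₃`-free -/
theorem not_S3_of_char [Finite G] (hc : CharP 2 (⊤ : Subgroup G)) (h4 : ¬ Involves S4 G) :
    ¬ Involves S3 G := by
  refine not_S3_of_ns3 fun a y k hy h => by_contra fun hy1 => h4 ?_
  have hQ := isPGroup_pCore 2 G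
  haveI := pCore_characteristic 2 G
  refine H6Dih.involves_S4_of_sec hQ ?_
  have h1 : Involves S3 (G ⧸ 𝐂 (pCore 2 G)) := by
    by_contra h3
    have := ns3 h3 (a := (a : G ⧸ 𝐂 (pCore 2 G))) (y := (y : G ⧸ 𝐂 (pCore 2 G))) (k := k)
      (by rw [← QuotientGroup.mk_pow, hy, QuotientGroup.mk_one])
      (by rw [← QuotientGroup.mk_inv, ← QuotientGroup.mk_mul, ← QuotientGroup.mk_mul, h, QuotientGroup.mk_inv])
    rw [QuotientGroup.eq_one_iff] at this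
    obtain ⟨j, hj⟩ := isPGroup_iff_mem.1 hQ y (charP_top_iff.1 hc this)
    exact hy1 (mem_bot.1 (mem_of_pow_mem_of_coprime (cop_of_pow hy (Nat.Coprime.pow_right j (by norm_num)))
      (mem_bot.2 hj)))
  have := (H6Stab.involves_iff.1 h1)
  rw [← map_top_of_surjective _ (QuotientGroup.mk'_surjective (𝐂 (pCore 2 G)))] at this
  have h2 := this.of_map
  rwa [MonoidHom.comap_bot, QuotientGroup.ker_mk'] at h2

/-- `r` is an odd prime modulo which `2` has order at least `4 j - 1` -/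
def Big (r j : ℕ) : Prop := r.Prime ∧ r ≠ 2 ∧ 1 ≤ j ∧ ∀ d, 0 < d → r ∣ 2 ^ d - 1 → 4 * j ≤ d + 1

theorem Big.cop {r j : ℕ} (h : Big r j) : r.Coprime 2 := (Nat.coprime_primes h.1 Nat.prime_two).2 h.2.1

theorem big_one {r : ℕ} (hr : r.Prime) (h2 : r ≠ 2) (h3 : r ≠ 3) : Big r 1 := by
  refine ⟨hr, h2, le_rfl, fun d hd h => by_contra fun hlt => ?_⟩
  have : d = 1 ∨ d = 2 := by omega
  rcases this with rfl | rfl
  · exact hr.one_lt.ne' (Nat.dvd_one.1 h)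
  · exact h3 ((Nat.prime_dvd_prime_iff_eq hr (by norm_num)).1 h)

theorem card_modEq_cent {r : ℕ} [Fact r.Prime] {P K : Subgroup G} [Finite K] (hP : IsPGroup r P)
    (hn : P ≤ 𝐍 K) : Nat.card K ≡ Nat.card ↥(K ⊓ 𝐂 P) [MOD r] := by
  letI : MulAction P K := MulAction.compHom K (K.normalizerMonoidHom.comp (inclusion hn))
  have h := hP.card_modEq_card_fixedPoints K
  rwa [Nat.card_congr (α := MulAction.fixedPoints P K) (β := ↥(K ⊓ 𝐂 P))
    { toFun := fun x => ⟨x.1.1, x.1.2, fun g hg =>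
        mul_inv_eq_iff_eq_mul.1 (congrArg Subtype.val (x.2 ⟨g, hg⟩))⟩
      invFun := fun x => ⟨⟨x.1, x.2.1⟩, fun g => Subtype.ext (mul_inv_eq_iff_eq_mul.2 (x.2.2 g g.2))⟩
      left_inv := fun _ => rfl
      right_inv := fun _ => rfl }] at h

/-- the dihedral bound -/
theorem dih_abs [Finite G] {X D E : Subgroup G} {x : G} {r j k : ℕ} (hb : Big r j) (hX : IsPGroup 2 X)
    (hx : x ^ r ^ k = 1) (hn : x ∈ 𝐍 X) (hEX : E ≤ X) (hne : ¬ X ≤ E) (hE : x ∈ 𝐍 E)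
    (hc : X ⊓ 𝐂 (zpowers x) ≤ E) (hD : X ⊓ D ⊓ cj x D ≤ E) : 4 ^ j ≤ D.relIndex X := by
  haveI := Fact.mk hb.1
  have hP := isPGroup_zpowers hx
  have h1 := card_modEq_cent hP (zpowers_le.2 hn)
  have h2 := card_modEq_cent hP (zpowers_le.2 hE)
  have e : E ⊓ 𝐂 (zpowers x) = X ⊓ 𝐂 (zpowers x) :=
    le_antisymm (inf_le_inf_right _ hEX) (le_inf hc inf_le_right)
  rw [e] at h2
  have h3 := h1.trans h2.symm
  obtain ⟨d, hd⟩ : ∃ d, E.relIndex X = 2 ^ d := hX.index (E.subgroupOf X)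
  obtain ⟨f, hf⟩ : ∃ f, D.relIndex X = 2 ^ f := hX.index (D.subgroupOf X)
  obtain ⟨c, hc'⟩ := IsPGroup.iff_card.1 (hX.to_le hEX)
  have hd0 : 0 < d := Nat.pos_of_ne_zero fun h0 => hne (relIndex_eq_one.1 (by rw [hd, h0, pow_zero]))
  have h4 : 2 ^ d ≡ 1 [MOD r] := by
    rw [← card_mul_relIndex hEX, hd, hc'] at h3
    exact Nat.ModEq.cancel_left_of_coprime (Nat.Coprime.pow_right c hb.cop) (by rwa [mul_one])
  have h5 := hb.2.2.2 d hd0 ((Nat.modEq_iff_dvd' Nat.one_le_two_pow).1 h4.symm)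
  have h6 : E.relIndex X ≤ D.relIndex X * D.relIndex X := by
    have h7 : (cj x D).relIndex X = D.relIndex X := by
      conv_lhs => rw [← cj_eq_self hn]
      exact relIndex_cj x D X
    calc E.relIndex X ≤ (X ⊓ D ⊓ cj x D).relIndex X := relIndex_le_of_le_left hD (relIndex_ne_zero _ _)
      _ = (D ⊓ cj x D).relIndex X := by rw [inf_assoc, inf_relIndex_left]
      _ ≤ _ := relIndex_inf_le.trans (by rw [h7])
  rw [hd, hf, ← pow_add, Nat.pow_le_pow_iff_right (by norm_num)] at h6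
  rw [hf, show 4 = 2 ^ 2 from rfl, ← pow_mul]
  exact Nat.pow_le_pow_right (by norm_num) (by omega)

/-- the data of a step modulo `N` -/
structure Stp (N R : Subgroup G) (x : G) (R0 : Subgroup G) (a : G) (r j : ℕ) : Prop where
  le : R0 ≤ R
  mem : a ∈ R
  idx : R0.relIndex R ≤ 2 ^ j
  big : Big r j
  pw : ∃ k, x ^ r ^ k = 1
  nm : x ∉ N
  ci : x ∈ commInto R0 N
  inv : a * x * a⁻¹ * x ∈ N

/-- `x` is a step for `R` modulo `N` -/
def St (N R : Subgroup G) (x : G) : Prop := ∃ R0 a r j, Stp N R x R0 a r j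

theorem mem_commInto_bot {R : Subgroup G} {x : G} : x ∈ commInto R ⊥ ↔ x ∈ 𝐂 R := by
  rw [H6Stab.commInto_bot]

theorem Stp.map_inj {f : G →* G'} (hf : Function.Injective f) {N R R0 : Subgroup G} {x a : G} {r j : ℕ}
    (h : Stp N R x R0 a r j) : Stp (N.map f) (R.map f) (f x) (R0.map f) (f a) r j where
  le := map_mono h.le
  mem := mem_map_of_mem f h.mem
  idx := by rw [relIndex_map_map_of_injective _ _ hf]; exact h.idx
  big := h.big
  pw := h.pw.imp fun k hk => by rw [← map_pow, hk, map_one]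
  nm := fun ⟨y, hy, e⟩ => h.nm (hf e ▸ hy)
  ci := by
    refine mem_commInto.2 ⟨norm_map f (zpowers_le.2 (mem_commInto.1 h.ci).1)
      (mem_map_of_mem f (mem_zpowers x)), ?_⟩
    rintro _ ⟨y, hy, rfl⟩
    rw [← map_commutatorElement]
    exact mem_map_of_mem f ((mem_commInto.1 h.ci).2 y hy)
  inv := by
    rw [← map_inv, ← map_mul, ← map_mul, ← map_mul]
    exact mem_map_of_mem f h.inv

theorem St.map_inj {f : G →* G'} (hf : Function.Injective f) {N R : Subgroup G} {x : G} (h : St N R x) :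
    St (N.map f) (R.map f) (f x) := by
  obtain ⟨R0, a, r, j, h⟩ := h
  exact ⟨_, _, r, j, h.map_inj hf⟩

theorem St.map_bot {f : G →* G'} (hf : Function.Injective f) {R : Subgroup G} {x : G} (h : St ⊥ R x) :
    St ⊥ (R.map f) (f x) := by
  have := h.map_inj hf
  rwa [Subgroup.map_bot] at this

theorem St.conj_bot {R : Subgroup G} {x g : G} (h : St ⊥ R x) (hg : g ∈ 𝐍 R) : St ⊥ R (g * x * g⁻¹) := by
  have := h.map_bot (conj_injective g)
  rwa [show R.map _ = R from cj_eq_self hg] at this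

/-- lifting a step along a homomorphism -/
theorem St.lift [Finite G] (f : G →* G') {R : Subgroup G} {x : G} (h : St ⊥ (R.map f) (f x)) :
    ∃ y, f y = f x ∧ St f.ker R y := by
  obtain ⟨R0, a, r, j, h⟩ := h
  haveI := Fact.mk h.big.1
  obtain ⟨k, hk⟩ := h.pw
  obtain ⟨y, -, hy, hy2⟩ := H6Dih.lift_elt f (mem_top x) hk
  obtain ⟨b, hb, rfl⟩ := h.mem
  refine ⟨y, hy, R ⊓ R0.comap f, b, r, j, inf_le_left, hb, ?_, h.big, hy2, fun h1 => h.nm ?_, ?_, ?_⟩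
  · rw [inf_relIndex_left, relIndex_comap]; exact h.idx
  · rw [← hy]; exact h1
  · refine mem_commInto.2 ⟨norm_of_normal (mem_top y), fun g hg => ?_⟩
    rw [MonoidHom.mem_ker, map_commutatorElement, hy]
    exact (mem_commInto.1 h.ci).2 _ hg.2
  · rw [MonoidHom.mem_ker, map_mul, map_mul, map_mul, map_inv, hy]
    exact h.inv

theorem mul_pow_mem {N : Subgroup G} {n d : G} (hn : n ∈ N) (hd : d ∈ 𝐍 N) (m : ℕ) :
    (n * d) ^ m * (d ^ m)⁻¹ ∈ N := by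
  induction m with
  | zero => simp
  | succ m ih =>
    have : (n * d) ^ (m + 1) * (d ^ (m + 1))⁻¹ = n * (d * ((n * d) ^ m * (d ^ m)⁻¹) * d⁻¹) := by
      rw [pow_succ', pow_succ']; group
    rw [this]
    exact mul_mem hn (conj_mem_of_mem_normalizer hd ih)

theorem mem_of_pow_mem_two {M : Subgroup G} {c : G} {m n : ℕ} (h : m.Coprime n) (h1 : c ^ m ∈ M)
    (h2 : c ^ n ∈ M) : c ∈ M := by
  obtain ⟨u, v, e⟩ := Nat.isCoprime_iff_coprime.2 h
  rw [← zpow_one c, ← e, zpow_add, mul_comm u, mul_comm v, zpow_mul, zpow_mul, zpow_natCast, zpow_natCast]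
  exact mul_mem (zpow_mem h1 _) (zpow_mem h2 _)

theorem exists_inv_part [Finite G] {N : Subgroup G} {a c : G} (ha : a * a = 1) (hc : c ∈ 𝐍 N) {r k : ℕ}
    (hr : r.Prime) (hr2 : r.Coprime 2) (hck : c ^ r ^ k ∈ N) (hi : a * c * a⁻¹ * c ∈ N) :
    ∃ y ∈ zpowers (a * c * a⁻¹ * c⁻¹), (∃ k, y ^ r ^ k = 1) ∧ a * y * a⁻¹ = y⁻¹ ∧ c ∈ zpowers y ⊔ N := by
  haveI := Fact.mk hr
  have ha' : a⁻¹ = a := inv_eq_of_mul_eq_one_right ha
  obtain ⟨z, hz⟩ : ∃ z, z = a * c * a⁻¹ * c⁻¹ := ⟨_, rfl⟩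
  have hzi : a * z * a⁻¹ = z⁻¹ := by
    rw [hz, mul_inv_rev, mul_inv_rev, mul_inv_rev, inv_inv, inv_inv, ha']
    calc _ = (a * a) * c * a * c⁻¹ * a := by group
      _ = _ := by rw [ha]; group
  rw [← hz]
  obtain ⟨y, b, hy, hb, e, h1, h2⟩ := exists_p_part (p := r) (mem_top z)
  refine ⟨y, hy, h1, conj_inv_of_mem hzi hy, ?_⟩
  have e2 : z = (a * c * a⁻¹ * c) * (c ^ 2)⁻¹ := by rw [hz, pow_two]; group
  have hzN : z ^ r ^ k ∈ N := by
    have h3 := mul_pow_mem hi (inv_mem (pow_mem hc 2)) (r ^ k)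
    rw [← e2] at h3
    have h4 : ((c ^ 2)⁻¹) ^ r ^ k ∈ N := by
      rw [inv_pow, ← pow_mul, mul_comm, pow_mul]; exact inv_mem (pow_mem hck 2)
    simpa using mul_mem h3 h4
  have hbN : b ∈ N := by
    refine mem_of_pow_mem_of_coprime (Nat.Coprime.pow_right k h2) ?_
    obtain ⟨i, rfl⟩ := hb
    show (z ^ i) ^ r ^ k ∈ N
    rw [← zpow_natCast, ← zpow_mul, mul_comm, zpow_mul, zpow_natCast]
    exact zpow_mem hzN i
  have hzM : z ∈ zpowers y ⊔ N := e ▸ mul_mem (mem_sup_left (mem_zpowers y)) (mem_sup_right hbN)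
  refine mem_of_pow_mem_two (Nat.Coprime.pow_left k hr2) (mem_sup_right hck) ?_
  have : c ^ 2 = z⁻¹ * (a * c * a⁻¹ * c) := by rw [e2]; group
  rw [this]
  exact mul_mem (inv_mem hzM) (mem_sup_right hi)

theorem IsAb.sq {R : Subgroup G} (h : IsAb 2 R) {a : G} (ha : a ∈ R) : a * a = 1 := by
  rw [← pow_two]; exact h.2 a ha

/-- improving a step from `N` to a normal Sylow 2-subgroup `Q` of `N` -/
theorem St.improve [Finite G] {N Q R : Subgroup G} (hR : IsAb 2 R) (hRN : R ≤ 𝐍 N) (hQ : SylIn 2 Q N)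
    (hNQ : N ≤ 𝐍 Q) {x : G} (h : St N R x) :
    ∃ y R0 a r j, Stp Q R y R0 a r j ∧ a * y * a⁻¹ = y⁻¹ ∧ x ∈ zpowers y ⊔ N ∧ y ∈ R ⊔ zpowers x ⊔ N := by
  obtain ⟨R0, a, r, j, h⟩ := h
  obtain ⟨hx1, hx2⟩ := mem_commInto.1 h.ci
  have hQe : pCoreOf 2 N = Q := pCoreOf_eq_of_syl hQ hNQ
  have hn : 𝐍 N ≤ 𝐍 Q := hQe ▸ normalizer_le_pCoreOf 2 N
  have h0 : R0 ≤ 𝐍 N := h.le.trans hRN
  have hP : IsPGroup 2 ↥(R0 ⊔ Q) := isPGroup_sup_of_norm (hR.isPGroup.to_le h.le) hQ.pg (h0.trans hn)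
  have hXN : R0 ⊔ N ≤ 𝐍 N := sup_le h0 le_normalizer
  have hPN : (R0 ⊔ Q) ⊓ N ≤ Q :=
    hQ.le_of_norm' (hP.to_le inf_le_left) inf_le_right (inf_le_right.trans hNQ)
  have hS : SylIn 2 (R0 ⊔ Q) (R0 ⊔ N) := by
    obtain ⟨T, hT, h1⟩ := exists_sylIn_ge hP (sup_le_sup_left hQ.le R0)
    have h2 : T ⊓ N ≤ Q := hQ.le_of_norm' (hT.pg.to_le inf_le_left) inf_le_right (inf_le_right.trans hNQ)
    have h3 : T ≤ R0 ⊔ Q := by
      have := sup_inf_of_norm h0 (le_sup_left.trans h1)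
      rw [inf_eq_right.2 hT.le] at this
      rw [this, inf_comm]
      exact sup_le_sup_left h2 _
    exact le_antisymm h3 h1 ▸ hT
  have hxX : x ∈ 𝐍 (R0 ⊔ N) := by
    refine mem_normalizer_of_cj_le ?_
    rw [cj_sup, cj_eq_self hx1]
    refine sup_le (cj_le_iff'.2 fun g hg => ?_) le_sup_right
    have : x * g * x⁻¹ = ⁅x, g⁆ * g := by rw [commutatorElement_def]; group
    rw [this]
    exact mul_mem (mem_sup_right (hx2 g hg)) (mem_sup_left hg)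
  obtain ⟨n, hn1, hn2⟩ := hS.frattini (zpowers_le.2 hxX) (mem_zpowers x)
  rw [sup_comm] at hn1
  obtain ⟨n', hn', g, hg, rfl⟩ := (mem_sup_of_norm' h0).1 hn1
  obtain ⟨c, hc⟩ : ∃ c, c = n'⁻¹ * x := ⟨_, rfl⟩
  have hcP : c ∈ 𝐍 (R0 ⊔ Q) := by
    have := mul_mem (le_normalizer (mem_sup_left hg : g ∈ R0 ⊔ Q)) hn2
    rwa [mul_inv_rev, ← mul_assoc, mul_inv_cancel_left, ← hc] at this
  have hcN : c ∈ commInto R0 N := hc ▸ mul_mem (le_commInto_iff.2 ⟨le_normalizer,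
    commutator_le_left_of_norm h0⟩ (inv_mem hn')) h.ci
  have hcQ : c ∈ commInto R0 Q := by
    refine mem_commInto.2 ⟨hn (mem_commInto.1 hcN).1, fun g hg => hPN ⟨?_, (mem_commInto.1 hcN).2 g hg⟩⟩
    exact H6Off.comm_mem_right (mem_sup_left hg) hcP
  have haQ : a ∈ commInto R0 Q := by
    refine mem_commInto.2 ⟨hn (hRN h.mem), fun g hg => ?_⟩
    rw [commutatorElement_eq_one_iff_mul_comm.2 (hR.comm h.mem (h.le hg))]
    exact one_mem _
  obtain ⟨k, hk⟩ := h.pw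
  obtain ⟨y, hy, h1, h2, h3⟩ := exists_inv_part (N := N) (IsAb.sq hR h.mem) (mem_commInto.1 hcN).1 h.big.1
    h.big.cop (k := k) (by
      have := mul_pow_mem (inv_mem hn') hx1 (r ^ k)
      rwa [hk, inv_one, mul_one, ← hc] at this) (by
      have : a * c * a⁻¹ * c = (a * n'⁻¹ * a⁻¹) * (a * x * a⁻¹ * x) * (x⁻¹ * n'⁻¹ * x) := by rw [hc]; group
      rw [this]
      exact mul_mem (mul_mem (conj_mem_of_mem_normalizer (hRN h.mem) (inv_mem hn')) h.inv)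
        (inv_conj_mem_of_mem_normalizer hx1 (inv_mem hn')))
  have hx : x ∈ zpowers y ⊔ N := by
    have : x = n' * c := by rw [hc]; group
    rw [this]
    exact mul_mem (mem_sup_right hn') h3
  have key : ∀ M : Subgroup G, a ∈ M → c ∈ M → y ∈ M := fun M h4 h5 =>
    zpowers_le.2 (mul_mem (mul_mem (mul_mem h4 h5) (inv_mem h4)) (inv_mem h5)) hy
  refine ⟨y, R0, a, r, j, ⟨h.le, h.mem, h.idx, h.big, h1, fun hyQ => h.nm ?_, key _ haQ hcQ, ?_⟩, h2, hx,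
    key _ (mem_sup_left (mem_sup_left h.mem)) (hc ▸ mul_mem (mem_sup_right (inv_mem hn'))
      (mem_sup_left (mem_sup_right (mem_zpowers x))))⟩
  · exact (sup_le (zpowers_le.2 (hQ.le hyQ)) le_rfl :) hx
  · rw [h2, inv_mul_cancel]; exact one_mem _

theorem stp_bot {R R0 : Subgroup G} {x a : G} {r j k : ℕ} (h1 : R0 ≤ R) (h2 : a ∈ R)
    (h3 : R0.relIndex R ≤ 2 ^ j) (h4 : Big r j) (h5 : x ^ r ^ k = 1) (h6 : x ≠ 1) (h7 : x ∈ 𝐂 R0)
    (h8 : a * x * a⁻¹ = x⁻¹) : St ⊥ R x :=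
  ⟨R0, a, r, j, h1, h2, h3, h4, ⟨k, h5⟩, fun h => h6 (mem_bot.1 h), mem_commInto_bot.2 h7,
    by rw [h8, inv_mul_cancel]; exact one_mem _⟩

theorem Stp.inv' {R R0 : Subgroup G} {x a : G} {r j : ℕ} (h : Stp ⊥ R x R0 a r j) : a * x * a⁻¹ = x⁻¹ :=
  eq_inv_of_mul_eq_one_left (mem_bot.1 h.inv)

theorem Stp.cent {R R0 : Subgroup G} {x a : G} {r j : ℕ} (h : Stp ⊥ R x R0 a r j) : x ∈ 𝐂 R0 :=
  mem_commInto_bot.1 h.ci

/-- a power of an inverted element prime to `r` lies in any subgroup containing the steps -/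
theorem pow_mem_of_inv [Finite G] {R R0 Y : Subgroup G} (hY : ∀ x, St ⊥ R x → x ∈ Y) {x a : G} {r j : ℕ}
    (h1 : R0 ≤ R) (h2 : a ∈ R) (h3 : R0.relIndex R ≤ 2 ^ j) (h4 : Big r j) (h7 : x ∈ 𝐂 R0)
    (h8 : a * x * a⁻¹ = x⁻¹) : ∃ m, m.Coprime r ∧ x ^ m ∈ Y := by
  haveI := Fact.mk h4.1
  obtain ⟨y, b, hy, hb, e, ⟨k, hk⟩, hc⟩ := exists_p_part (p := r) (mem_top x)
  have hyb : Commute y b := by
    obtain ⟨i, rfl⟩ := hy
    obtain ⟨l, rfl⟩ := hb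
    exact Commute.zpow_zpow (Commute.refl x) _ _
  refine ⟨orderOf b, hc, ?_⟩
  rw [e, hyb.mul_pow, pow_orderOf_eq_one, mul_one]
  refine pow_mem ?_ _
  by_cases hy1 : y = 1
  · rw [hy1]; exact one_mem _
  · exact hY y (stp_bot h1 h2 h3 h4 hk hy1 (zpowers_le.2 h7 hy) (conj_inv_of_mem h8 hy))

/-- an inverted element of odd order centralizing a hyperplane is a product of steps -/
theorem mem_of_inv_odd [Finite G] (h3 : ¬ Involves S3 G) {R R0 K Y : Subgroup G}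
    (hY : ∀ x ∈ K, St ⊥ R x → x ∈ Y) {x a : G} (h1 : R0 ≤ R) (h2 : a ∈ R) (hi : R0.relIndex R ≤ 2)
    (hK : x ∈ K) (ho : (orderOf x).Coprime 2) (h7 : x ∈ 𝐂 R0) (h8 : a * x * a⁻¹ = x⁻¹) : x ∈ Y := by
  by_contra hx
  obtain ⟨r, hr, hd, y, hy, hyY, k, hk⟩ := Fus3.exists_prime_pow_not_mem hx
  have hy1 : y ≠ 1 := fun e => hyY (e ▸ one_mem _)
  have hr2 : r ≠ 2 := by
    rintro rfl
    exact (Nat.prime_two.coprime_iff_not_dvd.1 ho.symm) hd
  have hr3 : r ≠ 3 := by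
    rintro rfl
    exact hy1 (ns3 h3 hk (conj_inv_of_mem h8 hy))
  exact hyY (hY y (zpowers_le.2 hK hy) (stp_bot h1 h2 (by simpa using hi) (big_one hr hr2 hr3) hk hy1
    (zpowers_le.2 h7 hy) (conj_inv_of_mem h8 hy)))

/-- generation of `[K, R]` by steps, `K` of odd order -/
theorem comm_le_of_odd [Finite G] (h3 : ¬ Involves S3 G) {R K Y : Subgroup G} (hR : IsAb 2 R)
    (hn : R ≤ 𝐍 K) (hK : (Nat.card K).Coprime 2) (hY : ∀ x ∈ K, St ⊥ R x → x ∈ Y) : ⁅K, R⁆ ≤ Y := by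
  have hRe := isAb_iff_isElementaryAbelian.1 hR
  obtain ⟨K1, hK1⟩ : ∃ K1, K1 = ⁅K, R⁆ := ⟨_, rfl⟩
  have h1 : K1 ≤ K := hK1 ▸ commutator_le_left_of_norm hn
  have hn1 : R ≤ 𝐍 K1 := hK1 ▸ norm_comm_right K R
  have hc1 : (Nat.card K1).Coprime 2 := hK.coprime_dvd_left (card_dvd_of_le h1)
  have h2 : ⁅K1, R⁆ = K1 := by
    rw [hK1]; exact Coprime.commutator_commutator hn (Hyp.cop_of hRe hK) (Hyp.solv_of hRe)
  obtain ⟨D, hD⟩ : ∃ D, D = closure {x | x ∈ K1 ∧ St ⊥ R x} := ⟨_, rfl⟩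
  have hDn : 𝐍 K1 ⊓ 𝐍 R ≤ 𝐍 D := fun g hg => mem_normalizer_of_cj_le (by
    rw [hD, cj_closure, closure_le]
    rintro _ ⟨x, hx, rfl⟩
    exact subset_closure ⟨conj_mem_of_mem_normalizer hg.1 hx.1, hx.2.conj_bot hg.2⟩)
  have hCD : K1 ⊓ 𝐂 R ≤ 𝐍 D :=
    le_trans (inf_le_inf le_normalizer (norm_of_centralizer le_rfl)) hDn
  have h4 : K1 ≤ D ⊔ K1 ⊓ 𝐂 R := by
    refine Hyp.le_of_forall_relIndex_dvd hRe hn1 hc1 fun B hB hi c hc => ?_
    by_cases hRB : R ≤ B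
    · exact mem_sup_right ⟨hc.1, centralizer_anti hRB hc.2⟩
    obtain ⟨a, ha, haB⟩ := SetLike.not_le_iff_exists.1 hRB
    have hi2 : B.relIndex R = 2 :=
      ((Nat.dvd_prime Nat.prime_two).1 hi).resolve_left fun e => hRB (relIndex_eq_one.1 e)
    have ha2 := IsAb.sq hR ha
    have ha' : a⁻¹ = a := inv_eq_of_mul_eq_one_right ha2
    have haC : a ∈ 𝐂 B := centralizer_anti hB (hR.le_centralizer ha)
    obtain ⟨z, hz⟩ : ∃ z, z = a * c * a⁻¹ * c⁻¹ := ⟨_, rfl⟩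
    have hzK : z ∈ K1 := hz ▸ mul_mem (conj_mem_of_mem_normalizer (hn1 ha) hc.1) (inv_mem hc.1)
    have hzB : z ∈ 𝐂 B := hz ▸ mul_mem (mul_mem (mul_mem haC hc.2) (inv_mem haC)) (inv_mem hc.2)
    have hzi : a * z * a⁻¹ = z⁻¹ := by
      rw [hz, mul_inv_rev, mul_inv_rev, mul_inv_rev, inv_inv, inv_inv, ha']
      calc _ = (a * a) * c * a * c⁻¹ * a := by group
        _ = _ := by rw [ha2]; group
    have hzo : (orderOf z).Coprime 2 := hc1.coprime_dvd_left (orderOf_dvd_natCard K1 hzK)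
    have hzD : z ∈ D := mem_of_inv_odd h3 (K := K1) (fun x hx hs => hD ▸ subset_closure ⟨hx, hs⟩) hB ha
      hi2.le hzK hzo hzB hzi
    obtain ⟨m, hm⟩ := Nat.coprime_two_right.1 hzo
    obtain ⟨w, hw⟩ : ∃ w, w = z ^ (m + 1) := ⟨_, rfl⟩
    have hw2 : w * w = z := by
      rw [hw, ← pow_add, show m + 1 + (m + 1) = 2 * m + 1 + 1 by ring, pow_succ, ← hm, pow_orderOf_eq_one,
        one_mul]
    have hwi : a * w * a⁻¹ = w⁻¹ := hw ▸ conj_pow_inv hzi _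
    have hwc : a * (w * c) * a⁻¹ = w * c := by
      calc _ = (a * w * a⁻¹) * (a * c * a⁻¹ * c⁻¹) * c := by group
        _ = _ := by rw [hwi, ← hz, ← hw2]; group
    have h5 : w * c ∈ 𝐂 R := by
      have hB' : w * c ∈ 𝐂 B := mul_mem (hw ▸ pow_mem hzB _) hc.2
      refine mem_centralizer_sub.2 fun g hg => ?_
      by_cases hgB : g ∈ B
      · exact hB' g hgB
      · have h6 : g * a ∈ B := by
          have := (mul_mem_iff_of_index_two (H := B.subgroupOf R) hi2 (a := ⟨g, hg⟩) (b := ⟨a, ha⟩)).2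
            (iff_of_false hgB haB)
          exact this
        have h7 := hB' _ h6
        calc g * (w * c) = g * (a * (w * c) * a⁻¹) := by rw [hwc]
          _ = g * a * (w * c) * a⁻¹ := by group
          _ = _ := by rw [h7]; group
    have : c = w⁻¹ * (w * c) := by group
    rw [this]
    exact mul_mem (mem_sup_left (inv_mem (hw ▸ pow_mem hzD _)))
      (mem_sup_right ⟨mul_mem (hw ▸ pow_mem hzK _) hc.1, h5⟩)
  have h5 : ⁅K1, R⁆ ≤ ⁅D, R⁆ := Coprime.commutator_le_of_mul_centralizer fun k hk => by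
    obtain ⟨n, hn, c, hc, e⟩ := (mem_sup_of_norm' hCD).1 (h4 hk)
    exact ⟨n, hn, c, hc.2, e⟩
  rw [← hK1, ← h2]
  refine h5.trans ((commutator_le_left_of_norm ((le_inf hn1 le_normalizer).trans hDn)).trans ?_)
  rw [hD, closure_le]
  exact fun x hx => hY x (h1 hx.1) hx.2

end CA.S4F
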