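import Cfsg.Agent.Lib.Grp.S4F2
import Cfsg.Agent.Lib.Loc.AmbFs

/-!
`S₃`-free groups with restricted composition factors: generation by steps.
-/

set_option autoImplicit false

namespace CA.S4F

open Subgroup Cfsg CA.Amb CA.AmbSyl CA.AmbCore CA.AmbRes CA.AmbChar
open CA.H6J hiding Z
open CA.H6Basic (commInto mem_commInto le_commInto_iff)
open scoped commutatorElement

universe u

section CK

/-- every non-abelian composition factor satisfies `P` -/
def CKW (P : ∀ (X : Type u) [Group X], Prop) (G : Type u) [Group G] : Prop :=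
  ∀ H : Subgroup G, H.IsSubnormal → ∀ (X : Type u) [Group X] (f : H →* X), Function.Surjective f →
    IsSimpleGroup X → ¬ IsMulCommutative X → P X

variable {P : ∀ (X : Type u) [Group X], Prop} {G G' : Type u} [Group G] [Group G']

theorem CKW.mono {P' : ∀ (X : Type u) [Group X], Prop} [Finite G] (h : CKW P G)
    (hP : ∀ (X : Type u) [Group X] [Finite X], IsSimpleGroup X → ¬ IsMulCommutative X → P X → P' X) :
    CKW P' G := fun H hH X _ f hf h1 h2 =>
  haveI := Finite.of_surjective f hf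
  hP X h1 h2 (h H hH X f hf h1 h2)

theorem CKW.of_inj (h : CKW P G) (g : G' →* G) (hg : Function.Injective g) (hn : g.range.IsSubnormal) :
    CKW P G' := fun H hH X _ f hf h1 h2 => by
  have h3 : (H.map g).IsSubnormal := by
    have := (sn_top_iff.2 hH).map g
    rw [← MonoidHom.range_eq_map] at this
    exact sn_top_iff.1 ((sn_top_iff.2 hn).trans this)
  exact h _ h3 X (f.comp (H.equivMapOfInjective g hg).symm.toMonoidHom)
    (hf.comp (H.equivMapOfInjective g hg).symm.surjective) h1 h2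

theorem CKW.of_surj (h : CKW P G) (g : G →* G') (hg : Function.Surjective g) : CKW P G' :=
  fun H hH X _ f hf h1 h2 => by
  refine h (H.comap g) (hH.comap g) X (f.comp (g.subgroupComap H)) (hf.comp fun y => ?_) h1 h2
  obtain ⟨x, hx⟩ := hg y
  exact ⟨⟨x, by rw [mem_comap, hx]; exact y.2⟩, Subtype.ext hx⟩

theorem CKW.ext (g : G →* G') (hg : Function.Surjective g) (h : CKW P g.ker) (h' : CKW P G') : CKW P G :=
  fun H hH X _ f hf h1 h2 => by
  haveI := (inferInstance : (g.ker.subgroupOf H).Normal).map f hf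
  rcases h1.eq_bot_or_eq_top_of_normal ((g.ker.subgroupOf H).map f) inferInstance with e | e
  · have hk : (g.subgroupMap H).ker ≤ f.ker := fun x hx =>
      (Subgroup.map_eq_bot_iff _).1 e (show g x = 1 from congrArg Subtype.val hx)
    refine h' (H.map g) (hH.map hg) X ((g.subgroupMap H).liftOfSurjective (g.subgroupMap_surjective H) ⟨f, hk⟩)
      (fun y => ?_) h1 h2
    obtain ⟨x, rfl⟩ := hf y
    exact ⟨g.subgroupMap H x, MonoidHom.liftOfRightInverse_comp_apply _ _ _ _ _⟩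
  · let ι : H.subgroupOf g.ker →* H :=
      (g.ker.subtype.comp (H.subgroupOf g.ker).subtype).codRestrict H fun x => x.2
    refine h (H.subgroupOf g.ker) (hH.comap _) X (f.comp ι) (fun y => ?_) h1 h2
    obtain ⟨x, hx, rfl⟩ := e.ge (mem_top y)
    exact ⟨⟨⟨x.1, hx⟩, x.2⟩, rfl⟩

theorem ckw_of_solvable (h : Group.IsSolvable G) : CKW P G := fun H _ X _ f hf h1 h2 => by
  haveI := Group.isSolvable_of_surjective hf
  exact absurd (⟨⟨IsSimpleGroup.comm_iff_isSolvable.2 this⟩⟩) h2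

theorem CKW.sub {L K : Subgroup G} (h : CKW P L) (hK : SN L K) : CKW P K :=
  h.of_inj (inclusion hK.le) (inclusion_injective _) (by rw [inclusion_range]; exact (sn_iff.1 hK).2)

theorem CKW.top (h : CKW P G) : CKW P (⊤ : Subgroup G) :=
  h.of_inj (Subgroup.subtype ⊤) (subtype_injective _) (by rw [range_subtype]; exact IsSubnormal.top)

theorem CKW.sub_top {K : Subgroup G} (h : CKW P G) (hK : K.IsSubnormal) : CKW P K :=
  h.top.sub (sn_top_iff.2 hK)

theorem CKW.map {L : Subgroup G} (h : CKW P L) (f : G →* G') : CKW P (L.map f) :=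
  h.of_surj (f.subgroupMap L) (f.subgroupMap_surjective L)

/-- extension by a solvable quotient -/
theorem CKW.sup {N S : Subgroup G} (h : CKW P N) (hS : Group.IsSolvable S) (hn : S ≤ 𝐍 N) :
    CKW P ↥(N ⊔ S) := by
  haveI := normal_subgroupOf_of_norm (sup_le le_normalizer hn)
  refine CKW.ext (QuotientGroup.mk' (N.subgroupOf (N ⊔ S))) (QuotientGroup.mk'_surjective _) ?_
    (ckw_of_solvable ?_)
  · rw [QuotientGroup.ker_mk']
    exact h.of_surj (subgroupOfEquivOfLe le_sup_left).symm.toMonoidHom (MulEquiv.surjective _)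
  · refine Group.isSolvable_of_surjective (f := (QuotientGroup.mk' _).comp (inclusion le_sup_right)) fun y => ?_
    obtain ⟨⟨x, hx⟩, rfl⟩ := QuotientGroup.mk'_surjective _ y
    obtain ⟨n, hn', s, hs, rfl⟩ := (mem_sup_of_norm' hn).1 hx
    refine ⟨⟨s, hs⟩, QuotientGroup.eq.2 ?_⟩
    exact (by simpa [mul_assoc] using inv_conj_mem_of_mem_normalizer (hn hs) hn' : s⁻¹ * (n * s) ∈ N)

/-- a supplement meeting the normal subgroup in a solvable group -/
theorem CKW.supp {N K H : Subgroup G} (h : CKW P H) (hK : K ≤ H) (hn : H ≤ 𝐍 N) (e : H ≤ N ⊔ K)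
    (hs : Group.IsSolvable ↥(K ⊓ N)) : CKW P K := by
  haveI := normal_subgroupOf_of_norm hn
  refine CKW.ext ((QuotientGroup.mk' (N.subgroupOf H)).comp (inclusion hK)) (fun y => ?_)
    (ckw_of_solvable ?_) (h.of_surj _ (QuotientGroup.mk'_surjective _))
  · obtain ⟨⟨x, hx⟩, rfl⟩ := QuotientGroup.mk'_surjective _ y
    obtain ⟨n, hn', s, hs, rfl⟩ := (mem_sup_of_norm' (hK.trans hn)).1 (e hx)
    refine ⟨⟨s, hs⟩, QuotientGroup.eq.2 ?_⟩
    exact (by simpa [mul_assoc] using inv_conj_mem_of_mem_normalizer (hn (hK hs)) hn' : s⁻¹ * (n * s) ∈ N)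
  · refine Group.isSolvable_of_isSolvable_injective (f := (K.subtype.comp (Subgroup.subtype _)).codRestrict (K ⊓ N)
      fun x => ⟨x.1.2, (QuotientGroup.eq_one_iff (N := N.subgroupOf H) (inclusion hK x.1)).1 x.2⟩)
      fun a b e => ?_
    exact Subtype.ext (Subtype.ext (congrArg (Subtype.val : ↥(K ⊓ N) → G) e))

theorem ckw_of_comp (hP : ∀ (X Y : Type u) [Group X] [Group Y], (X ≃* Y) → P X → P Y)
    (h : IsCompositionKGroupWith P G) : CKW P G := fun H hH X _ f hf h1 h2 => by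
  have e := QuotientGroup.quotientKerEquivOfSurjective f hf
  exact hP _ _ e (h H hH f.ker e.isSimpleGroup
    fun hc => h2 ⟨⟨fun a b => e.symm.injective (by rw [map_mul, map_mul, hc.1.1])⟩⟩)

theorem CKW.comp (h : CKW P G) : IsCompositionKGroupWith P G := fun H hH N _ h1 h2 =>
  h H hH _ (QuotientGroup.mk' N) (QuotientGroup.mk'_surjective N) h1 h2

end CK

section Good

variable {G : Type*} [Group G] {G' : Type*} [Group G']

/-- involutory automorphisms are inner, and steps generate -/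
structure GoodAt (T : Subgroup G) : Prop where
  ne : T ≠ ⊥
  inn : ∀ α : G ≃* G, (∀ x, α (α x) = x) → (∀ t ∈ T, α t ∈ T) →
    (∀ (g y : G) (k : ℕ), y ^ 3 ^ k = 1 → g * α y * g⁻¹ = y⁻¹ → y = 1) → ∃ t ∈ T, ∀ x, α x = t * x * t⁻¹
  gen : ∀ E Y : Subgroup G, E ≤ T → E ≠ ⊥ → IsAb 2 E → T ≤ Y → (∀ x, St ⊥ E x → x ∈ Y) → Y = ⊤

theorem GoodAt.map {T : Subgroup G} (h : GoodAt T) (e : G ≃* G') : GoodAt (T.map e.toMonoidHom) where
  ne := fun h1 => h.ne ((map_eq_bot_iff_of_injective _ e.injective).1 h1)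
  inn := fun α h1 h2 h3 => by
    obtain ⟨t, ht, h4⟩ := h.inn (e.trans (α.trans e.symm)) (fun x => by simp [h1])
      (fun t ht => by
        obtain ⟨s, hs, e1⟩ := h2 _ (mem_map_of_mem _ ht)
        have : e.symm (α (e t)) = s := by rw [MulEquiv.symm_apply_eq]; exact e1.symm
        exact (show e.symm (α (e t)) ∈ T from this ▸ hs))
      fun g y k h5 h6 => e.injective (by
        rw [map_one]
        refine h3 (e g) (e y) k (by rw [← map_pow, h5, map_one]) ?_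
        have := congrArg e h6
        simpa using this)
    refine ⟨e t, mem_map_of_mem _ ht, fun x => ?_⟩
    have := congrArg e (h4 (e.symm x))
    simpa using this
  gen := fun E Y h1 h2 h3 h4 h5 => by
    have h6 := h.gen (E.comap e.toMonoidHom) (Y.comap e.toMonoidHom)
      (fun x hx => by
        obtain ⟨s, hs, e1⟩ := h1 hx
        exact e.injective e1 ▸ hs)
      (fun h7 => h2 (by
        rw [← map_comap_eq_self_of_surjective (f := e.toMonoidHom) e.surjective E, h7, Subgroup.map_bot]))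
      (h3.comap e.injective) (map_le_iff_le_comap.1 h4) fun x hx => by
        have := hx.map_bot (f := e.toMonoidHom) e.injective
        rw [map_comap_eq_self_of_surjective e.surjective] at this
        exact h5 _ this
    rw [← map_comap_eq_self_of_surjective (f := e.toMonoidHom) e.surjective Y, h6,
      map_top_of_surjective _ e.surjective]

/-- the property needed of the simple sections -/
def Good (X : Type u) [Group X] : Prop := ∀ T : Subgroup X, SylIn 2 T ⊤ → GoodAt T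

theorem good_of_goodAt {X : Type u} [Group X] [Finite X] {T : Subgroup G} (hT : SylIn 2 T ⊤) (h : GoodAt T)
    (e : G ≃* X) : Good X := fun T' hT' => by
  haveI := Finite.of_equiv _ e.symm.toEquiv
  obtain ⟨g, -, rfl⟩ := (H6NPC.sylIn_map_top hT (f := e.toMonoidHom) e.surjective).exists_conj hT'
  exact (h.map e).map (MulAut.conj g)

theorem exists_compl [Finite G] {R R1 : Subgroup G} (hR : IsAb 2 R) (h : R1 ≤ R) :
    ∃ R2, R2 ≤ R ∧ R1 ⊓ R2 = ⊥ ∧ R ≤ R1 ⊔ R2 := by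
  obtain ⟨R2, ⟨h1, h2⟩, hmax⟩ := (wellFounded_gt (α := Subgroup G)).has_min {A | A ≤ R ∧ R1 ⊓ A = ⊥}
    ⟨⊥, bot_le, inf_bot_eq _⟩
  refine ⟨R2, h1, h2, fun r hr => by_contra fun hn => hmax (R2 ⊔ zpowers r) ⟨sup_le h1 (zpowers_le.2 hr), ?_⟩
    (lt_of_le_not_ge le_sup_left fun h3 => hn (mem_sup_right (h3 (mem_sup_right (mem_zpowers r)))))⟩
  rw [eq_bot_iff]
  rintro x ⟨hx1, hx2⟩
  obtain ⟨y, hy, z, hz, rfl⟩ := (mem_sup_of_norm' (norm_of_centralizer
    ((zpowers_le.2 hr).trans (hR.le_centralizer.trans (centralizer_anti h1))))).1 hx2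
  obtain ⟨i, rfl⟩ := hz
  have h4 : r ^ (2 : ℤ) = 1 := by exact_mod_cast hR.2 r hr
  rcases Int.even_or_odd' i with ⟨l, rfl | rfl⟩
  · simp only [zpow_mul, h4, one_zpow, mul_one] at hx1 ⊢
    exact h2.le ⟨hx1, hy⟩
  · simp only [zpow_add, zpow_mul, h4, one_zpow, one_mul, zpow_one] at hx1
    exact absurd (by simpa using mul_mem (inv_mem (mem_sup_right hy)) (mem_sup_left hx1)) hn

open scoped IsMulCommutative in
/-- the product of the conjugates of `x` under `R` -/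
theorem exists_norm [Finite G] {R : Subgroup G} {x : G}
    (hc : ∀ r ∈ R, r ≠ 1 → x * (r * x * r⁻¹) = r * x * r⁻¹ * x) :
    ∃ y, y ∈ 𝐂 R ∧ (∀ M : Subgroup G, (∀ r ∈ R, r ≠ 1 → r * x * r⁻¹ ∈ M) → x⁻¹ * y ∈ M) ∧
      (∀ g ∈ 𝐂 R, g * x * g⁻¹ = x → g * y * g⁻¹ = y) ∧ ∀ g ∈ 𝐂 R, g * x * g⁻¹ = x⁻¹ → g * y * g⁻¹ = y⁻¹ := by
  classical
  haveI := Fintype.ofFinite R
  obtain ⟨V, hV⟩ : ∃ V, V = closure {z | ∃ r ∈ R, r * x * r⁻¹ = z} := ⟨_, rfl⟩
  have hm : ∀ r : R, (r : G) * x * (r : G)⁻¹ ∈ V := fun r => hV ▸ subset_closure ⟨r, r.2, rfl⟩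
  haveI : IsMulCommutative V := by
    refine H6NPC.isMulCommutative_of_le_cent ?_
    rw [hV, centralizer_closure, closure_le]
    rintro _ ⟨r, hr, rfl⟩ _ ⟨s, hs, rfl⟩
    by_cases e : s = r
    · rw [e]
    · have := hc (s⁻¹ * r) (mul_mem (inv_mem hs) hr) fun h => e (inv_mul_eq_one.1 h)
      calc _ = s * (x * (s⁻¹ * r * x * (s⁻¹ * r)⁻¹)) * s⁻¹ := by group
        _ = _ := by rw [this]; group
  let f : R → V := fun r => ⟨_, hm r⟩
  have hn : ∀ g : G, (∀ r ∈ R, g * (r * x * r⁻¹) * g⁻¹ ∈ V) → g ∈ 𝐍 V := fun g hg =>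
    mem_normalizer_of_cj_le (by
      conv_lhs => rw [hV, cj_closure]
      rw [closure_le]
      rintro _ ⟨_, ⟨r, hr, rfl⟩, rfl⟩
      exact hg r hr)
  have key : ∀ g (hg : g ∈ 𝐍 V), g * (∏ r, f r : V) * g⁻¹ = (∏ r, AmbRed.cv hg (f r) : V) := fun g hg => by
    rw [← map_prod, AmbRed.coe_cv]
  have e1 : ∀ g ∈ 𝐂 R, ∀ r ∈ R, g * (r * x * r⁻¹) * g⁻¹ = r * (g * x * g⁻¹) * r⁻¹ := fun g hg r hr => by
    calc _ = (g * r) * x * (g * r)⁻¹ := by group
      _ = _ := by rw [← hg r hr]; group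
  refine ⟨(∏ r, f r : V), mem_centralizer_sub.2 fun s hs => ?_, fun M hM => ?_, fun g hg h => ?_,
    fun g hg h => ?_⟩
  · have hs' : s ∈ 𝐍 V := hn s fun r hr => by
      have := hm ⟨s * r, mul_mem hs hr⟩
      simpa [mul_assoc] using this
    rw [← mul_inv_eq_iff_eq_mul, key s hs']
    congr 1
    refine Fintype.prod_equiv (Equiv.mulLeft ⟨s, hs⟩) _ _ fun r => Subtype.ext ?_
    simp [f, AmbRed.coe_cv, mul_assoc]
  · rw [← Finset.mul_prod_erase _ _ (Finset.mem_univ 1)]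
    have : x⁻¹ * ((f 1 * ∏ r ∈ Finset.univ.erase 1, f r : V) : G) = (∏ r ∈ Finset.univ.erase 1, f r : V) := by
      have e : ((f 1 : V) : G) = x := by simp [f]
      rw [coe_mul, e, inv_mul_cancel_left]
    rw [this]
    exact Subgroup.prod_mem (M.subgroupOf V) fun r hr =>
      hM r r.2 fun e => Finset.ne_of_mem_erase hr (Subtype.ext e)
  · have hg' : g ∈ 𝐍 V := hn g fun r hr => by rw [e1 g hg r hr, h]; exact hm ⟨r, hr⟩
    rw [key g hg']
    congr 1
    exact Finset.prod_congr rfl fun r _ => Subtype.ext (by rw [AmbRed.coe_cv, e1 g hg r r.2, h])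
  · have hg' : g ∈ 𝐍 V := hn g fun r hr => by rw [e1 g hg r hr, h, ← conj_inv]; exact inv_mem (hm ⟨r, hr⟩)
    rw [key g hg', ← coe_inv, ← Finset.prod_inv_distrib]
    congr 1
    exact Finset.prod_congr rfl fun r _ => Subtype.ext (by
      rw [AmbRed.coe_cv, e1 g hg r r.2, h, ← conj_inv]; rfl)

theorem relIndex_sup_le [Finite G] {A B C R : Subgroup G} (hn : A ≤ 𝐍 (B ⊔ C)) (h : R ≤ A ⊔ C) :
    (B ⊔ C).relIndex R ≤ B.relIndex A :=
  calc _ ≤ (B ⊔ C).relIndex (A ⊔ (B ⊔ C)) :=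
        relIndex_le_of_le_right (h.trans (sup_le_sup_left le_sup_right _)) (relIndex_ne_zero _ _)
    _ = (B ⊔ C).relIndex A := relIndex_sup_of_norm hn
    _ ≤ _ := relIndex_le_of_le_left le_sup_left (relIndex_ne_zero _ _)

theorem IsAb.norm {R A B : Subgroup G} {n : ℕ} (hR : IsAb n R) (hA : A ≤ R) (hB : B ≤ R) : A ≤ 𝐍 B :=
  norm_of_centralizer (hA.trans (hR.le_centralizer.trans (centralizer_anti hB)))

theorem cop_three [Finite G] (h3 : ¬ Involves S3 G) {a z : G} (h : a * z * a⁻¹ = z⁻¹) :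
    (orderOf z).Coprime 3 := by
  haveI : Fact (Nat.Prime 3) := ⟨by norm_num⟩
  obtain ⟨y, b, hy, -, e, ⟨k, hk⟩, hc⟩ := exists_p_part (p := 3) (mem_top z)
  rwa [e, ns3 h3 hk (conj_inv_of_mem h hy), one_mul]

/-- the component step lemma -/
theorem csl {G : Type u} [Group G] [Finite G] (h3 : ¬ Involves S3 G) {L T R Y : Subgroup G}
    (hs : ∀ D, D ≤ L → L ≤ 𝐍 D → D = L ∨ D ≤ 𝐂 L) (hZ : L ⊓ 𝐂 L = ⊥) (hG : Good L) (hT : SylIn 2 T L)
    (hR : IsAb 2 R) (hRL : ∀ r ∈ R, r ∉ 𝐍 L → cj r L ≤ 𝐂 L) (hRT : R ⊓ 𝐍 L ≤ 𝐍 T) (hc : ¬ R ≤ 𝐂 L)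
    (hTY : T ≤ Y) (hY : ∀ x, St ⊥ R x → x ∈ Y) : L ≤ Y := by
  have hg := hG _ (H6NPC.sylIn_subgroupOf_top hT)
  have hC : 𝐍 L ≤ 𝐍 (𝐂 L) := normalizer_le_normalizer_centralizer L
  have hCN : 𝐂 L ≤ 𝐍 L := norm_of_centralizer le_rfl
  obtain ⟨R2, h21, h22, h23⟩ := exists_compl hR (inf_le_left : R ⊓ 𝐍 L ≤ R)
  have h24 : ∀ r ∈ R2, r ≠ 1 → ∀ x ∈ L, r * x * r⁻¹ ∈ 𝐂 L := fun r hr h1 x hx =>
    hRL r (h21 hr) (fun h => h1 (h22.le ⟨⟨h21 hr, h⟩, hr⟩)) (conj_mem_cj.2 hx)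
  suffices h : L ≤ (Y ⊓ 𝐍 L) ⊔ 𝐂 L by
    have h1 : L ≤ 𝐍 (Y ⊓ L) := h.trans (sup_le (norm_inf (inf_le_left.trans le_normalizer) inf_le_right)
      (norm_of_centralizer (centralizer_anti inf_le_right)))
    rcases hs _ inf_le_right h1 with e | e
    · exact e.ge.trans inf_le_left
    · refine absurd (eq_bot_iff.2 fun t ht => ?_) hg.ne
      exact mem_bot.2 (Subtype.ext (hZ.le ⟨t.2, e ⟨hTY ht, t.2⟩⟩))
  have fin : ∀ x ∈ L, ∀ y r k m, x ^ r ^ k = 1 → x⁻¹ * y ∈ 𝐂 L → m.Coprime r → y ^ m ∈ Y →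
      x ∈ (Y ⊓ 𝐍 L) ⊔ 𝐂 L := fun x hx y r k m h1 h2 h4 h5 => by
    have h6 : y ∈ 𝐍 L := by simpa using mul_mem (le_normalizer hx) (hCN h2)
    refine mem_of_pow_mem_of_coprime (cop_of_pow h1 h4.symm) ?_
    have h7 : Commute x (x⁻¹ * y) := h2 x hx
    have h8 : x ^ m = y ^ m * ((x⁻¹ * y) ^ m)⁻¹ := by
      rw [eq_mul_inv_iff_mul_eq, ← h7.mul_pow, mul_inv_cancel_left]
    rw [h8]
    exact mul_mem (mem_sup_left ⟨h5, pow_mem h6 m⟩) (mem_sup_right (inv_mem (pow_mem h2 m)))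
  have hTM : T ≤ (Y ⊓ 𝐍 L) ⊔ 𝐂 L := (le_inf hTY (hT.le.trans le_normalizer)).trans le_sup_left
  by_cases hc1 : R ⊓ 𝐍 L ≤ 𝐂 L
  · obtain ⟨a, ha, haC⟩ := SetLike.not_le_iff_exists.1 fun h : R2 ≤ 𝐂 L => hc (h23.trans (sup_le hc1 h))
    have ha1 : a ≠ 1 := fun e => haC (e ▸ one_mem _)
    have ha2 := IsAb.sq hR (h21 ha)
    obtain ⟨R3, h31, h32, h33⟩ := exists_compl (hR.of_le h21) (zpowers_le.2 ha)
    have hi : (R ⊓ 𝐍 L ⊔ R3).relIndex R ≤ 2 ^ 1 := by
      have h1 := relIndex_sup_le (A := zpowers a) (B := ⊥) (C := R ⊓ 𝐍 L ⊔ R3) (R := R)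
        (IsAb.norm hR (zpowers_le.2 (h21 ha)) (sup_le bot_le (sup_le inf_le_left (h31.trans h21))))
        (h23.trans (sup_le (le_sup_left.trans le_sup_right) (h33.trans (sup_le_sup_left le_sup_right _))))
      rw [bot_sup_eq, relIndex_bot_left, Nat.card_zpowers] at h1
      exact h1.trans (Nat.le_of_dvd (by norm_num) (orderOf_dvd_of_pow_eq_one (hR.2 a (h21 ha))))
    refine le_of_syl_of_res hT hTM (res_le_iff.2 fun x0 hx0 ho => by_contra fun hn => ?_)
    obtain ⟨r, hr, hd, x, hx, hxn, k, hk⟩ := Fus3.exists_prime_pow_not_mem hn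
    have hxL : x ∈ L := zpowers_le.2 hx0 hx
    have hr2 : r ≠ 2 := by
      rintro rfl
      exact (Nat.prime_two.coprime_iff_not_dvd.1 ho.symm) hd
    obtain ⟨y, y1, y2, y3, -⟩ := exists_norm (R := R3) (x := x) fun r hr h1 => h24 r (h31 hr) h1 x hxL x hxL
    have hya : a * y * a⁻¹ ∈ 𝐂 L := by
      rw [← mem_cj_inv]
      have h1 := y2 (cj a⁻¹ (𝐂 L)) fun s hs h1 => by
        rw [mem_cj_inv, show a * (s * x * s⁻¹) * a⁻¹ = (a * s) * x * (a * s)⁻¹ by group]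
        refine h24 _ (mul_mem ha (h31 hs)) (fun e => h1 (h32.le ⟨?_, hs⟩)) x hxL
        rw [eq_inv_of_mul_eq_one_right e]; exact (zpowers a).inv_mem (mem_zpowers a)
      simpa using mul_mem (mem_cj_inv.2 (h24 a ha ha1 x hxL)) h1
    have hyL : x⁻¹ * y ∈ 𝐂 L := y2 _ fun s hs h1 => h24 s (h31 hs) h1 x hxL
    have hy0 : y ∈ 𝐂 (R ⊓ 𝐍 L ⊔ R3) := by
      rw [centralizer_sup]
      refine ⟨mem_centralizer_sub.2 fun g hg => mul_inv_eq_iff_eq_mul.1 (y3 g ?_ ?_), y1⟩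
      · exact centralizer_anti (h31.trans h21) (hR.le_centralizer hg.1)
      · rw [← hc1 hg x hxL, mul_inv_cancel_right]
    have ha0 : a ∈ 𝐂 (R ⊓ 𝐍 L ⊔ R3) :=
      centralizer_anti (sup_le inf_le_left (h31.trans h21)) (hR.le_centralizer (h21 ha))
    have hz0 := mul_mem hy0 (inv_mem (mul_mem (mul_mem ha0 hy0) (inv_mem ha0)))
    have hzi : a * (y * (a * y * a⁻¹)⁻¹) * a⁻¹ = (y * (a * y * a⁻¹)⁻¹)⁻¹ := by
      calc _ = a * y * a⁻¹ * ((a * a) * y⁻¹ * (a * a)⁻¹) := by group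
        _ = _ := by rw [ha2]; group
    have hzL : x⁻¹ * (y * (a * y * a⁻¹)⁻¹) ∈ 𝐂 L := by rw [← mul_assoc]; exact mul_mem hyL (inv_mem hya)
    by_cases hr3 : r = 3
    · subst hr3
      exact hxn (fin x hxL _ 3 k _ hk hzL (cop_three h3 hzi) (by rw [pow_orderOf_eq_one]; exact one_mem _))
    obtain ⟨m, hm, hmY⟩ := pow_mem_of_inv hY (sup_le inf_le_left (h31.trans h21)) (h21 ha) hi
      (big_one hr hr2 hr3) hz0 hzi
    exact hxn (fin x hxL _ r k m hk hzL hm hmY)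
  have act : ∀ r e : G, r⁻¹ * e ∈ 𝐂 L → r ∈ 𝐍 L → ∀ l ∈ L, e * l * e⁻¹ = r * l * r⁻¹ := fun r e h hr l hl => by
    calc _ = r * (r⁻¹ * e * l) * e⁻¹ := by group
      _ = _ := by rw [← h l hl]; group
  have one : ∀ e ∈ L, (∀ l ∈ L, e * l * e⁻¹ = l) → e = 1 := fun e he h =>
    hZ.le ⟨he, fun l hl => (mul_inv_eq_iff_eq_mul.1 (h l hl)).symm⟩
  obtain ⟨E, hE⟩ : ∃ E, E = T ⊓ (R ⊓ 𝐍 L ⊔ 𝐂 L) := ⟨_, rfl⟩
  have hET : E ≤ T := hE ▸ inf_le_left
  have hEL : E ≤ L := hET.trans hT.le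
  have hE1 : ∀ e ∈ E, ∃ r ∈ R ⊓ 𝐍 L, r⁻¹ * e ∈ 𝐂 L := fun e he => by
    rw [hE] at he
    obtain ⟨r, hr, c, hc, rfl⟩ := (mem_sup_of_norm (inf_le_right.trans hC)).1 he.2
    exact ⟨r, hr, by simpa using hc⟩
  have hE2 : R ⊓ 𝐍 L ≤ E ⊔ 𝐂 L := fun r hr => by
    have hr2 := IsAb.sq hR hr.1
    obtain ⟨t, ht, h⟩ := hg.inn (L.normalizerMonoidHom ⟨r, hr.2⟩)
      (fun x => Subtype.ext (by
        show r * (r * x * r⁻¹) * r⁻¹ = x
        calc _ = (r * r) * x * (r * r)⁻¹ := by group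
          _ = _ := by rw [hr2]; group))
      (fun t ht => conj_mem_of_mem_normalizer (hRT hr) ht)
      fun g y k h1 h2 => Subtype.ext (ns3 h3 (a := g * r) (k := k) (congrArg Subtype.val h1) (by
        have := congrArg Subtype.val h2
        change (g : G) * (r * y * r⁻¹) * (g : G)⁻¹ = (y : G)⁻¹ at this
        rw [← this]; group))
    have h1 : (t : G)⁻¹ * r ∈ 𝐂 L := fun l hl => by
      have := congrArg Subtype.val (h ⟨l, hl⟩)
      change r * l * r⁻¹ = (t : G) * l * (t : G)⁻¹ at this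
      calc _ = (t : G)⁻¹ * ((t : G) * l * (t : G)⁻¹) * r := by group
        _ = _ := by rw [← this]; group
    have h2 : (t : G) ∈ E := hE ▸ ⟨ht, by simpa using mul_mem (mem_sup_left hr) (inv_mem (mem_sup_right h1))⟩
    simpa using mul_mem (mem_sup_left h2) (mem_sup_right h1)
  have hEa : IsAb 2 E := by
    refine ⟨H6Basic.isMulCommutative_iff'.2 fun e he e' he' => ?_, fun e he => ?_⟩
    · obtain ⟨r, hr, h1⟩ := hE1 e he
      obtain ⟨r', hr', h2⟩ := hE1 e' he'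
      have h4 : ∀ l ∈ L, e * e' * l * (e * e')⁻¹ = e' * e * l * (e' * e)⁻¹ := fun l hl => by
        calc _ = e * (e' * l * e'⁻¹) * e⁻¹ := by group
          _ = r * r' * l * (r * r')⁻¹ := by
            rw [act r' e' h2 hr'.2 l hl, act r e h1 hr.2 _ (conj_mem_of_mem_normalizer hr'.2 hl)]; group
          _ = e' * (e * l * e⁻¹) * e'⁻¹ := by
            rw [act r e h1 hr.2 l hl, act r' e' h2 hr'.2 _ (conj_mem_of_mem_normalizer hr.2 hl),
              hR.comm hr.1 hr'.1]; group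
          _ = _ := by group
      refine (inv_mul_eq_one.1 (one _ (hEL (mul_mem (inv_mem (mul_mem he' he)) (mul_mem he he')))
        fun l hl => ?_)).symm
      calc _ = (e' * e)⁻¹ * (e * e' * l * (e * e')⁻¹) * (e' * e) := by group
        _ = _ := by rw [h4 l hl]; group
    · obtain ⟨r, hr, h1⟩ := hE1 e he
      refine one _ (hEL (pow_mem he 2)) fun l hl => ?_
      calc _ = e * (e * l * e⁻¹) * e⁻¹ := by rw [pow_two]; group
        _ = (r * r) * l * (r * r)⁻¹ := by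
          rw [act r e h1 hr.2 l hl, act r e h1 hr.2 _ (conj_mem_of_mem_normalizer hr.2 hl)]; group
        _ = _ := by rw [IsAb.sq hR hr.1]; group
  have hfin := hg.gen (E.subgroupOf L) (((Y ⊓ 𝐍 L) ⊔ 𝐂 L).subgroupOf L) (comap_mono hET)
    (fun e => hc1 (hE2.trans (sup_le (fun x hx => by
      have : (⟨x, hEL hx⟩ : L) = 1 := e.le hx
      rw [show x = 1 from congrArg Subtype.val this]; exact one_mem _) le_rfl)))
    (hEa.comap (subtype_injective L)) (comap_mono hTM) fun x hx => by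
      have h1 := hx.map_bot (subtype_injective L)
      rw [subgroupOf_map_subtype, inf_eq_left.2 hEL] at h1
      obtain ⟨E0, e, r, j, h1⟩ := h1
      obtain ⟨a, ha, hae⟩ := hE1 e h1.mem
      obtain ⟨k, hk⟩ := h1.pw
      obtain ⟨y, y1, y2, y3, y4⟩ := exists_norm (R := R2) (x := (x : G))
        fun r hr h1 => h24 r hr h1 x x.2 x x.2
      have hR0 : R ⊓ 𝐍 L ⊓ (E0 ⊔ 𝐂 L) ⊔ R2 ≤ R := sup_le (inf_le_left.trans inf_le_left) h21
      have hi : (R ⊓ 𝐍 L ⊓ (E0 ⊔ 𝐂 L) ⊔ R2).relIndex R ≤ 2 ^ j := by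
        refine (relIndex_sup_le (IsAb.norm hR inf_le_left hR0) h23).trans ?_
        rw [inf_relIndex_left]
        exact (relIndex_sup_le (norm_sup (IsAb.norm hEa le_rfl h1.le) (hEL.trans (le_normalizer.trans hC)))
          hE2).trans h1.idx
      have hy0 : y ∈ 𝐂 (R ⊓ 𝐍 L ⊓ (E0 ⊔ 𝐂 L) ⊔ R2) := by
        rw [centralizer_sup]
        refine ⟨mem_centralizer_sub.2 fun g hg => mul_inv_eq_iff_eq_mul.1 (y3 g ?_ ?_), y1⟩
        · exact centralizer_anti h21 (hR.le_centralizer hg.1.1)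
        · have : (x : G) ∈ 𝐂 (E0 ⊔ 𝐂 L) := by
            rw [centralizer_sup]; exact ⟨h1.cent, cent_symm le_rfl x.2⟩
          rw [this g hg.2, mul_inv_cancel_right]
      have hyi := y4 a (centralizer_anti h21 (hR.le_centralizer ha.1))
        (by rw [← act a e hae ha.2 x x.2]; exact h1.inv')
      obtain ⟨m, hm, hmY⟩ := pow_mem_of_inv hY hR0 ha.1 hi h1.big hy0 hyi
      exact fin x x.2 y r k m hk (y2 _ fun s hs h1 => h24 s hs h1 x x.2) hm hmY
  exact fun x hx => hfin.ge (mem_top (⟨x, hx⟩ : L))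

end Good

section Gen

variable {G : Type u} [Group G] [Finite G]

theorem gen_comp (h3 : ¬ Involves S3 G) (hK : CKW Good G) {S R Y L : Subgroup G} (hS : SylIn 2 S ⊤)
    (hR : IsAb 2 R) (hRS : R ≤ S) (hL : IsComponent L) (hZ : L ⊓ 𝐂 L = ⊥) (hc : ¬ R ≤ 𝐂 L) (hSY : S ≤ Y)
    (hY : ∀ x, St ⊥ R x → x ∈ Y) : L ≤ Y := by
  have hce : center L = ⊥ := by
    rw [← map_eq_bot_iff_of_injective _ (subtype_injective L), map_subtype_center, hZ]
  have hT := (sn_top_iff.2 hL.1).sylIn_inf hS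
  refine csl h3 (fun D h1 h2 => Quasi.qs_of_le_normalizer hL.2 h1 h2) hZ
    (hK L hL.1 L (MonoidHom.id L) Function.surjective_id (Quasi.simple_of_qs_of_center_eq_bot hL.2 hce)
      fun h => Quasi.qs_not_le_centralizer hL.2 (H6NPC.le_cent_of_isMulCommutative h)) hT hR
    (fun r _ h => Comp.comp_le_centralizer_of_ne (Comp.comp_map_conj hL r) hL
      fun e => h (cj_eq_self_iff.1 e))
    (norm_inf (inf_le_left.trans (hRS.trans le_normalizer)) inf_le_right) hc (inf_le_left.trans hSY) hY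

theorem exists_comp (hO : pCore 2 G = ⊥) {R : Subgroup G} (hR : IsPGroup 2 R) (hne : R ≠ ⊥)
    (hc : R ≤ 𝐂 (pPrimeCore 2 G)) : ∃ L, IsComponent L ∧ ¬ R ≤ 𝐂 L := by
  by_contra h
  push Not at h
  have hO' : pCoreOf 2 (⊤ : Subgroup G) = ⊥ := by rw [pCoreOf_top, hO]
  refine hne (AmbFs.eq_bot_of_cent_FS hO' hR le_top ?_)
  rw [AmbFs.FS_eq, centralizer_sup]
  refine le_inf (cent_symm ?_) (hc.trans (centralizer_anti ?_))
  · rw [AmbFs.EL_top]
    exact Comp.layer_le fun K hK => cent_symm (h K hK)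
  · have := AmbFs.FL_le_sup (p := 2) (⊤ : Subgroup G)
    rwa [hO', bot_sup_eq, AmbFs.OQ_top] at this

/-- existence of a step -/
theorem exists_st (h3 : ¬ Involves S3 G) (hK : CKW Good G) (hO : pCore 2 G = ⊥) {R : Subgroup G}
    (hR : IsAb 2 R) (hne : R ≠ ⊥) : ∃ x, St ⊥ R x := by
  by_contra hn
  push Not at hn
  have hcop : (Nat.card (pPrimeCore 2 G)).Coprime 2 := H6PSolv.π_ker (p := 2) (G := G) ▸ H6PSolv.π_cop
  haveI : (pPrimeCore 2 G).Normal := H6PSolv.π_ker (p := 2) (G := G) ▸ inferInstance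
  have hc : R ≤ 𝐂 (pPrimeCore 2 G) := commutator_eq_bot_iff'.1 (le_bot_iff.1
    (comm_le_of_odd h3 hR norm_of_normal hcop fun x _ hx => absurd hx (hn x)))
  obtain ⟨L, hL, hLR⟩ := exists_comp hO hR.isPGroup hne hc
  have hLO : ¬ ⁅L, R⁆ ≤ pPrimeCore 2 G := fun h =>
    (Comp.comp_le_commutator_or hL R).elim (fun h1 => hLR (hc.trans (centralizer_anti (h1.trans h))))
      fun h1 => hLR (cent_symm h1)
  have hk : ∀ X : Subgroup G, X.map (H6PSolv.π 2 G) = ⊥ ↔ X ≤ pPrimeCore 2 G := fun X => by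
    rw [Subgroup.map_eq_bot_iff, H6PSolv.π_ker]
  have hne' : L.map (H6PSolv.π 2 G) ≠ ⊥ := fun e => hLR (hc.trans (centralizer_anti ((hk L).1 e)))
  have hL' := Comp.comp_map hL H6PSolv.π_surj hne'
  obtain ⟨S, hS, hRS⟩ := exists_sylIn_ge (hR.map (H6PSolv.π 2 G)).isPGroup le_top
  have h1 := gen_comp (fun b => h3 (Fus.involves_of_surj _ H6PSolv.π_surj b)) (hK.of_surj _ H6PSolv.π_surj)
    hS (hR.map _) hRS hL' (by
      rw [eq_bot_iff]
      rintro _ ⟨⟨l, hl, rfl⟩, h2⟩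
      have h4 : l ∈ L ⊓ commInto L (pPrimeCore 2 G) := ⟨hl, mem_commInto.2 ⟨norm_of_normal (mem_top l),
        fun y hy => by
          rw [← H6PSolv.π_ker, MonoidHom.mem_ker, map_commutatorElement,
            commutatorElement_eq_one_iff_mul_comm]
          exact (h2 _ (mem_map_of_mem _ hy)).symm⟩⟩
      rw [mem_bot, ← MonoidHom.mem_ker, H6PSolv.π_ker]
      rcases Quasi.qs_of_le_normalizer hL.2 (H := L ⊓ commInto L (pPrimeCore 2 G)) inf_le_left
        (norm_inf le_normalizer (H6Off.norm_commInto le_normalizer norm_of_normal)) with e | e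
      · have := (le_commInto_iff.1 (e.ge.trans inf_le_right)).2
        rw [Comp.comp_perfect hL] at this
        exact absurd ((hk L).2 this) hne'
      · have h5 := Comp.comp_inf_centralizer_le_fitting hL ⟨hl, e h4⟩
        have := AmbFs.FL_le_sup (p := 2) (⊤ : Subgroup G)
        rw [pCoreOf_top, hO, bot_sup_eq, AmbFs.OQ_top, AmbFs.FL_top] at this
        exact this h5)
    (fun h => hLO (by rw [← hk, map_commutator]; exact comm_eq_bot_of_le' h)) le_rfl fun x hx => by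
      obtain ⟨x, rfl⟩ := H6PSolv.π_surj x
      obtain ⟨y, -, hy⟩ := hx.lift
      rw [H6PSolv.π_ker] at hy
      obtain ⟨z, R0, a, r, j, hz, -⟩ := hy.improve (Q := ⊥) hR norm_of_normal
        (sylIn_of_not_dvd bot_le IsPGroup.of_bot (by
          rw [relIndex_bot_left]; exact Nat.prime_two.coprime_iff_not_dvd.1 hcop.symm)) norm_of_normal
      exact absurd ⟨R0, a, r, j, hz⟩ (hn z)
  exact Quasi.qs_not_le_solvable hL'.2 (isSolvable_of_isPGroup hS.pg) h1

/-- generation by steps -/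
theorem gen_top (h3 : ¬ Involves S3 G) (hK : CKW Good G) {S R Y : Subgroup G} (hS : SylIn 2 S ⊤)
    (hST : S ≠ ⊤) (hmax : ∀ N : Subgroup G, ⊤ ≤ 𝐍 N → N ≠ ⊥ → N ⊔ S = ⊤) (hR : IsAb 2 R) (hRS : R ≤ S)
    (hne : R ≠ ⊥) (hSY : S ≤ Y) (hY : ∀ x, St ⊥ R x → x ∈ Y) : Y = ⊤ := by
  have hO' : pCoreOf 2 (⊤ : Subgroup G) = ⊥ := by_contra fun h =>
    hST (by rw [← hmax _ (norm_pCoreOf 2 ⊤) h, sup_eq_right.2 (pCoreOf_le_syl hS)])
  have hO : pCore 2 G = ⊥ := by rw [← pCoreOf_top, hO']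
  have hcop : (Nat.card (pPrimeCore 2 G)).Coprime 2 := H6PSolv.π_ker (p := 2) (G := G) ▸ H6PSolv.π_cop
  haveI : (pPrimeCore 2 G).Normal := H6PSolv.π_ker (p := 2) (G := G) ▸ inferInstance
  have key : ∀ X K : Subgroup G, X ≠ ⊥ → X ≤ Y → K ⊔ S = ⊤ → (∀ s, K ≤ 𝐍 (cj s X)) → Y = ⊤ :=
    fun X K h1 h2 h4 h5 => by
      have h6 := hmax (ncl X S) (h4.ge.trans (sup_le (norm_iSup fun s => h5 s)
        (norm_ncl X S))) fun e => h1 (le_bot_iff.1 ((le_ncl X S).trans e.le))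
      exact eq_top_iff.2 (h6.ge.trans (sup_le (ncl_le h2 (hSY.trans le_normalizer)) hSY))
  by_cases hb : pPrimeCore 2 G = ⊥
  · obtain ⟨L, hL, hLR⟩ := exists_comp hO hR.isPGroup hne (by rw [hb]; exact cent_symm bot_le)
    haveI := Comp.layer_normal (G := G)
    refine key L (layer G) (Comp.comp_ne_bot hL) (gen_comp h3 hK hS hR hRS hL ?_ hLR hSY hY)
      (hmax _ norm_of_normal fun e => Comp.comp_ne_bot hL (le_bot_iff.1 ((Comp.le_layer hL).trans e.le)))
      fun s => Comp.layer_le_normalizer (Comp.comp_map_conj hL s)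
    have := AmbFs.FL_le_sup (p := 2) (⊤ : Subgroup G)
    rw [hO', bot_sup_eq, AmbFs.OQ_top, AmbFs.FL_top, hb] at this
    exact le_bot_iff.1 ((Comp.comp_inf_centralizer_le_fitting hL).trans this)
  · have h1 := hmax _ norm_of_normal hb
    refine key ⁅pPrimeCore 2 G, R⁆ _ (fun e => hne (le_bot_iff.1 ((le_ncl R S).trans (hO' ▸ le_pCoreOf le_top
      (hS.pg.to_le (ncl_le_of_le hRS)) (h1.ge.trans (sup_le (norm_of_centralizer (cent_symm
        (ncl_le_cent norm_of_normal (commutator_eq_bot_iff'.1 e)))) (norm_ncl R S)))))))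
      (comm_le_of_odd h3 hR norm_of_normal hcop fun x _ hx => hY x hx) h1 fun s => ?_
    rw [cj_commutator, cj_eq_self_of_normal]
    exact norm_comm_left _ _

end Gen

end CA.S4F
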