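import Cfsg.Agent.Lib.Grp.S4F3
import Cfsg.Agent.Lib.Grp.Zsig
import Cfsg.Agent.Lib.Lie.SzClass
import Cfsg.Agent.Lib.Lie.SzModel
import Cfsg.Agent.Lib.Lin.PSL2Four
import Cfsg.Agent.Lib.Lin.PSL2Max
import Cfsg.Agent.Lib.Lin.AutPSL

/-!
The Suzuki groups and the groups `PSL₂(3^(2n+1))` are generated by steps.
-/

set_option autoImplicit false

namespace CA.S4F

open Subgroup Cfsg CA.Amb CA.AmbSyl CA.AmbCore CA.AmbRes CA.AmbChar
open CA.H6J hiding Z J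

universe u

theorem two_pow_dvd {d N : ℕ} (hN : Odd N) (hd : d ≤ N) (h : 2 ^ d - 1 ∣ 2 ^ N - 1) (h2 : N ≤ 2 * d) :
    d = N := by
  obtain ⟨e, rfl⟩ := Nat.exists_eq_add_of_le hd
  by_contra hne
  obtain ⟨k, hk⟩ := hN
  have h3 : 2 ^ e < 2 ^ d := Nat.pow_lt_pow_right (by norm_num) (by omega)
  have h4 : 1 < 2 ^ e := Nat.one_lt_two_pow (by omega)
  have h5 : 2 ^ (d + e) - 1 = (2 ^ d - 1) * 2 ^ e + (2 ^ e - 1) := by
    rw [pow_add, Nat.sub_mul]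
    have : 2 ^ e ≤ 2 ^ d * 2 ^ e := Nat.le_mul_of_pos_left _ (by positivity)
    omega
  rw [h5] at h
  have := Nat.le_of_dvd (by omega) ((Nat.dvd_add_right (dvd_mul_right _ _)).1 h)
  omega

/-- an involutory automorphism of a Frobenius-type configuration `2^N : (2^N - 1)`, `N` odd, is trivial -/
theorem fix_of_regular {G : Type*} [Group G] [Finite G] {Z H : Subgroup G} {N : ℕ} (β : G ≃* G)
    (hβ : ∀ x, β (β x) = x) (hZ : IsAb 2 Z) (cZ : Nat.card Z = 2 ^ N) (cH : Nat.card H = 2 ^ N - 1)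
    (hN : Odd N) (hβZ : ∀ z ∈ Z, β z ∈ Z) (hβH : ∀ h ∈ H, β h ∈ H) (hn : H ≤ 𝐍 Z)
    (htr : ∀ z ∈ Z, z ≠ 1 → ∀ z' ∈ Z, z' ≠ 1 → ∃ h ∈ H, h * z * h⁻¹ = z')
    (hreg : ∀ z ∈ Z, z ≠ 1 → ∀ h ∈ H, h * z * h⁻¹ = z → h = 1) :
    (∀ z ∈ Z, β z = z) ∧ ∀ h ∈ H, β h = h := by
  obtain ⟨X, hX⟩ : ∃ X : Subgroup G, ∀ x, x ∈ X ↔ β x = x :=
    ⟨β.toMonoidHom.eqLocus (MonoidHom.id G), fun _ => Iff.rfl⟩
  have hcm : ∀ a ∈ Z, ∀ b ∈ Z, a * b = b * a := fun a ha b hb => (hZ.le_centralizer hb a ha)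
  have hfix : ∀ z ∈ Z ⊓ X, z ≠ 1 → ∀ h ∈ H, h * z * h⁻¹ ∈ X → h ∈ X := fun z hz h1 h hh h2 => by
    rw [hX, map_mul, map_mul, map_inv, (hX z).1 hz.2] at h2
    have := hreg z hz.1 h1 (h⁻¹ * β h) (mul_mem (inv_mem hh) (hβH h hh))
      (by calc _ = h⁻¹ * (β h * z * (β h)⁻¹) * h := by group
        _ = z := by rw [h2]; group)
    rw [hX]; exact (inv_mul_eq_one.1 this).symm
  let f : Z →* G :=
    { toFun := fun z => z * β z
      map_one' := by simp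
      map_mul' := fun a b => by
        rw [coe_mul, map_mul, mul_assoc, mul_assoc, ← mul_assoc (b : G), hcm b b.2 _ (hβZ a a.2), mul_assoc] }
  have hker : f.ker = (Z ⊓ X).subgroupOf Z := by
    ext z
    rw [MonoidHom.mem_ker, mem_subgroupOf, mem_inf, hX]
    exact ⟨fun h => ⟨z.2, (mul_left_cancel ((IsAb.sq hZ z.2).trans h.symm)).symm⟩,
      fun h => by show (z : G) * β z = 1; rw [h.2, IsAb.sq hZ z.2]⟩
  have hran : f.range ≤ Z ⊓ X := by
    rintro _ ⟨z, rfl⟩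
    refine ⟨mul_mem z.2 (hβZ z z.2), (hX _).2 ?_⟩
    show β (z * β z) = z * β z
    rw [map_mul, hβ, hcm _ (hβZ z z.2) _ z.2]
  have h1 : Nat.card Z ≤ Nat.card ↥(Z ⊓ X) * Nat.card ↥(Z ⊓ X) := by
    rw [← f.ker.card_mul_index, index_ker, hker,
      Nat.card_congr (subgroupOfEquivOfLe (inf_le_left : Z ⊓ X ≤ Z)).toEquiv]
    exact Nat.mul_le_mul_left _ (card_le_of_le hran)
  obtain ⟨d, hd, hc⟩ := (Nat.dvd_prime_pow Nat.prime_two).1 (cZ ▸ card_dvd_of_le (inf_le_left : Z ⊓ X ≤ Z))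
  rw [cZ, hc, ← pow_add, Nat.pow_le_pow_iff_right (by norm_num)] at h1
  obtain ⟨z, hz, hz1⟩ : ∃ z ∈ Z ⊓ X, z ≠ 1 := by
    by_contra! h
    rw [(eq_bot_iff_forall _).2 h, card_bot, eq_comm, Nat.pow_eq_one] at hc
    obtain ⟨k, hk⟩ := hN
    omega
  have h2 : Nat.card ↥(H ⊓ X) = 2 ^ d - 1 := by
    have := PSL2Four.card_sdiff (bot_le : ⊥ ≤ Z ⊓ X)
    rw [hc, card_bot] at this
    rw [← this]
    refine Nat.card_eq_of_bijective (fun h => ⟨h * z * h⁻¹, ⟨conj_mem_of_mem_normalizer (hn h.2.1) hz.1,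
      X.mul_mem (X.mul_mem h.2.2 hz.2) (X.inv_mem h.2.2)⟩, fun e => TorusCount.conj_ne_one hz1 _ (mem_bot.1 e)⟩)
      ⟨fun a b e => Subtype.ext ?_, fun y => ?_⟩
    · have e1 : (a : G) * z * (a : G)⁻¹ = b * z * (b : G)⁻¹ := congrArg Subtype.val e
      have := hreg z hz.1 hz1 ((b : G)⁻¹ * a) (mul_mem (inv_mem b.2.1) a.2.1)
        (by calc _ = (b : G)⁻¹ * (a * z * (a : G)⁻¹) * b := by group
          _ = z := by rw [e1]; group)
      exact (inv_mul_eq_one.1 this).symm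
    · obtain ⟨h, hh, e⟩ := htr z hz.1 hz1 y y.2.1.1 fun e => y.2.2 (mem_bot.2 e)
      exact ⟨⟨h, hh, hfix z hz hz1 h hh (e ▸ y.2.1.2)⟩, Subtype.ext e⟩
  have h3 : d = N := two_pow_dvd hN hd (h2 ▸ cH ▸ card_dvd_of_le (inf_le_left : H ⊓ X ≤ H)) (by omega)
  have h4 : Z ≤ X := by
    rw [← inf_eq_left]; exact eq_of_le_of_card_ge inf_le_left (by rw [hc, cZ, h3])
  exact ⟨fun z hz => (hX z).1 (h4 hz), fun h hh =>
    (hX h).1 (hfix z hz hz1 h hh (h4 (conj_mem_of_mem_normalizer (hn hh) hz.1)))⟩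

section Sz

open CA.SzBasic CA.SzGroup CA.SzTori CA.SzSub CA.SzClass CA.TorusCount MulAction

variable {F : Type*} [Field F] [Fintype F] {m : ℕ} [hy : Hyp F m]
include hy

theorem sz_isAb_Z : IsAb 2 (Z F) := by
  refine ⟨⟨⟨fun ⟨a, ha⟩ ⟨b, hb⟩ => Subtype.ext ?_⟩⟩, fun a ha => ?_⟩
  · obtain ⟨x, rfl⟩ := mem_Z.1 ha
    obtain ⟨y, rfl⟩ := mem_Z.1 hb
    exact (T_comm 0 x 0 y).2 rfl
  · rw [pow_two]; exact (sq_eq_one_iff (Z_le_U ha)).2 ha

theorem sz_trans {z z' : G F} (hz : z ∈ Z F) (h1 : z ≠ 1) (hz' : z' ∈ Z F) (h1' : z' ≠ 1) :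
    ∃ h ∈ H F, h * z * h⁻¹ = z' := by
  obtain ⟨b, rfl⟩ := mem_Z.1 hz
  obtain ⟨c, rfl⟩ := mem_Z.1 hz'
  obtain ⟨μ, e⟩ := exists_scale (b := b) (c := c) (fun e => h1 (T_eq_one.2 ⟨rfl, e⟩))
    fun e => h1' (T_eq_one.2 ⟨rfl, e⟩)
  exact ⟨D μ, D_mem_H μ, by rw [D_conj_T, e, mul_zero]⟩

theorem sz_inv_conj {a b : G F} (ha1 : a ≠ 1) (ha : a * a = 1) (hb1 : b ≠ 1) (hb : b * b = 1) :
    ∃ g, g * a * g⁻¹ = b := by
  have key : ∀ a : G F, a ≠ 1 → a * a = 1 → ∃ g, g * a * g⁻¹ ∈ Z F := fun a h1 h2 => by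
    obtain ⟨-, g, hg⟩ := mem_cls_U h1 (n := 1) (by rw [pow_one, pow_two, h2])
    exact ⟨g, (sq_eq_one_iff hg).1 (by rw [conj_mul, h2]; group)⟩
  obtain ⟨g, hg⟩ := key a ha1 ha
  obtain ⟨k, hk⟩ := key b hb1 hb
  obtain ⟨h, -, e⟩ := sz_trans hg (conj_ne_one ha1 g) hk (conj_ne_one hb1 k)
  exact ⟨k⁻¹ * h * g, by calc _ = k⁻¹ * (h * (g * a * g⁻¹) * h⁻¹) * k := by group
    _ = b := by rw [e]; group⟩

theorem sz_fix (β : G F ≃* G F) (hβ : ∀ x, β (β x) = x) (hU : ∀ u ∈ U F, β u ∈ U F)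
    (hH : ∀ h ∈ H F, β h ∈ H F) (x : G F) : β x = x := by
  obtain ⟨h1, h2⟩ := fix_of_regular β hβ sz_isAb_Z card_Z card_H ⟨m, rfl⟩
    (fun z hz => (sq_eq_one_iff (hU z (Z_le_U hz))).1 (by rw [← map_mul, IsAb.sq sz_isAb_Z hz, map_one])) hH
    (fun h hh => SylIn.mem_normalizer_of_forall fun z hz => by
      obtain ⟨μ, rfl⟩ := mem_H.1 hh
      obtain ⟨b, rfl⟩ := mem_Z.1 hz
      rw [D_conj_T, mul_zero]; exact T_mem_Z _)
    (fun z hz h1 z' hz' h1' => sz_trans hz h1 hz' h1') fun z hz h1 h hh e =>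
      eq_one_of_mem_U_H (cent_le_U (Z_le_U hz) h1
        (mem_centralizer_singleton_iff.2 (mul_inv_eq_iff_eq_mul.1 e))) hh
  have h3 : ∀ a : F, ∃ b, β (T a 0) = T a b := fun a => by
    obtain ⟨c, b, e⟩ := mem_U.1 (hU _ (T_mem_U a 0))
    have := h1 _ (T_mem_Z (th F a * a))
    rw [← T_sq a 0, map_mul, e, T_sq, T_sq, T_inj] at this
    exact ⟨b, by rw [e, mul_th_inj this.2]⟩
  choose φ hφ using h3
  have hT : ∀ a b : F, β (T a b) = T a (φ a + b) := fun a b => by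
    have : T a b = T a 0 * T 0 b := by rw [T_mul]; simp
    rw [this, map_mul, hφ, h1 _ (T_mem_Z b), T_mul]; simp
  have h4 : ∀ a : F, φ a = a * th F a * φ 1 := fun a => by
    by_cases ha : a = 0
    · have := hT 0 0
      rw [h1 _ (T_mem_Z 0), T_inj] at this
      rw [ha, zero_mul, zero_mul]; simpa using this.2.symm
    obtain ⟨μ, e⟩ := exists_scale' (one_ne_zero (α := F)) ha
    have := congrArg β (D_conj_T μ 1 0)
    rw [map_mul, map_mul, map_inv, h2 _ (D_mem_H μ), hφ, D_conj_T, hT, T_inj, e] at this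
    rw [mul_one] at e
    rw [mul_zero, add_zero] at this
    rw [← this.2, ← e, th_th]
  have h5 : φ 1 = 0 := by
    obtain ⟨a, ha0, ha1⟩ := exists_ne_zero_one F
    have := congrArg β (T_mul a 0 1 0)
    rw [map_mul, hφ, hφ, hT, T_mul, T_inj, h4 a, h4 (a + 1), map_add, map_one] at this
    have e : (th F a - a) * φ 1 = 0 := by
      have h6 := add_self (a * φ 1)
      linear_combination -this.2 - h6
    exact (mul_eq_zero.1 e).resolve_left fun e =>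
      (eq_of_th_eq_self (sub_eq_zero.1 e)).elim ha0 ha1
  have hJ : β (J F) = J F := by
    obtain ⟨μ, hμ⟩ := exists_unit_ne_one (F := F)
    have e := congrArg β (J_conj_D μ)
    rw [map_mul, map_mul, map_inv, map_inv, h2 _ (D_mem_H μ), ← D_inv] at e
    rcases mem_H_or (inv_ne_one.2 hμ) e with h | ⟨κ, h⟩
    · exact absurd (hβ (J F) ▸ hH _ h) J_not_mem_H
    · have := hβ (J F)
      rw [h, map_mul, h2 _ (D_mem_H κ), h, ← mul_assoc, mul_eq_right, ← D_mul, D_eq_one] at this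
      have e1 : κ = 1 := Units.ext (sq_eq_one' (by rw [pow_two, ← Units.val_mul, this, Units.val_one]))
      rw [h, e1, D_one, one_mul]
  refine induction_on (P := fun x => β x = x) (fun g h e1 e2 => by rw [map_mul, e1, e2])
    (fun a b => by rw [hT, h4, h5, mul_zero, zero_add]) (fun μ => h2 _ (D_mem_H μ)) hJ x

theorem sz_inn (α : G F ≃* G F) (hα : ∀ x, α (α x) = x) (hU : ∀ u ∈ U F, α u ∈ U F) :
    ∃ t ∈ U F, ∀ x, α x = t * x * t⁻¹ := by
  obtain ⟨⟨h0, h0H⟩, hgen⟩ := (isCyclic_H (F := F)).exists_generator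
  have hB : ∀ g ∈ 𝐍 (U F), α g ∈ 𝐍 (U F) := fun g hg => SylIn.mem_normalizer_of_forall fun z hz => by
    have := hU _ (conj_mem_of_mem_normalizer hg (hU z hz))
    rwa [map_mul, map_mul, map_inv, hα] at this
  have hHB : H F ≤ 𝐍 (U F) := by rw [normalizer_U, ← stab_inf_zero]; exact inf_le_left
  have h01 : h0 ≠ 1 := by
    rintro rfl
    obtain ⟨μ, hμ⟩ := exists_unit_ne_one (F := F)
    obtain ⟨k, hk⟩ := hgen ⟨D μ, D_mem_H μ⟩
    exact hμ (D_eq_one.1 (by simpa using (congrArg Subtype.val hk).symm))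
  obtain ⟨u, hu, h1⟩ := exists_conj_H (g := α h0) (by simpa [normalizer_U] using hB _ (hHB h0H))
    fun h => h01 (eq_one_of_mem_U_H (hα h0 ▸ hU _ h) h0H)
  let β : G F ≃* G F := α.trans (MulAut.conj u)
  have hβ : ∀ x, β x = u * α x * u⁻¹ := fun _ => rfl
  have hH : ∀ h ∈ H F, β h ∈ H F := fun h hh => by
    obtain ⟨k, hk⟩ := hgen ⟨h, hh⟩
    have : h = h0 ^ k := by simpa using (congrArg Subtype.val hk).symm
    rw [this, map_zpow]; exact zpow_mem h1 k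
  have hββ : ∀ x, β (β x) = u * α u * x * (u * α u)⁻¹ := fun x => by
    rw [hβ, hβ, map_mul, map_mul, map_inv, hα]; group
  have hw : u * α u = 1 := by
    have hwU := mul_mem hu (hU u hu)
    obtain ⟨ν, hν⟩ := mem_H.1 h0H
    obtain ⟨μ, hμ⟩ := mem_H.1 (hH _ (hH _ h0H))
    rw [hββ, hν] at hμ
    rcases mem_H_or (fun e => conj_ne_one (hν ▸ h01) _ (by rw [hμ, e, D_one])) hμ with h | ⟨κ, h⟩
    · exact eq_one_of_mem_U_H hwU h
    · exfalso
      have h2 : J F ∈ 𝐍 (U F) := by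
        have := mul_mem (inv_mem (hHB (D_mem_H κ))) (le_normalizer hwU)
        rwa [h, inv_mul_cancel_left] at this
      rw [normalizer_U, mem_stabilizer_iff] at h2
      exact pt_ne_inf 0 0 (J_inf.symm.trans h2)
  refine ⟨u⁻¹, inv_mem hu, fun x => ?_⟩
  have := sz_fix β (fun x => by rw [hββ, hw]; group)
    (fun v hv => mul_mem (mul_mem hu (hU v hv)) (inv_mem hu)) hH x
  rw [hβ] at this
  calc α x = u⁻¹ * (u * α x * u⁻¹) * u⁻¹⁻¹ := by group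
    _ = _ := by rw [this]

theorem sz_gen {E Y : Subgroup (G F)} (hE : E ≤ U F) (hne : E ≠ ⊥) (hab : IsAb 2 E) (hY : U F ≤ Y)
    (h : ∀ x, St ⊥ E x → x ∈ Y) : Y = ⊤ := by
  obtain ⟨r, hr, hd, hz⟩ := Zsig.zsigmondy 2 (4 * (2 * m + 1)) (by norm_num) (by omega) (by omega) (by omega)
  haveI := Fact.mk hr
  have hr2 : r ≠ 2 := by
    rintro rfl
    have := (Nat.dvd_sub_iff_right (Nat.one_le_two_pow) (dvd_pow_self 2 (by omega))).1 hd
    omega
  have hb : Big r (2 * m + 1) := ⟨hr, hr2, by omega, fun d h0 h1 => by_contra fun h2 => hz d h0 (by omega) h1⟩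
  obtain ⟨q, hq⟩ : ∃ q, q = 2 ^ (2 * m + 1) := ⟨_, rfl⟩
  have hq1 : 1 ≤ q := hq ▸ Nat.one_le_two_pow
  have h1 : ¬ r ∣ q ^ 2 - 1 := by rw [hq, ← pow_mul]; exact hz _ (by omega) (by omega)
  have h2 : r ∣ q ^ 2 + 1 := by
    rw [mul_comm 4, pow_mul, ← hq, show q ^ 4 - 1 = (q ^ 2 + 1) * (q ^ 2 - 1) by
      rw [← Nat.sq_sub_sq, ← pow_mul]] at hd
    exact (hr.dvd_mul.1 hd).resolve_right h1
  obtain ⟨x0, hx0, h3, h4⟩ : ∃ x0 ∈ Der F, r ∣ Nat.card (centralizer {x0}) ∧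
      (centralizer {x0}).relIndex (𝐍 (centralizer {x0})) = 4 := by
    obtain ⟨x, hx, y, hy', c1, c2, c3, c4, -⟩ := exists_tori (F := F)
    rw [hq, ← mul_orders (F := F), ← c1, ← c2] at h2
    exact (hr.dvd_mul.1 h2).elim (fun e => ⟨x, hx, e, c3⟩) fun e => ⟨y, hy', e, c4⟩
  obtain ⟨K, hK⟩ : ∃ K, K = centralizer {x0} := ⟨_, rfl⟩
  have hcc : CC K := hK ▸ cc_cent hx0
  have hKo : ¬ 2 ∣ Nat.card K := fun e => by
    have := (Nat.dvd_add_right (dvd_pow (dvd_pow_self 2 (by omega)) two_ne_zero)).1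
      (e.trans (hK ▸ card_cent_dvd hx0))
    omega
  rw [← hK] at h3 h4
  obtain ⟨⟨i, hi⟩, hi2⟩ := exists_prime_orderOf_dvd_card' (G := 𝐍 K) 2
    ((show 2 ∣ 4 by norm_num).trans (h4.symm.dvd.trans (relIndex_dvd_card K (𝐍 K))))
  obtain ⟨⟨x, hx⟩, hxr⟩ := exists_prime_orderOf_dvd_card' (G := K) r h3
  rw [orderOf_mk] at hi2 hxr
  have hii : i * i = 1 := by rw [← pow_two, ← hi2, pow_orderOf_eq_one]
  have hinv : i * x * i⁻¹ = x⁻¹ := AmbFs.inverts_of_fpf hii hi (eq_bot_iff.2 fun y hy' => by_contra fun e => by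
    refine hKo (hi2 ▸ orderOf_dvd_natCard K ?_)
    rw [← hcc y hy'.1 e, mem_centralizer_singleton_iff]
    exact (mem_centralizer_singleton_iff.1 hy'.2).symm) hx
  obtain ⟨a, ha, ha1⟩ := (bot_or_exists_ne_one E).resolve_left hne
  obtain ⟨g, hg⟩ := sz_inv_conj (a := i) (fun e => by simp [e] at hi2) hii ha1 (IsAb.sq hab ha)
  have hxY : g * x * g⁻¹ ∈ Y := by
    refine h _ (stp_bot (R0 := ⊥) (k := 1) bot_le ha ?_ hb ?_ (conj_ne_one (fun e => ?_) g) ?_ ?_)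
    · rw [relIndex_bot_left, ← card_Z (F := F)]
      exact card_le_of_le fun e he => (sq_eq_one_iff (hE he)).1 (IsAb.sq hab he)
    · rw [pow_one, conj_pow, ← hxr, pow_orderOf_eq_one]; group
    · rw [e, orderOf_one] at hxr; exact hr.one_lt.ne hxr
    · intro y hy'; rw [mem_bot.1 hy', one_mul, mul_one]
    · rw [← hg]
      calc _ = g * (i * x * i⁻¹) * g⁻¹ := by group
        _ = _ := by rw [hinv]; group
  refine eq_top_of_le split U_ne_bot hY fun e => ?_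
  have h5 := orderOf_dvd_natCard _ (e hxY)
  rw [PSL2Struct.orderOf_conj, hxr, card_B, ← hq] at h5
  rcases hr.dvd_mul.1 h5 with h6 | h6
  · exact hr.one_lt.ne' (Nat.dvd_one.1 ((Nat.dvd_add_right h6).1 h2))
  · exact h1 (h6.trans (by simpa using Nat.sub_dvd_pow_sub_pow q 1 2))

theorem good_sz {X : Type u} [Group X] [Finite X] (e : G F ≃* X) : Good X :=
  good_of_goodAt (T := U F) (coe_sylU (F := F) ▸ sylIn_top sylU)
    ⟨U_ne_bot, fun α h1 h2 _ => sz_inn α h1 h2, fun _ _ => sz_gen⟩ e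

end Sz

section PSL

open CA.SL2Unip CA.SL2Torus CA.PSL2Struct CA.PSL2Four CA.PSL2Max CA.AutPSL
open scoped MatrixGroups

variable {F : Type*} [Field F] [Fintype F] {n : ℕ}

theorem psl_mod (hF : Fintype.card F = 3 ^ (2 * n + 1)) : Nat.card F % 8 = 3 := by
  rw [Nat.card_eq_fintype_card, hF, pow_succ, pow_mul, Nat.mul_mod, Nat.pow_mod]; norm_num

theorem psl_three (hF : Fintype.card F = 3 ^ (2 * n + 1)) : (3 : F) = 0 := by
  have := FiniteField.cast_card_eq_zero F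
  rw [hF, Nat.cast_pow] at this
  exact_mod_cast pow_eq_zero_iff (by omega) |>.1 this

theorem psl_inn (hF : Fintype.card F = 3 ^ (2 * n + 1)) (α : PSL(2, F) ≃* PSL(2, F)) (hα : ∀ x, α (α x) = x)
    (h3 : ∀ (g y : PSL(2, F)) (k : ℕ), y ^ 3 ^ k = 1 → g * α y * g⁻¹ = y⁻¹ → y = 1) :
    ∃ t, ∀ x, α x = t * x * t⁻¹ := by
  haveI : Fact (Nat.Prime 3) := ⟨by norm_num⟩
  obtain ⟨⟨g, σ, ε⟩, hx, h1⟩ := exists_Ph le_rfl α
  obtain rfl : ε = 1 := h1 rfl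
  obtain rfl : σ = 1 := by
    have h2 : (⟨g, σ, 1⟩ * ⟨g, σ, 1⟩ : GT 2 F) ∈ (Ph : GT 2 F →* _).ker := by
      rw [MonoidHom.mem_ker, map_mul, ← hx]; exact MulEquiv.ext hα
    have h4 : σ * σ = 1 := congrArg Prod.fst (AutGam.mem_ZG.1 ((mem_ker_iff le_rfl (.inl rfl)).1 h2)).1
    have h5 := orderOf_dvd_natCard σ
    rw [AutFld.card_ringAut hF] at h5
    have h6 := Nat.dvd_gcd h5 (orderOf_dvd_of_pow_eq_one ((pow_two σ).trans h4))
    rw [Nat.coprime_two_right.2 ⟨n, rfl⟩] at h6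
    exact orderOf_eq_one_iff.1 (Nat.dvd_one.1 h6)
  have h2 := (ind_iff' _ α).2 hx
  obtain ⟨A, hA⟩ : ∃ A, A = (g : Matrix (Fin 2) (Fin 2) F) := ⟨_, rfl⟩
  have hd : A.det ≠ 0 := hA ▸ g.det_ne_zero
  obtain ⟨c, e, he, hc⟩ : ∃ c e : F, (e = 1 ∨ e = -1) ∧ c * c = A.det * e := by
    obtain ⟨k, hk⟩ : ∃ k, Fintype.card F - 1 = (2 * k + 1) * 2 :=
      ⟨Fintype.card F / 4, by have := psl_mod hF; rw [Nat.card_eq_fintype_card] at this; omega⟩
    have := FiniteField.pow_card_sub_one_eq_one _ hd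
    rw [hk, pow_mul, pow_two, mul_self_eq_one_iff] at this
    exact ⟨A.det ^ (k + 1), _, this, by ring⟩
  have he2 : e * e = 1 := by rcases he with rfl | rfl <;> simp
  have hc0 : c ≠ 0 := fun h => by
    rw [h, mul_zero, eq_comm, mul_eq_zero] at hc
    exact hc.elim hd fun h => by simp [h] at he2
  obtain ⟨s0, hs0⟩ : ∃ s0 : SL(2, F), (s0 : Matrix (Fin 2) (Fin 2) F) = c⁻¹ • (A * !![1, 0; 0, e]) := ⟨⟨_, by
    rw [Matrix.det_smul, Matrix.det_mul, Matrix.det_fin_two_of, Fintype.card_fin, one_mul, mul_zero, sub_zero,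
      ← hc]
    field_simp⟩, rfl⟩
  have key : ∀ s s1 : SL(2, F), !![1, 0; 0, e] * s.1 = s1.1 * !![1, 0; 0, e] →
      α (pr F s) = pr F s0 * pr F s1 * (pr F s0)⁻¹ := fun s s1 h => by
    rw [← map_inv, ← map_mul, ← map_mul]
    refine h2 s _ ?_
    have e1 : A = c • (s0.1 * !![1, 0; 0, e]) := by
      rw [hs0, Matrix.smul_mul, smul_smul, mul_inv_cancel₀ hc0, one_smul, Matrix.mul_assoc, Matrix.mul_fin_two]
      simp [he2, ← Matrix.one_fin_two]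
    have e2 : ((s0 * s1 * s0⁻¹ : SL(2, F)) : Matrix (Fin 2) (Fin 2) F) * A = A * s.1 := by
      rw [e1, Matrix.mul_smul, Matrix.smul_mul, ← Matrix.mul_assoc, ← Matrix.SpecialLinearGroup.coe_mul,
        inv_mul_cancel_right, Matrix.mul_assoc, h, Matrix.SpecialLinearGroup.coe_mul, Matrix.mul_assoc]
    show _ = (g : Matrix (Fin 2) (Fin 2) F) * (AutGam.fgAct (Fin 2) F 1 _ : Matrix (Fin 2) (Fin 2) F) * _
    rw [map_one, ← hA]
    show _ = A * s.1 * _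
    rw [← e2, hA, Matrix.mul_assoc, ← Units.val_mul, mul_inv_cancel, Units.val_one, Matrix.mul_one]
  rcases he with rfl | rfl
  · refine ⟨pr F s0, fun x => ?_⟩
    obtain ⟨s, rfl⟩ := pr_surj x
    exact key s s (by rw [← Matrix.one_fin_two, Matrix.one_mul, Matrix.mul_one])
  · refine absurd (h3 (pr F s0)⁻¹ (pr F (u 1)) 1 ?_ ?_) (pr_u_ne_one one_ne_zero)
    · rw [pow_one, pr_u_pow, Nat.cast_ofNat, psl_three hF, zero_mul]; simp
    · rw [key (u 1) (u (-1)) (by simp [u, SL2Embed.mk2]), ← map_inv (pr F) (u 1), u_inv]; group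

theorem psl_gen (hF : Fintype.card F = 3 ^ (2 * n + 1)) (hn : 1 ≤ n) {T E Y : Subgroup PSL(2, F)}
    (hT : SylIn 2 T ⊤) (hE : E ≤ T) (hne : E ≠ ⊥) (hY : T ≤ Y) (h : ∀ x, St ⊥ E x → x ∈ Y) : Y = ⊤ := by
  have hq := psl_mod hF
  have h27 : 27 ≤ Nat.card F := by
    rw [Nat.card_eq_fintype_card, hF]; exact Nat.pow_le_pow_right (n := 3) (by norm_num) (show 3 ≤ 2 * n + 1 by omega)
  have h2 : (2 : F) ≠ 0 := SL2Basic.two_ne_zero_of_odd (Nat.odd_iff.2 (by omega))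
  obtain ⟨P, rfl⟩ := sylIn_top_iff.1 hT
  haveI := isKleinFour_sylow (.inl hq) P
  obtain ⟨t, ht, ht1⟩ := (bot_or_exists_ne_one E).resolve_left hne
  by_contra hY'
  have key : ∀ s ∈ (P : Subgroup PSL(2, F)), s ≠ 1 → s ≠ t → ∃ g : SL(2, F), g.1.trace = 0 ∧ SS g ∧ pr F g = s ∧
      Y = C s ∧ Y = Db g ∧ 2 * Nat.card (Tb g) = Nat.card F + 1 := fun s hs hs1 hst => by
    have hp := isPair_of_mem hs (hE ht) hs1 ht1 hst
    obtain ⟨g, h0, hg, rfl, hC⟩ := exists_of_involution h2 hs1 hp.aa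
    obtain ⟨htD, htT⟩ := (isPair_iff hg h0).1 hp
    have hc : 2 * Nat.card (Tb g) = Nat.card F + 1 := by
      rw [card_Tb_trace_zero h2 h0]; exact card_Tb_w0.2 (by omega)
    have h4 : Tb g ≤ Y := fun x hx => by_contra fun hxY => by
      obtain ⟨r, hr, hd, y, hy, hyY, k, hk⟩ := Fus3.exists_prime_pow_not_mem hxY
      have hy1 : y ≠ 1 := fun e => hyY (e ▸ one_mem _)
      have hyT := zpowers_le.2 hx hy
      have hr2 : r ≠ 2 := by
        rintro rfl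
        obtain ⟨Q, hQ⟩ := (isPGroup_zpowers hk).exists_le_sylow
        haveI := isKleinFour_sylow (.inl hq) Q
        have : y * y = 1 := congrArg Subtype.val
          (IsKleinFour.mul_self (⟨y, hQ (mem_zpowers y)⟩ : (Q : Subgroup PSL(2, F))))
        exact hyY (eq_of_sq_eq_one (isCyclic_Tb hg) hyT (self_mem_Tb g) hy1 hs1 this hp.aa ▸ hY hs)
      have hr3 : r ≠ 3 := by
        rintro rfl
        obtain ⟨l, hl⟩ := hd.trans (orderOf_dvd_natCard _ hx)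
        exact cast_card_Tb_ne hg (by rw [hl, Nat.cast_mul, Nat.cast_ofNat, psl_three hF, zero_mul])
      refine hyY (h y (stp_bot (R0 := E ⊓ zpowers (pr F g)) inf_le_left ht ?_ (big_one hr hr2 hr3) hk hy1
        (fun z hz => Tb_comm hg.ns (zpowers_le.2 (self_mem_Tb g) hz.2) hyT)
        (conj_of_mem_Db hg.ns htD htT hyT)))
      have h5 := card_mul_relIndex (zpowers_le.2 hs)
      rw [Nat.card_zpowers, IsKleinFour.card_four, orderOf_eq_prime (p := 2) ((pow_two _).trans hp.aa) hs1] at h5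
      rw [inf_relIndex_left]
      exact (relIndex_le_of_le_right hE (by omega)).trans (by omega)
    have h5 : Db g ≤ Y := fun w hw => by
      by_cases hwT : w ∈ Tb g
      · exact h4 hwT
      · exact (mul_mem_cancel_right (hY (hE ht))).1 (h4 (mul_mem_Tb hg hw hwT htD htT))
    have h6 := isCoatom_Db hg (by omega) (by omega) (fun _ => by omega) fun r m h7 h8 h9 => by
      have := Nat.pow_le_pow_right (show 0 < r by omega) h8
      nlinarith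
    have h7 : Y = Db g := (h6.le_iff.1 h5).resolve_left hY'
    exact ⟨g, h0, hg, rfl, h7.trans hC.symm, h7, hc⟩
  obtain ⟨s, hs, hs1, hst⟩ : ∃ s ∈ (P : Subgroup PSL(2, F)), s ≠ 1 ∧ s ≠ t := by
    obtain ⟨a, ha, b, hb, hp⟩ := exists_pair (P : Subgroup PSL(2, F))
    by_cases e : a = t
    · exact ⟨b, hb, hp.b1, e ▸ hp.ab.symm⟩
    · exact ⟨a, ha, hp.a1, e⟩
  have hp := isPair_of_mem hs (hE ht) hs1 ht1 hst
  have hst1 : s * t ≠ 1 := fun e => hst (mul_left_cancel (hp.aa.trans e.symm))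
  obtain ⟨g, h0, hg, rfl, -, e1, hc⟩ := key s hs hs1 hst
  obtain ⟨-, -, -, -, e2, -⟩ := key _ (mul_mem hs (hE ht)) hst1 fun e => hs1 (mul_eq_right.1 e)
  obtain ⟨h4, h5⟩ := (isPair_iff hg h0).1
    (isPair_of_mem hs (mul_mem hs (hE ht)) hs1 hst1 fun e => ht1 (left_eq_mul.1 e))
  obtain ⟨x, hx⟩ := exists_gen_Tb hg
  have hxT : x ∈ Tb g := hx ▸ mem_zpowers x
  have h6 := conj_of_mem_Db hg.ns h4 h5 hxT
  rw [← mem_C_iff.1 (show x ∈ C (pr F g * t) from e2 ▸ e1 ▸ Tb_le_Db g hxT), mul_inv_cancel_right] at h6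
  have h7 := Nat.le_of_dvd two_pos (orderOf_dvd_of_pow_eq_one (x := x) (n := 2)
    (by rw [pow_two]; exact mul_eq_one_iff_eq_inv.2 h6))
  rw [← Nat.card_zpowers, hx] at h7
  omega

theorem good_psl (hF : Fintype.card F = 3 ^ (2 * n + 1)) (hs : IsSimpleGroup PSL(2, F))
    (hna : ¬ IsMulCommutative PSL(2, F)) : Good PSL(2, F) := fun T hT => by
  obtain ⟨P, rfl⟩ := sylIn_top_iff.1 hT
  have hq := psl_mod hF
  haveI hP := isKleinFour_sylow (.inl hq) P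
  have h2 : (2 : F) ≠ 0 := SL2Basic.two_ne_zero_of_odd (Nat.odd_iff.2 (by omega))
  have hne : (P : Subgroup PSL(2, F)) ≠ ⊥ := fun e => by
    have := hP.card_four
    rw [e, card_bot] at this; omega
  have hn : 1 ≤ n := Nat.pos_of_ne_zero fun e => by
    have h1 := card_normalizer_of_conj h2 (P : Subgroup PSL(2, F)) fun W _ => conj_four (.inl hq) _ W
    have h3 := card_PSL (F := F)
    rw [dd_odd h2, Nat.card_eq_fintype_card (α := F), hF, e] at h3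
    have h4 := normalizer_eq_top_iff.1 (eq_top_of_card_eq _ (h1.trans (by omega)))
    have h5 := hP.card_four
    rw [(h4.eq_bot_or_eq_top).resolve_left hne, card_top] at h5
    omega
  refine ⟨hne, fun α h1 h2 h3 => ?_, fun E Y h1 h2 _ h4 h5 => psl_gen hF hn hT h1 h2 h4 h5⟩
  obtain ⟨t, ht⟩ := psl_inn hF α h1 h3
  have h4 : t * t ∈ center PSL(2, F) := mem_center_iff.2 fun x => by
    have := h1 x
    rw [ht, ht] at this
    calc x * (t * t) = t * (t * x * t⁻¹) * t⁻¹ * (t * t) := by rw [this]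
      _ = _ := by group
  rw [((inferInstance : (center PSL(2, F)).Normal).eq_bot_or_eq_top).resolve_right fun e =>
    hna ⟨⟨fun a b => mem_center_iff.1 (e ▸ mem_top b) a⟩⟩, mem_bot] at h4
  exact ⟨t, hT.le_of_norm' (isPGroup_zpowers (k := 1) ((pow_two t).trans h4)) le_top
    (zpowers_le.2 (SylIn.mem_normalizer_of_forall fun x hx => ht x ▸ h2 x hx)) (mem_zpowers t), ht⟩

end PSL

theorem spt_iso (X Y : Type u) [Group X] [Group Y] (e : X ≃* Y) (h : IsSuzukiOrPSL2OddPowerThree X) :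
    IsSuzukiOrPSL2OddPowerThree Y :=
  h.imp (fun ⟨F, a, b, m, h1, h2, ⟨f⟩⟩ => ⟨F, a, b, m, h1, h2, ⟨e.symm.trans f⟩⟩)
    fun ⟨F, a, b, m, h1, ⟨f⟩⟩ => ⟨F, a, b, m, h1, ⟨e.symm.trans f⟩⟩

theorem good_of_spt (X : Type u) [Group X] [Finite X] (h1 : IsSimpleGroup X) (h2 : ¬ IsMulCommutative X)
    (h : IsSuzukiOrPSL2OddPowerThree X) : Good X := by
  rcases h with ⟨F, _, _, m, hm, hF, ⟨e⟩⟩ | ⟨F, _, _, n, hF, ⟨e⟩⟩
  · haveI : SzBasic.Hyp F m := ⟨hm, hF⟩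
    exact good_sz ((SzModel.szEquiv F).trans e.symm)
  · obtain ⟨T, hT⟩ := exists_sylIn 2 (⊤ : Subgroup (Matrix.ProjectiveSpecialLinearGroup (Fin 2) F))
    exact good_of_goodAt hT (good_psl hF e.symm.isSimpleGroup
      (fun hc => h2 ⟨⟨fun a b => e.injective (by rw [map_mul, map_mul, hc.1.1])⟩⟩) T hT) e.symm

theorem ckw_good {G : Type u} [Group G] [Finite G] (h : IsCompositionKGroupWith IsSuzukiOrPSL2OddPowerThree G) :
    CKW Good G := (ckw_of_comp spt_iso h).mono good_of_spt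

end CA.S4F
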