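import Cfsg.Agent.Lib.Grp.S4F4

/-!
`S₃`-free groups acting on elementary abelian `2`-groups: the lower bounds for `|V : C_V(R)|` and `|[V, R]|`.
-/

set_option autoImplicit false

namespace CA.S4F

open Subgroup Cfsg CA.Amb CA.AmbSyl CA.AmbCore CA.AmbRes CA.AmbChar
open CA.H6J hiding Z
open CA.H6Basic (commInto mem_commInto le_commInto_iff)
open scoped commutatorElement

universe u

variable {G : Type u} [Group G] [Finite G]

theorem relIndex_le_of_fun {V D W Y : Subgroup G} (φ : G → G) (h1 : ∀ v ∈ V, φ v ∈ W)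
    (h2 : ∀ v ∈ V, ∀ w ∈ V, (φ v)⁻¹ * φ w ∈ Y → v⁻¹ * w ∈ D) : D.relIndex V ≤ Y.relIndex W := by
  refine Nat.card_le_card_of_injective (fun q : V ⧸ D.subgroupOf V =>
    ((⟨φ q.out, h1 _ q.out.2⟩ : W) : W ⧸ Y.subgroupOf W)) fun p q h => ?_
  rw [← p.out_eq, ← q.out_eq]
  have h3 := QuotientGroup.eq.1 h
  exact QuotientGroup.eq.2 (h2 _ p.out.2 _ q.out.2 h3)

omit [Finite G] in
theorem le_commInto_symm {A B Y : Subgroup G} (hA : A ≤ 𝐍 Y) (h : B ≤ commInto A Y) : A ≤ commInto B Y :=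
  le_commInto_iff.2 ⟨hA, commutator_comm A B ▸ (le_commInto_iff.1 h).2⟩

theorem mem_commInto_zpowers {Y : Subgroup G} {u a : G} (hu : u ∈ 𝐍 Y) (ha : a ∈ 𝐍 Y) (h : ⁅u, a⁆ ∈ Y) :
    u ∈ commInto (zpowers a) Y := mem_commInto.2 ⟨hu, fun y hy => by
  obtain ⟨m, rfl⟩ := mem_powers_iff_mem_zpowers.2 hy
  have := mul_pow_mem h ha m
  rwa [commutatorElement_def, inv_mul_cancel_right, conj_pow] at this⟩

omit [Finite G] in
theorem commInto_anti {A B Y : Subgroup G} (h : A ≤ B) : commInto B Y ≤ commInto A Y :=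
  fun _ hx => mem_commInto.2 ⟨(mem_commInto.1 hx).1, fun y hy => (mem_commInto.1 hx).2 y (h hy)⟩

/-- a dihedral group acting on a section `X / Y` -/
theorem dih_rel {X Y : Subgroup G} {x a : G} {r j k : ℕ} (hb : Big r j) (hX : IsPGroup 2 X)
    (hx : x ^ r ^ k = 1) (hn : x ∈ 𝐍 X) (hXY : X ≤ 𝐍 Y) (hxY : x ∈ 𝐍 Y) (haY : a ∈ 𝐍 Y)
    (hi : a * x * a⁻¹ * x ∈ commInto X Y) (hne : ¬ ⁅X, zpowers x⁆ ≤ Y) :
    4 ^ j ≤ (commInto (zpowers a) Y).relIndex X := by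
  refine dih_abs (E := X ⊓ commInto (zpowers x) Y) hb hX hx hn inf_le_left
    (fun h => hne (le_commInto_iff.1 (h.trans inf_le_right)).2)
    (zpowers_le.1 (norm_inf (zpowers_le.2 hn) (H6Off.norm_commInto le_normalizer (zpowers_le.2 hxY))))
    (le_inf inf_le_left (le_commInto_iff.2 ⟨inf_le_left.trans hXY,
      (comm_eq_bot_of_le inf_le_right).trans_le bot_le⟩)) fun v hv => ⟨hv.1.1, ?_⟩
  have h1 : a ∈ commInto (zpowers v) Y :=
    zpowers_le.1 (le_commInto_symm (zpowers_le.2 haY) (zpowers_le.2 hv.1.2))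
  have h2 : x * a * x⁻¹ ∈ commInto (zpowers v) Y := by
    have := zpowers_le.1 (le_commInto_symm (zpowers_le.2 haY) (zpowers_le.2 (mem_cj.1 hv.2)))
    refine mem_commInto_zpowers (mul_mem (mul_mem hxY haY) (inv_mem hxY)) (hXY hv.1.1) ?_
    have := conj_mem_of_mem_normalizer hxY ((mem_commInto.1 this).2 _ (mem_zpowers _))
    rwa [show x * ⁅a, x⁻¹ * v * x⁆ * x⁻¹ = ⁅x * a * x⁻¹, v⁆ by simp only [commutatorElement_def]; group] at this
  have h3 := mul_mem h2 (mul_mem (inv_mem h1) (commInto_anti (zpowers_le.2 hv.1.1) hi))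
  rw [show x * a * x⁻¹ * (a⁻¹ * (a * x * a⁻¹ * x)) = x ^ 2 by rw [pow_two]; group] at h3
  exact zpowers_le.1 (le_commInto_symm (zpowers_le.2 (hXY hv.1.1))
    (zpowers_le.2 (mem_of_pow_mem_of_coprime (cop_of_pow hx hb.cop) h3)))

theorem dih_cent {X : Subgroup G} {x a : G} {r j k : ℕ} (hb : Big r j) (hX : IsPGroup 2 X)
    (hx : x ^ r ^ k = 1) (hn : x ∈ 𝐍 X) (hi : a * x * a⁻¹ * x ∈ 𝐂 X) (hne : x ∉ 𝐂 X) :
    4 ^ j ≤ (𝐂 (zpowers a)).relIndex X := by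
  have := dih_rel (Y := ⊥) (a := a) hb hX hx hn norm_of_normal (norm_of_normal (mem_top _))
    (norm_of_normal (mem_top _)) (mem_commInto_bot.2 hi)
    fun h => hne (zpowers_le.1 (commutator_eq_bot_iff'.1 (le_bot_iff.1 h)))
  rwa [H6Stab.commInto_bot] at this

omit [Finite G] in
theorem norm_sup_of_comm {A B N : Subgroup G} (hA : A ≤ 𝐍 N) (hB : B ≤ 𝐍 N) (h : ⁅A, B⁆ ≤ N) :
    B ≤ 𝐍 (A ⊔ N) := norm_of_commutator_le
  ((comm_sup_le hA le_normalizer h (commutator_le_left_of_norm hB)).trans le_sup_right)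

omit [Finite G] in
theorem norm_of_norm_sup {V A B : Subgroup G} (hA : A ≤ 𝐍 V) (hB : B ≤ 𝐍 V) (h : ⁅A, B⁆ ≤ 𝐂 V) :
    B ≤ 𝐍 (V ⊓ 𝐂 A) ∧ B ≤ 𝐍 ⁅V, A⁆ := by
  have h1 := norm_sup_of_comm (norm_centralizer hA) (norm_centralizer hB) h
  refine ⟨?_, comm_sup_cent hA (le_refl (𝐂 V)) ▸ norm_commutator hB h1⟩
  have := norm_inf hB (norm_centralizer h1)
  rwa [centralizer_sup, ← inf_assoc, inf_eq_left.2 (inf_le_left.trans (cent_symm le_rfl))] at this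

/-- the `A × B`-lemma and its dual -/
theorem axb {V R : Subgroup G} {x : G} (hV : IsAb 2 V) (hR : IsPGroup 2 R) (hRV : R ≤ 𝐍 V) (hn : x ∈ 𝐍 V)
    (ho : (orderOf x).Coprime 2) (hc : ⁅zpowers x, R⁆ ≤ 𝐂 V) (hne : x ∉ 𝐂 V) :
    x ∉ 𝐂 (V ⊓ 𝐂 R) ∧ ¬ ⁅V, zpowers x⁆ ≤ ⁅V, R⁆ := by
  haveI := hV.1
  have hn' := zpowers_le.2 hn
  have hcop : (Nat.card (zpowers x)).Coprime (Nat.card V) :=
    coprime_card_of_isPGroup hV.isPGroup (Nat.card_zpowers x ▸ ho)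
  have h1 := Coprime2.centralizer_inf_commutator hn' hcop
  have h2 := Coprime2.centralizer_sup_commutator hn' hcop
  obtain ⟨h3, h4⟩ := norm_of_norm_sup hn' hRV hc
  obtain ⟨U, hU⟩ : ∃ U, U = ⁅V, zpowers x⁆ := ⟨_, rfl⟩
  have hUV : U ≤ V := hU ▸ commutator_le_left_of_norm hn'
  have hU1 : U ≠ ⊥ := fun e => hne (zpowers_le.1 (commutator_eq_bot_iff'.1 (hU ▸ e)))
  rw [← hU] at h1 h2 h4 ⊢
  have hUp := hV.isPGroup.to_le hUV
  refine ⟨fun h => inf_centralizer_ne_bot hR hUp h4 hU1 (eq_bot_iff.2 (h1 ▸ le_inf (le_inf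
    (inf_le_left.trans hUV) ((inf_le_inf_right _ hUV).trans (cent_symm (zpowers_le.2 h)))) inf_le_left)),
    fun h => hU1 (eq_bot_of_le_commutator hR hUp h4 ?_)⟩
  have h5 : ⁅U, R⁆ ≤ U := commutator_le_left_of_norm h4
  have h6 : ⁅U, R⁆ ⊔ V ⊓ 𝐂 (zpowers x) ≤ V := sup_le (h5.trans hUV) inf_le_left
  have h7 : ⁅V, R⁆ ≤ ⁅U, R⁆ ⊔ V ⊓ 𝐂 (zpowers x) := by
    have := comm_sup_le (IsAb.norm hV inf_le_left h6) (IsAb.norm hV hUV h6)
      ((commutator_le_left_of_norm h3).trans le_sup_right) le_sup_left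
    rwa [h2] at this
  have := le_inf (h.trans h7) le_rfl
  rwa [sup_inf_of_norm (IsAb.norm hV (h5.trans hUV) inf_le_left) h5, h1, sup_bot_eq] at this

omit [Finite G] in
theorem comm_inv_mul {V : Subgroup G} (hV : IsAb 2 V) {a v w : G} (ha : a ∈ 𝐍 V) (hv : v ∈ V) (hw : w ∈ V) :
    ⁅v, a⁆⁻¹ * ⁅w, a⁆ = ⁅v⁻¹ * w, a⁆ := by
  have h1 := hV.comm (conj_mem_of_mem_normalizer ha hv) (mul_mem (mul_mem (inv_mem hv) hw)
    (conj_mem_of_mem_normalizer ha (inv_mem hw)))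
  calc _ = a * v * a⁻¹ * (v⁻¹ * w * (a * w⁻¹ * a⁻¹)) := by simp only [commutatorElement_def]; group
    _ = _ := by rw [h1]; simp only [commutatorElement_def]; group

theorem relIndex_le_mul (A B C : Subgroup G) : A.relIndex C ≤ A.relIndex (B ⊓ C) * B.relIndex C := by
  rw [relIndex_inf_mul_relIndex]
  exact relIndex_le_of_le_left inf_le_left (relIndex_ne_zero _ _)

omit [Finite G] in
theorem relIndex_tower {A B : Subgroup G} (h : A ≤ B) (C : Subgroup G) :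
    A.relIndex (C ⊓ B) * B.relIndex C = A.relIndex C := by
  rw [inf_comm, relIndex_inf_mul_relIndex, inf_eq_left.2 h]

theorem Stp.not_mem {N R R0 : Subgroup G} {x a : G} {r j : ℕ} (h : Stp N R x R0 a r j) : a ∉ R0 := fun ha => by
  obtain ⟨k, hk⟩ := h.pw
  have h1 := mul_mem ((mem_commInto.1 h.ci).2 a ha) h.inv
  rw [show ⁅x, a⁆ * (a * x * a⁻¹ * x) = x * (a * a⁻¹) * x by simp only [commutatorElement_def]; group,
    mul_inv_cancel, mul_one, ← pow_two] at h1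
  exact h.nm (mem_of_pow_mem_of_coprime (cop_of_pow hk h.big.cop) h1)

theorem ebound {V : Subgroup G} (hV : IsAb 2 V) (R : Subgroup G) : IsPGroup 2 R → R ≤ 𝐍 V → ⁅R, R⁆ ≤ 𝐂 V →
    (∀ R' ≤ R, ¬ R' ≤ 𝐂 V → ∃ x ∈ 𝐍 V, St (𝐂 V) R' x) →
    (𝐂 V).relIndex R ^ 2 ≤ (𝐂 R).relIndex V ∧ (𝐂 V).relIndex R ^ 2 ≤ Nat.card ↥⁅V, R⁆ := by
  induction R using WellFoundedLT.induction with
  | ind R ih =>
  intro hR hRV hRR hst
  by_cases hc : R ≤ 𝐂 V
  · rw [relIndex_eq_one.2 hc]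
    exact ⟨Nat.pos_of_ne_zero (relIndex_ne_zero _ _), Nat.card_pos⟩
  obtain ⟨x, hx, R0, a, r, j, h⟩ := hst R le_rfl hc
  obtain ⟨k, hk⟩ := h.pw
  obtain ⟨i1, i2⟩ := ih R0 (lt_of_le_of_ne h.le fun e => h.not_mem (e ▸ h.mem)) (hR.to_le h.le) (h.le.trans hRV)
    ((commutator_mono h.le h.le).trans hRR) fun R' h' => hst R' (h'.trans h.le)
  have hci := (le_commInto_iff.1 (zpowers_le.2 h.ci)).2
  obtain ⟨h1, h2⟩ := axb hV (hR.to_le h.le) (h.le.trans hRV) hx (cop_of_pow hk h.big.cop) hci h.nm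
  obtain ⟨h3, h4⟩ := norm_of_norm_sup (h.le.trans hRV) (zpowers_le.2 hx) ((commutator_comm _ _).trans_le hci)
  have h5 : (𝐂 V).relIndex R ^ 2 ≤ (𝐂 V).relIndex R0 ^ 2 * 4 ^ j := by
    have := relIndex_le_mul (𝐂 V) R0 R
    rw [inf_eq_left.2 h.le] at this
    calc _ ≤ ((𝐂 V).relIndex R0 * 2 ^ j) ^ 2 :=
          Nat.pow_le_pow_left (this.trans (Nat.mul_le_mul_left _ h.idx)) 2
      _ = _ := by rw [mul_pow, ← pow_mul, mul_comm j, pow_mul]; rfl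
  have hY : ⁅V, R0⁆ ≤ V := commutator_le_left_of_norm (h.le.trans hRV)
  have haY : a ∈ 𝐍 ⁅V, R0⁆ := (norm_of_norm_sup (h.le.trans hRV) hRV
    ((commutator_mono h.le le_rfl).trans hRR)).2 h.mem
  refine ⟨h5.trans ?_, h5.trans ?_⟩
  · rw [← relIndex_tower (centralizer_anti h.le) V, mul_comm]
    exact Nat.mul_le_mul ((dih_cent h.big (hV.isPGroup.to_le inf_le_left) hk (zpowers_le.1 h3)
      (centralizer_anti inf_le_left h.inv) h1).trans
      (relIndex_le_of_le_left (centralizer_anti (zpowers_le.2 h.mem)) (relIndex_ne_zero _ _))) i1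
  · rw [← card_mul_relIndex (commutator_mono (le_refl V) h.le)]
    refine Nat.mul_le_mul i2 ((dih_rel h.big hV.isPGroup hk hx (IsAb.norm hV le_rfl hY) (zpowers_le.1 h4) haY
      (H6Stab.cent_le_commInto hY h.inv) h2).trans (relIndex_le_of_fun (fun v => ⁅v, a⁆)
      (fun v hv => commutator_mem_commutator hv h.mem) fun v hv w hw e => ?_))
    rw [comm_inv_mul hV (hRV h.mem) hv hw] at e
    exact mem_commInto_zpowers (IsAb.norm hV le_rfl hY (mul_mem (inv_mem hv) hw)) haY e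

theorem ebound_faithful {M H A : Subgroup G} (hM : IsAb 2 M) (hH : H ≤ 𝐍 M) (hf : H ⊓ 𝐂 M = ⊥)
    (hO : pCore 2 H = ⊥) (h3 : ¬ Involves S3 H) (hK : CKW Good H) (hA : A ≤ H) (hAe : IsAb 2 A) :
    Nat.card A ^ 2 * Nat.card ↥(M ⊓ 𝐂 A) ≤ Nat.card M ∧ Nat.card A ^ 2 ≤ Nat.card ↥⁅M, A⁆ := by
  obtain ⟨h1, h2⟩ := ebound hM A hAe.isPGroup (hA.trans hH)
    ((comm_eq_bot_of_le hAe.le_centralizer).trans_le bot_le) fun R hR hn => by
      obtain ⟨x, R0, a, r, j, h⟩ := exists_st h3 hK hO (R := R.subgroupOf H)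
        ((hAe.of_le hR).comap H.subtype_injective)
        fun e => hn ((le_inf le_rfl (hR.trans hA)).trans ((subgroupOf_eq_bot.1 e).le_bot.trans bot_le))
      have h' := h.map_inj H.subtype_injective
      rw [Subgroup.map_bot, map_subgroupOf_eq_of_le (hR.trans hA)] at h'
      exact ⟨x, hH x.2, _, _, r, j, h'.le, h'.mem, h'.idx, h'.big, h'.pw,
        fun e => h'.nm (hf.le ⟨x.2, e⟩), mem_commInto.2 ⟨norm_centralizer hH x.2, fun y hy =>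
          mem_bot.1 ((mem_commInto.1 h'.ci).2 y hy) ▸ one_mem _⟩, mem_bot.1 h'.inv ▸ one_mem _⟩
  have h4 : (𝐂 M).relIndex A = Nat.card A := by
    rw [← inf_relIndex_left, eq_bot_iff.2 ((inf_le_inf_right _ hA).trans hf.le), relIndex_bot_left]
  rw [h4] at h1 h2
  refine ⟨?_, h2⟩
  rw [← card_inf_mul_relIndex (𝐂 A) M, inf_comm, mul_comm]
  exact Nat.mul_le_mul_left _ h1

omit [Finite G] in
theorem isAb_map_of {G' : Type*} [Group G'] (f : G →* G') {R : Subgroup G} (h1 : ⁅R, R⁆ ≤ f.ker)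
    (h2 : ∀ r ∈ R, r ^ 2 ∈ f.ker) : IsAb 2 (R.map f) := by
  refine ⟨H6NPC.isMulCommutative_of_le_cent (commutator_eq_bot_iff'.1 ?_), ?_⟩
  · rw [← map_commutator, Subgroup.map_eq_bot_iff]; exact h1
  · rintro _ ⟨r, hr, rfl⟩
    rw [← map_pow]; exact h2 r hr

theorem exists_st_mod (h3 : ¬ Involves S3 G) (hK : CKW Good G) {N R : Subgroup G} [N.Normal]
    (hO : pCore 2 (G ⧸ N) = ⊥) (h1 : ⁅R, R⁆ ≤ N) (h2 : ∀ r ∈ R, r ^ 2 ∈ N) (hne : ¬ R ≤ N) :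
    ∃ x, St N R x := by
  have hs := QuotientGroup.mk'_surjective N
  have hk := QuotientGroup.ker_mk' N
  obtain ⟨x, hx⟩ := exists_st (fun b => h3 (Fus.involves_of_surj _ hs b)) (hK.of_surj _ hs) hO
    (isAb_map_of (QuotientGroup.mk' N) (hk.symm ▸ h1) (hk.symm ▸ h2))
    fun e => hne (hk ▸ (Subgroup.map_eq_bot_iff _).1 e)
  obtain ⟨x, rfl⟩ := hs x
  obtain ⟨y, -, hy⟩ := hx.lift
  exact ⟨y, hk ▸ hy⟩

/-- `W` is restricted in `S` -/
def Rst (W S : Subgroup G) : Prop := ∀ R ≤ S, ⁅R, R⁆ ≤ 𝐂 W → (∀ r ∈ R, r ^ 2 ∈ 𝐂 W) → ¬ R ≤ 𝐂 W →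
  (𝐂 W).relIndex R ^ 3 < (𝐂 R).relIndex W ^ 2 ∧ (𝐂 W).relIndex R < Nat.card ↥⁅W, R⁆

theorem rst_of_normal (h3 : ¬ Involves S3 G) (hK : CKW Good G) {V S : Subgroup G} [V.Normal] (hV : IsAb 2 V)
    (hO : pCore 2 (G ⧸ 𝐂 V) = ⊥) (hS : IsPGroup 2 S) : Rst V S := fun R hR h1 h2 hne => by
  obtain ⟨h4, h5⟩ := ebound hV R (hS.to_le hR) norm_of_normal h1 fun R' hR' hn =>
    (exists_st_mod h3 hK hO ((commutator_mono hR' hR').trans h1) (fun r hr => h2 r (hR' hr)) hn).imp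
      fun x hx => ⟨norm_of_normal (mem_top x), hx⟩
  have h6 : 2 ≤ (𝐂 V).relIndex R := by
    have := relIndex_ne_zero (𝐂 V) R
    have := mt relIndex_eq_one.1 hne
    omega
  exact ⟨(Nat.pow_lt_pow_right h6 (by norm_num : 3 < 2 * 2)).trans_le
    ((pow_mul _ 2 2).trans_le (Nat.pow_le_pow_left h4 2)), lt_of_lt_of_le (by nlinarith) h5⟩

omit [Finite G] in
theorem Rst.mono {W S S' : Subgroup G} (h : Rst W S) (hS : S' ≤ S) : Rst W S' :=
  fun R hR => h R (hR.trans hS)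

omit [Finite G] in
theorem Rst.conj {W S : Subgroup G} (h : Rst W S) (g : G) : Rst (cj g W) (cj g S) := fun R hR h1 h2 hne => by
  obtain ⟨R, rfl⟩ : ∃ R', R = cj g R' := ⟨cj g⁻¹ R, by rw [cj_cj, mul_inv_cancel, cj_one]⟩
  rw [← cj_centralizer] at h1 h2 hne ⊢
  rw [← cj_commutator, cj_le_cj] at h1
  rw [← cj_centralizer, ← cj_commutator, relIndex_cj, relIndex_cj, card_cj]
  exact h R (cj_le_cj.1 hR) h1 (fun r hr => conj_mem_cj.1 (by rw [← conj_pow]; exact h2 _ (conj_mem_cj.2 hr)))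
    fun e => hne (cj_mono g e)

/-- an element of `𝒜(S)` is an offender on each elementary abelian subgroup -/
theorem offender {A U S : Subgroup G} (hA : A ∈ mx 2 S) (hU : IsAb 2 U) (hUS : U ≤ S) :
    (𝐂 A).relIndex U ≤ (𝐂 U).relIndex A := by
  have h1 := hA.2.2 _ (sup_le (inf_le_left.trans hA.1) hUS) ((hA.2.1.of_le inf_le_left).sup hU inf_le_right)
  have h2 := card_sup_mul_card_inf (norm_of_centralizer (inf_le_right : A ⊓ 𝐂 U ≤ 𝐂 U))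
  have h3 : Nat.card ↥(A ⊓ 𝐂 U ⊓ U) ≤ Nat.card ↥(𝐂 A ⊓ U) :=
    card_le_of_le (inf_le_inf_right _ (inf_le_left.trans hA.2.1.le_centralizer))
  have h4 := card_inf_mul_relIndex (𝐂 A) U
  have h5 := card_inf_mul_relIndex (𝐂 U) A
  rw [inf_comm] at h5
  have h6 := Nat.mul_le_mul h1 h3
  rw [h2, ← h4, ← h5] at h6
  have p1 : 0 < Nat.card ↥(A ⊓ 𝐂 U) := Nat.card_pos
  have p2 : 0 < Nat.card ↥(𝐂 A ⊓ U) := Nat.card_pos
  refine Nat.le_of_mul_le_mul_left ?_ (Nat.mul_pos p1 p2)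
  linarith

theorem Rst.J_le {W S : Subgroup G} (h : Rst W S) (hW : IsAb 2 W) (hWS : W ≤ S) : J 2 S ≤ 𝐂 W :=
  J_le_iff.2 fun A hA => by_contra fun hne => by
    have h1 := (h A hA.1 ((comm_eq_bot_of_le hA.2.1.le_centralizer).trans_le bot_le)
      (fun r hr => hA.2.1.2 r hr ▸ one_mem _) hne).1
    have h2 := Nat.pow_le_pow_left (offender hA hW hWS) 2
    have h3 := Nat.pow_le_pow_right (Nat.pos_of_ne_zero (relIndex_ne_zero (𝐂 W) A)) (show 2 ≤ 3 by norm_num)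
    omega

end CA.S4F
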