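import Cfsg.Agent.Lib.Grp.S4F5
import Cfsg.Agent.Lib.Grp.Hyperfocal
import Cfsg.Agent.Lib.Odd.PF14

/-!
Restricted subgroups of `S₃`-free groups of characteristic `2` centralize the normal closure of the Thompson
subgroup.
-/

set_option autoImplicit false

namespace CA.S4F

open Subgroup Cfsg CA.Amb CA.AmbSyl CA.AmbCore CA.AmbRes CA.AmbChar
open CA.H6J hiding Z
open CA.H6Basic (commInto mem_commInto le_commInto_iff)
open scoped commutatorElement

universe u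

section Map

variable {G G' : Type u} [Group G] [Group G'] {f : G →* G'}

theorem comap_cent (hf : Function.Injective f) (A : Subgroup G) : (𝐂 (A.map f)).comap f = 𝐂 A := by
  rw [← comap_map_eq_self_of_injective hf (𝐂 A), map_centralizer_of_injective hf, comap_inf,
    MonoidHom.comap_range_self, top_inf_eq]

theorem relIndex_cent_map (hf : Function.Injective f) (A B : Subgroup G) :
    (𝐂 (A.map f)).relIndex (B.map f) = (𝐂 A).relIndex B := by rw [← relIndex_comap, comap_cent hf]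

theorem rst_map_iff (hf : Function.Injective f) {W S : Subgroup G} : Rst (W.map f) (S.map f) ↔ Rst W S := by
  have key : ∀ R : Subgroup G, (⁅R.map f, R.map f⁆ ≤ 𝐂 (W.map f) → (∀ r ∈ R.map f, r ^ 2 ∈ 𝐂 (W.map f)) →
      ¬ R.map f ≤ 𝐂 (W.map f) → (𝐂 (W.map f)).relIndex (R.map f) ^ 3 < (𝐂 (R.map f)).relIndex (W.map f) ^ 2 ∧
        (𝐂 (W.map f)).relIndex (R.map f) < Nat.card ↥⁅W.map f, R.map f⁆) ↔
      (⁅R, R⁆ ≤ 𝐂 W → (∀ r ∈ R, r ^ 2 ∈ 𝐂 W) → ¬ R ≤ 𝐂 W →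
        (𝐂 W).relIndex R ^ 3 < (𝐂 R).relIndex W ^ 2 ∧ (𝐂 W).relIndex R < Nat.card ↥⁅W, R⁆) := fun R => by
    have h1 : (∀ r ∈ R.map f, r ^ 2 ∈ 𝐂 (W.map f)) ↔ ∀ r ∈ R, r ^ 2 ∈ 𝐂 W := by
      rw [← comap_cent hf W]
      exact ⟨fun h r hr => by rw [mem_comap, map_pow]; exact h _ (mem_map_of_mem f hr),
        fun h _ ⟨r, hr, e⟩ => by rw [← e, ← map_pow]; exact h r hr⟩
    rw [h1, ← map_commutator, ← map_commutator, map_le_iff_le_comap, map_le_iff_le_comap, comap_cent hf,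
      relIndex_cent_map hf, relIndex_cent_map hf, card_map_of_injective hf]
  refine ⟨fun h R hR => (key R).1 (h _ (map_mono hR)), fun h R hR => ?_⟩
  have e := map_comap_eq_self (hR.trans (map_le_range f S))
  rw [← e]
  exact (key _).2 (h _ ((comap_mono hR).trans (comap_map_eq_self_of_injective hf S).le))

end Map

variable {G : Type u} [Group G] [Finite G]

theorem relIndex_le_of_mul {C D R : Subgroup G} (h : ∀ d ∈ D, ∃ r ∈ R, r⁻¹ * d ∈ C) :
    C.relIndex D ≤ C.relIndex R := by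
  choose! φ h1 h2 using h
  refine relIndex_le_of_fun φ h1 fun v hv w hw e => ?_
  have := mul_mem (mul_mem (inv_mem (h2 v hv)) e) (h2 w hw)
  rwa [show ((φ v)⁻¹ * v)⁻¹ * ((φ v)⁻¹ * φ w) * ((φ w)⁻¹ * w) = v⁻¹ * w by group] at this

omit [Finite G] in
theorem mem_of_inv_conj {M : Subgroup G} {x a : G} (ho : (orderOf x).Coprime 2) (hi : a * x * a⁻¹ = x⁻¹)
    (h1 : a ∈ M) (h2 : x * a * x⁻¹ ∈ M) : x ∈ M := by
  refine mem_of_pow_mem_of_coprime ho ?_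
  have := mul_mem h2 (inv_mem h1)
  rwa [show x * a * x⁻¹ * a⁻¹ = x * (a * x * a⁻¹)⁻¹ by group, hi, inv_inv, ← pow_two] at this

theorem Stp.norm {Q A A0 : Subgroup G} {x a : G} {r j : ℕ} [Q.Normal] (hs : Stp Q A x A0 a r j) :
    zpowers x ≤ 𝐍 (A0 ⊔ Q) := norm_sup_of_comm norm_of_normal norm_of_normal
  ((commutator_comm _ _).trans_le (le_commInto_iff.1 (zpowers_le.2 hs.ci)).2)

theorem rst_le_pCore (h3 : ¬ Involves S3 G) (hK : CKW Good G) (hc : CharP 2 (⊤ : Subgroup G))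
    {W S : Subgroup G} (hS : SylIn 2 S ⊤) (hW : IsAb 2 W) (hWS : W ≤ S) (hn : S ≤ 𝐍 W) (h : Rst W S) :
    W ≤ pCore 2 G := by
  by_contra hne
  haveI := pCore_characteristic 2 G
  obtain ⟨x0, hx0⟩ := exists_st_mod h3 hK (pCore_quotient_pCore 2 G)
    ((comm_eq_bot_of_le hW.le_centralizer).trans_le bot_le) (fun r hr => hW.2 r hr ▸ one_mem _) hne
  obtain ⟨x, W0, a, r, j, hs, hi, -⟩ := hx0.improve hW norm_of_normal (sylIn_self (isPGroup_pCore 2 G))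
    le_normalizer
  obtain ⟨k, hk⟩ := hs.pw
  have ho := cop_of_pow hk hs.big.cop
  obtain ⟨Q1, hQ1⟩ : ∃ Q1, Q1 = W0 ⊔ pCore 2 G := ⟨_, rfl⟩
  have hx : zpowers x ≤ 𝐍 Q1 := hQ1 ▸ hs.norm
  have hQS : Q1 ≤ S := hQ1 ▸ sup_le (hs.le.trans hWS) (pCoreOf_top 2 G ▸ pCoreOf_le_syl hS)
  have hWQ : W ≤ 𝐍 Q1 := hQ1 ▸ norm_sup (IsAb.norm hW le_rfl hs.le) norm_of_normal
  obtain ⟨W1, hW1⟩ : ∃ W1, W1 = W ⊓ Q1 := ⟨_, rfl⟩
  have h1 : W1 ≤ W := hW1 ▸ inf_le_left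
  have h2 : W1 ≤ Q1 := hW1 ▸ inf_le_right
  have h4 : ⁅Q1, zpowers a⁆ ≤ W1 := (commutator_mono le_rfl (zpowers_le.2 hs.mem)).trans
    (hW1 ▸ le_inf (commutator_le_right_of_norm (hQS.trans hn)) (commutator_le_left_of_norm hWQ))
  have hx1 := cj_eq_self (zpowers_le.1 hx)
  have h5 : cj x W1 ≤ Q1 := hx1 ▸ cj_mono x h2
  have h6 : ⁅Q1, zpowers (x * a * x⁻¹)⁆ ≤ cj x W1 := by
    rw [← cj_zpowers, ← hx1, ← cj_commutator]; exact cj_mono x h4
  have h7 : Q1 ≤ 𝐍 W1 := hW1 ▸ norm_inf (hQS.trans hn) le_normalizer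
  obtain ⟨D, hD⟩ : ∃ D, D = cj x W1 ⊔ W1 := ⟨_, rfl⟩
  have hDQ : D ≤ Q1 := hD ▸ sup_le h5 h2
  have key : ∀ b : G, ⁅Q1, zpowers b⁆ ≤ D → b ∈ commInto Q1 D := fun b hb => zpowers_le.1 (le_commInto_iff.2
    ⟨norm_of_commutator_le ((commutator_mono hDQ le_rfl).trans hb), (commutator_comm _ _).trans_le hb⟩)
  have h8 := le_commInto_iff.1 (zpowers_le.2 (mem_of_inv_conj ho hi (key a (h4.trans (hD ▸ le_sup_right)))
    (key _ (h6.trans (hD ▸ le_sup_left)))))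
  have h9 : x ∉ 𝐂 D := fun e => hs.nm (by
    have := mem_cent_of_comm_le (hS.pg.to_le hQS) (zpowers_le.1 hx) ho
      ((commutator_comm _ _).trans_le (h8.2.trans (cent_symm (zpowers_le.2 e))))
    rw [← pCoreOf_top]
    exact hc.le ⟨mem_top x, centralizer_anti (by rw [pCoreOf_top, hQ1]; exact le_sup_right) this⟩)
  have haW : W ≤ 𝐂 (zpowers a) := cent_symm ((zpowers_le.2 hs.mem).trans hW.le_centralizer)
  have h10 : 4 ^ j ≤ (𝐂 W).relIndex (cj x W1) :=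
    ((dih_cent hs.big (hS.pg.to_le (hDQ.trans hQS)) hk (zpowers_le.1 h8.1) (by rw [hi]; simp) h9).trans
      (relIndex_le_of_mul fun d hd => by
        obtain ⟨y, hy, z, hz, rfl⟩ := (mem_sup_of_norm (h5.trans h7)).1 (hD ▸ hd)
        exact ⟨y, hy, by rw [inv_mul_cancel_left]; exact haW (h1 hz)⟩)).trans
      (relIndex_le_of_le_left (centralizer_anti (zpowers_le.2 hs.mem)) (relIndex_ne_zero _ _))
  have hR : IsAb 2 (cj x W1) := (hW.of_le h1).map _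
  have h4j : 4 ≤ 4 ^ j := Nat.le_self_pow (by have := hs.big.2.2.1; omega) 4
  have h11 := (h _ (h5.trans hQS) ((comm_eq_bot_of_le hR.le_centralizer).trans_le bot_le)
    (fun r hr => hR.2 r hr ▸ one_mem _) fun e => by rw [relIndex_eq_one.2 e] at h10; omega).1
  have h12 : cj (x * a) W1 = cj x W1 := by rw [← cj_cj, cj_eq_self (IsAb.norm hW le_rfl h1 hs.mem)]
  have h13 : cj (x * a) (cj x W1) = W1 := by
    rw [← h12, cj_cj, show x * a * (x * a) = x * (a * x * a⁻¹) * (a * a) by group, hi, IsAb.sq hW hs.mem,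
      mul_one, mul_inv_cancel, cj_one]
  have h14 : (𝐂 (cj x W1)).relIndex W1 ≤ (𝐂 W).relIndex (cj x W1) := by
    rw [← relIndex_cj (x * a), cj_centralizer, h13, h12]
    exact relIndex_le_of_le_left (centralizer_anti h1) (relIndex_ne_zero _ _)
  have h15 := relIndex_le_mul (𝐂 (cj x W1)) W1 W
  rw [inf_eq_left.2 h1] at h15
  have h16 : W1.relIndex W ≤ 2 ^ j := (relIndex_le_of_le_left
    (hW1 ▸ le_inf hs.le (hQ1 ▸ le_sup_left)) (relIndex_ne_zero _ _)).trans hs.idx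
  have h17 := Nat.pow_le_pow_left (h15.trans (Nat.mul_le_mul h14 h16)) 2
  rw [mul_pow, ← pow_mul, mul_comm j, pow_mul] at h17
  have := Nat.mul_le_mul_left ((𝐂 W).relIndex (cj x W1) ^ 2) h10
  rw [← pow_succ] at this
  exact (h11.trans_le (h17.trans this)).false

theorem Rst.conj_le {W Q : Subgroup G} [Q.Normal] (hW : IsAb 2 W) (hWQ : W ≤ Q) (h : Rst W Q) (g : G) :
    cj g W ≤ 𝐂 W := by_contra fun hne => by
  have h' := h.conj g
  rw [cj_eq_self_of_normal g Q] at h'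
  have hR : IsAb 2 (cj g W) := hW.map _
  have h1 := (h _ (cj_le_of_le hWQ (norm_of_normal (mem_top g)))
    ((comm_eq_bot_of_le hR.le_centralizer).trans_le bot_le) (fun r hr => hR.2 r hr ▸ one_mem _) hne).1
  have h2 := (h' _ hWQ ((comm_eq_bot_of_le hW.le_centralizer).trans_le bot_le)
    (fun r hr => hW.2 r hr ▸ one_mem _) fun e => hne (cent_symm e)).1
  have key : ∀ m n : ℕ, n ≠ 0 → m ≤ n → ¬ n ^ 3 < m ^ 2 := fun m n h0 h4 => not_lt.2
    ((Nat.pow_le_pow_left h4 2).trans (Nat.pow_le_pow_right (Nat.pos_of_ne_zero h0) (by norm_num)))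
  rcases le_total ((𝐂 W).relIndex (cj g W)) ((𝐂 (cj g W)).relIndex W) with e | e
  · exact key _ _ (relIndex_ne_zero _ _) e h2
  · exact key _ _ (relIndex_ne_zero _ _) e h1

theorem filt {U Q : Subgroup G} (hU : ∀ B, ¬ B ≤ 𝐂 U → ∃ W ≤ U, Rst W Q ∧ ¬ B ≤ 𝐂 W) (B : Subgroup G) :
    IsAb 2 B → B ≤ Q → (𝐂 U).relIndex B ^ 3 ≤ (𝐂 B).relIndex U ^ 2 := by
  induction B using WellFoundedLT.induction with
  | ind B ih =>
  intro hB hBQ
  by_cases hc : B ≤ 𝐂 U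
  · rw [relIndex_eq_one.2 hc, one_pow]
    exact Nat.one_le_pow _ _ (Nat.pos_of_ne_zero (relIndex_ne_zero _ _))
  obtain ⟨W, h1, h2, h4⟩ := hU B hc
  have h5 := ih (B ⊓ 𝐂 W) (inf_lt_left.2 h4) (hB.of_le inf_le_left) (inf_le_left.trans hBQ)
  have h6 := (h2 B hBQ ((comm_eq_bot_of_le hB.le_centralizer).trans_le bot_le)
    (fun r hr => hB.2 r hr ▸ one_mem _) h4).1
  rw [← relIndex_tower (centralizer_anti h1) B, ← relIndex_tower (centralizer_anti (inf_le_left : B ⊓ 𝐂 W ≤ B)) U,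
    mul_pow, mul_pow, mul_comm]
  exact Nat.mul_le_mul (h6.le.trans (Nat.pow_le_pow_left (relIndex_le_of_le_right
    (le_inf h1 (cent_symm inf_le_right)) (relIndex_ne_zero _ _)) 2)) h5

theorem one_factor {U U1 : Subgroup G} {x a : G} {r j k : ℕ} (hU : IsAb 2 U) (hb : Big r j) (hk : x ^ r ^ k = 1)
    (hi : a * x * a⁻¹ = x⁻¹) (hx : x ∈ 𝐍 U) (h : (𝐂 (zpowers a)).relIndex U < 4 ^ j * 4 ^ j) (h1 : U1 ≤ U)
    (h2 : x ∈ 𝐍 U1) (h3 : a ∈ 𝐍 U1) (h4 : x ∉ 𝐂 U1) : ⁅U, zpowers x⁆ ≤ U1 := by_contra fun hne => by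
  have hn := IsAb.norm hU le_rfl h1
  have h5 := dih_rel hb hU.isPGroup hk hx hn h2 h3 (by rw [hi]; simp) hne
  have h6 := dih_cent (a := a) hb (hU.isPGroup.to_le h1) hk h2 (by rw [hi]; simp) h4
  have h7 : U ⊓ 𝐂 (zpowers a) ≤ commInto (zpowers a) U1 :=
    le_commInto_iff.2 ⟨inf_le_left.trans hn, (comm_eq_bot_of_le inf_le_right).trans_le bot_le⟩
  rw [← inf_relIndex_left, ← relIndex_tower h7] at h
  exact h.not_ge (Nat.mul_le_mul ((h6.trans (relIndex_le_of_le_left inf_le_right (relIndex_ne_zero _ _))).trans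
    (relIndex_le_of_le_right (le_inf h1 (le_commInto_iff.2 ⟨le_normalizer,
      commutator_le_left_of_norm (zpowers_le.2 h3)⟩)) (relIndex_ne_zero _ _))) h5)

theorem arith1 {b c d t : ℕ} (hb : 0 < b) (hc : 0 < c) (ht : 2 ≤ t) (e1 : b ^ 3 ≤ c ^ 2) (e2 : d * c ≤ b * t)
    (h : t * t ≤ d) : False := by
  have h5 : t * c ≤ b := Nat.le_of_mul_le_mul_left
    (calc t * (t * c) = t * t * c := by ring
      _ ≤ b * t := (Nat.mul_le_mul_right c h).trans e2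
      _ = t * b := mul_comm _ _) (by omega)
  have h6 := Nat.pow_le_pow_left ((Nat.mul_le_mul_right c ht).trans h5) 2
  have h7 := Nat.pow_le_pow_right hb (show 2 ≤ 3 by norm_num)
  have h8 : 0 < c ^ 2 := by positivity
  rw [mul_pow] at h6
  omega

theorem arith2 {b c d t : ℕ} (hb : 0 < b) (hd : 0 < d) (ht : 2 ≤ t) (e1 : b ^ 3 ≤ c ^ 2) (e2 : d * c ≤ b * t) :
    b * t < t * t * (t * t) := by
  have h2 := e1.trans (Nat.pow_le_pow_left ((Nat.le_mul_of_pos_left c hd).trans e2) 2)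
  have h5 : b ≤ t * t := Nat.le_of_mul_le_mul_left
    (calc b ^ 2 * b = b ^ 3 := by ring
      _ ≤ (b * t) ^ 2 := h2
      _ = b ^ 2 * (t * t) := by ring) (by positivity)
  calc b * t ≤ t * t * t := Nat.mul_le_mul_right t h5
    _ < _ := Nat.mul_lt_mul_of_pos_left (by nlinarith) (by positivity)

theorem step_cent {Q W S A A0 : Subgroup G} {x a : G} {r j : ℕ} [Q.Normal] (hQS : Q ≤ S) (hS : IsPGroup 2 S)
    (hW : IsAb 2 W) (hWQ : W ≤ Q) (hn : S ≤ 𝐍 W) (h : Rst W S) (hA : A ∈ mx 2 S) (hs : Stp Q A x A0 a r j)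
    (hi : a * x * a⁻¹ = x⁻¹) : x ∈ 𝐂 W := by
  by_contra hxW
  obtain ⟨k, hk⟩ := hs.pw
  have ho := cop_of_pow hk hs.big.cop
  obtain ⟨Q1, hQ1⟩ : ∃ Q1, Q1 = A0 ⊔ Q := ⟨_, rfl⟩
  have hx : zpowers x ≤ 𝐍 Q1 := hQ1 ▸ hs.norm
  have hQ1S : Q1 ≤ S := hQ1 ▸ sup_le (hs.le.trans hA.1) hQS
  have hA0 : A0 ≤ Q1 := hQ1 ▸ le_sup_left
  have haQ : zpowers a ≤ 𝐍 Q1 := hQ1 ▸ norm_sup (IsAb.norm hA.2.1 (zpowers_le.2 hs.mem) hs.le) norm_of_normal
  have hax : zpowers a ≤ 𝐍 (zpowers x) :=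
    zpowers_le.2 (cj_eq_self_iff.1 (by rw [cj_zpowers, hi, zpowers_inv]))
  have haW : a ∈ 𝐂 W := h.J_le hW (hWQ.trans hQS) (le_J hA hs.mem)
  obtain ⟨U, hU⟩ : ∃ U, U = ncl W (zpowers x) := ⟨_, rfl⟩
  have hWU : W ≤ U := hU ▸ le_ncl _ _
  have hUQ : U ≤ Q1 := hU ▸ (ncl_le hWQ norm_of_normal).trans (hQ1 ▸ le_sup_right)
  have hUe : IsAb 2 U := by
    have h1 : ncl W ⊤ ≤ 𝐂 (ncl W ⊤) := ncl_le_cent (norm_ncl _ _)
      (cent_symm (ncl_le_iff.2 fun g _ => (h.mono hQS).conj_le hW hWQ g))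
    refine (isAb_omegaOne 2 (H6NPC.isMulCommutative_of_le_cent h1)).of_le (hU ▸ ncl_le_iff.2 fun g _ y hy => ?_)
    exact mem_omegaOne (cj_le_ncl W (mem_top g) hy) ((hW.map _).2 y hy)
  have hxU : zpowers x ≤ 𝐍 U := hU ▸ norm_ncl _ _
  have haU : zpowers a ≤ 𝐍 U := hU ▸ norm_ncl_of_norm (norm_of_centralizer (zpowers_le.2 haW)) hax
  have hQU : Q1 ≤ 𝐍 U := hU ▸ norm_iSup fun g => by
    rw [← cj_normalizer, ← cj_eq_self (hx g.2)]; exact cj_mono _ (hQ1S.trans hn)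
  have hxC : x ∉ 𝐂 U := fun e => hxW (centralizer_anti hWU e)
  have e1 := filt (U := U) (Q := Q1) (fun B hB => by
    by_contra! hcon
    refine hB (cent_symm (hU ▸ ncl_le_iff.2 fun g hg => cent_symm (hcon _ (hU ▸ cj_le_ncl W hg) ?_)))
    have := (h.mono hQ1S).conj g
    rwa [cj_eq_self (hx hg)] at this) A0 (hA.2.1.of_le hs.le) hA0
  have e2 : (𝐂 A).relIndex U ≤ (𝐂 U).relIndex A0 * 2 ^ j := by
    have := relIndex_le_mul (𝐂 U) A0 A
    rw [inf_eq_left.2 hs.le] at this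
    exact (offender hA hUe (hUQ.trans hQ1S)).trans (this.trans (Nat.mul_le_mul_left _ hs.idx))
  have e3 := relIndex_tower (centralizer_anti hs.le) U
  have e4 : ∀ X : Subgroup G, (𝐂 (zpowers a)).relIndex X ≤ (𝐂 A).relIndex X := fun X =>
    relIndex_le_of_le_left (centralizer_anti (zpowers_le.2 hs.mem)) (relIndex_ne_zero _ _)
  have ht : 2 ≤ 2 ^ j := Nat.le_self_pow (by have := hs.big.2.2.1; omega) 2
  have h4j : 4 ^ j = 2 ^ j * 2 ^ j := by rw [← mul_pow]; rfl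
  have hb := Nat.pos_of_ne_zero (relIndex_ne_zero (𝐂 U) A0)
  have hc := Nat.pos_of_ne_zero (relIndex_ne_zero (𝐂 A0) U)
  have hd := Nat.pos_of_ne_zero (relIndex_ne_zero (𝐂 A) (U ⊓ 𝐂 A0))
  obtain ⟨P, hP⟩ : ∃ P, P = ⁅Q1, zpowers x⁆ := ⟨_, rfl⟩
  have hPU : ¬ P ≤ 𝐂 U := fun e => by
    have h1 : ⁅A0, zpowers x⁆ ≤ 𝐂 U := (commutator_mono hA0 le_rfl).trans (hP ▸ e)
    have h2 := (dih_cent (a := a) hs.big (hUe.isPGroup.to_le inf_le_left) hk
      (zpowers_le.1 (norm_of_norm_sup (hA0.trans hQU) hxU h1).1) (by rw [hi]; simp)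
      (axb hUe (hA.2.1.of_le hs.le).isPGroup (hA0.trans hQU) (zpowers_le.1 hxU) ho
        ((commutator_comm _ _).trans_le h1) hxC).1).trans (e4 _)
    exact arith1 hb hc ht e1 (e3.trans_le e2) (h4j ▸ h2)
  have e5 : (𝐂 (zpowers a)).relIndex U < 4 ^ j * 4 ^ j :=
    (e4 U).trans_lt (e2.trans_lt (h4j ▸ arith2 hb hd ht e1 (e3.trans_le e2)))
  have one := fun U1 => one_factor (U1 := U1) hUe hs.big hk hi (zpowers_le.1 hxU) e5
  have hU1 : ⁅U, Q1⁆ ≤ U := commutator_le_left_of_norm hQU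
  have hx1 : x ∈ 𝐂 ⁅U, Q1⁆ := by_contra fun e => by
    have h1 := one _ hU1 (zpowers_le.1 (norm_commutator hxU hx)) (zpowers_le.1 (norm_commutator haU haQ)) e
    have h2 : U ≤ W := Hyperfocal.le_of_le_sup_commutator (hS.to_le hQ1S).isNilpotent hUQ (hWU.trans hUQ)
      (hQ1S.trans hn) ((hU.trans (ncl_eq_sup _ _)).le.trans
        (sup_le_sup_left ((commutator_mono hWU le_rfl).trans h1) _))
    rw [le_antisymm h2 hWU] at hxU
    exact hxW (mem_of_inv_conj ho hi haW (conj_mem_of_mem_normalizer (zpowers_le.1 (norm_centralizer hxU)) haW))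
  have hP1 : P ≤ 𝐂 ⁅U, Q1⁆ := hP ▸ (commutator_mono le_rfl (zpowers_le.2 hx1)).trans
    (commutator_le_right_of_norm (norm_centralizer (norm_comm_right _ _)))
  have hPQ : P ≤ Q1 := hP ▸ commutator_le_left_of_norm hx
  have hxP : zpowers x ≤ 𝐍 P := hP ▸ norm_comm_right _ _
  have hq : ⁅⁅U, P⁆, P⁆ = ⊥ := comm_eq_bot_of_le ((commutator_mono le_rfl hPQ).trans (cent_symm hP1))
  have hPW : ¬ P ≤ 𝐂 W := fun e => hPU (cent_symm (hU ▸ ncl_le_cent hxP (cent_symm e)))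
  have hE : U ⊓ 𝐂 (zpowers x) ≤ 𝐂 P := by
    have := three_subgroups (N := ⊥) (A := Q1) (B := zpowers x) (C := U ⊓ 𝐂 (zpowers x)) norm_of_normal
      norm_of_normal norm_of_normal (by rw [comm_eq_bot_of_le' inf_le_right, commutator_bot_left])
      (comm_eq_bot_of_le ((commutator_mono inf_le_left le_rfl).trans (cent_symm (zpowers_le.2 hx1)))).le
    exact hP ▸ commutator_eq_bot_iff'.1 (le_bot_iff.1 this)
  obtain ⟨w, hw, hwP⟩ := SetLike.not_le_iff_exists.1 fun e => hPW (cent_symm e)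
  let ψ : P →* G :=
    { toFun := fun q => ⁅w, (q : G)⁆
      map_one' := by simp
      map_mul' := fun p q => by
        have := mem_centralizer_sub.1 (hP1 p.2) _ (commutator_mem_commutator (hWU hw) (hPQ q.2))
        calc _ = ⁅w, (p : G)⁆ * (p * ⁅w, (q : G)⁆) * (p : G)⁻¹ := by simp only [commutatorElement_def, coe_mul]; group
          _ = _ := by rw [← this]; group }
  have hZ : ψ.range ≤ ⁅U, Q1⁆ := by
    rintro _ ⟨q, rfl⟩; exact commutator_mem_commutator (hWU hw) (hPQ q.2)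
  have hZn : U ≤ 𝐍 ψ.range := IsAb.norm hUe le_rfl (hZ.trans hU1)
  have haP : zpowers a ≤ 𝐍 P := hP ▸ norm_commutator haQ hax
  have haZ : a ∈ 𝐍 ψ.range := SylIn.mem_normalizer_of_forall (by
    rintro _ ⟨q, rfl⟩
    refine ⟨⟨_, conj_mem_of_mem_normalizer (zpowers_le.1 haP) q.2⟩, ?_⟩
    show ⁅w, a * q * a⁻¹⁆ = a * ⁅w, (q : G)⁆ * a⁻¹
    rw [conjugate_commutatorElement, ← mem_centralizer_sub.1 haW w hw, mul_inv_cancel_right])
  have h1 := one (U ⊓ commInto P ψ.range) inf_le_left (zpowers_le.1 (norm_inf hxU (H6Off.norm_commInto hxP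
      (norm_of_centralizer (zpowers_le.2 (centralizer_anti hZ hx1))))))
    (zpowers_le.1 (norm_inf haU (H6Off.norm_commInto haP (zpowers_le.2 haZ)))) fun e =>
      hwP (hE ⟨hWU hw, cent_symm (zpowers_le.2 e)
        ⟨hWU hw, mem_commInto.2 ⟨hZn (hWU hw), fun y hy => ⟨⟨y, hy⟩, rfl⟩⟩⟩⟩)
  have h2 : U ≤ commInto P ψ.range := by
    haveI := hUe.1
    rw [← Coprime2.centralizer_sup_commutator hxU
      (coprime_card_of_isPGroup hUe.isPGroup (Nat.card_zpowers x ▸ ho))]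
    exact sup_le (le_commInto_iff.2 ⟨inf_le_left.trans hZn, (comm_eq_bot_of_le hE).trans_le bot_le⟩)
      (h1.trans inf_le_right)
  have h4 := (h P (hPQ.trans hQ1S) ((H6Off.comm_le_cent_of_quad hq).trans (centralizer_anti hWU))
    (fun y hy => centralizer_anti hWU (H6Off.pow_mem_cent_of_quad hUe.2 (hPQ.trans hQU) hq hy)) hPW).2
  refine h4.not_ge ((card_le_of_le (le_commInto_iff.1 (hWU.trans h2)).2).trans ?_)
  rw [← index_ker]
  exact index_antitone (H := (𝐂 W).subgroupOf P) fun q hq' =>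
    commutatorElement_eq_one_iff_mul_comm.2 (mem_centralizer_sub.1 hq' w hw)

theorem solv_of_norm_syl {T L : Subgroup G} (hT : SylIn 2 T L) (hn : L ≤ 𝐍 T) : Group.IsSolvable L := by
  haveI := normal_subgroupOf_of_norm hn
  haveI := PF.odd_solvable (L ⧸ T.subgroupOf L) (Nat.odd_iff.2 (Nat.two_dvd_ne_zero.1 hT.not_dvd))
  haveI := isSolvable_of_isPGroup (isPGroup_subgroupOf hT.pg L)
  exact Group.isSolvable_of_ker_le_range (T.subgroupOf L).subtype (QuotientGroup.mk' (T.subgroupOf L)) (by simp)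

/-- restricted normal subgroups of a Sylow `2`-subgroup centralize `⟨J(S)^G⟩` -/
theorem rst_ncl_J (G : Type u) [Group G] [Finite G] (h3 : ¬ Involves S3 G) (hK : CKW Good G)
    (hc : CharP 2 (⊤ : Subgroup G)) {W S : Subgroup G} (hS : SylIn 2 S ⊤) (hW : IsAb 2 W) (hWS : W ≤ S)
    (hn : S ≤ 𝐍 W) (h : Rst W S) : ncl (J 2 S) ⊤ ≤ 𝐂 W := by
  induction hcard : Nat.card G using Nat.strong_induction_on generalizing G with
  | _ n ih =>
  subst hcard
  have IH : ∀ H : Subgroup G, H ≠ ⊤ → S ≤ H → CKW Good H → ncl (J 2 S) H ≤ 𝐂 W := fun H h1 h2 h4 => by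
    have hi := H.subtype_injective
    have e1 := map_subgroupOf_eq_of_le h2
    have e2 := map_subgroupOf_eq_of_le (hWS.trans h2)
    have := cent_map H.subtype (ih _ (H6NPC.card_lt_of_ne_top h1) H (fun b => h3 (Fus.involves_of_inj _ hi b)) h4
      ((charP_map_iff hi).1 (by rw [map_subtype_top]; exact hc.of_syl_le hS h2 le_top)) (W := W.subgroupOf H)
      (H6NPC.sylIn_subgroupOf_top (hS.mono h2 le_top)) (hW.comap hi) (comap_mono hWS) (norm_comap _ hn)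
      ((rst_map_iff hi).1 (by rwa [e1, e2])) rfl)
    rwa [map_ncl, ← J_map hi, e1, e2, map_subtype_top] at this
  have hJ := h.J_le hW hWS
  by_cases hST : S = ⊤
  · rwa [ncl_eq_self (hST.ge.trans (le_normalizer_J 2 S))]
  obtain ⟨N, ⟨hN1, hN2⟩, hmax⟩ := (wellFounded_gt (α := Subgroup G)).has_min
    {N | ⊤ ≤ 𝐍 N ∧ N ⊔ S ≠ ⊤} ⟨⊥, norm_of_normal, by rwa [bot_sup_eq]⟩
  haveI := normal_iff_top_le.2 hN1
  have h1 := IH (N ⊔ S) hN2 le_sup_right
    ((hK.sub_top (Subgroup.Normal.isSubnormal this)).sup (isSolvable_of_isPGroup hS.pg) norm_of_normal)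
  suffices key : ∀ g, ∃ c ∈ 𝐂 W, ∃ y ∈ N ⊔ S, ∃ m ∈ 𝐍 (J 2 S), g = c * y * m by
    refine ncl_le_iff.2 fun g _ => ?_
    obtain ⟨c, hc, y, hy, m, hm, rfl⟩ := key g
    rw [← cj_cj, ← cj_cj, cj_eq_self hm]
    exact cj_le_of_mem ((cj_le_ncl _ hy).trans h1) hc
  have hT := hS.inf_norm le_top hN1
  by_cases h2 : 𝐍 (S ⊓ N) = ⊤
  swap
  · have h4 : S ≤ 𝐍 (S ⊓ N) := norm_inf le_normalizer norm_of_normal
    have h5 := IH _ h2 h4 (hK.top.supp le_top hN1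
      ((hT.frattini_sup le_top hN1).ge.trans (sup_le_sup_left inf_le_right _))
      (solv_of_norm_syl (hT.mono (le_inf le_normalizer inf_le_right) inf_le_right) inf_le_left))
    intro g
    obtain ⟨y, hy, h6⟩ := hT.frattini hN1 (mem_top g)
    obtain ⟨c, hc, m, hm, e⟩ := H6NPC.frattini_J (hS.mono h4 le_top) (ncl_le_of_le ((J_le 2 S).trans h4))
      (norm_ncl _ _) (le_ncl _ _) h6
    exact ⟨c, h5 hc, _, mem_sup_left (this.conj_mem' y hy c), m, hm.2, by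
      rw [inv_mul_eq_iff_eq_mul.1 e]; group⟩
  haveI := normalizer_eq_top_iff.1 h2
  by_cases h4 : J 2 S ≤ S ⊓ N
  · exact fun g => ⟨1, one_mem _, 1, one_mem _, g, J_eq_of_J_le h4 inf_le_left ▸
      normalizer_le_normalizer_J 2 _ (h2.ge (mem_top g)), by simp⟩
  obtain ⟨A, hA, hAN⟩ : ∃ A ∈ mx 2 S, ¬ A ≤ S ⊓ N := by
    by_contra! e; exact h4 (J_le_iff.2 e)
  have hWQ : W ≤ S ⊓ N := by
    haveI := pCore_characteristic 2 G
    refine le_inf hWS ((rst_le_pCore h3 hK hc hS hW hWS hn h).trans (by_contra fun e => ?_))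
    refine hmax (N ⊔ pCore 2 G) ⟨norm_of_normal, ?_⟩ (left_lt_sup.2 e)
    rwa [sup_assoc, sup_eq_right.2 ((pCoreOf_top 2 G).ge.trans (pCoreOf_le_syl hS))]
  have hs := QuotientGroup.mk'_surjective N
  have hk := QuotientGroup.ker_mk' N
  have h5 : (𝐂 W ⊔ S).map (QuotientGroup.mk' N) = ⊤ := by
    refine gen_top (fun b => h3 (Fus.involves_of_surj _ hs b)) (hK.of_surj _ hs) (H6NPC.sylIn_map_top hS hs)
      (fun e => hN2 ?_) (fun M h5 h6 => ?_) (hA.2.1.map _) (map_mono hA.1)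
      (fun e => hAN (le_inf hA.1 (hk ▸ (Subgroup.map_eq_bot_iff _).1 e))) (map_mono le_sup_right) fun x hx => ?_
    · rw [sup_comm, ← hk, ← comap_map_eq, e, comap_top]
    · have h7 : M.comap (QuotientGroup.mk' N) ⊔ S = ⊤ := by_contra fun e =>
        hmax _ ⟨(comap_top _).ge.trans (norm_comap _ h5), e⟩ (lt_of_le_of_ne (hk.ge.trans (ker_le_comap _ M))
          fun e' => h6 (by rw [← map_comap_eq_self_of_surjective hs M, ← e', QuotientGroup.map_mk'_self]))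
      rw [← map_comap_eq_self_of_surjective hs M, ← Subgroup.map_sup, h7, map_top_of_surjective _ hs]
    · obtain ⟨x, rfl⟩ := hs x
      obtain ⟨y, e, hy⟩ := hx.lift
      rw [hk] at hy
      obtain ⟨z, A0, a, r, j, h5, h6, h7, -⟩ := hy.improve hA.2.1 norm_of_normal hT norm_of_normal
      rw [← e, ← mem_comap, comap_map_eq, hk]
      exact sup_le_sup_right ((zpowers_le.2 (step_cent inf_le_left hS.pg hW hWQ hn h hA h5 h6)).trans
        le_sup_left) N h7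
  intro g
  have h6 : g ∈ 𝐂 W ⊔ S ⊔ N := by rw [← hk, ← comap_map_eq, h5]; trivial
  obtain ⟨y, hy, z, hz, rfl⟩ := (mem_sup_of_norm norm_of_normal).1 h6
  obtain ⟨c, hc, s, hs, rfl⟩ := (mem_sup_of_norm' (norm_centralizer hn)).1 hy
  exact ⟨c, hc, s * z, mul_mem (mem_sup_right hs) (mem_sup_left hz), 1, one_mem _, by group⟩

end CA.S4F
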