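import Cfsg.Agent.Lib.Grp.S4F7
import Cfsg.Agent.Lib.Loc.H6Dih
import Cfsg.Agent.Lib.Fus.FusSec
import Cfsg.Agent.Lib.Lin.SU3
import Cfsg.Agent.Lib.Lin.PSL2Four
import Cfsg.Agent.Lib.Suz.Cor
import Cfsg.Agent.Lib.Walt.J1G

/-! Involvement of `S₃` and `S₄` in the rank one groups. -/

set_option autoImplicit false
set_option linter.unusedSectionVars false

namespace CA.S4T

open Subgroup Cfsg CA.S4F CA.H6Stab CA.H6Dih CA.Fus CA.SU3 CA.PSL2Struct CA.SL2Unip CA.SL2Basic CA.SL2Torus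
  CA.SL2Embed CA.SL2Class
open scoped MatrixGroups

universe u

section
variable {G H X : Type*} [Group G] [Group H] [Group X]

theorem inv_iso (e : G ≃* H) (h : Involves X G) : Involves X H :=
  involves_of_inj e.toMonoidHom e.injective h

theorem inv3 [Finite G] {a y : G} (h1 : y ≠ 1) (h3 : y ^ 3 = 1) (h : a * y * a⁻¹ = y⁻¹) : Involves S3 G :=
  by_contra fun hn => h1 (ns3 hn (k := 1) (by simpa using h3) h)

theorem inv_self : Involves G G :=
  involves_iff.2 ⟨⊤, le_rfl, (⊤ : Subgroup G).subtype, fun x => ⟨⟨x, mem_top x⟩, rfl⟩, fun _ h => mem_bot.1 h⟩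

theorem s3_s4 : Involves S3 S4 :=
  let ⟨φ, h, _⟩ := exists_hom_S4
  involves_of_surj φ h inv_self

theorem s3_of_s4 (h : Involves S4 G) : Involves S3 G := involves_trans s3_s4 h

theorem dvd_of_inv [Finite G] (h : Involves X G) : Nat.card X ∣ Nat.card G := by
  obtain ⟨K, -, ψ, h, -⟩ := involves_iff.1 h
  exact (card_dvd_of_surjective ψ h).trans (card_subgroup_dvd_card K)

theorem not_s3 [Finite G] (h : ¬ 3 ∣ Nat.card G) : ¬ Involves S3 G := fun e =>
  h (Dvd.dvd.trans (by simp [S3, Fintype.card_perm, Nat.factorial]) (dvd_of_inv e))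

theorem pg_swap (s : S3) (h : s * s = 1) : IsPGroup 2 (zpowers s) :=
  IsPGroup.of_card_dvd_pow (n := 1) (by
    rw [Nat.card_zpowers]; exact orderOf_dvd_of_pow_eq_one (by rw [pow_one, pow_two, h]))

theorem not_s4_of_ab [Finite G] (h : AbSyl 2 (⊤ : Subgroup G)) : ¬ Involves S4 G := fun e => by
  haveI : Fact (Nat.Prime 2) := ⟨Nat.prime_two⟩
  obtain ⟨φ, h1, h2, h3⟩ := exists_hom_S4
  have h4 := (involves_iff.1 e).abSyl h _ le_top
    ((pg_swap (Equiv.swap 0 1) (by decide)).comap_of_ker_isPGroup φ h2)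
  obtain ⟨x, hx⟩ := h1 (Equiv.swap 0 1)
  have h5 : x ∈ (zpowers (Equiv.swap (0 : Fin 3) 1)).comap φ := by rw [mem_comap, hx]; exact mem_zpowers _
  have h6 : x ∈ φ.ker := h3 (mem_centralizer_iff.2 fun y hy =>
    congrArg Subtype.val (h4.is_comm.comm ⟨y, ker_le_comap φ _ hy⟩ ⟨x, h5⟩))
  rw [MonoidHom.mem_ker, hx] at h6
  exact absurd h6 (by decide)

theorem not_s4_of_tis [Finite G] (h : TIS 2 G) : ¬ Involves S4 G := fun e => by
  haveI : Fact (Nat.Prime 2) := ⟨Nat.prime_two⟩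
  obtain ⟨φ, h1, h2, h3⟩ := exists_hom_S4
  have h4 := h.of_involves e _ _ ((pg_swap (Equiv.swap 0 1) (by decide)).comap_of_ker_isPGroup φ h2)
    ((pg_swap (Equiv.swap 1 2) (by decide)).comap_of_ker_isPGroup φ h2) fun e => by
      have h5 : φ.ker = ⊥ := eq_bot_iff.2 (e ▸ le_inf (ker_le_comap φ _) (ker_le_comap φ _))
      have h6 : Equiv.swap (0 : Fin 4) 1 ∈ φ.ker := h3 (by rw [h5]; simp [mem_centralizer_iff])
      rw [h5, mem_bot] at h6
      exact absurd h6 (by decide)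
  have h5 := h4.map φ
  rw [Subgroup.map_sup, map_comap_eq_self_of_surjective h1, map_comap_eq_self_of_surjective h1] at h5
  obtain ⟨k, hk⟩ := h5 ⟨Equiv.swap 0 1 * Equiv.swap 1 2,
    mul_mem (mem_sup_left (mem_zpowers _)) (mem_sup_right (mem_zpowers _))⟩
  have h6 := orderOf_dvd_of_pow_eq_one (congrArg Subtype.val hk)
  have h7 : orderOf (Equiv.swap (0 : Fin 3) 1 * Equiv.swap 1 2) = 3 :=
    haveI : Fact (Nat.Prime 3) := ⟨Nat.prime_three⟩
    orderOf_eq_prime (by decide) (by decide)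
  exact absurd (Nat.prime_three.dvd_of_dvd_pow (h7 ▸ h6)) (by decide)

end

section
variable {F : Type*} [Field F] [Finite F]

theorem s3_psl (h : (3 : F) ≠ 0) : Involves S3 PSL(2, F) := by
  let y : SL(2, F) := mk2 0 (-1) 1 (-1) (by simp)
  have h3 : pr F y ^ 3 = 1 := by
    rw [← map_pow, show y ^ 3 = 1 by
      simp only [y, pow_succ, pow_zero, one_mul, mk2_mul, one_eq_mk2, mk2_eq_iff]; simp, map_one]
  have h1 : pr F y ≠ 1 := fun e => by
    rcases pr_eq_one_iff.1 e with e | e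
    · simp [y, one_eq_mk2, mk2_eq_iff] at e
    · simp [y, one_eq_mk2, neg_mk2, mk2_eq_iff] at e
  obtain ⟨g, hg, e⟩ := exists_ss_of_pow h1 (n := 3) (by exact_mod_cast h) h3
  obtain ⟨w, h4, h5⟩ := exists_mem_Db hg
  exact inv3 h1 h3 (e ▸ conj_of_mem_Db (pr_ne_one_iff.1 (e ▸ h1)) h4 h5 (self_mem_Tb g))

theorem not_s3_psl (h : (3 : F) = 0) (h4 : Nat.card F % 4 = 3) : ¬ Involves S3 PSL(2, F) :=
  not_S3_of_ns3 fun a y k hy e => by_contra fun y1 => by
    obtain ⟨j, -, hj⟩ := (Nat.dvd_prime_pow Nat.prime_three).1 (orderOf_dvd_of_pow_eq_one hy)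
    have h0 : j ≠ 0 := fun e => y1 (orderOf_eq_one_iff.1 (by rw [hj, e, pow_zero]))
    obtain ⟨z, b, hb, e1⟩ := exists_conj_u_of_cast y1 (by rw [hj]; simp [h, h0])
    have e2 : (z * a * z⁻¹) * pr F (u b) * (z * a * z⁻¹)⁻¹ = pr F (u (-b)) := by
      rw [← u_inv, map_inv, ← e1, show z * a * z⁻¹ * (z * y * z⁻¹) * (z * a * z⁻¹)⁻¹ = z * (a * y * a⁻¹) * z⁻¹ by
        group, e]; group
    have h5 := mem_Bb_of_conj hb (e2 ▸ Ub_le_Bb (mem_Ub.2 ⟨_, rfl⟩))
    obtain ⟨x, hx⟩ := pr_surj (z * a * z⁻¹)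
    rw [← hx] at e2 h5
    rw [← map_inv, ← map_mul, ← map_mul, conj_u_of_mem_B (mem_Bb.1 h5)] at e2
    have h6 := pr_u_inj e2
    have := Fintype.ofFinite F
    refine FiniteField.isSquare_neg_one_iff.1 ⟨x.1 0 0, mul_right_cancel₀ hb (by linear_combination -h6)⟩ ?_
    rwa [← Nat.card_eq_fintype_card]

theorem ab_psl_even (h : (2 : F) = 0) : AbSyl 2 (⊤ : Subgroup PSL(2, F)) := by
  haveI : Fact (Nat.Prime 2) := ⟨Nat.prime_two⟩
  haveI : CharP F 2 := (CharP.charP_iff_prime_eq_zero Nat.prime_two).2 (by exact_mod_cast h)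
  exact abSyl_top_of_sylow (sylowUb F 2) ⟨⟨fun a b => Subtype.ext (Ub_comm a.2 b.2)⟩⟩

theorem ab_psl_odd (h : Nat.card F % 8 = 3 ∨ Nat.card F % 8 = 5) : AbSyl 2 (⊤ : Subgroup PSL(2, F)) := by
  haveI : Fact (Nat.Prime 2) := ⟨Nat.prime_two⟩
  obtain ⟨P⟩ : Nonempty (Sylow 2 PSL(2, F)) := inferInstance
  have := CA.PSL2Four.isKleinFour_sylow h P
  exact abSyl_top_of_sylow P ⟨⟨mul_comm_of_exponent_two IsKleinFour.exponent_two⟩⟩

theorem s3_psu [Fintype F] {n : ℕ} (hn : 1 ≤ n) (hF : Fintype.card F = (2 ^ n) ^ 2) : Involves S3 (PSU 3 F (2 ^ n)) := by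
  haveI : CharP F 2 := charP_of_card_eq_prime_pow (hp := ⟨Nat.prime_two⟩) (hF.trans (pow_mul 2 n 2).symm)
  have h2 : (1 : F) + 1 = 0 := by rw [one_add_one_eq_two]; exact CharP.cast_eq_zero F 2
  have h3 : (-1 : F) = 1 := by linear_combination -h2
  obtain ⟨π, -, hπ⟩ := exists_π hF
  let y : SJ hF := mkS !![0, 0, 1; 0, 1, 0; 1, 0, 1] (by simp [Matrix.det_fin_three, h3]) (by
    ext i j; fin_cases i <;> fin_cases j <;> simp [J, Matrix.mul_apply, Fin.sum_univ_three, h2])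
  let a : SJ hF := mkS !![0, 0, 1; 0, 1, 0; 1, 0, 0] (by simp [Matrix.det_fin_three, h3]) (by
    ext i j; fin_cases i <;> fin_cases j <;> simp [J, Matrix.mul_apply, Fin.sum_univ_three])
  have e1 : y * y * y = 1 := en_inj (by
    simp only [en_mul, y, en_mkS, en_one]
    ext i j; fin_cases i <;> fin_cases j <;> simp [Matrix.mul_apply, Fin.sum_univ_three, h2])
  have e2 : y * a * y = a := en_inj (by
    simp only [en_mul, y, a, en_mkS]
    ext i j; fin_cases i <;> fin_cases j <;> simp [Matrix.mul_apply, Fin.sum_univ_three, h2])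
  haveI : Finite (PSU 3 F (2 ^ n)) := inferInstance
  refine inv3 (a := π a) (y := π y) (fun e => ?_) (by rw [← map_pow, pow_three', e1, map_one]) (by
    rw [mul_inv_eq_iff_eq_mul, eq_inv_mul_iff_mul_eq, ← map_mul, ← map_mul, ← mul_assoc, e2])
  have h4 := congrArg (fun g => en hF g 0 2) (mem_center_iff.1 (hπ ▸ MonoidHom.mem_ker.2 e) a)
  simp [en_mul, y, a, en_mkS, Matrix.mul_apply, Fin.sum_univ_three] at h4

end

section
variable {G : Type*} [Group G] [Finite G]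

theorem sz3 (h : Lie.IsoSuzuki G) : ¬ 3 ∣ Nat.card G := by
  obtain ⟨m, -, e⟩ := CA.SuzCor.card_of_iso h
  have h1 : 2 ^ (2 * m + 1) % 3 = 2 := by rw [pow_succ, pow_mul, Nat.mul_mod, Nat.pow_mod]; simp
  obtain ⟨k, hk⟩ : ∃ k, 2 ^ (2 * m + 1) = 3 * k + 2 := ⟨_, (Nat.div_add_mod _ 3).symm.trans (by rw [h1])⟩
  rw [e, hk, show 3 * k + 2 - 1 = 3 * k + 1 by omega, show (3 * k + 2) ^ 2 = 3 * (3 * k * k + 4 * k + 1) + 1 by ring]
  simp only [Nat.prime_three.dvd_mul]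
  omega

theorem s3_jt (h : J1.JT G) : Involves S3 G := by
  obtain ⟨g, hg⟩ := h.ex_order (n := 6) (by simp)
  have h3 : orderOf (g ^ 2) = 3 := by rw [orderOf_pow' _ two_ne_zero, hg]; rfl
  obtain ⟨-, b, -, -, e⟩ := h.odd35 (a := g ^ 3) (Or.inl rfl) (by rw [orderOf_pow' _ three_ne_zero, hg]; rfl) h3
    (pow_mul_comm ..)
  exact inv3 (fun e => by simp [e] at h3) (h3 ▸ pow_orderOf_eq_one _) e

theorem ab_jt (h : J1.JT G) : AbSyl 2 (⊤ : Subgroup G) := fun T _ hT =>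
  ⟨⟨fun a b => Subtype.ext (J1.comm_of_sq (fun g hg => by
    obtain ⟨k, hk⟩ := hT ⟨g, hg⟩
    replace hk : g ^ 2 ^ k = 1 := congrArg Subtype.val hk
    clear hT hg a b
    induction k generalizing g with
    | zero => simp_all
    | succ k ih => exact h.no4 (by rw [show g ^ 4 = g ^ 2 * g ^ 2 by group]; exact ih _ (by rw [← pow_mul, ← pow_succ', hk])))
    a.2 b.2)⟩⟩

end

end CA.S4T
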