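import Cfsg.Agent.Lib.Grp.S4F7
import Cfsg.Agent.Lib.Loc.H6Ctl
import Cfsg.Agent.Lib.Fus.FusSec
import Cfsg.Agent.S1996
import Cfsg.Agent.S2761

/-! Families of characteristic functors do not control fusion in `Qd(p)`. -/

set_option autoImplicit false
set_option linter.unusedSectionVars false

namespace CA.S4T

open Subgroup Cfsg CA.Amb CA.AmbSyl CA.AmbCore CA.AmbChar CA.H6Ctl CA.CFun CA.S4F CA.H6Stab CA.H6NPC

universe u

variable {p : ℕ} [hp : Fact p.Prime] {G : Type u} [Group G] [Finite G]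

theorem not_fsf_qd {𝓦 : Set (∀ (Q : Type u) [Group Q], Subgroup Q)} (h𝓦 : ∀ W ∈ 𝓦, IsCharPFunctor.{u} p W)
    (e : G ≃* qdOver (ZMod p)) : ¬ FamilyControlsStrongFusionIn p (I 𝓦 G) ⊤ := by
  rintro ⟨S, -, h1, h2, h⟩
  have hS : SylIn p S ⊤ := sylIn_of_not_dvd le_top h1 h2
  have h2 := sylIn_map_top hS (f := e.toMonoidHom) e.surjective
  have hn : ∀ x, e x ∈ 𝐍 (S.map e.toMonoidHom) ↔ x ∈ 𝐍 S := fun x => by
    rw [← map_equiv_normalizer_eq]; exact mem_map_iff_mem e.injective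
  have hS0 : S ≠ ⊥ := fun h0 => H6Qd.normalizer_ne_top (F := ZMod p) h2 (by
    rw [h0, Subgroup.map_bot, normalizer_bot])
  have key : ∀ W ∈ 𝓦, 𝐍 (inducedFunctor W S) ≤ 𝐍 S := fun W hW x hx => by
    let e' := S.equivMapOfInjective e.toMonoidHom e.injective
    have h3 : (W S).Characteristic := characteristic_iff_map_eq.2 fun φ => (h𝓦 W hW).2 S S h1 φ
    have h4 := H6Qd.normalizer_char (F := ZMod p) h2 ((W S).map e'.toMonoidHom) (by
      rw [Ne, Subgroup.map_eq_bot_iff_of_injective _ e'.injective]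
      exact (h𝓦 W hW).1 S h1 ((nontrivial_iff_ne_bot S).2 hS0)) (char_map_equiv h3 e')
    have h5 : ((W S).map e'.toMonoidHom).map (S.map e.toMonoidHom).subtype =
        (inducedFunctor W S).map e.toMonoidHom := by rw [inducedFunctor, map_map, map_map]; rfl
    rw [← hn, ← h4, h5]
    exact norm_map _ (zpowers_le.2 hx) (mem_map_of_mem _ (mem_zpowers x))
  have hc : CharP p (⊤ : Subgroup G) := by
    rw [← charP_map_iff (f := e.toMonoidHom) e.injective, map_top_of_surjective _ e.surjective]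
    exact H6Qd.charP_qd (F := ZMod p)
  have hO : pCore p G ≤ S := by rw [← pCoreOf_top]; exact pCoreOf_le_syl hS
  refine H6Qd.normalizer_ne_top (F := ZMod p) h2 (eq_top_iff.2 fun y _ => ?_)
  obtain ⟨x, rfl⟩ := e.surjective y
  obtain ⟨n, c, c0, c1, -, c2⟩ := h (pCore p G) x (mem_top x) hO (by
    rintro _ ⟨a, ha, rfl⟩; exact hO (Normal.conj_mem inferInstance a ha x))
  have c3 : ∀ i, c i ∈ 𝐍 S := fun i => by
    induction i using Fin.induction with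
    | zero => exact c0 ▸ one_mem _
    | succ i ih =>
      obtain ⟨_, ⟨W, hW, rfl⟩, h6⟩ := c1 i
      simpa using mul_mem (key W hW h6.2) ih
  have c4 : (c (Fin.last n))⁻¹ * x ∈ 𝐍 S :=
    le_normalizer (hO (charP_top_iff.1 hc (mem_cent_of_eq c2)))
  exact (hn x).2 (by simpa using mul_mem (c3 (Fin.last n)) c4)

theorem not_qd_of_fsf {𝓦 : Set (∀ (Q : Type u) [Group Q], Subgroup Q)} (h𝓦 : ∀ W ∈ 𝓦, IsCharPFunctor.{u} p W)
    (h : ∀ (K R : Subgroup G) [(R.subgroupOf K).Normal], FamilyControlsStrongFusionIn p (I 𝓦 (K ⧸ R.subgroupOf K)) ⊤) :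
    ¬ Involves (qd p) G := fun ⟨K, R, _, ⟨e⟩⟩ => not_fsf_qd h𝓦 e (h K R)

def fZ (Q : Type u) [Group Q] : Subgroup Q := H6J.Z ⊤
def fJ (Q : Type u) [Group Q] : Subgroup Q := H6J.J 2 ⊤
def fZJ (Q : Type u) [Group Q] : Subgroup Q := H6J.Z (H6J.J 0 ⊤)

/-- the pair `Z`, `J` -/
def ZJ : Set (∀ (Q : Type u) [Group Q], Subgroup Q) := {@fZ, @fJ}

theorem charP_ZJ : ∀ W ∈ ZJ.{u}, IsCharPFunctor.{u} 2 W := by
  rintro _ (rfl | rfl)
  exacts [charP_Z, charP_J 2 dvd_rfl]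

theorem I_ZJ : I ZJ G = {fun P => P ⊓ 𝐂 P, fun P => thompsonSubgroupOf 2 P} := by
  rw [I, ZJ, Set.image_pair, funext (H6J.thompsonSubgroupOf_eq 2)]
  exact congrArg₂ _ (funext induced_Z) (congrArg _ (funext (induced_J 2)))

theorem fsf_ZJ (h4 : ¬ Involves S4 G) (hs : ∀ (K R : Subgroup G) [(R.subgroupOf K).Normal],
    𝐂 (pCore 2 (K ⧸ R.subgroupOf K)) ≤ pCore 2 (K ⧸ R.subgroupOf K) →
      IsCompositionKGroupWith IsSuzukiOrPSL2OddPowerThree (K ⧸ R.subgroupOf K)) :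
    FamilyControlsStrongFusionIn 2 (I ZJ G) ⊤ := by
  haveI : Fact (Nat.Prime 2) := ⟨Nat.prime_two⟩
  rw [I, ZJ, Set.image_pair]
  refine Cfsg.Agent.S1996.result _ _ charP_Z (charP_J 2 dvd_rfl) fun K R _ hc T x => ?_
  obtain ⟨c, h1, n, h2, e⟩ := (triple' hc (fun b => h4 (Fus.involves_of_inj _ K.subtype_injective
    (Fus.involves_of_surj _ (QuotientGroup.mk'_surjective _) b))) (hs K R hc) T).1 x
  rw [← induced_J] at h2
  rw [← induced_Z] at h1
  exact ⟨c, centralizer_le_normalizer _ h1, n, h2, e⟩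

theorem s4_iff_qd {X : Type*} [Group X] : Involves S4 X ↔ Involves (qd 2) X :=
  let ⟨e⟩ := Cfsg.Agent.S2761.result
  ⟨fun ⟨K, R, h, ⟨f⟩⟩ => ⟨K, R, h, ⟨f.trans e.symm⟩⟩, fun ⟨K, R, h, ⟨f⟩⟩ => ⟨K, R, h, ⟨f.trans e⟩⟩⟩

theorem charP_zj0 : IsCharPFunctor.{u} p fZJ :=
  ⟨fun Q _ _ hQ _ => H6J.Z_ne_bot (hQ.to_subgroup _) (H6J.J_ne_bot (dvd_zero p) (by
      rw [card_top]; exact hQ.card_eq_or_dvd.resolve_left Finite.one_lt_card.ne')),
    fun Q R _ _ _ _ φ => by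
      rw [fZJ, fZJ, ← H6J.Z_map φ.injective, ← H6J.J_map φ.injective, map_top_of_surjective _ φ.surjective]⟩

theorem fsf_zj0 (hp2 : p ≠ 2) (h : ¬ Involves (qd p) G) :
    FamilyControlsStrongFusionIn p (I {@fZJ} G) ⊤ := by
  obtain ⟨S⟩ : Nonempty (Sylow p G) := inferInstance
  have h1 := ctl_of_free hp2 (dvd_zero p) fn_id (mt involves_iff.2 h) (sylIn_top S) le_rfl (sc_self _ _)
  rw [I, Set.image_singleton, fsf_iff (single_cf (cf_induced charP_zj0)) (SylIn.isSylowIn_top S),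
    sf_single (cf_induced (p := p) charP_zj0), inducedFunctor, fZJ, ← H6J.Z_map (subtype_injective _), H6J.J_top_map_subtype]
  exact fun D g h2 h3 h4 => h1 D h2 g h3 h4

end CA.S4T
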