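import Cfsg.Agent.Lib.Fus.FusCtl
import Cfsg.Agent.Lib.Loc.H6Dih
import Cfsg.Agent.Lib.Loc.H6W
import Cfsg.Agent.S5089

/-! Fusion systems controlled by a pair of functors. -/

set_option autoImplicit false
set_option linter.unusedSectionVars false

namespace CA.S4T

open Cfsg Subgroup CA.AmbSyl CA.AmbCore CA.Fus Relation
open Cfsg.FusionSystem (normalizerIn centralizerIn)
open CA.H6NPC (Fn fn_omega fn_Z)
open CA.H6W (OZ)
open CA.AmbChar (CharP)

universe u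

variable {p : ℕ} [Fact p.Prime] {Ω : Type u} [Group Ω] {S : Subgroup Ω} [Finite S] {F : FusionSystem S}
  {P U V : Subgroup Ω} {k : Ω → Ω}

theorem nle_tr {E : FusionSystem S} (hk : Mor F (normalizerIn S U) k) (hk' : Mor E (normalizerIn S U) k)
    (hU : U ≤ S) (h : NLe F (img k U) E) : NLe F U E := fun P f hf => by
  obtain ⟨h1, g, hg, e1, e2⟩ := kMor_top.1 hf
  obtain ⟨k', i⟩ := hk.iso
  have h2 : P ⊔ U ≤ normalizerIn S U := sup_le h1 (le_normIn hU)
  have h3 : ∀ x ∈ P ⊔ U, g x ∈ normalizerIn S U := fun x hx => e2 ▸ hg.map_normIn le_sup_right hx (h2 hx).2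
  have h4 : Mor F (img k (P ⊔ U)) fun y => k (g (k' y)) :=
    (((i.restrict h2).mor').comp hg (i.restrict h2).mapg).comp hk fun y hy => h3 _ ((i.restrict h2).mapg y hy)
  rw [(hk.hom.mono h2).img_sup] at h4
  haveI := fin_le (hk.img_le' (le_normIn hU))
  have h5 := h (img k P) (fun y => k (g (k' y))) (kMor_top.2 ⟨img_le_iff.2 fun x hx =>
    hk.map_normIn (le_normIn hU) (h1 hx) (h1 hx).2, _, h4, fun _ _ => rfl,
    (h4.mono le_sup_right).img_eq_of_maps fun y hy => mem_img_of_mem k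
      (e2 ▸ mem_img_of_mem g ((i.restrict (le_normIn hU)).mapg y hy))⟩)
  refine (((hk'.mono h1).comp h5 fun x hx => mem_img_of_mem k hx).comp (hk'.of_hIso i.toHIso) fun x hx =>
    mem_img_of_mem k (by rw [i.gf x (h1 hx)]; exact h3 x (mem_sup_left hx))).congr fun x hx => ?_
  rw [i.gf x (h1 hx), i.gf _ (h3 x (mem_sup_left hx)), e1 x hx]

section
variable {G : Type u} [Group G] [Finite G] {T : Subgroup G} {j : Ω → G} {j' : G → Ω}

theorem mdl_step {S' : Subgroup Ω} {E : FusionSystem S'} (m : Mdl F p T j j') (hU : U ≤ S)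
    (hn : S ≤ normalizer (U : Set Ω)) (hE : NLe F U E) {g : G} (hg : g ∈ normalizer (img j U : Set G))
    {P' : Subgroup G} (hP : P' ≤ T) (hm : ∀ x ∈ P', g * x * g⁻¹ ∈ T) :
    Mor E (img j' P') fun x => j' (g * j x * g⁻¹) :=
  hE _ _ (m.toFIso.kMor_back hU (kMor_group (m.img_le hU) hg (by
    rw [← m.img_normIn' hU, normIn_eq_of_le hn, m.img_eq]; exact hP) hm))

theorem mdl_conj (m : Mdl F p T j j') {f : Ω → Ω} (hf : Mor F P f) : ∃ g, ∀ x ∈ P, j (f x) = g * j x * g⁻¹ := by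
  obtain ⟨-, -, g, e⟩ := mor_group.1 (m.fwd hf)
  exact ⟨g, fun x hx => by rw [← e _ (mem_img_of_mem j hx), m.gf x (hf.le hx)]⟩

theorem split_conj (hT : SylIn p T ⊤) {A B D : Subgroup G} (hA : T ≤ normalizer (A : Set G))
    (hB : T ≤ normalizer (B : Set G)) (hD : D ≤ T) {a b : G} (ha : a ∈ normalizer (A : Set G))
    (hb : b ∈ normalizer (B : Set G)) (h : ∀ x ∈ D, a * b * x * (a * b)⁻¹ ∈ T) :
    ∃ y ∈ normalizer (A : Set G), ∃ z ∈ normalizer (B : Set G), a * b = y * z ∧ ∀ x ∈ D, z * x * z⁻¹ ∈ T := by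
  obtain ⟨m, hm, e⟩ := (hT.mono (le_inf hA hB) le_top).exists_conj_le ((hT.pg.to_le hD).map (MulAut.conj b).toMonoidHom)
    (by
      rintro _ ⟨x, hx, rfl⟩
      refine mem_inf.2 ⟨?_, mul_mem (mul_mem hb (hB (hD hx))) (inv_mem hb)⟩
      have := mul_mem (mul_mem (inv_mem ha) (hA (h x hx))) ha
      simpa [mul_assoc] using this)
  refine ⟨a * m⁻¹, mul_mem ha (inv_mem hm.1), m * b, mul_mem hm.2 hb, by group, fun x hx => ?_⟩
  simpa [mul_assoc] using e ⟨_, ⟨x, hx, rfl⟩, rfl⟩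

theorem mdl_pair {S' : Subgroup Ω} {E : FusionSystem S'} (m : Mdl F p T j j') (hU : U ≤ S) (hV : V ≤ S)
    (hn : S ≤ normalizer (U : Set Ω)) (hn' : S ≤ normalizer (V : Set Ω)) (h1 : NLe F U E) (h2 : NLe F V E)
    (h : ∀ g : G, ∃ a ∈ normalizer (img j U : Set G), ∃ b ∈ normalizer (img j V : Set G), g = a * b) :
    F.IsSubsystemOf E := sub_iff.2 fun P f hf => by
  obtain ⟨g, e⟩ := mdl_conj m hf
  obtain ⟨a, ha, b, hb, rfl⟩ := h g
  have n : ∀ {U}, U ≤ S → S ≤ normalizer (U : Set Ω) → T ≤ normalizer (img j U : Set G) := fun hU hn => by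
    rw [← m.img_eq]; exact img_le_iff.2 fun x hx => (m.apply_mem_normalizer hU hx).2 (hn hx)
  have h3 : ∀ x ∈ img j P, a * b * x * (a * b)⁻¹ ∈ T := fun y hy => by
    obtain ⟨x, hx, rfl⟩ := (m.hom.mono hf.le).mem_img.1 hy
    exact e x hx ▸ m.mapf _ (hf.mem hx)
  obtain ⟨y, hy, z, hz, e1, e2⟩ := split_conj m.syl (n hU hn) (n hV hn') (m.img_le hf.le) ha hb h3
  have h4 := mdl_step m hV hn' h2 hz (m.img_le hf.le) e2
  rw [m.img_img hf.le] at h4
  have h5 := mdl_step m hU hn h1 hy (P' := img (cj z) (img j P)) (img_le_iff.2 e2) fun x hx => by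
    simpa [e1, mul_assoc] using h3 _ (mem_img_cj.1 hx)
  refine (h4.comp h5 fun x hx => mem_img_of_mem j' (mem_img_of_mem (cj z) (mem_img_of_mem j hx))).congr
    fun x hx => ?_
  rw [m.fg _ (e2 _ (mem_img_of_mem j hx)), ← m.gf _ (hf.mem hx), e x hx, e1]
  congr 1; group

theorem mdl_aut (m : Mdl F p T j j') (hU : U ≤ S) (hn : S ≤ normalizer (U : Set Ω)) {g : G}
    (hg : g ∈ normalizer (img j U : Set G)) : ∃ α ∈ F.autGroup U, ∀ x ∈ U, j (act α x) = g * j x * g⁻¹ := by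
  have h1 := fun x (hx : x ∈ img j U) => conj_mem_of_norm hg hx
  have h2 := mdl_step m hU hn (fun _ _ h => h.mor) hg (m.img_le hU) fun x hx => m.img_le hU (h1 x hx)
  rw [m.img_img hU] at h2
  haveI := fin_le hU
  obtain ⟨_, i⟩ := h2.iso_self fun x hx => (m.restrict hU).mapg _ (h1 _ (mem_img_of_mem j hx))
  obtain ⟨α, h3, e⟩ := i.exists_aut
  exact ⟨α, h3, fun x hx => by rw [e x hx, m.fg _ (m.img_le hU (h1 _ (mem_img_of_mem j hx)))]⟩

end

/-- the closure of `Z` under `Aut_F(U)` -/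
def orb (F : FusionSystem S) (Z U : Subgroup Ω) : Subgroup Ω :=
  closure {y | ∃ α ∈ F.autGroup U, ∃ z ∈ Z, y = act α z}

theorem le_orb (Z U : Subgroup Ω) : Z ≤ orb F Z U := fun z hz => subset_closure ⟨1, one_mem _, z, hz, (act_one z).symm⟩

theorem orb_le {Z : Subgroup Ω} (h : Z ≤ U) : orb F Z U ≤ U := (closure_le _).2 (by
  rintro _ ⟨α, -, z, hz, rfl⟩; exact act_mem α (h hz))

theorem orb_inv {Z : Subgroup Ω} (h : Z ≤ U) (hU : U ≤ S) {α : MulAut U} (hα : α ∈ F.autGroup U) :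
    img (act α) (orb F Z U) = orb F Z U :=
  haveI := fin_le ((orb_le (F := F) h).trans hU)
  (((mem_aut hU).1 hα).mono (orb_le h)).img_eq_of_maps ((homOn_act α).maps_closure (orb_le h) (by
    rintro _ ⟨β, hβ, z, hz, rfl⟩
    exact subset_closure ⟨α * β, mul_mem hα hβ, z, hz, (act_mul α β z).symm⟩))

variable {W V : ∀ {G : Type u} [Group G], Subgroup G → Subgroup G} {H : Type*} [Group H]

theorem fn_OZ : Fn.{u} p fun X => OZ p X := fn_omega.comp fn_Z

theorem orb_le_orb (hS : IsPGroup p S) (hW : Fn p W) (hV : Fn p V) (h1 : OZ p S ≤ W S) (h2 : OZ p S ≤ V S)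
    {D : FusionSystem S} (hD : IsKN F (⊤ : Subgroup (MulAut (W S))) D) {G : Type u} [Group G] [Finite G]
    {T : Subgroup G} {j : Ω → G} {j' : G → Ω} (m : Mdl D p T j j')
    (h : ∀ g : G, ∃ c ∈ centralizer (OZ p T : Set G), ∃ n ∈ normalizer (V T : Set G), g = c * n) :
    orb F (OZ p S) (W S) ≤ orb F (OZ p S) (V S) := (closure_le _).2 (by
  rintro _ ⟨α, hα, z, hz, rfl⟩
  obtain ⟨g, e⟩ := mdl_conj m ((mem_aut (hW.le S)).1 (NLe.aut_le hD.kLe (hW.le S) hα))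
  obtain ⟨c, hc, n, hn, e1⟩ := h g⁻¹
  rw [← fn_iso hV hS m.toHIso] at hn
  rw [← fn_iso fn_OZ hS m.toHIso] at hc
  obtain ⟨β, hβ, e2⟩ := mdl_aut m (hV.le S) (fn_norm' hV hS) (inv_mem hn)
  refine subset_closure ⟨β, ((mem_aut (hV.le S)).1 hβ).sub hD.sub |>.mem_aut fun _ _ => rfl, z, hz,
    m.inj _ (hW.le S (act_mem α (h1 hz))) _ (hV.le S (act_mem β (h2 hz))) ?_⟩
  rw [e z (h1 hz), e2 z (h2 hz), e1, inv_eq_iff_eq_inv.1 e1, mul_inv_rev, mul_assoc n⁻¹, ← mul_assoc,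
    mul_assoc n⁻¹, mul_assoc c⁻¹, mem_centralizer_iff.1 hc _ (mem_img_of_mem j hz)]
  group)

/-- the factorizations needed -/
def Tri (p : ℕ) (W V : ∀ {G : Type u} [Group G], Subgroup G → Subgroup G) (H : Type*) [Group H] : Prop :=
  ∀ (G : Type u) [Group G] [Finite G] (T : Subgroup G), SylIn p T ⊤ → CharP p (⊤ : Subgroup G) → ¬ Involves H G →
    (∀ g : G, ∃ c ∈ centralizer (OZ p T : Set G), ∃ n ∈ normalizer (W T : Set G), g = c * n) ∧
    (∀ g : G, ∃ c ∈ centralizer (OZ p T : Set G), ∃ n ∈ normalizer (V T : Set G), g = c * n) ∧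
    ∀ g : G, ∃ a ∈ normalizer (W T : Set G), ∃ b ∈ normalizer (V T : Set G), g = a * b

theorem pair_ctl (hW : Fn p W) (hV : Fn p V) (hG : Tri p W V H) (hS : IsPGroup p S) (hF : F.IsSaturated p)
    (hf : F.IsSectionFree p H) (ih : ∀ {T : Subgroup Ω} [Finite T] (D : FusionSystem T) (Q : Subgroup Ω), Q ≠ ⊥ →
      Loc F p D → IsKN F (⊤ : Subgroup (MulAut Q)) D → D.IsConstrained p)
    {E : FusionSystem S} (h1 : NLe F (W S) E) (h2 : NLe F (V S) E) : F.IsSubsystemOf E := by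
  refine sub_iff.2 fun P f hf' => alperin_core hS hF (fun P hP big => ?_) hf'
  by_cases h0 : P = ⊥
  · subst h0
    exact fun α _ => by rw [Subsingleton.elim α 1]; exact one_mem _
  have key : ∀ N, N ≤ S → Nat.card P ≤ Nat.card N → ∀ Q, Q ≠ ⊥ → F.IsFullyNormalized Q → normalizerIn S Q = N →
      NLe F Q E := by
    refine down_induction fun N hN ih' hc Q q1 hQ e => ?_
    haveI := fin_le hN
    have hNp := hS.to_le hN
    have up : ∀ {W : ∀ {G : Type u} [Group G], Subgroup G → Subgroup G}, Fn p W → NLe F (W S) E → NLe F (W N) E :=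
      fun {W} hW h1 => by
        rcases hN.eq_or_lt with rfl | hlt
        · exact h1
        have hR : W N ≤ S := (hW.le N).trans hN
        have h3 : Nat.card N < Nat.card (normalizerIn S (W N)) :=
          card_lt_of_lt ((lt_normIn hS hlt).trans_le fun s hs => ⟨hs.1, fn_norm hW hNp hs.2⟩)
        obtain ⟨R, h4, h5⟩ := exists_fullyNorm F hR
        obtain ⟨k, hk, rfl⟩ := sat_normIn_mor hS hF h5 h4
        have h6 := h3.trans_le (h5.2 _ (conj_symm h4))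
        refine nle_tr hk (big _ k (hc.trans_lt h3) hk) hR (ih' _ (normIn_le _ _) h6 (hc.trans h6.le) _ (fun h => ?_) h5 rfl)
        haveI := fin_le hR
        refine fn_ne hW hNp (fun h => q1 (eq_bot_iff.2 (h ▸ e ▸ le_normIn hQ.1))) ?_
        rw [← card_eq_one, ← conj_card h4, h, card_bot]
    subst e
    obtain ⟨D, hD, hD'⟩ := loc_norm hS hF hQ
    obtain ⟨G, _, _, T, j, j', m, h3⟩ := exists_mdl (c := False) hNp (ih D Q q1 hD hD') (.inr (hD.free hS hF hf))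
    refine hD'.sub_iff.1 (mdl_pair m (hW.le _) (hV.le _) (fn_norm' hW hNp) (fn_norm' hV hNp) ((up hW h1).sub hD.sub)
      ((up hV h2).sub hD.sub) ?_)
    rw [fn_iso hW hNp m.toHIso, fn_iso hV hNp m.toHIso]
    exact (hG G T m.syl m.ch (h3.resolve_left id)).2.2
  exact (key _ (normIn_le S P) (card_le_of_le (le_normIn hP.1)) P h0 hP rfl).aut_le hP.1

theorem core_ne (hW : Fn p W) (hV : Fn p V) (hG : Tri p W V H) (hS : IsPGroup p S) (hF : F.IsSaturated p)
    (hf : F.IsSectionFree p H) (z1 : OZ p S ≤ W S) (z2 : OZ p S ≤ V S) (h0 : S ≠ ⊥)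
    (ih : ∀ {T : Subgroup Ω} [Finite T] (D : FusionSystem T), Loc F p D → ¬ F.IsSubsystemOf D → D.IsConstrained p) :
    F.core ≠ ⊥ := fun hc => by
  have ih' : ∀ {T : Subgroup Ω} [Finite T] (D : FusionSystem T) (Q : Subgroup Ω), Q ≠ ⊥ →
      Loc F p D → IsKN F (⊤ : Subgroup (MulAut Q)) D → D.IsConstrained p := fun D Q q1 hD hD' =>
    ih D hD fun h => q1 (eq_bot_iff.2 (hc ▸ le_core (hD'.normal_of_sub h)))
  obtain ⟨D1, d1, e1⟩ := loc_norm' hS hF (hW.le S) (fn_norm' hW hS)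
  obtain ⟨D2, d2, e2⟩ := loc_norm' hS hF (hV.le S) (fn_norm' hV hS)
  obtain ⟨G1, _, _, T1, j1, j1', m1, f1⟩ := exists_mdl (c := False) hS (ih' D1 _ (fn_ne hW hS h0) d1 e1)
    (.inr (d1.free hS hF hf))
  obtain ⟨G2, _, _, T2, j2, j2', m2, f2⟩ := exists_mdl (c := False) hS (ih' D2 _ (fn_ne hV hS h0) d2 e2)
    (.inr (d2.free hS hF hf))
  have e := le_antisymm (orb_le_orb hS hW hV z1 z2 e1 m1 (hG G1 T1 m1.syl m1.ch (f1.resolve_left id)).2.1)
    (orb_le_orb hS hV hW z2 z1 e2 m2 (hG G2 T2 m2.syl m2.ch (f2.resolve_left id)).1)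
  obtain ⟨E, -, hE⟩ := loc_norm' hS hF ((orb_le (F := F) z1).trans (hW.le S)) fun s hs => img_cj_eq_iff.1
    ((img_congr fun x hx => act_cjA (fn_norm' hW hS hs) (orb_le z1 hx)).symm.trans
      (orb_inv z1 (hW.le S) (cjA_mem_aut F (hW.le S) ⟨hs, fn_norm' hW hS hs⟩)))
  have h1 : NLe F (W S) E := NLe.of_inv hE.kLe (orb_le z1) fun _ => orb_inv z1 (hW.le S)
  rw [e] at hE
  have h := le_core (hE.normal_of_sub (pair_ctl hW hV hG hS hF hf ih' h1
    (NLe.of_inv hE.kLe (orb_le z2) fun _ => orb_inv z2 (hV.le S))))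
  exact fn_ne fn_OZ hS h0 (eq_bot_iff.2 (hc ▸ (le_orb _ _).trans h))

theorem solv_ind (h : ∀ {Ω : Type u} [Group Ω] {S : Subgroup Ω} [Finite S] (F : FusionSystem S), IsPGroup p S →
      F.IsSaturated p → F.IsSectionFree p H → S ≠ ⊥ → (∀ {T : Subgroup Ω} [Finite T] (D : FusionSystem T),
        Loc F p D → ¬ F.IsSubsystemOf D → D.IsConstrained p) → F.core ≠ ⊥) (F : FusionSystem S) :
    IsPGroup p S → F.IsSaturated p → F.IsSectionFree p H → SolvC F := by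
  refine fus_ind (M := fun {Ω} _ {S} _ F => IsPGroup p S → F.IsSaturated p → F.IsSectionFree p H → SolvC F)
    (fun {Ω} _ {S} _ F ih ih' hS hF hf => ?_) F
  by_cases h0 : S = ⊥
  · subst h0; exact ReflTransGen.refl
  obtain ⟨Q, q1, q2, q3⟩ := (Cfsg.Agent.S5089.result p hS F hF).1 (h F hS hF hf h0 fun D hD hn =>
    (ih' D hD.sub hn (hS.to_le hD.le) hD.sat (hD.free hS hF hf)).constrained (hS.to_le hD.le) hD.sat)
  obtain ⟨Ω', _, S', _, E, θ, q, e, h1, h2, h3⟩ := exists_quo_core (c := False) hS hF (.inr hf) q3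
  refine ReflTransGen.head ⟨bot_le, q3, (commutator_eq_bot_iff_le_centralizer.2 (le_centralizer Q)).le⟩ ?_
  exact e ▸ (ih E (q.card_lt (e ▸ q1)) h1 h2 (h3.resolve_left id)).pre q

theorem free_of_aut (hS : IsPGroup 2 S) (h3 : ∀ U, U ≤ S → ¬ Involves (Equiv.Perm (Fin 3)) (F.autGroup U)) :
    F.IsSectionFree 2 (Equiv.Perm (Fin 4)) := fun Q hQ _ N hN L _ ι hL h4 => by
  haveI : Fact (Nat.Prime 2) := ⟨Nat.prime_two⟩
  haveI := hL.1
  obtain ⟨T, h1, h2⟩ := H6Dih.involves_S4_iff.1 h4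
  obtain ⟨g, -, hg⟩ := (model_syl hL).exists_conj_le h1 le_top
  obtain ⟨j', i⟩ := rz_fIso hL.2.1
  have h5 := h2.map_injective (f := (MulAut.conj g).toMonoidHom) (MulAut.conj g).injective
  rw [← Amb.cj, ← Amb.cj, Amb.cj_normalizer, Amb.cj_centralizer] at h5
  generalize Amb.cj g T = U at h5 hg
  have hU : img j' U ≤ normalizerIn S Q := i.symm.img_le hg
  have h6 := H6Ctl2.sec_map_of_ker U.normalizerMonoidHom (H := ⊤) (X := Equiv.Perm (Fin 3)) (by
    obtain ⟨K, hK, ψ, h7, h8⟩ := h5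
    rw [normalizerMonoidHom_ker]
    exact ⟨K.subgroupOf _, le_top, ψ.comp (subgroupOfEquivOfLe hK).toMonoidHom,
      h7.comp (subgroupOfEquivOfLe hK).surjective, fun x hx => h8 _ hx⟩)
  have h7 := (h6.mono (H' := (groupFusionSystem ι.range).autGroup U) (by
    rintro _ ⟨x, -, rfl⟩
    rw [aut_group hg]
    exact subset_closure ⟨x, mem_top _, fun _ => rfl⟩) le_rfl).map_injective
    (f := (i.symm.restrict hg).tr.toMonoidHom) (i.symm.restrict hg).tr.injective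
  rw [i.symm.map_aut hg, Subgroup.map_bot] at h7
  exact h3 _ (hU.trans (normIn_le S Q)) (H6Stab.involves_iff.2 (H6Stab.sec_top_iff.2
    (h7.mono (aut_mono (normSys_sub hN) _) le_rfl)))

end CA.S4T
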