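import Cfsg.Agent.Lib.Lie.HigLin
import Cfsg.Agent.Lib.Lin.CFormFin

/-!
Invariant alternating maps on a finite field and the universal group of class two for minimal non-nilpotent groups.
-/

set_option autoImplicit false

namespace CA.Schm

open Subgroup
open scoped commutatorElement

universe u

section
variable {E : Type*} [Field E] {Z : Type*} [AddCommGroup Z] {ζ : E} (hζ : Subring.closure {ζ} = ⊤) (h0 : ζ ≠ 0)
  (B : E →+ E →+ Z) (hB : ∀ x y, B (ζ * x) (ζ * y) = B x y)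
include hζ h0 hB

theorem adj (R : E → E → Prop) (h1 : R ζ ζ⁻¹) (h2 : R 0 0) (h3 : R 1 1) (h4 : ∀ a b c d, R a b → R c d → R (a + c) (b + d))
    (h5 : ∀ a b, R a b → R (-a) (-b)) (h6 : ∀ a b c d, R a b → R c d → R (a * c) (b * d)) (c : E) :
    ∃ d, R c d ∧ ∀ x y, B (c * x) y = B x (d * y) := by
  have hc : c ∈ Subring.closure {ζ} := hζ ▸ Subring.mem_top c
  induction hc using Subring.closure_induction with
  | mem c hc =>
    rw [Set.mem_singleton_iff.1 hc]
    exact ⟨_, h1, fun x y => by rw [← hB x, mul_inv_cancel_left₀ h0]⟩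
  | zero => exact ⟨0, h2, by simp⟩
  | one => exact ⟨1, h3, by simp⟩
  | add a c _ _ ha hc =>
    obtain ⟨b, ha, e⟩ := ha
    obtain ⟨d, hc, e'⟩ := hc
    exact ⟨_, h4 _ _ _ _ ha hc, fun x y => by simp [add_mul, e, e']⟩
  | neg a _ ha =>
    obtain ⟨b, ha, e⟩ := ha
    exact ⟨_, h5 _ _ ha, fun x y => by simp [e]⟩
  | mul a c _ _ ha hc =>
    obtain ⟨b, ha, e⟩ := ha
    obtain ⟨d, hc, e'⟩ := hc
    exact ⟨_, h6 _ _ _ _ ha hc, fun x y => by rw [mul_assoc, e, e', mul_left_comm, mul_assoc]⟩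

theorem adj_hom (σ : E →+* E) (hσ : σ ζ = ζ⁻¹) (c x y : E) : B (c * x) y = B x (σ c * y) := by
  obtain ⟨d, rfl, h⟩ := adj hζ h0 B hB (fun a b => σ a = b) hσ σ.map_zero σ.map_one
    (by rintro a _ c _ rfl rfl; exact σ.map_add a c) (by rintro a _ rfl; exact σ.map_neg a)
    (by rintro a _ c _ rfl rfl; exact σ.map_mul a c) c
  exact h x y

theorem odd_zero [Finite E] {p q : ℕ} [Fact p.Prime] [CharP E p] (ho : orderOf ζ = q)
    (ha : Odd (orderOf (p : ZMod q))) (halt : ∀ x, B x x = 0) (x y : E) : B x y = 0 := by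
  by_contra hne
  choose s _ hs using adj hζ h0 B hB (fun _ _ => True) trivial trivial trivial (fun _ _ _ _ _ _ => trivial)
    (fun _ _ _ => trivial) fun _ _ _ _ _ _ => trivial
  have hu : ∀ c d, (∀ x y, B (c * x) y = B x (d * y)) → s c = d := fun c d h => by
    by_contra h1
    have h2 := sub_ne_zero.2 h1
    refine hne ?_
    rw [← mul_inv_cancel_left₀ h2 y, sub_mul, map_sub, ← hs, ← h, sub_self]
  let σ : E →+* E :=
    { toFun := s
      map_one' := hu _ _ (by simp)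
      map_zero' := hu _ _ (by simp)
      map_mul' := fun a b => hu _ _ fun x y => by rw [mul_assoc, hs, hs, mul_left_comm, mul_assoc]
      map_add' := fun a b => hu _ _ fun x y => by simp [add_mul, hs] }
  have hσ : σ ζ = ζ⁻¹ := hu _ _ fun x y => by rw [← hB x, mul_inv_cancel_left₀ h0]
  let _ := ZMod.algebra E p
  obtain ⟨i, hi⟩ := FiniteField.exists_forall_apply_eq_pow (ZMod p) p E (AlgEquiv.ofRingEquiv
    (f := RingEquiv.ofBijective σ (Finite.injective_iff_bijective.1 σ.injective)) fun x =>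
      DFunLike.congr_fun (RingHom.ext_zmod (σ.comp (algebraMap (ZMod p) E)) (algebraMap (ZMod p) E)) x)
  have h1 : ζ ^ p ^ i = ζ⁻¹ := by rw [← hσ, ← Nat.card_zmod p]; exact (hi ζ).symm
  have h2 : (p : ZMod q) ^ i = -1 := by
    have : q ∣ p ^ i + 1 := by rw [← ho, orderOf_dvd_iff_pow_eq_one, pow_succ, h1, inv_mul_cancel₀ h0]
    rw [← ZMod.natCast_eq_zero_iff] at this
    exact eq_neg_of_add_eq_zero_left (by exact_mod_cast this)
  have h3 : orderOf (p : ZMod q) ∣ i := (Nat.coprime_two_right.2 ha).dvd_of_dvd_mul_right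
    (orderOf_dvd_of_pow_eq_one (by rw [pow_mul, h2]; simp))
  have h4 : ζ * ζ = 1 := by
    rw [← pow_two, ← orderOf_dvd_iff_pow_eq_one, ho, ← ZMod.natCast_eq_zero_iff]
    rw [orderOf_dvd_iff_pow_eq_one.1 h3] at h2
    exact_mod_cast (by linear_combination h2 : (2 : ZMod q) = 0)
  have h5 : (Int.castRingHom E).range = ⊤ := eq_top_iff.2 (hζ.ge.trans (Subring.closure_le.2 (by
    rintro _ rfl
    rcases mul_self_eq_one_iff.1 h4 with e | e
    · exact ⟨1, by simp [e]⟩
    · exact ⟨-1, by simp [e]⟩)))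
  obtain ⟨m, rfl⟩ := RingHom.range_eq_top.1 h5 x
  obtain ⟨n, rfl⟩ := RingHom.range_eq_top.1 h5 y
  refine hne ?_
  rw [eq_intCast, eq_intCast, ← zsmul_one m, ← zsmul_one n, map_zsmul, map_zsmul, AddMonoidHom.zsmul_apply, halt]
  simp

end

section
variable {p q : ℕ} [Fact p.Prime] [Fact q.Prime]

theorem ord_dvd {R : Type*} [CommRing R] [IsDomain R] [Finite R] {c : R} (hc : orderOf c = q) {b : ℕ}
    (hb : Nat.card R = p ^ b) : orderOf (p : ZMod q) ∣ b := by
  classical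
  let _ := Fintype.ofFinite R
  let _ := Fintype.fieldOfDomain R
  have h0 : c ≠ 0 := by
    rintro rfl
    have := pow_orderOf_eq_one (0 : R)
    rw [hc, zero_pow (Fact.out : q.Prime).ne_zero] at this
    exact zero_ne_one this
  have h1 := orderOf_dvd_of_pow_eq_one (FiniteField.pow_card_sub_one_eq_one c h0)
  rw [← Nat.card_eq_fintype_card, hb] at h1
  replace h1 : q ∣ p ^ b - 1 := hc ▸ h1
  rw [← ZMod.natCast_eq_zero_iff, Nat.cast_sub (Nat.one_le_pow _ _ (Fact.out : p.Prime).pos), sub_eq_zero] at h1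
  exact orderOf_dvd_of_pow_eq_one (by exact_mod_cast h1)

theorem ord_pos (h : p ≠ q) : 0 < orderOf (p : ZMod q) := by
  have : (p : ZMod q) ≠ 0 := fun e =>
    h ((Nat.prime_dvd_prime_iff_eq Fact.out Fact.out).1 ((ZMod.natCast_eq_zero_iff p q).1 e)).symm
  exact orderOf_units (y := Units.mk0 _ this) ▸ orderOf_pos (Units.mk0 _ this)

theorem pow_ord {E : Type*} [Monoid E] {c : E} (hc : orderOf c = q) : c ^ p ^ orderOf (p : ZMod q) = c := by
  have h1 : ((p ^ orderOf (p : ZMod q) : ℕ) : ZMod q) = (1 : ℕ) := by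
    rw [Nat.cast_pow, pow_orderOf_eq_one, Nat.cast_one]
  rw [ZMod.natCast_eq_natCast_iff] at h1
  exact (pow_eq_pow_of_modEq h1 (hc ▸ pow_orderOf_eq_one c)).trans (pow_one c)

theorem card_of_clos (h : p ≠ q) {E : Type*} [Field E] [Fintype E] [CharP E p] {c : E} (hc : orderOf c = q)
    (hE : Subring.closure {c} = ⊤) : Fintype.card E = p ^ orderOf (p : ZMod q) := by
  obtain ⟨b, hp, hb⟩ := FiniteField.card E p
  have h1 := Nat.le_of_dvd b.pos (ord_dvd hc (Nat.card_eq_fintype_card.trans hb))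
  have h2 : iterateFrobenius E p (orderOf (p : ZMod q)) = RingHom.id E :=
    RingHom.eq_of_eqOn_set_dense hE (by rintro _ rfl; exact pow_ord hc)
  have h3 := (FiniteField.forall_pow_eq_one_iff E (p ^ orderOf (p : ZMod q) - 1)).1 fun x => by
    have : x ^ p ^ orderOf (p : ZMod q) = x := Units.ext (DFunLike.congr_fun h2 (x : E))
    rw [pow_sub _ (Nat.one_le_pow _ _ hp.pos), this, pow_one, mul_inv_cancel]
  have h4 := Nat.one_lt_pow (ord_pos h).ne' hp.one_lt
  have h5 := Nat.le_of_dvd (by omega) h3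
  have h6 := Nat.pow_le_pow_right hp.pos h1
  omega

theorem clos_of_card {E : Type*} [Field E] [Finite E] {c : E} (hc : orderOf c = q)
    (hE : Nat.card E = p ^ orderOf (p : ZMod q)) : Subring.closure {c} = ⊤ := by
  have hp : p.Prime := Fact.out
  let S := Subring.closure {c}
  obtain ⟨b, -, hb⟩ := (Nat.dvd_prime_pow hp).1 (hE ▸ S.toAddSubgroup.card_addSubgroup_dvd_card)
  have h1 := ord_dvd (q := q) (R := S) (c := ⟨c, Subring.subset_closure rfl⟩)
    ((orderOf_injective S.subtype.toMonoidHom Subtype.val_injective _).symm.trans hc) hb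
  have h2 : b ≠ 0 := by
    rintro rfl
    exact (Finite.one_lt_card (α := S)).ne' hb
  have h3 := S.toAddSubgroup.eq_top_of_le_card (by
    rw [hE, hb]; exact Nat.pow_le_pow_right hp.pos (Nat.le_of_dvd (Nat.pos_of_ne_zero h2) h1))
  exact eq_top_iff.2 fun x _ => (h3 ▸ AddSubgroup.mem_top x : x ∈ S.toAddSubgroup)

end

/-- universal data -/
structure Dat {E W : Type} [Field E] [AddCommGroup W] (ζ : E) (β : E →+ E →+ W) : Prop where
  clos : Subring.closure {ζ} = ⊤
  inv : ∀ x y, β (ζ * x) (ζ * y) = β x y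
  gen : ∀ w, ∃ x y, β x y - β y x = w
  univ : ∀ (Z : Type u) [AddCommGroup Z] (B : E →+ E →+ Z), (∀ x y, B (ζ * x) (ζ * y) = B x y) → (∀ x, B x x = 0) →
    ∃ l : W →+ Z, ∀ x y, B x y = l (β x y - β y x)

theorem exists_dat {p q : ℕ} [Fact p.Prime] [Fact q.Prime] (h : p ≠ q) {a : ℕ} (ha : a = orderOf (p : ZMod q)) :
    ∃ (E W : Type) (_ : Field E) (_ : Fintype E) (_ : AddCommGroup W) (ζ : E) (β : E →+ E →+ W),
      Fintype.card E = p ^ a ∧ orderOf ζ = q ∧ Dat.{u} ζ β ∧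
      Nat.card E * Nat.card W = p ^ (if a % 2 = 1 then a else 3 * a / 2) := by
  have hp : p.Prime := Fact.out
  have hq : q.Prime := Fact.out
  have h1 : 0 < a := ha ▸ ord_pos h
  obtain ⟨E, _, _, _, hE⟩ : ∃ (E : Type) (_ : Field E) (_ : Fintype E) (_ : CharP E p), Nat.card E = p ^ a :=
    ⟨GaloisField p a, _, Fintype.ofFinite _, inferInstance, GaloisField.card p a h1.ne'⟩
  have hE' : Fintype.card E = p ^ a := Nat.card_eq_fintype_card.symm.trans hE
  obtain ⟨z, hz⟩ := exists_prime_orderOf_dvd_card' (G := Eˣ) q (by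
    rw [Nat.card_units, hE, ← ZMod.natCast_eq_zero_iff, Nat.cast_sub (Nat.one_le_pow _ _ hp.pos), Nat.cast_pow, ha,
      pow_orderOf_eq_one, Nat.cast_one, sub_self])
  have hζ : orderOf (z : E) = q := orderOf_units.trans hz
  have hc := clos_of_card hζ (ha ▸ hE)
  split_ifs with h2
  · exact ⟨E, PUnit, _, ‹_›, _, z, 0, hE', hζ, ⟨hc, fun _ _ => rfl, fun _ => ⟨0, 0, rfl⟩, fun Z _ B h3 h4 =>
      ⟨0, odd_zero hc z.ne_zero B h3 hζ (ha ▸ Nat.odd_iff.2 h2) h4⟩⟩, by rw [hE, Nat.card_unique, mul_one]⟩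
  obtain ⟨m, hm⟩ : ∃ m, a = m * 2 := ⟨a / 2, by omega⟩
  have hF : Fintype.card E = (p ^ m) ^ 2 := by rw [hE', hm, pow_mul]
  let σ := CA.CForm.conj hF
  have hσσ : ∀ x, σ (σ x) = x := CA.CForm.conj_conj hF
  have hσ : σ z = (z : E)⁻¹ := by
    have h3 : ((p : ZMod q) ^ m) * (p : ZMod q) ^ m = 1 := by rw [← pow_two, ← pow_mul, ← hm, ha, pow_orderOf_eq_one]
    have h4 := (mul_self_eq_one_iff.1 h3).resolve_left fun e => by
      have := Nat.le_of_dvd (by omega) (ha ▸ orderOf_dvd_of_pow_eq_one e)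
      omega
    refine eq_inv_of_mul_eq_one_left ?_
    rw [CA.CForm.conj_apply, ← pow_succ, ← orderOf_dvd_iff_pow_eq_one, hζ, ← ZMod.natCast_eq_zero_iff]
    push_cast
    rw [h4, neg_add_cancel]
  obtain ⟨c, hc0⟩ : ∃ c, c - σ c ≠ 0 := by
    by_contra! h3
    exact CA.CForm.conj_ne_id hF (RingHom.ext fun x => (sub_eq_zero.1 (h3 x)).symm)
  let W := (σ.eqLocus (RingHom.id E)).toAddSubgroup
  have hW : ∀ x, x ∈ W ↔ σ x = x := fun x => Iff.rfl
  let t : E →+ W := (AddMonoidHom.id E + σ.toAddMonoidHom).codRestrict W fun x =>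
    (hW _).2 (by show σ (x + σ x) = x + σ x; rw [map_add, hσσ, add_comm])
  let β : E →+ E →+ W := ((AddMonoidHom.mul.compr₂ t).comp (AddMonoidHom.mulLeft c)).comp σ.toAddMonoidHom
  have hβ : ∀ x y, (β x y : E) = c * σ x * y + σ (c * σ x * y) := fun _ _ => rfl
  have hβ' : ∀ x y, ((β x y - β y x : W) : E) = (c - σ c) * (σ x * y - x * σ y) := fun x y => by
    simp only [AddSubgroup.coe_sub, hβ, map_mul, hσσ]; ring
  refine ⟨E, W, _, ‹_›, _, z, β, hE', hζ, ⟨hc, fun x y => Subtype.ext ?_, fun w => ⟨1, w * c / (c - σ c) ^ 2,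
    Subtype.ext ?_⟩, fun Z _ B h3 h4 => ⟨(B 1).comp ((AddMonoidHom.mulRight (c / (c - σ c) ^ 2)).comp W.subtype),
      fun x y => ?_⟩⟩, ?_⟩
  · rw [hβ, hβ, show c * σ (z * x) * (z * y) = c * σ x * y by rw [map_mul, hσ]; field_simp]
  · rw [hβ']
    simp only [map_one, map_div₀, map_mul, map_pow, map_sub, hσσ, (hW _).1 w.2]
    rw [show (σ c - c) ^ 2 = (c - σ c) ^ 2 by ring]
    field_simp
  · have h5 : ∀ x y, B x y = B 1 (σ x * y) := fun x y => by rw [← adj_hom hc z.ne_zero B h3 σ hσ, mul_one]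
    show _ = B 1 (((β x y - β y x : W) : E) * (c / (c - σ c) ^ 2))
    rw [h5 x y, hβ', ← sub_eq_zero, ← map_sub]
    obtain ⟨n, hn⟩ := CA.CForm.exists_norm_eq σ hσσ (CA.CForm.conj_ne_id hF)
      (σ x * y - (c - σ c) * (σ x * y - x * σ y) * (c / (c - σ c) ^ 2)) (by
        simp only [map_div₀, map_mul, map_pow, map_sub, hσσ]
        rw [show (σ c - c) ^ 2 = (c - σ c) ^ 2 by ring]
        field_simp
        ring)
    rw [← hn, mul_comm, ← h5, h4]
  · rw [hE, show Nat.card W = p ^ m from CA.CForm.card_conj_fixed hF, ← pow_add]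
    congr 1
    omega

/-- the group of class two attached to a biadditive map -/
@[ext] structure Hz {E W : Type} [AddCommGroup E] [AddCommGroup W] (β : E →+ E →+ W) where
  a : E
  b : W

section
variable {E W : Type} [Field E] [AddCommGroup W] {β : E →+ E →+ W}

instance : Mul (Hz β) := ⟨fun x y => ⟨x.a + y.a, x.b + y.b + β x.a y.a⟩⟩
instance : One (Hz β) := ⟨⟨0, 0⟩⟩
instance : Inv (Hz β) := ⟨fun x => ⟨-x.a, β x.a x.a - x.b⟩⟩

@[simp] theorem mul_a (x y : Hz β) : (x * y).a = x.a + y.a := rfl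
@[simp] theorem mul_b (x y : Hz β) : (x * y).b = x.b + y.b + β x.a y.a := rfl
@[simp] theorem one_a : (1 : Hz β).a = 0 := rfl
@[simp] theorem one_b : (1 : Hz β).b = 0 := rfl
@[simp] theorem inv_a (x : Hz β) : x⁻¹.a = -x.a := rfl
@[simp] theorem inv_b (x : Hz β) : x⁻¹.b = β x.a x.a - x.b := rfl

instance : Group (Hz β) := Group.ofLeftAxioms (fun x y z => by ext <;> simp <;> abel) (fun x => by ext <;> simp)
  fun x => by ext <;> simp

theorem card_Hz : Nat.card (Hz β) = Nat.card E * Nat.card W := by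
  rw [← Nat.card_prod]
  exact Nat.card_congr ⟨fun x => (x.a, x.b), fun x => ⟨x.1, x.2⟩, fun _ => rfl, fun _ => rfl⟩

theorem comm_Hz (x y : Hz β) : ⁅x, y⁆ = ⟨0, β x.a y.a - β y.a x.a⟩ := by
  rw [commutatorElement_def]
  ext <;> simp
  abel

theorem cent_Hz {x : Hz β} (h : x.a = 0) (y : Hz β) : x * y = y * x := by
  ext <;> simp [h, add_comm]

/-- the automorphism given by a scalar -/
def th {ζ : E} (h0 : ζ ≠ 0) (h : ∀ x y, β (ζ * x) (ζ * y) = β x y) : MulAut (Hz β) where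
  toFun x := ⟨ζ * x.a, x.b⟩
  invFun x := ⟨ζ⁻¹ * x.a, x.b⟩
  left_inv x := by ext <;> simp [h0]
  right_inv x := by ext <;> simp [h0]
  map_mul' x y := by ext <;> simp [h, mul_add]

theorem th_pow {ζ : E} (h0 : ζ ≠ 0) (h : ∀ x y, β (ζ * x) (ζ * y) = β x y) (n : ℕ) (x : Hz β) :
    (th h0 h ^ n) x = ⟨ζ ^ n * x.a, x.b⟩ := by
  induction n with
  | zero => ext <;> simp
  | succ n ih => rw [pow_succ', MulAut.mul_apply, ih, pow_succ', mul_assoc]; rfl

end

end CA.Schm
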