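import Cfsg.Agent.Lib.Grp.Schm1
import Cfsg.Agent.Lib.Lie.Higman2
import Cfsg.Agent.Lib.Grp.Fus2

/-!
The maximal minimal non-nilpotent groups: equivariant homomorphisms and minimality.
-/

set_option autoImplicit false

namespace CA.Schm

open Subgroup CA.HigLin CA.Higman2 CA.PRes CA.Hyperfocal SemidirectProduct
open scoped commutatorElement

universe u

variable {E W : Type} [Field E] [AddCommGroup W] {β : E →+ E →+ W} {ζ : E} {p q : ℕ} [hp : Fact p.Prime]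
  [hq : Fact q.Prime]

theorem ne_zero_of_ord (ho : orderOf ζ = q) : ζ ≠ 0 := by
  rintro rfl
  have := pow_orderOf_eq_one (0 : E)
  rw [ho, zero_pow hq.out.ne_zero] at this
  exact zero_ne_one this

theorem exists_hom {X : Type u} [Group X] {P Φ : Subgroup X} {y : X} {π : X → E} (D : Dat.{u} ζ β) (h0 : ζ ≠ 0)
    (ho : orderOf ζ = q) (hP : IsPGroup p P) (hpq : p ≠ q) (hπ : Add P Φ π) (hΦ : Φ ≤ P)
    (hc : ∀ z ∈ Φ, ∀ x ∈ P, z * x = x * z) (hy : ∀ z ∈ Φ, y * z * y⁻¹ = z) (hyP : ∀ x ∈ P, y * x * y⁻¹ ∈ P)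
    (hπy : ∀ x ∈ P, π (y * x * y⁻¹) = ζ * π x) (hyq : ∀ x ∈ P, y ^ q * x * (y ^ q)⁻¹ = x) :
    ∃ ψ : Hz β →* X, (∀ u, ψ u ∈ P ∧ π (ψ u) = u.a) ∧ ∀ u, ψ (th h0 D.inv u) = y * ψ u * y⁻¹ := by
  have hcP : ∀ x ∈ P, ∀ y ∈ P, ⁅x, y⁆ ∈ P := fun x hx y hy => mul_mem (mul_mem (mul_mem hx hy) (inv_mem hx)) (inv_mem hy)
  have hcm : ∀ x ∈ P, ∀ y ∈ P, ⁅x, y⁆ ∈ Φ := fun x hx y hy => (hπ.zero _ (hcP x hx y hy)).1 (by
    rw [commutatorElement_def, hπ.mul _ (mul_mem (mul_mem hx hy) (inv_mem hx)) _ (inv_mem hy), hπ.conj hx hy,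
      hπ.inv hy, add_neg_cancel])
  obtain ⟨Z, _, cZ, hZ⟩ := exists_add (A := Φ) (B := ⊥) bot_le fun x hx y hy => by
    rw [hc x hx y (hΦ hy)]; simp
  obtain ⟨B, hB⟩ := hπ.lift₂ hπ (fun x y => cZ ⁅x, y⁆)
    (fun x hx y hy z hz => by
      rw [comm_mul_left, conj_eq (hc _ (hcm y hy z hz) x hx), hZ.mul _ (hcm y hy z hz) _ (hcm x hx z hz), add_comm])
    (fun x hx y hy z hz => by
      rw [comm_mul_right, conj_eq (hc _ (hcm x hx z hz) y hy), hZ.mul _ (hcm x hx y hy) _ (hcm x hx z hz)])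
    (fun x _ hA y hy => by rw [comm_eq_one (hc x hA y hy), hZ.one])
    (fun x hx y _ hA => by rw [comm_eq_one (hc y hA x hx).symm, hZ.one])
  obtain ⟨l, hl⟩ := D.univ Z B (fun a b => by
    obtain ⟨x, hx, rfl⟩ := hπ.surj a
    obtain ⟨z, hz, rfl⟩ := hπ.surj b
    rw [← hπy x hx, ← hπy z hz, hB _ (hyP x hx) _ (hyP z hz), hB x hx z hz, ← hy _ (hcm x hx z hz),
      conjugate_commutatorElement]) fun a => by
    obtain ⟨x, hx, rfl⟩ := hπ.surj a
    rw [hB x hx x hx, commutatorElement_self, hZ.one]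
  let H : Subgroup (Hz β × X) :=
    { carrier := {h | h.2 ∈ P ∧ π h.2 = h.1.a}
      one_mem' := ⟨one_mem _, hπ.one⟩
      mul_mem' := fun {a b} ha hb => ⟨mul_mem ha.1 hb.1, (hπ.mul _ ha.1 _ hb.1).trans (by rw [ha.2, hb.2]; rfl)⟩
      inv_mem' := fun {a} ha => ⟨inv_mem ha.1, (hπ.inv ha.1).trans (by rw [ha.2]; rfl)⟩ }
  let K : Subgroup (Hz β × X) :=
    { carrier := {h | h.1.a = 0 ∧ h.2 ∈ Φ ∧ cZ h.2 = l h.1.b}
      one_mem' := ⟨rfl, one_mem _, hZ.one.trans l.map_zero.symm⟩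
      mul_mem' := fun {a b} ha hb => ⟨by simp [ha.1, hb.1], mul_mem ha.2.1 hb.2.1,
        (hZ.mul _ ha.2.1 _ hb.2.1).trans (by simp [ha.1, ha.2.2, hb.2.2])⟩
      inv_mem' := fun {a} ha => ⟨by simp [ha.1], inv_mem ha.2.1, (hZ.inv ha.2.1).trans (by simp [ha.1, ha.2.2])⟩ }
  have hKH : K ≤ H := fun h hh => ⟨hΦ hh.2.1, ((hπ.zero _ (hΦ hh.2.1)).2 hh.2.1).trans hh.1.symm⟩
  obtain ⟨U, _, ϖ, hϖ⟩ := exists_add hKH fun a ha b hb => by
    have e : a * b * a⁻¹ * b⁻¹ = (⁅a.1, b.1⁆, ⁅a.2, b.2⁆) := rfl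
    rw [e, comm_Hz]
    exact ⟨rfl, hcm _ ha.1 _ hb.1, by rw [← hB _ ha.1 _ hb.1, hl, ha.2, hb.2]⟩
  let τ : MulAut (Hz β × X) := MulEquiv.prodCongr (th h0 D.inv) (MulAut.conj y)
  have hτ : ∀ h ∈ H, τ h ∈ H := fun h hh => ⟨hyP _ hh.1, (hπy _ hh.1).trans (by rw [hh.2]; rfl)⟩
  have hτn : ∀ (n : ℕ) h, (τ ^ n) h = ((th h0 D.inv ^ n) h.1, y ^ n * h.2 * (y ^ n)⁻¹) := fun n h => by
    induction n with
    | zero => simp
    | succ n ih =>
      rw [pow_succ', MulAut.mul_apply, ih, pow_succ' (th _ _), pow_succ' y]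
      exact Prod.ext rfl (by show y * _ * y⁻¹ = _; group)
  have hτH : ∀ n : ℕ, ∀ h ∈ H, (τ ^ n) h ∈ H := fun n => CA.Higman.Inv.pow hτ n
  have hτq : ∀ h ∈ H, (τ ^ q) h = h := fun h hh => by
    rw [hτn, th_pow, hyq _ hh.1, ← ho, pow_orderOf_eq_one, one_mul]
  have hfix : ∀ h : Hz β × X, h.1.a = 0 → h.2 ∈ Φ → ∀ n : ℕ, (τ ^ n) h = h := fun h h1 h2 n => by
    induction n with
    | zero => rfl
    | succ n ih =>
      rw [pow_succ', MulAut.mul_apply, ih]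
      exact Prod.ext (Hz.ext (by show ζ * _ = _; rw [h1, mul_zero]) rfl) (hy _ h2)
  let S : Hz β × X → U := fun h => ∑ i ∈ Finset.range q, ϖ ((τ ^ i) h)
  have hS : ∀ a ∈ H, ∀ b ∈ H, S (a * b) = S a + S b := fun a ha b hb => by
    simp only [S, ← Finset.sum_add_distrib]
    exact Finset.sum_congr rfl fun i _ => by rw [map_mul, hϖ.mul _ (hτH i a ha) _ (hτH i b hb)]
  have hS1 : S 1 = 0 := by simpa using hS 1 (one_mem _) 1 (one_mem _)
  have hSi : ∀ a ∈ H, S a⁻¹ = -S a := fun a ha =>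
    eq_neg_of_add_eq_zero_left (by rw [← hS _ (inv_mem ha) _ ha, inv_mul_cancel, hS1])
  have hSτ : ∀ a ∈ H, S (τ a) = S a := fun a ha => by
    have h1 := Finset.sum_range_succ (fun i => ϖ ((τ ^ i) a)) q
    rw [Finset.sum_range_succ', hτq a ha, pow_zero, MulAut.one_apply, add_left_inj] at h1
    exact (Finset.sum_congr rfl fun i _ => by rw [pow_succ, MulAut.mul_apply]).trans h1
  have hSf : ∀ h : Hz β × X, h.1.a = 0 → h.2 ∈ Φ → S h = q • ϖ h := fun h h1 h2 => by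
    simp only [S, hfix h h1 h2, Finset.sum_const, Finset.card_range]
  let R : Subgroup (Hz β × X) :=
    { carrier := {h | h ∈ H ∧ S h = 0}
      one_mem' := ⟨one_mem _, hS1⟩
      mul_mem' := fun {a b} ha hb => ⟨mul_mem ha.1 hb.1, by rw [hS _ ha.1 _ hb.1, ha.2, hb.2, add_zero]⟩
      inv_mem' := fun {a} ha => ⟨inv_mem ha.1, by rw [hSi _ ha.1, ha.2, neg_zero]⟩ }
  have b1 : Function.Bijective ((MonoidHom.fst (Hz β) X).comp R.subtype) := by
    refine ⟨(injective_iff_map_eq_one _).2 ?_, fun u => ?_⟩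
    · rintro ⟨⟨u, x⟩, h3, h4⟩ (rfl : u = 1)
      have h5 : x ∈ Φ := (hπ.zero _ h3.1).1 h3.2
      rw [hSf _ rfl h5] at h4
      obtain ⟨k, hk⟩ := hP ⟨x, h3.1⟩
      have h6 : ∀ n : ℕ, ϖ ((1, x) ^ n) = n • ϖ (1, x) := fun n => by
        induction n with
        | zero => simpa using hϖ.one
        | succ n ih => rw [pow_succ, hϖ.mul _ (pow_mem h3 n) _ h3, ih, succ_nsmul]
      have h7 := h6 (p ^ k)
      rw [show ((1 : Hz β), x) ^ p ^ k = 1 from Prod.ext (one_pow _) (congrArg Subtype.val hk), hϖ.one] at h7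
      have h8 := (hϖ.zero _ h3).1 (AddMonoid.addOrderOf_eq_one_iff.1 (Nat.eq_one_of_dvd_coprimes
        (((Nat.coprime_primes hp.out hq.out).2 hpq).pow_left k) (addOrderOf_dvd_of_nsmul_eq_zero h7.symm)
        (addOrderOf_dvd_of_nsmul_eq_zero h4)))
      have h9 : x = 1 := mem_bot.1 ((hZ.zero _ h5).1 (h8.2.2.trans l.map_zero))
      subst h9; rfl
    · have h1 : ζ - 1 ≠ 0 := fun e => hq.out.one_lt.ne' (by rw [← ho, sub_eq_zero.1 e, orderOf_one])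
      obtain ⟨x, hx, e⟩ := hπ.surj (u.a / (ζ - 1))
      let h : Hz β × X := (⟨u.a / (ζ - 1), 0⟩, x)
      have h2 : h ∈ H := ⟨hx, e⟩
      have h3 : h⁻¹ * τ h ∈ R := ⟨mul_mem (inv_mem h2) (hτ h h2), by
        rw [hS _ (inv_mem h2) _ (hτ h h2), hSi h h2, hSτ h h2, neg_add_cancel]⟩
      have h4 : (h⁻¹ * τ h).1.a = u.a := by
        show -(u.a / (ζ - 1)) + ζ * (u.a / (ζ - 1)) = u.a
        field_simp
        ring
      generalize h⁻¹ * τ h = g at *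
      obtain ⟨z, hz, e2⟩ := hZ.surj (l (u.b - g.1.b))
      have h5 : ((⟨0, u.b - g.1.b⟩ : Hz β), z) ∈ K := ⟨rfl, hz, e2⟩
      exact ⟨⟨g * (⟨0, u.b - g.1.b⟩, z), mul_mem h3 ⟨hKH h5, by rw [hSf _ rfl hz, (hϖ.zero _ (hKH h5)).2 h5, smul_zero]⟩⟩,
        by ext <;> simp [h4]⟩
  let e := MulEquiv.ofBijective _ b1
  have he : ∀ u, (e.symm u).1.1 = u := fun u => e.apply_symm_apply u
  refine ⟨((MonoidHom.snd _ _).comp R.subtype).comp e.symm.toMonoidHom, fun u => ⟨(e.symm u).2.1.1,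
    (e.symm u).2.1.2.trans (congrArg Hz.a (he u))⟩, fun u => ?_⟩
  have h1 : e.symm (th h0 D.inv u) = ⟨τ (e.symm u).1, hτ _ (e.symm u).2.1, (hSτ _ (e.symm u).2.1).trans (e.symm u).2.2⟩ :=
    e.symm_apply_eq.2 (congrArg (th h0 D.inv) (he u)).symm
  exact congrArg (fun x : R => x.1.2) h1

theorem min_G [Finite E] (D : Dat.{u} ζ β) (h0 : ζ ≠ 0) (ho : orderOf ζ = q) (hpq : p ≠ q)
    (hE : Nat.card E = p ^ orderOf (p : ZMod q)) (hP : IsPGroup p (Hz β)) {C : Type*} [Group C] [Finite C] {g : C}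
    (hg : ∀ x, x ∈ zpowers g) {r : ℕ} (hr : orderOf g = q ^ r) (φ : C →* MulAut (Hz β)) (hφ : φ g = th h0 D.inv)
    [Finite (Hz β ⋊[φ] C)] :
    ¬ Cfsg.HasNormalPComplement p (Hz β ⋊[φ] C) ∧
      ∀ K : Subgroup (Hz β ⋊[φ] C), K ≠ ⊤ → Cfsg.HasNormalPComplement p K := by
  have hco : (q ^ r).Coprime p := ((Nat.coprime_primes hq.out hp.out).2 hpq.symm).pow_left r
  refine ⟨fun h => ?_, fun K hK => hasNPC_iff_forall_pgroup.2 fun Q hQ h _ hc => mem_centralizer_iff.2 fun x hx => ?_⟩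
  · have h1 := mem_centralizer_of_hasNPC h (hP.of_surjective _ (inl (φ := φ)).rangeRestrict_surjective) (g := inr g)
      (by rw [range_inl_eq_ker_rightHom, normalizer_eq_top]; trivial) (by rwa [orderOf_injective _ inr_injective, hr])
    have h2 := congrArg (fun x => x.left.a) (h1 (inl ⟨1, 0⟩) ⟨_, rfl⟩)
    simp only [mul_left, left_inl, right_inl, left_inr, right_inr, map_one, mul_one, one_mul, hφ] at h2
    exact hq.out.one_lt.ne' (by rw [← ho, ← mul_one ζ, show ζ * 1 = 1 from h2.symm, orderOf_one])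
  by_contra hne
  replace hne : x.1 * h.1 ≠ h.1 * x.1 := fun e => hne (Subtype.ext e)
  rw [← orderOf_coe] at hc
  have h1 : x.1.right = 1 := by
    obtain ⟨j, hj⟩ := hQ ⟨x, hx⟩
    have h2 : x.1.right ^ p ^ j = 1 :=
      (map_pow rightHom x.1 _).symm.trans (congrArg (fun x : Q => x.1.1.right) hj)
    exact orderOf_eq_one_iff.1 (Nat.eq_one_of_dvd_coprimes (hco.pow_right j)
      (hr ▸ orderOf_dvd_of_mem_zpowers (hg _)) (orderOf_dvd_of_pow_eq_one h2))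
  obtain ⟨x, hxK⟩ := x
  obtain ⟨h, hhK⟩ := h
  obtain ⟨k, hk⟩ := mem_powers_iff_mem_zpowers.2 (hg h.right)
  have h2 : ∀ u, φ h.right u = ⟨ζ ^ k * u.a, u.b⟩ := fun u => by rw [← hk]; simp only [map_pow, hφ, th_pow]
  simp only at h1 hc hne hk
  by_cases h3 : ζ ^ k = 1
  · simp only [h3, one_mul] at h2
    have h4 : Commute (inl h.left : Hz β ⋊[φ] C) (inr h.right) := SemidirectProduct.ext (by simp [h2]) (by simp)
    have h5 := h4.mul_pow (orderOf h * q ^ r)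
    rw [inl_left_mul_inr_right, pow_mul, pow_orderOf_eq_one, one_pow, ← map_pow, ← map_pow, pow_mul' h.right,
      orderOf_dvd_iff_pow_eq_one.1 (hr ▸ orderOf_dvd_of_mem_zpowers (hg h.right) : orderOf h.right ∣ q ^ r), one_pow,
      map_one, mul_one, eq_comm,
      map_eq_one_iff _ inl_injective] at h5
    obtain ⟨j, hj⟩ := hP h.left
    have h6 := orderOf_eq_one_iff.1 (Nat.eq_one_of_dvd_coprimes ((Nat.Coprime.mul_left hc hco).pow_right j)
      (orderOf_dvd_of_pow_eq_one h5) (orderOf_dvd_of_pow_eq_one hj))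
    exact hne (SemidirectProduct.ext (by simp [h1, h2, h6]) (by simp [h1]))
  by_cases h4 : x.left.a = 0
  · refine hne (SemidirectProduct.ext ?_ (by simp [h1]))
    simp only [mul_left, h1, map_one, MulAut.one_apply, h2, h4, mul_zero]
    rw [cent_Hz h4, ← h4]
  let M : Subring E :=
    { carrier := {c | ∀ u : Hz β, inl u ∈ K → ∃ v : Hz β, inl v ∈ K ∧ v.a = c * u.a}
      one_mem' := fun u hu => ⟨u, hu, (one_mul _).symm⟩
      zero_mem' := fun u _ => ⟨1, by simp, by simp⟩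
      mul_mem' := fun {a b} ha hb u hu => by
        obtain ⟨v, hv, e⟩ := hb u hu
        obtain ⟨w, hw, e'⟩ := ha v hv
        exact ⟨w, hw, by rw [e', e, mul_assoc]⟩
      add_mem' := fun {a b} ha hb u hu => by
        obtain ⟨v, hv, e⟩ := hb u hu
        obtain ⟨w, hw, e'⟩ := ha u hu
        exact ⟨w * v, map_mul (inl (φ := φ)) w v ▸ mul_mem hw hv, by rw [mul_a, e', e, add_mul]⟩
      neg_mem' := fun {a} ha u hu => by
        obtain ⟨v, hv, e⟩ := ha u hu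
        exact ⟨v⁻¹, map_inv (inl (φ := φ)) v ▸ inv_mem hv, by rw [inv_a, e, neg_mul]⟩ }
  have h5 : k.Coprime q := (hq.out.coprime_iff_not_dvd.2 fun e => h3 (orderOf_dvd_iff_pow_eq_one.1 (ho ▸ e))).symm
  have h6 : M = ⊤ := eq_top_iff.2 ((clos_of_card (c := ζ ^ k) (by rw [Nat.Coprime.orderOf_pow (ho ▸ h5.symm), ho]) hE).ge.trans
    (Subring.closure_le.2 (by
      rintro _ rfl u hu
      refine ⟨h.left * φ h.right u * h.left⁻¹, ?_, by simp [h2]⟩
      convert mul_mem (mul_mem hhK hu) (inv_mem hhK) using 1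
      ext1 <;> simp [mul_assoc])))
  have h7 : ∀ a, ∃ v : Hz β, inl v ∈ K ∧ v.a = a := fun a => by
    obtain ⟨v, hv, e⟩ := (h6 ▸ Subring.mem_top (a / x.left.a) : _ ∈ M) x.left
      (by rwa [← inl_left_mul_inr_right x, h1, map_one, mul_one] at hxK)
    exact ⟨v, hv, by rw [e, div_mul_cancel₀ _ h4]⟩
  have h8 : ∀ u : Hz β, inl u ∈ K := fun u => by
    obtain ⟨v, hv, e⟩ := h7 u.a
    obtain ⟨a, b, e'⟩ := D.gen (u.b - v.b)
    obtain ⟨s, hs, rfl⟩ := h7 a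
    obtain ⟨t, ht, rfl⟩ := h7 b
    have := mul_mem hv (mul_mem (mul_mem (mul_mem hs ht) (inv_mem hs)) (inv_mem ht))
    rw [← commutatorElement_def, ← map_commutatorElement, ← map_mul, comm_Hz, e'] at this
    convert this using 2
    ext <;> simp [e]
  have h9 : inr (g ^ k) ∈ K := by
    rw [← inl_left_mul_inr_right h, ← hk] at hhK
    simpa using mul_mem (inv_mem (h8 h.left)) hhK
  refine hK (eq_top_iff.2 fun z _ => ?_)
  rw [← inl_left_mul_inr_right z]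
  exact mul_mem (h8 _) ((zpowers_le.2 (zpowers_le (H := K.comap inr).2 h9
    (mem_zpowers_pow_iff.2 (hr ▸ h5.pow_right r))) : zpowers g ≤ K.comap inr) (hg _))

end CA.Schm
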