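import Cfsg.Agent.Lib.Grp.SigK5
import Cfsg.Agent.Lib.Grp.Fus3

/-!
# Equivariant signalizer functors and the rank two commuting graph
-/

set_option autoImplicit false
set_option linter.unusedSectionVars false
set_option linter.unusedVariables false

namespace CA.SigL

open Subgroup Cfsg CA.BG CA.Sig

variable {G : Type*} [Group G] [Finite G] {p : ℕ} [hp : Fact p.Prime]
variable {A B D E F H : Subgroup G} {a b g : G} {θ : G → Subgroup G}

theorem pow_le_of_lt {k : ℕ} (hD : IsPGroup p D) (h : p ^ k < ♯D) : p ^ (k + 1) ≤ ♯D := by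
  obtain ⟨n, hn⟩ := hD.exists_card_eq
  rw [hn] at h ⊢
  exact Nat.pow_le_pow_right hp.out.pos ((Nat.pow_lt_pow_iff_right hp.out.one_lt).1 h)

theorem big_iff : ¬ PRankLE p 2 H ↔ ∃ D ≤ H, IsElementaryAbelian p D ∧ p ^ 3 ≤ ♯D := by
  rw [Fus3.prankLE_iff]
  push Not
  exact exists_congr fun D => and_congr_right fun _ => and_congr_right fun e =>
    ⟨pow_le_of_lt (Bal2.ea_isPGroup e), (Nat.pow_lt_pow_right hp.out.one_lt (by norm_num)).trans_le⟩

/-- Elements of order `p` with centralizer of rank at least three. -/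
def Good (p : ℕ) (a : G) : Prop := orderOf a = p ∧ ¬ PRankLE p 2 𝓒₁(a)

theorem good_of_mem (e : IsElementaryAbelian p D) (h : p ^ 3 ≤ ♯D) (ha : a ∈ D) (h1 : a ≠ 1) : Good p a :=
  ⟨orderOf_eq_prime (e.2 a ha) h1, big_iff.2 ⟨D, Bal2.ea_le_centralizer_singleton e ha, e, h⟩⟩

theorem Good.exists (h : Good p a) : ∃ D, a ∈ D ∧ IsElementaryAbelian p D ∧ p ^ 3 ≤ ♯D := by
  obtain ⟨D, l, e, c⟩ := big_iff.1 h.2
  exact ⟨D ⊔ zpowers a, mem_sup_right (mem_zpowers a), Bal2.ea_sup e (Bal2.ea_zpowers (h.1 ▸ pow_orderOf_eq_one a))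
    (by rwa [cent_zpowers]), c.trans (card_le_of_le' le_sup_left)⟩

theorem vertex_iff : IsRankGraphVertex p 2 E ↔ p ^ 2 ≤ ♯E ∧ ∃ D, E ≤ D ∧ IsElementaryAbelian p D ∧ p ^ 3 ≤ ♯D := by
  refine ⟨fun ⟨e, c, h⟩ => ⟨c, ?_⟩, fun ⟨c, D, l, e, h⟩ => ⟨Bal2.ea_of_le e l, c,
    big_iff.2 ⟨D, Bal2.ea_le_centralizer e l, e, h⟩⟩⟩
  obtain ⟨D, l, e', c⟩ := big_iff.1 h
  exact ⟨D ⊔ E, le_sup_right, Bal2.ea_sup e' e l, c.trans (card_le_of_le' le_sup_left)⟩

/-- An equivariant balanced solvable functor on the good elements. -/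
structure EF (p : ℕ) (θ : G → Subgroup G) : Prop where
  le : ∀ a, Good p a → θ a ≤ 𝓒₁(a)
  cop : ∀ a, Good p a → (♯(θ a)).Coprime p
  solv : ∀ a, Good p a → Group.IsSolvable (θ a)
  eqv : ∀ a g, Good p a → θ (g * a * g⁻¹) = cj g (θ a)
  bal : ∀ a b, Good p a → Good p b → a * b = b * a → θ a ⊓ 𝓒₁(b) ≤ θ b

namespace EF
variable (h : EF p θ)
include h

theorem sf (e : IsElementaryAbelian p D) (c : p ^ 3 ≤ ♯D) : SF p D θ :=
  have g := fun a => good_of_mem (a := a) e c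
  ⟨e, fun a ha h1 => h.le a (g a ha h1), fun a ha h1 => h.cop a (g a ha h1), fun a ha h1 b hb =>
    mem_norm_iff_cj.2 (by rw [← h.eqv a b (g a ha h1), Bal2.ea_comm e hb ha, mul_inv_cancel_right]),
      fun a ha h1 b hb h2 => h.bal a b (g a ha h1) (g b hb h2) (Bal2.ea_comm e ha hb),
        fun a ha h1 => h.solv a (g a ha h1)⟩

theorem cop_closure (v : IsRankGraphVertex p 2 E) : (♯(signalizerClosure E θ)).Coprime p := by
  obtain ⟨-, D, l, e, c⟩ := vertex_iff.1 v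
  exact ((SigK5.cpl (h.sf e c) c).fam_closure (h.sf e c) l).cop

theorem inf_eq (v : IsRankGraphVertex p 2 E) (ha : a ∈ E) (h1 : a ≠ 1) :
    signalizerClosure E θ ⊓ 𝓒₁(a) = θ a := by
  obtain ⟨c', D, l, e, c⟩ := vertex_iff.1 v
  rw [Cpl.closure_eq (h.sf e c) l c']
  exact (SigK5.cpl (h.sf e c) c).inf_eq (h.sf e c) (l ha) h1

theorem closure_eq (v : IsRankGraphVertex p 2 E) (w : IsRankGraphVertex p 2 F) (hc : E ≤ 𝓒(F)) :
    signalizerClosure E θ = signalizerClosure F θ := by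
  have e := Bal2.ea_sup v.1 w.1 hc
  rcases lt_or_ge (p ^ 2) ♯(E ⊔ F) with c | c
  · have s := h.sf e (pow_le_of_lt (Bal2.ea_isPGroup e) c)
    rw [Cpl.closure_eq s le_sup_left v.2.1, Cpl.closure_eq s le_sup_right w.2.1]
  · rw [(eq_of_le_of_card_ge le_sup_left (c.trans v.2.1)).trans
      (eq_of_le_of_card_ge le_sup_right (c.trans w.2.1)).symm]

theorem cj_closure_le (v : IsRankGraphVertex p 2 E) (g : G) :
    cj g (signalizerClosure E θ) ≤ signalizerClosure (cj g E) θ := by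
  obtain ⟨-, D, l, e, c⟩ := vertex_iff.1 v
  refine cj_le_iff.2 (closure_le_of_fam fun a ha h1 => cj_le_iff.1 ?_)
  rw [← h.eqv a g (good_of_mem e c (l ha) h1)]
  exact le_closure (mem_cj'.2 ⟨a, ha, rfl⟩) (by simpa using h1)

end EF

theorem vertex_cj (v : IsRankGraphVertex p 2 E) (g : G) : IsRankGraphVertex p 2 (cj g E) := by
  obtain ⟨c', D, l, e, c⟩ := vertex_iff.1 v
  exact vertex_iff.2 ⟨by rwa [card_cj], cj g D, cj_mono g l, Bal2.ea_map e _, by rwa [card_cj]⟩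

theorem EF.cj_closure (h : EF p θ) (v : IsRankGraphVertex p 2 E) (g : G) :
    cj g (signalizerClosure E θ) = signalizerClosure (cj g E) θ :=
  (h.cj_closure_le v g).antisymm (by
    have := cj_le_iff.1 (h.cj_closure_le (vertex_cj v g) g⁻¹)
    rwa [← cj_mul, inv_mul_cancel, cj_one, inv_inv] at this)

theorem EF.eq_bot (h : EF p θ) (hO : pPrimeCore p G = ⊥) (hc : IsRankGraphConnected p 2 G) (ha : Good p a) :
    θ a = ⊥ := by
  obtain ⟨D, aD, e, c⟩ := ha.exists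
  have v := vertex_iff.2 ⟨(Nat.pow_le_pow_right hp.out.pos (by norm_num)).trans c, D, le_rfl, e, c⟩
  have k : ∀ F, IsRankGraphVertex p 2 F → signalizerClosure D θ = signalizerClosure F θ := fun F w => by
    have := hc D F v w
    clear w
    induction this with
    | refl => rfl
    | tail _ r ih => exact ih.trans (h.closure_eq r.1 r.2.1 fun x hx y hy => (r.2.2 x hx y hy).symm)
  have : (signalizerClosure D θ).Normal := normalizer_eq_top_iff.1 (eq_top_iff.2 fun g _ =>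
    mem_norm_iff_cj.2 (by rw [h.cj_closure v, ← k _ (vertex_cj v g)]))
  exact BG.eq_bot_mono ((le_closure aD fun e => hp.out.one_lt.ne' (by rw [← ha.1, e, orderOf_one])).trans
    (Core.le_pPrimeCore (h.cop_closure v))) hO

end CA.SigL
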